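import Mathlib.GroupTheory.Complement
import Mathlib.LinearAlgebra.Matrix.Trace
import Mathlib.Analysis.Complex.Basic
import Mathlib.Algebra.BigOperators.Group.Finset.Basic

/-!
# The idempotent matrix induced by an idempotent of the group algebra on a coset space

(helper77's layer (15a), file 3.)  `H` a finite group, `C` a subgroup, `T` a left transversal
(`IsComplement T C`), `ε : H → ℂ` an idempotent for convolution and `lam : C → ℂ` multiplicative.
The matrix `P t t' = ∑ c, ε (t c t'⁻¹) lam c` is idempotent, and for commutative `C` its trace is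
`|C|⁻¹ ∑ c, lam c * ∑ g, ε (g c g⁻¹)`.
-/

set_option autoImplicit false

namespace Cfsg.Agent.Helper77

open Subgroup

variable {H : Type*} [Group H] [Fintype H]

/-- The induced matrix. -/
noncomputable def indMatrix (C : Subgroup H) [Fintype C] (T : Set H) (ε : H → ℂ) (lam : C → ℂ) :
    Matrix T T ℂ :=
  fun t t' => ∑ c : C, ε ((t : H) * (c : H) * (t' : H)⁻¹) * lam c

/-- For fixed `t`, the map `(t', c) ↦ t c t'⁻¹` is a bijection `T × C ≃ H`. -/
noncomputable def twistEquiv {C : Subgroup H} {T : Set H} (hT : IsComplement T (C : Set H)) (t : H) :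
    T × C ≃ H :=
  ((Equiv.prodCongr (Equiv.refl T) (Equiv.inv C)).trans hT.equiv.symm).trans
    ((Equiv.inv H).trans (Equiv.mulLeft t))

theorem twistEquiv_apply {C : Subgroup H} {T : Set H} (hT : IsComplement T (C : Set H)) (t : H)
    (x : T × C) : twistEquiv hT t x = t * (x.2 : H) * (x.1 : H)⁻¹ := by
  have h : (hT.equiv.symm ((x.1, x.2⁻¹) : T × C) : H) = (x.1 : H) * ((x.2⁻¹ : C) : H) :=
    IsComplement.equiv_symm_apply hT _
  show t * (hT.equiv.symm ((x.1, x.2⁻¹) : T × C) : H)⁻¹ = _
  rw [h]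
  simp [mul_assoc]

theorem indMatrix_idem (C : Subgroup H) [Fintype C] (T : Set H) [Fintype T]
    (hT : IsComplement T (C : Set H)) (ε : H → ℂ)
    (hε : ∀ w : H, ∑ a : H, ε a * ε (a⁻¹ * w) = ε w) (lam : C → ℂ)
    (hlam : ∀ c c' : C, lam (c * c') = lam c * lam c') :
    indMatrix C T ε lam * indMatrix C T ε lam = indMatrix C T ε lam := by
  classical
  ext t t''
  simp only [Matrix.mul_apply, indMatrix]
  calc ∑ t' : T, (∑ c : C, ε ((t : H) * c * (t' : H)⁻¹) * lam c) *
          (∑ c' : C, ε ((t' : H) * c' * (t'' : H)⁻¹) * lam c')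
      = ∑ t' : T, ∑ c : C, ∑ d : C,
          ε ((t : H) * c * (t' : H)⁻¹) * ε (((t : H) * c * (t' : H)⁻¹)⁻¹ * ((t : H) * d * (t'' : H)⁻¹))
            * lam d := by
        refine Finset.sum_congr rfl (fun t' _ => ?_)
        rw [Finset.sum_mul]
        refine Finset.sum_congr rfl (fun c _ => ?_)
        rw [Finset.mul_sum]
        rw [← Equiv.sum_comp (Equiv.mulLeft c⁻¹)
          (fun c' : C => ε ((t : H) * c * (t' : H)⁻¹) * lam c * (ε ((t' : H) * c' * (t'' : H)⁻¹) * lam c'))]
        refine Finset.sum_congr rfl (fun d _ => ?_)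
        simp only [Equiv.coe_mulLeft]
        have h1 : ((t : H) * c * (t' : H)⁻¹)⁻¹ * ((t : H) * d * (t'' : H)⁻¹)
            = (t' : H) * ((c⁻¹ * d : C) : H) * (t'' : H)⁻¹ := by
          simp only [Subgroup.coe_mul, Subgroup.coe_inv]
          group
        have h2 : lam c * lam (c⁻¹ * d) = lam d := by
          rw [← hlam, mul_inv_cancel_left]
        rw [h1, ← h2]
        ring
    _ = ∑ d : C, lam d * ∑ x : T × C,
          ε ((t : H) * (x.2 : H) * (x.1 : H)⁻¹) *
            ε (((t : H) * (x.2 : H) * (x.1 : H)⁻¹)⁻¹ * ((t : H) * d * (t'' : H)⁻¹)) := by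
        have e1 : ∀ F : T → C → C → ℂ,
            ∑ t' : T, ∑ c : C, ∑ d : C, F t' c d = ∑ d : C, ∑ x : T × C, F x.1 x.2 d := by
          intro F
          rw [Finset.sum_comm (s := (Finset.univ : Finset C)) (t := (Finset.univ : Finset (T × C)))]
          exact (Fintype.sum_prod_type (fun x : T × C => ∑ d : C, F x.1 x.2 d)).symm
        rw [e1 (fun t' c d => ε ((t : H) * c * (t' : H)⁻¹) *
          ε (((t : H) * c * (t' : H)⁻¹)⁻¹ * ((t : H) * d * (t'' : H)⁻¹)) * lam d)]
        refine Finset.sum_congr rfl (fun d _ => ?_)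
        rw [Finset.mul_sum]
        refine Finset.sum_congr rfl (fun x _ => ?_)
        ring
    _ = ∑ d : C, lam d * ∑ a : H, ε a * ε (a⁻¹ * ((t : H) * d * (t'' : H)⁻¹)) := by
        refine Finset.sum_congr rfl (fun d _ => ?_)
        congr 1
        rw [← Equiv.sum_comp (twistEquiv hT (t : H))
          (fun a : H => ε a * ε (a⁻¹ * ((t : H) * d * (t'' : H)⁻¹)))]
        refine Finset.sum_congr rfl (fun x _ => ?_)
        rw [twistEquiv_apply]
    _ = ∑ d : C, ε ((t : H) * d * (t'' : H)⁻¹) * lam d := by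
        refine Finset.sum_congr rfl (fun d _ => ?_)
        rw [hε, mul_comm]

theorem indMatrix_trace (C : Subgroup H) [Fintype C] (T : Set H) [Fintype T] (ε : H → ℂ)
    (lam : C → ℂ) :
    (indMatrix C T ε lam).trace = ∑ t : T, ∑ c : C, ε ((t : H) * c * (t : H)⁻¹) * lam c := by
  simp [Matrix.trace, indMatrix]

/-- For commutative `C`, the sum over all of `H` of `ε (g c g⁻¹)` is `|C|` times the sum over
the transversal. -/
theorem sum_conj_eq_card_mul (C : Subgroup H) [Fintype C] (T : Set H) [Fintype T]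
    (hT : IsComplement T (C : Set H)) (hC : ∀ a b : C, a * b = b * a) (ε : H → ℂ) (c : C) :
    ∑ g : H, ε (g * c * g⁻¹) = (Fintype.card C : ℂ) * ∑ t : T, ε ((t : H) * c * (t : H)⁻¹) := by
  classical
  let e : T × C ≃ H := hT.equiv.symm
  have he : ∀ x : T × C, e x = (x.1 : H) * (x.2 : H) := fun x => IsComplement.equiv_symm_apply hT x
  rw [← Equiv.sum_comp e (fun g : H => ε (g * c * g⁻¹))]
  rw [Fintype.sum_prod_type, Finset.mul_sum]
  refine Finset.sum_congr rfl (fun t _ => ?_)
  have : ∀ c' : C, ε (e (t, c') * c * (e (t, c'))⁻¹)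
      = ε ((t : H) * c * (t : H)⁻¹) := by
    intro c'
    rw [he]
    have h1 : (c' : H) * c * (c' : H)⁻¹ = c := by
      have := congrArg (fun z : C => (z : H)) (hC c' c)
      simp only [Subgroup.coe_mul] at this
      rw [this, mul_inv_cancel_right]
    have h2 : (t : H) * (c' : H) * (c : H) * ((t : H) * (c' : H))⁻¹ =
        (t : H) * ((c' : H) * c * (c' : H)⁻¹) * (t : H)⁻¹ := by group
    simp only at h2 ⊢
    rw [h2, h1]
  simp only [this, Finset.sum_const, Finset.card_univ, nsmul_eq_mul]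

/-- `|C|` times the trace of the induced matrix, for commutative `C`. -/
theorem card_mul_indMatrix_trace (C : Subgroup H) [Fintype C] (T : Set H) [Fintype T]
    (hT : IsComplement T (C : Set H)) (hC : ∀ a b : C, a * b = b * a) (ε : H → ℂ) (lam : C → ℂ) :
    (Fintype.card C : ℂ) * (indMatrix C T ε lam).trace =
      ∑ c : C, lam c * ∑ g : H, ε (g * c * g⁻¹) := by
  rw [indMatrix_trace, Finset.sum_comm, Finset.mul_sum]
  refine Finset.sum_congr rfl (fun c _ => ?_)
  rw [sum_conj_eq_card_mul C T hT hC ε c, ← Finset.sum_mul]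
  ring

end Cfsg.Agent.Helper77
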