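import Cfsg.Agent.Helper77.LocalRing
import Mathlib.Algebra.CharP.Lemmas
import Mathlib.RingTheory.IntegralClosure.IsIntegral.Basic

/-!
# Roots of unity and the local ring

(helper77's layer (15a), file 4.)  Roots of unity are local integers; `p`-power roots of unity are
congruent to `1` modulo the local ideal.
-/

set_option autoImplicit false

namespace Cfsg.Agent.Helper77

open Cfsg

variable {M : Ideal AlgInt} {p : ℕ}

theorem isIntegral_of_pow_eq_one {ζ : ℂ} {n : ℕ} (hn : 0 < n) (h : ζ ^ n = 1) : IsIntegral ℤ ζ := by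
  refine ⟨Polynomial.X ^ n - 1, Polynomial.monic_X_pow_sub_C (1 : ℤ) hn.ne', ?_⟩
  simp [h]

theorem memLocalRing_of_pow_eq_one [M.IsPrime] {ζ : ℂ} {n : ℕ} (hn : 0 < n) (h : ζ ^ n = 1) :
    MemLocalRing M ζ :=
  memLocalRing_of_isIntegral M (isIntegral_of_pow_eq_one hn h)

/-- A `p`-power root of unity is congruent to `1` modulo the local ideal. -/
theorem memLocalIdeal_sub_one_of_pow_eq_one (hM : IsPModular p M) {ζ : ℂ} {k : ℕ}
    (h : ζ ^ p ^ k = 1) : MemLocalIdeal M (ζ - 1) := by
  have hMp := isPrime_of_isPModular hM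
  have hpp : p.Prime := hM.1
  have hint : IsIntegral ℤ ζ := isIntegral_of_pow_eq_one (pow_pos hpp.pos k) h
  let z : AlgInt := ⟨ζ, hint⟩
  let x : AlgInt := z - 1
  obtain ⟨r, hr⟩ := exists_add_pow_prime_pow_eq hpp x 1 k
  have hz : (x + 1) ^ p ^ k = 1 := by
    have : x + 1 = z := by simp [x]
    rw [this]
    apply Subtype.ext
    simpa [z] using h
  rw [hz, one_pow, mul_one] at hr
  -- x ^ p ^ k = - p * x * r
  have hx : x ^ p ^ k = -((p : AlgInt) * x * r) := by
    have h2 : (1 : AlgInt) = x ^ p ^ k + 1 + (p : AlgInt) * x * r := hr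
    have : x ^ p ^ k + (p : AlgInt) * x * r = 0 := by
      have h3 : x ^ p ^ k + (p : AlgInt) * x * r + 1 = 0 + 1 := by
        rw [zero_add]
        calc x ^ p ^ k + (p : AlgInt) * x * r + 1 = x ^ p ^ k + 1 + (p : AlgInt) * x * r := by ring
          _ = 1 := h2.symm
      exact add_right_cancel h3
    exact eq_neg_of_add_eq_zero_left this
  have hxM : x ^ p ^ k ∈ M := by
    rw [hx]
    apply M.neg_mem
    rw [mul_assoc]
    exact M.mul_mem_right _ hM.2.2
  have hxM' : x ∈ M := hMp.mem_of_pow_mem _ hxM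
  have := (memLocalIdeal_algInt_iff M x).mpr hxM'
  simpa [x, z] using this

end Cfsg.Agent.Helper77
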