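import Cfsg.Agent.Helper77.IdemTrace
import Cfsg.Agent.Helper77.Induced
import Cfsg.Agent.Helper77.RootsUnity
import Mathlib.Analysis.Fourier.FiniteAbelian.PontryaginDuality
import Mathlib.GroupTheory.OrderOfElement

/-!
# Vanishing of the Hattori–Stallings rank of an idempotent on `p`-singular classes

(helper77's layer (15a), file 5.)  Let `H` be a finite group, `ε : H → ℂ` an idempotent for
convolution whose values are local integers at a `p`-modular maximal ideal `M` of the algebraic
integers, and `h ∈ H` an element of order divisible by `p`.  Then `∑ g, ε (g h g⁻¹) = 0`.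

This is the group-ring form of: the character of a projective lattice vanishes on `p`-singular
elements.
-/

set_option autoImplicit false

namespace Cfsg.Agent.Helper77

open Cfsg Subgroup
open scoped IsMulCommutative

/-- Fourier injectivity on a finite abelian group. -/
theorem fourier_injective {α : Type*} [AddCommGroup α] [Fintype α] (f : α → ℂ)
    (h : ∀ ψ : AddChar α ℂ, ∑ a, ψ a * f a = 0) : f = 0 := by
  classical
  funext a₀
  have key : ∑ ψ : AddChar α ℂ, ψ (-a₀) * ∑ a, ψ a * f a = (Fintype.card α : ℂ) * f a₀ := by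
    simp_rw [Finset.mul_sum]
    rw [Finset.sum_comm]
    have : ∀ a, ∑ ψ : AddChar α ℂ, ψ (-a₀) * (ψ a * f a) =
        f a * (if a - a₀ = 0 then (Fintype.card α : ℂ) else 0) := by
      intro a
      rw [← AddChar.sum_apply_eq_ite, Finset.mul_sum]
      refine Finset.sum_congr rfl (fun ψ _ => ?_)
      rw [sub_eq_add_neg, AddChar.map_add_eq_mul]
      ring
    simp_rw [this]
    rw [Finset.sum_eq_single a₀]
    · simp [mul_comm]
    · intro b _ hb
      simp [sub_eq_zero, hb]
    · simp
  simp only [h, mul_zero, Finset.sum_const_zero] at key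
  have hcard : (Fintype.card α : ℂ) ≠ 0 := by exact_mod_cast Fintype.card_ne_zero
  exact (mul_eq_zero.mp key.symm).resolve_left hcard

variable {M : Ideal AlgInt} {p : ℕ}

theorem addChar_pow_card_eq_one {α : Type*} [AddCommGroup α] [Fintype α] (ψ : AddChar α ℂ) (a : α) :
    ψ a ^ Fintype.card α = 1 := by
  rw [← AddChar.map_nsmul_eq_pow, card_nsmul_eq_zero, AddChar.map_zero_eq_one]

theorem memLocalRing_addChar [M.IsPrime] {α : Type*} [AddCommGroup α] [Fintype α]
    (ψ : AddChar α ℂ) (a : α) : MemLocalRing M (ψ a) :=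
  memLocalRing_of_pow_eq_one Fintype.card_pos (addChar_pow_card_eq_one ψ a)

/-- Core step: for a commutative subgroup `C` and a character `ν` of `C` with values `p`-power
roots of unity, `(1 - ν c) * ∑ g, ε (g c g⁻¹) = 0`. -/
theorem hs_vanishing_aux {H : Type*} [Group H] [Fintype H] (hM : IsPModular p M)
    (ε : H → ℂ) (hεR : ∀ h, MemLocalRing M (ε h))
    (hε : ∀ w : H, ∑ a : H, ε a * ε (a⁻¹ * w) = ε w)
    (C : Subgroup H) [IsMulCommutative C] (ν : AddChar (Additive C) ℂ) (k : ℕ)
    (hν : ∀ a, ν a ^ p ^ k = 1) (c : C) :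
    (1 - ν (Additive.ofMul c)) * ∑ g : H, ε (g * c * g⁻¹) = 0 := by
  classical
  have hMp := isPrime_of_isPModular hM
  have : Fintype C := Fintype.ofFinite C
  obtain ⟨T, hT, -⟩ := Subgroup.exists_isComplement_left C (1 : H)
  have : Fintype T := Fintype.ofFinite T
  have hCcomm : ∀ a b : C, a * b = b * a := fun a b => mul_comm a b
  -- the function whose Fourier transform vanishes
  let f : Additive C → ℂ := fun a => (1 - ν a) * ∑ g : H, ε (g * (Additive.toMul a : C) * g⁻¹)
  have hf : f = 0 := by
    apply fourier_injective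
    intro ψ
    let lam : C → ℂ := fun c => ψ (Additive.ofMul c)
    let lam' : C → ℂ := fun c => ψ (Additive.ofMul c) * ν (Additive.ofMul c)
    have hlam : ∀ c c' : C, lam (c * c') = lam c * lam c' := by
      intro c c'
      simp only [lam, ofMul_mul, AddChar.map_add_eq_mul]
    have hlam' : ∀ c c' : C, lam' (c * c') = lam' c * lam' c' := by
      intro c c'
      simp only [lam', ofMul_mul, AddChar.map_add_eq_mul]
      ring
    have hP := indMatrix_idem C T hT ε hε lam hlam
    have hP' := indMatrix_idem C T hT ε hε lam' hlam'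
    have hlamR : ∀ c, MemLocalRing M (lam c) := fun c => memLocalRing_addChar ψ _
    have hνR : ∀ c : C, MemLocalRing M (ν (Additive.ofMul c)) := fun c => memLocalRing_addChar ν _
    have hlamR' : ∀ c, MemLocalRing M (lam' c) := fun c => memLocalRing_mul M (hlamR c) (hνR c)
    have htr : (indMatrix C T ε lam).trace = (indMatrix C T ε lam').trace := by
      apply trace_eq_of_idem_congr (M := M) _ _ hP hP'
      · intro t t'
        exact memLocalRing_sum M _ _ (fun c _ => memLocalRing_mul M (hεR _) (hlamR c))
      · intro t t'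
        exact memLocalRing_sum M _ _ (fun c _ => memLocalRing_mul M (hεR _) (hlamR' c))
      · intro t t'
        simp only [indMatrix, ← Finset.sum_sub_distrib]
        apply memLocalIdeal_sum
        intro c _
        have : ε ((t : H) * c * (t' : H)⁻¹) * lam c - ε ((t : H) * c * (t' : H)⁻¹) * lam' c =
            -((ε ((t : H) * c * (t' : H)⁻¹) * lam c) * (ν (Additive.ofMul c) - 1)) := by
          simp only [lam']
          ring
        rw [this]
        apply memLocalIdeal_neg
        exact memLocalIdeal_mul_left M (memLocalRing_mul M (hεR _) (hlamR c))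
          (memLocalIdeal_sub_one_of_pow_eq_one hM (hν _))
    have h1 := card_mul_indMatrix_trace C T hT hCcomm ε lam
    have h2 := card_mul_indMatrix_trace C T hT hCcomm ε lam'
    rw [htr, h2] at h1
    -- h1 : ∑ c, lam' c * S c = ∑ c, lam c * S c
    have h3 : ∑ c : C, lam c * ((1 - ν (Additive.ofMul c)) * ∑ g : H, ε (g * c * g⁻¹)) = 0 := by
      have : ∀ c : C, lam c * ((1 - ν (Additive.ofMul c)) * ∑ g : H, ε (g * c * g⁻¹)) =
          lam c * ∑ g : H, ε (g * c * g⁻¹) - lam' c * ∑ g : H, ε (g * c * g⁻¹) := by
        intro c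
        simp only [lam']
        ring
      simp only [this, Finset.sum_sub_distrib]
      rw [h1, sub_self]
    rw [← Equiv.sum_comp Additive.ofMul]
    exact h3
  have := congrFun hf (Additive.ofMul c)
  simpa [f] using this

/-- **Hattori–Stallings vanishing.**  For an idempotent `ε` of the group algebra of the finite group
`H` with local-integer coefficients and `h` of order divisible by `p`:
`∑ g, ε (g h g⁻¹) = 0`. -/
theorem hs_vanishing {H : Type*} [Group H] [Fintype H] (hM : IsPModular p M)
    (ε : H → ℂ) (hεR : ∀ h, MemLocalRing M (ε h))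
    (hε : ∀ w : H, ∑ a : H, ε a * ε (a⁻¹ * w) = ε w)
    (h : H) (hp : p ∣ orderOf h) : ∑ g : H, ε (g * h * g⁻¹) = 0 := by
  classical
  have hpp : p.Prime := hM.1
  let C : Subgroup H := Subgroup.zpowers h
  have : Fintype C := Fintype.ofFinite C
  let hC : C := ⟨h, Subgroup.mem_zpowers h⟩
  set N := orderOf h with hN
  have hNpos : 0 < N := orderOf_pos h
  set a := N.factorization p with ha
  set m := N / p ^ a with hm
  have hNm : p ^ a * m = N := Nat.ordProj_mul_ordCompl_eq_self N p
  have ha1 : 1 ≤ a := (hpp.dvd_iff_one_le_factorization hNpos.ne').mp hp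
  have hmN : m < N := by
    have hm0 : 0 < m := Nat.pos_of_ne_zero (fun h0 => by rw [h0, mul_zero] at hNm; omega)
    have : 2 ≤ p ^ a := le_trans hpp.two_le (Nat.le_self_pow (by omega) p)
    nlinarith
  -- `m • h` is nonzero in `Additive C`
  have hne : m • (Additive.ofMul hC) ≠ 0 := by
    intro h0
    have h1 : hC ^ m = 1 := by
      have := congrArg Additive.toMul h0
      simpa using this
    have h2 : h ^ m = 1 := by
      have := congrArg (fun z : C => (z : H)) h1
      simpa [hC] using this
    have := orderOf_dvd_of_pow_eq_one h2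
    have hm0 : 0 < m := Nat.pos_of_ne_zero (fun h0 => by rw [h0, mul_zero] at hNm; omega)
    exact absurd (Nat.le_of_dvd hm0 this) (not_le.mpr hmN)
  obtain ⟨ψ₀, hψ₀⟩ := (AddChar.exists_apply_ne_zero (α := Additive C)).mpr hne
  let ν : AddChar (Additive C) ℂ := ψ₀.compAddMonoidHom (nsmulAddMonoidHom m)
  have hνapp : ∀ x, ν x = ψ₀ (m • x) := fun x => rfl
  have hν : ∀ x, ν x ^ p ^ a = 1 := by
    intro x
    rw [hνapp, ← AddChar.map_nsmul_eq_pow, ← mul_nsmul, mul_comm m, hNm]
    have : N • x = 0 := by
      have h1 : (Additive.toMul x : C) ^ N = 1 := by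
        apply Subtype.ext
        rw [Subgroup.coe_pow, Subgroup.coe_one]
        obtain ⟨j, hj⟩ := Subgroup.mem_zpowers_iff.mp (Additive.toMul x : C).2
        rw [← hj, ← zpow_natCast, ← zpow_mul, mul_comm, zpow_mul, zpow_natCast, pow_orderOf_eq_one,
          one_zpow]
      have : Additive.ofMul ((Additive.toMul x : C) ^ N) = 0 := by rw [h1]; rfl
      simpa using this
    rw [this, AddChar.map_zero_eq_one]
  have key := hs_vanishing_aux hM ε hεR hε C ν a hν hC
  rw [hνapp] at key
  have h1 : (1 - ψ₀ (m • Additive.ofMul hC)) ≠ 0 := by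
    intro h0
    apply hψ₀
    exact (sub_eq_zero.mp h0).symm
  exact (mul_eq_zero.mp key).resolve_left h1

end Cfsg.Agent.Helper77
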