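import Cfsg.Prelude.Def_Blocks
import Mathlib.RingTheory.Ideal.Quotient.Basic
import Mathlib.RingTheory.Ideal.Maps
import Mathlib.Algebra.Ring.Subring.Basic

/-!
# The local ring at a maximal ideal of the algebraic integers, as a subring of `ℂ`

`Cfsg.MemLocalRing M` and `Cfsg.MemLocalIdeal M` bundled as a `Subring ℂ` and an ideal of it,
with the basic local-ring facts (helper77's layer (14), file 1).
-/

set_option autoImplicit false

namespace Cfsg.Agent.Helper77

open Cfsg

variable (M : Ideal AlgInt) [hMp : M.IsPrime]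

theorem coe_ne_zero_of_not_mem {M : Ideal AlgInt} {b : AlgInt} (hb : b ∉ M) : (b : ℂ) ≠ 0 := by
  intro h
  apply hb
  have : b = 0 := Subtype.ext h
  rw [this]
  exact M.zero_mem

include hMp in
theorem memLocalRing_add {x y : ℂ} (hx : MemLocalRing M x) (hy : MemLocalRing M y) :
    MemLocalRing M (x + y) := by
  obtain ⟨a, b, hb, rfl⟩ := hx
  obtain ⟨a', b', hb', rfl⟩ := hy
  refine ⟨a * b' + a' * b, b * b', fun h => ?_, ?_⟩
  · rcases hMp.mem_or_mem h with h | h
    · exact hb h
    · exact hb' h
  · have h1 := coe_ne_zero_of_not_mem hb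
    have h2 := coe_ne_zero_of_not_mem hb'
    push_cast
    field_simp

include hMp in
theorem memLocalRing_mul {x y : ℂ} (hx : MemLocalRing M x) (hy : MemLocalRing M y) :
    MemLocalRing M (x * y) := by
  obtain ⟨a, b, hb, rfl⟩ := hx
  obtain ⟨a', b', hb', rfl⟩ := hy
  refine ⟨a * a', b * b', fun h => ?_, ?_⟩
  · rcases hMp.mem_or_mem h with h | h
    · exact hb h
    · exact hb' h
  · have h1 := coe_ne_zero_of_not_mem hb
    have h2 := coe_ne_zero_of_not_mem hb'
    push_cast
    field_simp

theorem memLocalRing_neg {M : Ideal AlgInt} {x : ℂ} (hx : MemLocalRing M x) : MemLocalRing M (-x) := by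
  obtain ⟨a, b, hb, rfl⟩ := hx
  exact ⟨-a, b, hb, by push_cast; ring⟩

include hMp in
theorem one_not_mem : (1 : AlgInt) ∉ M := fun h => hMp.ne_top ((Ideal.eq_top_iff_one M).mpr h)

include hMp in
theorem memLocalRing_algInt (a : AlgInt) : MemLocalRing M (a : ℂ) :=
  ⟨a, 1, one_not_mem M, by simp⟩

include hMp in
theorem memLocalRing_of_isIntegral {z : ℂ} (hz : IsIntegral ℤ z) : MemLocalRing M z :=
  memLocalRing_algInt M ⟨z, hz⟩

/-- The local ring at `M`, as a subring of `ℂ`. -/
def localRing : Subring ℂ where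
  carrier := {z | MemLocalRing M z}
  mul_mem' := fun hx hy => memLocalRing_mul M hx hy
  one_mem' := by simpa using memLocalRing_algInt M 1
  add_mem' := fun hx hy => memLocalRing_add M hx hy
  zero_mem' := by simpa using memLocalRing_algInt M 0
  neg_mem' := fun hx => memLocalRing_neg hx

theorem mem_localRing {z : ℂ} : z ∈ localRing M ↔ MemLocalRing M z := Iff.rfl

include hMp in
theorem memLocalIdeal_add {x y : ℂ} (hx : MemLocalIdeal M x) (hy : MemLocalIdeal M y) :
    MemLocalIdeal M (x + y) := by
  obtain ⟨a, b, ha, hb, rfl⟩ := hx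
  obtain ⟨a', b', ha', hb', rfl⟩ := hy
  refine ⟨a * b' + a' * b, b * b', ?_, fun h => ?_, ?_⟩
  · exact M.add_mem (M.mul_mem_right _ ha) (M.mul_mem_right _ ha')
  · rcases hMp.mem_or_mem h with h | h
    · exact hb h
    · exact hb' h
  · have h1 := coe_ne_zero_of_not_mem hb
    have h2 := coe_ne_zero_of_not_mem hb'
    push_cast
    field_simp

include hMp in
theorem memLocalIdeal_mul_left {x y : ℂ} (hx : MemLocalRing M x) (hy : MemLocalIdeal M y) :
    MemLocalIdeal M (x * y) := by
  obtain ⟨a, b, hb, rfl⟩ := hx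
  obtain ⟨a', b', ha', hb', rfl⟩ := hy
  refine ⟨a * a', b * b', M.mul_mem_left _ ha', fun h => ?_, ?_⟩
  · rcases hMp.mem_or_mem h with h | h
    · exact hb h
    · exact hb' h
  · have h1 := coe_ne_zero_of_not_mem hb
    have h2 := coe_ne_zero_of_not_mem hb'
    push_cast
    field_simp

theorem memLocalIdeal_neg {M : Ideal AlgInt} {x : ℂ} (hx : MemLocalIdeal M x) : MemLocalIdeal M (-x) := by
  obtain ⟨a, b, ha, hb, rfl⟩ := hx
  exact ⟨-a, b, M.neg_mem ha, hb, by push_cast; ring⟩

include hMp in
theorem memLocalIdeal_zero : MemLocalIdeal M 0 :=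
  ⟨0, 1, M.zero_mem, one_not_mem M, by simp⟩

theorem MemLocalIdeal.memLocalRing {M : Ideal AlgInt} {x : ℂ} (hx : MemLocalIdeal M x) : MemLocalRing M x := by
  obtain ⟨a, b, _, hb, rfl⟩ := hx
  exact ⟨a, b, hb, rfl⟩

include hMp in
theorem memLocalIdeal_sub {x y : ℂ} (hx : MemLocalIdeal M x) (hy : MemLocalIdeal M y) :
    MemLocalIdeal M (x - y) := by
  rw [sub_eq_add_neg]
  exact memLocalIdeal_add M hx (memLocalIdeal_neg hy)

/-- The maximal ideal of the local ring at `M`. -/
def localIdeal : Ideal (localRing M) where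
  carrier := {z | MemLocalIdeal M (z : ℂ)}
  add_mem' := fun hx hy => memLocalIdeal_add M hx hy
  zero_mem' := memLocalIdeal_zero M
  smul_mem' := fun c x hx => memLocalIdeal_mul_left M c.2 hx

theorem mem_localIdeal {z : localRing M} : z ∈ localIdeal M ↔ MemLocalIdeal M (z : ℂ) := Iff.rfl

include hMp in
/-- For an algebraic integer, membership in the local ideal is membership in `M`. -/
theorem memLocalIdeal_algInt_iff (z : AlgInt) : MemLocalIdeal M (z : ℂ) ↔ z ∈ M := by
  constructor
  · rintro ⟨a, b, ha, hb, h⟩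
    have hb0 := coe_ne_zero_of_not_mem hb
    have : z * b = a := by
      apply Subtype.ext
      push_cast
      rw [← h]
      field_simp
    have hzb : z * b ∈ M := this ▸ ha
    rcases hMp.mem_or_mem hzb with h | h
    · exact h
    · exact absurd h hb
  · intro hz
    exact ⟨z, 1, hz, one_not_mem M, by simp⟩

include hMp in
theorem not_memLocalIdeal_one : ¬ MemLocalIdeal M 1 := by
  intro h
  have := (memLocalIdeal_algInt_iff M 1).mp (by simpa using h)
  exact one_not_mem M this

include hMp in
theorem localIdeal_ne_top : localIdeal M ≠ ⊤ := by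
  intro h
  have : (1 : localRing M) ∈ localIdeal M := by rw [h]; trivial
  exact not_memLocalIdeal_one M this

include hMp in
/-- An element of the local ring outside the local ideal has its inverse in the local ring. -/
theorem memLocalRing_inv {x : ℂ} (hx : MemLocalRing M x) (hx' : ¬ MemLocalIdeal M x) :
    MemLocalRing M x⁻¹ := by
  obtain ⟨a, b, hb, rfl⟩ := hx
  have ha : a ∉ M := fun ha => hx' ⟨a, b, ha, hb, rfl⟩
  exact ⟨b, a, ha, by rw [inv_div]⟩

include hMp in
theorem not_memLocalIdeal_inv {x : ℂ} (hx : MemLocalRing M x) (hx' : ¬ MemLocalIdeal M x) :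
    ¬ MemLocalIdeal M x⁻¹ := by
  intro h
  have h0 : x ≠ 0 := fun h0 => hx' (h0 ▸ memLocalIdeal_zero M)
  have := memLocalIdeal_mul_left M hx h
  rw [mul_inv_cancel₀ h0] at this
  exact not_memLocalIdeal_one M this

include hMp in
/-- The local ideal is prime: a product in it has a factor in it. -/
theorem memLocalIdeal_or_of_mul {x y : ℂ} (hx : MemLocalRing M x) (hy : MemLocalRing M y)
    (h : MemLocalIdeal M (x * y)) : MemLocalIdeal M x ∨ MemLocalIdeal M y := by
  by_cases hx' : MemLocalIdeal M x
  · exact Or.inl hx'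
  · right
    have h0 : x ≠ 0 := fun h0 => hx' (h0 ▸ memLocalIdeal_zero M)
    have := memLocalIdeal_mul_left M (memLocalRing_inv M hx hx') h
    rwa [← mul_assoc, inv_mul_cancel₀ h0, one_mul] at this

include hMp in
theorem memLocalIdeal_of_pow {x : ℂ} (hx : MemLocalRing M x) {n : ℕ}
    (h : MemLocalIdeal M (x ^ n)) : MemLocalIdeal M x := by
  induction n with
  | zero => exact absurd (by simpa using h) (not_memLocalIdeal_one M)
  | succ n ih =>
    rw [pow_succ] at h
    have hxn : MemLocalRing M (x ^ n) := (localRing M).pow_mem hx n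
    rcases memLocalIdeal_or_of_mul M hxn hx h with h | h
    · exact ih h
    · exact h

include hMp in
theorem memLocalRing_pow {x : ℂ} (hx : MemLocalRing M x) (n : ℕ) : MemLocalRing M (x ^ n) :=
  (localRing M).pow_mem hx n

include hMp in
theorem memLocalRing_sub {x y : ℂ} (hx : MemLocalRing M x) (hy : MemLocalRing M y) :
    MemLocalRing M (x - y) := (localRing M).sub_mem hx hy

include hMp in
theorem memLocalRing_sum {ι : Type*} (s : Finset ι) (f : ι → ℂ) (h : ∀ i ∈ s, MemLocalRing M (f i)) :
    MemLocalRing M (∑ i ∈ s, f i) := (localRing M).sum_mem h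

include hMp in
theorem memLocalRing_prod {ι : Type*} (s : Finset ι) (f : ι → ℂ) (h : ∀ i ∈ s, MemLocalRing M (f i)) :
    MemLocalRing M (∏ i ∈ s, f i) := (localRing M).prod_mem h

include hMp in
theorem memLocalIdeal_sum {ι : Type*} (s : Finset ι) (f : ι → ℂ) (h : ∀ i ∈ s, MemLocalIdeal M (f i)) :
    MemLocalIdeal M (∑ i ∈ s, f i) := by
  classical
  induction s using Finset.induction_on with
  | empty => simpa using memLocalIdeal_zero M
  | insert a s ha ih =>
    rw [Finset.sum_insert ha]
    exact memLocalIdeal_add M (h a (Finset.mem_insert_self a s))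
      (ih (fun i hi => h i (Finset.mem_insert_of_mem hi)))

include hMp in
theorem memLocalRing_natCast (n : ℕ) : MemLocalRing M (n : ℂ) := natCast_mem (localRing M) n

include hMp in
theorem memLocalRing_intCast (n : ℤ) : MemLocalRing M (n : ℂ) := intCast_mem (localRing M) n

section Prime

omit hMp
variable {M} {p : ℕ}

theorem isMaximal_of_isPModular (hM : IsPModular p M) : M.IsMaximal := hM.2.1

theorem isPrime_of_isPModular (hM : IsPModular p M) : M.IsPrime := hM.2.1.isPrime

theorem prime_of_isPModular (hM : IsPModular p M) : p.Prime := hM.1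

theorem natCast_mem_of_isPModular (hM : IsPModular p M) : (p : AlgInt) ∈ M := hM.2.2

/-- `p` lies in the local ideal. -/
theorem memLocalIdeal_p (hM : IsPModular p M) : MemLocalIdeal M (p : ℂ) := by
  have := isPrime_of_isPModular hM
  have h := (memLocalIdeal_algInt_iff M (p : AlgInt)).mpr hM.2.2
  simpa using h

/-- An integer is in the local ideal iff it is divisible by `p`. -/
theorem memLocalIdeal_intCast_iff (hM : IsPModular p M) (n : ℤ) :
    MemLocalIdeal M (n : ℂ) ↔ (p : ℤ) ∣ n := by
  have := isPrime_of_isPModular hM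
  constructor
  · intro h
    by_contra hnd
    have hcop : IsCoprime (p : ℤ) n := by
      rw [Int.isCoprime_iff_gcd_eq_one]
      have := (Nat.Prime.coprime_iff_not_dvd hM.1).mpr (fun hd => hnd (Int.natCast_dvd.mpr hd))
      simpa [Int.gcd, Nat.Coprime] using this
    obtain ⟨a, b, hab⟩ := hcop
    have h1 : MemLocalIdeal M ((a : ℂ) * (p : ℂ) + (b : ℂ) * (n : ℂ)) :=
      memLocalIdeal_add M (memLocalIdeal_mul_left M (memLocalRing_intCast M a) (memLocalIdeal_p hM))
        (memLocalIdeal_mul_left M (memLocalRing_intCast M b) h)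
    have h2 : (a : ℂ) * (p : ℂ) + (b : ℂ) * (n : ℂ) = 1 := by
      have := congrArg (fun z : ℤ => (z : ℂ)) hab
      push_cast at this
      exact this
    rw [h2] at h1
    exact not_memLocalIdeal_one M h1
  · rintro ⟨k, rfl⟩
    push_cast
    rw [mul_comm]
    exact memLocalIdeal_mul_left M (memLocalRing_intCast M k) (memLocalIdeal_p hM)

theorem memLocalIdeal_natCast_iff (hM : IsPModular p M) (n : ℕ) :
    MemLocalIdeal M (n : ℂ) ↔ p ∣ n := by
  have := memLocalIdeal_intCast_iff hM (n : ℤ)
  rw [Int.natCast_dvd_natCast] at this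
  simpa using this

end Prime

end Cfsg.Agent.Helper77
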