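import Cfsg.Agent.Helper77.BlockOrth
import Mathlib.RingTheory.Artinian.Module
import Mathlib.FieldTheory.Finiteness
import Mathlib.GroupTheory.PGroup

/-!
# Class sums outside the centralizer of a normal `p`-subgroup

(helper77's layer (15b), file 8.)  Let `P` be a normal `p`-subgroup of the finite group `G` and
`k₀ ∉ C_G(P)`.

* `classOp_nilpotent`: the class sum of `k₀` acts nilpotently on `G → ZMod p` (that is, it is
  nilpotent in the group algebra over `ZMod p`).
* `centralChar_memLocalIdeal_of_not_mem_centralizer`: for every irreducible character `χ`,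
  the central character value `ω_χ(k₀)` lies in the local ideal.
-/

set_option autoImplicit false
set_option linter.unusedSectionVars false

namespace Cfsg.Agent.Helper77

open Cfsg

/-- If a `p`-group acts on a finite set and `f` is an invariant function with values in an additive
group killed by `p` which vanishes at the fixed points, then the sum of `f` is zero. -/
theorem sum_eq_zero_of_pgroup_action {p : ℕ} [Fact p.Prime]
    {Γ X A : Type*} [Group Γ] [MulAction Γ X] [Fintype X] [AddCommGroup A]
    (hA : ∀ a : A, p • a = 0) (hΓ : IsPGroup p Γ)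
    (f : X → A) (hinv : ∀ (u : Γ) (x : X), f (u • x) = f x)
    (hfix : ∀ x, (∀ u : Γ, u • x = x) → f x = 0) :
    ∑ x, f x = 0 := by
  classical
  rw [Finset.sum_partition (MulAction.orbitRel Γ X)]
  refine Finset.sum_eq_zero (fun xbar _ => ?_)
  induction xbar using Quotient.inductionOn with
  | h x =>
    have hmem : ∀ y, y ∈ Finset.univ.filter (fun y => (⟦y⟧ : Quotient (MulAction.orbitRel Γ X)) = ⟦x⟧) ↔
        y ∈ MulAction.orbit Γ x := by
      intro y
      simp only [Finset.mem_filter, Finset.mem_univ, true_and]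
      rw [Quotient.eq]
      exact MulAction.orbitRel_apply
    have hconst : ∀ y ∈ Finset.univ.filter (fun y => (⟦y⟧ : Quotient (MulAction.orbitRel Γ X)) = ⟦x⟧),
        f y = f x := by
      intro y hy
      obtain ⟨u, rfl⟩ := (hmem y).mp hy
      exact hinv u x
    rw [Finset.sum_congr rfl hconst, Finset.sum_const]
    have hcard : (Finset.univ.filter (fun y => (⟦y⟧ : Quotient (MulAction.orbitRel Γ X)) = ⟦x⟧)).card =
        Nat.card (MulAction.orbit Γ x) := by
      rw [Nat.card_eq_fintype_card, ← Set.toFinset_card]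
      congr 1
      ext y
      rw [hmem y, Set.mem_toFinset]
    obtain ⟨n, hn⟩ := hΓ.card_orbit x
    rw [hcard, hn]
    cases n with
    | zero =>
      rw [pow_zero, one_smul]
      apply hfix
      intro u
      have h1 : Nat.card (MulAction.orbit Γ x) = 1 := by rw [hn, pow_zero]
      have hsub : Subsingleton (MulAction.orbit Γ x) := (Nat.card_eq_one_iff_unique.mp h1).1
      have := Subsingleton.elim (⟨u • x, MulAction.mem_orbit x u⟩ : MulAction.orbit Γ x)
        ⟨x, MulAction.mem_orbit_self x⟩
      exact congrArg Subtype.val this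
    | succ n =>
      rw [pow_succ, mul_smul, hA, smul_zero]


section

variable {G : Type*} [Group G] [Fintype G] (p : ℕ) [Fact p.Prime]

/-- Left translation on `G → ZMod p`. -/
noncomputable def ltr (x : G) : Module.End (ZMod p) (G → ZMod p) :=
  LinearMap.funLeft (ZMod p) (ZMod p) (fun g => x⁻¹ * g)

theorem ltr_apply (x : G) (f : G → ZMod p) (g : G) : ltr p x f g = f (x⁻¹ * g) := rfl

theorem ltr_mul (x y : G) : ltr p (x * y) = ltr p x * ltr p y := by
  refine LinearMap.ext (fun f => funext (fun g => ?_))
  rw [Module.End.mul_apply, ltr_apply, ltr_apply, ltr_apply, mul_inv_rev, mul_assoc]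

theorem ltr_one : ltr p (1 : G) = 1 := by
  refine LinearMap.ext (fun f => funext (fun g => ?_))
  rw [ltr_apply, inv_one, one_mul]
  rfl

open Classical in
/-- The class sum of `k₀` acting on `G → ZMod p` by left translations. -/
noncomputable def classOp (k₀ : G) : Module.End (ZMod p) (G → ZMod p) :=
  ∑ k ∈ Finset.univ.filter (fun k => IsConj k₀ k), ltr p k

theorem ltr_mul_classOp (k₀ x : G) : ltr p x * classOp p k₀ = classOp p k₀ * ltr p x := by
  classical
  unfold classOp
  rw [Finset.mul_sum, Finset.sum_mul]
  refine Finset.sum_bij' (fun k _ => x * k * x⁻¹) (fun k _ => x⁻¹ * k * x) ?_ ?_ ?_ ?_ ?_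
  · intro k hk
    simp only [Finset.mem_filter, Finset.mem_univ, true_and] at hk ⊢
    exact hk.trans (isConj_iff.mpr ⟨x, rfl⟩)
  · intro k hk
    simp only [Finset.mem_filter, Finset.mem_univ, true_and] at hk ⊢
    exact hk.trans (isConj_iff.mpr ⟨x⁻¹, by simp⟩)
  · intro k _
    group
  · intro k _
    group
  · intro k _
    rw [← ltr_mul, ← ltr_mul]
    congr 1
    group

theorem ltr_mul_classOp_pow (k₀ x : G) (n : ℕ) :
    ltr p x * classOp p k₀ ^ n = classOp p k₀ ^ n * ltr p x :=
  (Commute.pow_right (ltr_mul_classOp p k₀ x) n).eq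

/-- If `P` is a normal `p`-subgroup and `k₀` does not centralize `P`, the class sum of `k₀` is
nilpotent on `G → ZMod p`. -/
theorem classOp_nilpotent (P : Subgroup G) [P.Normal] (hP : IsPGroup p P) (k₀ : G)
    (hk₀ : k₀ ∉ Subgroup.centralizer (P : Set G)) : ∃ n : ℕ, classOp p k₀ ^ n = 0 := by
  classical
  set Z := classOp p k₀ with hZ
  obtain ⟨N, hN⟩ := Filter.eventually_atTop.mp (LinearMap.eventually_isCompl_ker_pow_range_pow Z)
  have hc := hN (N + 1) (Nat.le_succ N)
  by_contra hne
  have hW : LinearMap.range (Z ^ (N + 1)) ≠ ⊥ := by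
    intro h
    exact hne ⟨N + 1, LinearMap.range_eq_bot.mp h⟩
  -- the action of `P` on `W`
  let W := LinearMap.range (Z ^ (N + 1))
  have hstab : ∀ (u : G) (w : G → ZMod p), w ∈ W → ltr p u w ∈ W := by
    rintro u w ⟨v, rfl⟩
    refine ⟨ltr p u v, ?_⟩
    have := ltr_mul_classOp_pow p k₀ u (N + 1)
    have h2 := congrArg (fun T : Module.End (ZMod p) (G → ZMod p) => T v) this
    simp only [Module.End.mul_apply] at h2
    exact h2.symm
  let act : MulAction P W :=
    { smul := fun u w => ⟨ltr p (u : G) w.1, hstab u w.1 w.2⟩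
      one_smul := by
        intro w
        apply Subtype.ext
        show ltr p ((1 : P) : G) w.1 = w.1
        rw [Subgroup.coe_one, ltr_one]
        rfl
      mul_smul := by
        intro u v w
        apply Subtype.ext
        show ltr p ((u * v : P) : G) w.1 = ltr p (u : G) (ltr p (v : G) w.1)
        rw [Subgroup.coe_mul, ltr_mul]
        rfl }
  have hsmul : ∀ (u : P) (w : W), ((u • w : W) : G → ZMod p) = ltr p (u : G) w.1 := fun _ _ => rfl
  -- `p` divides the cardinality of `W`
  have hWnt : Nontrivial W := by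
    rw [Submodule.nontrivial_iff_ne_bot]
    exact hW
  have hcard : p ∣ Nat.card W := by
    have h1 := Module.natCard_eq_pow_finrank (K := ZMod p) (V := W)
    rw [h1, Nat.card_zmod]
    exact dvd_pow_self p (Module.finrank_pos (R := ZMod p) (M := W)).ne'
  have h0fix : (0 : W) ∈ MulAction.fixedPoints P W := by
    intro u
    apply Subtype.ext
    rw [hsmul]
    exact map_zero _
  obtain ⟨w, hwfix, hw0⟩ := hP.exists_fixed_point_of_prime_dvd_card_of_fixed_point W hcard h0fix
  have hwfix' : ∀ u : P, ltr p (u : G) w.1 = w.1 := by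
    intro u
    have := hwfix u
    rw [← hsmul, this]
  -- `Z w = 0`
  have hZw : Z w.1 = 0 := by
    rw [hZ]
    unfold classOp
    rw [LinearMap.sum_apply, Finset.sum_filter]
    let _ : MulAction P G :=
      { smul := fun u x => (u : G) * x * (u : G)⁻¹
        one_smul := by intro x; show ((1 : P) : G) * x * ((1 : P) : G)⁻¹ = x; simp
        mul_smul := by
          intro u v x
          show ((u * v : P) : G) * x * ((u * v : P) : G)⁻¹ =
            (u : G) * ((v : G) * x * (v : G)⁻¹) * (u : G)⁻¹
          simp [mul_assoc] }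
    have hsm : ∀ (u : P) (x : G), u • x = (u : G) * x * (u : G)⁻¹ := fun _ _ => rfl
    refine sum_eq_zero_of_pgroup_action (p := p) (Γ := P) ?_ hP _ ?_ ?_
    · intro a
      funext g
      simp
    · intro u x
      rw [hsm]
      have hiff : IsConj k₀ ((u : G) * x * (u : G)⁻¹) ↔ IsConj k₀ x := by
        constructor
        · intro h
          exact h.trans (isConj_iff.mpr ⟨(u : G)⁻¹, by group⟩)
        · intro h
          exact h.trans (isConj_iff.mpr ⟨(u : G), rfl⟩)
      by_cases hx : IsConj k₀ x
      · rw [if_pos hx, if_pos (hiff.mpr hx)]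
        -- u x u⁻¹ = x (x⁻¹ u x) u⁻¹
        have hmem : x⁻¹ * (u : G) * x * (u : G)⁻¹ ∈ P := by
          refine P.mul_mem ?_ (P.inv_mem u.2)
          have := ‹P.Normal›.conj_mem (u : G) u.2 x⁻¹
          simpa [mul_assoc] using this
        have h1 : (u : G) * x * (u : G)⁻¹ = x * (x⁻¹ * (u : G) * x * (u : G)⁻¹) := by group
        rw [h1, ltr_mul]
        rw [Module.End.mul_apply, hwfix' ⟨_, hmem⟩]
      · rw [if_neg hx, if_neg (fun h => hx (hiff.mp h))]
    · intro x hx
      rw [if_neg]
      intro hconj
      apply hk₀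
      -- x centralizes P, hence so does k₀
      have hxc : x ∈ Subgroup.centralizer (P : Set G) := by
        rw [Subgroup.mem_centralizer_iff]
        intro u hu
        have := hx ⟨u, hu⟩
        rw [hsm] at this
        simp only at this
        calc u * x = u * x * u⁻¹ * u := by group
          _ = x * u := by rw [this]
      obtain ⟨c, hc⟩ := isConj_iff.mp hconj
      have : k₀ = c⁻¹ * x * c := by rw [← hc]; group
      rw [this]
      have hnorm : (Subgroup.centralizer (P : Set G)).Normal := inferInstance
      have := hnorm.conj_mem x hxc c⁻¹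
      simpa using this
  -- conclude
  have hker : w.1 ∈ LinearMap.ker (Z ^ (N + 1)) := by
    rw [LinearMap.mem_ker, pow_succ, Module.End.mul_apply, hZw, map_zero]
  have hzero : w.1 = 0 := by
    have := hc.disjoint.le_bot ⟨hker, w.2⟩
    simpa using this
  exact hw0 (Subtype.ext hzero.symm)

end

section Bridge

variable {G : Type*} [Group G] [Fintype G] (p : ℕ) [Fact p.Prime]

open Classical in
/-- The coefficients of the `n`-th power of the class sum of `k₀`, as integers. -/
noncomputable def classPowCoeff (k₀ : G) : ℕ → G → ℤ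
  | 0 => fun g => if g = 1 then 1 else 0
  | n + 1 => fun g => ∑ k ∈ Finset.univ.filter (fun k => IsConj k₀ k), classPowCoeff k₀ n (k⁻¹ * g)

open Classical in
theorem classOp_pow_apply (k₀ : G) (n : ℕ) (g : G) :
    (classOp p k₀ ^ n) (fun x => if x = 1 then (1 : ZMod p) else 0) g =
      ((classPowCoeff k₀ n g : ℤ) : ZMod p) := by
  induction n generalizing g with
  | zero =>
    simp only [pow_zero, Module.End.one_apply, classPowCoeff]
    split_ifs <;> simp
  | succ n ih =>
    rw [pow_succ', Module.End.mul_apply]
    have hZ : ∀ f : G → ZMod p, classOp p k₀ f =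
        ∑ k ∈ Finset.univ.filter (fun k => IsConj k₀ k), ltr p k f := by
      intro f
      unfold classOp
      rw [LinearMap.sum_apply]
    rw [hZ, Finset.sum_apply]
    simp only [classPowCoeff, Int.cast_sum]
    refine Finset.sum_congr rfl (fun k _ => ?_)
    rw [ltr_apply, ih]

open Classical in
theorem classPowCoeff_succ_eq_conv (k₀ : G) (n : ℕ) :
    (fun g => ((classPowCoeff k₀ (n + 1) g : ℤ) : ℂ)) =
      Helper16.conv (Helper16.classInd k₀) (fun g => ((classPowCoeff k₀ n g : ℤ) : ℂ)) := by
  funext g
  rw [Helper16.conv_apply]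
  simp only [classPowCoeff, Int.cast_sum]
  rw [Finset.sum_filter]
  refine Finset.sum_congr rfl (fun k _ => ?_)
  unfold Helper16.classInd
  by_cases h : IsConj k₀ k
  · simp only [if_pos h, one_mul]
  · simp only [if_neg h, zero_mul]

open Classical in
theorem classPowCoeff_zero_eq (k₀ : G) :
    (fun g => ((classPowCoeff k₀ 0 g : ℤ) : ℂ)) = (Helper16.deltaOne : G → ℂ) := by
  funext g
  unfold Helper16.deltaOne
  simp only [classPowCoeff]
  split_ifs <;> simp

theorem isClassFunction_classPowCoeff (k₀ : G) (n : ℕ) :
    IsClassFunction G (fun g => ((classPowCoeff k₀ n g : ℤ) : ℂ)) := by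
  induction n with
  | zero => rw [classPowCoeff_zero_eq]; exact Helper16.isClassFunction_deltaOne
  | succ n ih =>
    rw [classPowCoeff_succ_eq_conv]
    exact Helper16.isClassFunction_conv (Helper16.isClassFunction_classInd k₀) ih

theorem omega_classPowCoeff (χ : IrrCharacter G) (k₀ : G) (n : ℕ) :
    Helper16.omega (χ : G → ℂ) (fun g => ((classPowCoeff k₀ n g : ℤ) : ℂ)) =
      centralChar (χ : G → ℂ) k₀ ^ n := by
  induction n with
  | zero =>
    rw [classPowCoeff_zero_eq, Helper16.omega_deltaOne _ (Helper16.irr_one_ne_zero χ), pow_zero]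
  | succ n ih =>
    rw [classPowCoeff_succ_eq_conv, Helper16.irr_omega_conv χ (Helper16.isClassFunction_classInd k₀)
      (isClassFunction_classPowCoeff k₀ n), ih,
      Helper16.omega_classInd _ (Helper16.irr_isClassFunction χ), pow_succ']

end Bridge

section Main

variable {G : Type*} [Group G] [Fintype G] {p : ℕ} {M : Ideal AlgInt}

/-- If `P` is a normal `p`-subgroup of `G` and `k₀` does not centralize `P`, then every central
character value at `k₀` lies in the local ideal. -/
theorem centralChar_memLocalIdeal_of_not_mem_centralizer (hM : IsPModular p M)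
    (P : Subgroup G) [P.Normal] (hP : IsPGroup p P) (k₀ : G)
    (hk₀ : k₀ ∉ Subgroup.centralizer (P : Set G)) (χ : IrrCharacter G) :
    MemLocalIdeal M (centralChar (χ : G → ℂ) k₀) := by
  classical
  have hMp : M.IsPrime := isPrime_of_isPModular hM
  have hp : Fact p.Prime := ⟨hM.1⟩
  obtain ⟨n, hn⟩ := classOp_nilpotent p P hP k₀ hk₀
  -- all coefficients of the `n`-th power are divisible by `p`
  have hdvd : ∀ g, (p : ℤ) ∣ classPowCoeff k₀ n g := by
    intro g
    have h1 := classOp_pow_apply p k₀ n g
    rw [hn] at h1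
    rw [← ZMod.intCast_zmod_eq_zero_iff_dvd]
    rw [← h1]
    rfl
  choose t ht using hdvd
  have hp0 : (p : ℂ) ≠ 0 := by exact_mod_cast hM.1.ne_zero
  have heq : (fun g => ((classPowCoeff k₀ n g : ℤ) : ℂ)) = (p : ℂ) • (fun g => ((t g : ℤ) : ℂ)) := by
    funext g
    rw [Pi.smul_apply, smul_eq_mul, ht g]
    push_cast
    ring
  have htcl : IsClassFunction G (fun g => ((t g : ℤ) : ℂ)) := by
    intro g h
    have h1 := isClassFunction_classPowCoeff k₀ n g h
    rw [heq] at h1
    simp only [Pi.smul_apply, smul_eq_mul] at h1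
    exact mul_left_cancel₀ hp0 h1
  have hom := omega_classPowCoeff χ k₀ n
  rw [heq, Helper16.omega_smul] at hom
  have h2 : MemLocalIdeal M (centralChar (χ : G → ℂ) k₀ ^ n) := by
    rw [← hom]
    rw [mul_comm]
    exact memLocalIdeal_mul_left M
      (Helper16.omega_memLocalRing χ htcl (fun g => memLocalRing_intCast M (t g)))
      (memLocalIdeal_p hM)
  exact memLocalIdeal_of_pow M
    (memLocalRing_of_isIntegral M (Helper16.irr_isIntegral_centralChar χ k₀)) h2

end Main

end Cfsg.Agent.Helper77
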