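import Cfsg.Agent.Helper77.BlockOrth
import Cfsg.Prelude.Def_BlockRank
import Mathlib.LinearAlgebra.Trace

/-!
# The `p`-regular rank of a block as an average norm

(helper77's layer (15a), file 7.)  For a `p`-block `B` of a finite group `G`,
`|G| * blockRank p B = ∑ x, ∑_{χ ∈ B} χ⁰ x * χ x⁻¹`, where `χ⁰` is the restriction of `χ` to the
`p`-regular elements.  The proof: by weak block orthogonality the operator
`f ↦ ∑_{χ ∈ B} ⟨f, χ⁰⟩ χ⁰` is a projection onto the span of the `χ⁰`, and we compute its trace.
-/

set_option autoImplicit false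
set_option linter.unusedSectionVars false

namespace Cfsg.Agent.Helper77

open Cfsg
open scoped ComplexConjugate

variable {G : Type*} [Group G] [Fintype G] {M : Ideal AlgInt} {p : ℕ}

/-- The linear functional `f ↦ ⟨f, ψ⟩`. -/
noncomputable def innerL (ψ : G → ℂ) : (G → ℂ) →ₗ[ℂ] ℂ where
  toFun f := classInner f ψ
  map_add' f g := by
    simp only [classInner, Pi.add_apply, add_mul, Finset.sum_add_distrib, mul_add]
  map_smul' c f := by
    simp only [classInner, Pi.smul_apply, smul_eq_mul, RingHom.id_apply, Finset.mul_sum]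
    refine Finset.sum_congr rfl (fun g _ => ?_)
    ring

theorem innerL_apply (ψ f : G → ℂ) : innerL ψ f = classInner f ψ := rfl

theorem pRegularPart_of_reg {χ : G → ℂ} {x : G} (hx : ¬ p ∣ orderOf x) :
    pRegularPart p χ x = χ x := by
  unfold pRegularPart
  rw [if_pos]
  exact hx

theorem pRegularPart_of_sing {χ : G → ℂ} {x : G} (hx : p ∣ orderOf x) :
    pRegularPart p χ x = 0 := by
  unfold pRegularPart
  rw [if_neg]
  intro h
  exact h hx

/-- The projection formula: for `ψ ∈ B`, `∑_{χ ∈ B} ⟨ψ⁰, χ⁰⟩ χ⁰ = ψ⁰`. -/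
theorem sum_inner_pRegularPart (hM : IsPModular p M) {B : Set (IrrCharacter G)}
    (hB : IsPBlock M B) (ψ : IrrCharacter G) (hψ : ψ ∈ B) (x : G) :
    ∑ χ ∈ (Set.toFinite B).toFinset,
      classInner (pRegularPart p (ψ : G → ℂ)) (pRegularPart p (χ : G → ℂ)) *
        pRegularPart p (χ : G → ℂ) x = pRegularPart p (ψ : G → ℂ) x := by
  classical
  by_cases hx : p ∣ orderOf x
  · simp only [pRegularPart_of_sing hx, mul_zero, Finset.sum_const_zero]
  · simp only [pRegularPart_of_reg hx]
    -- replace the restricted inner products by the full ones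
    have h1 : ∑ χ ∈ (Set.toFinite B).toFinset,
        classInner (pRegularPart p (ψ : G → ℂ)) (pRegularPart p (χ : G → ℂ)) * (χ : G → ℂ) x =
        ∑ χ ∈ (Set.toFinite B).toFinset,
          classInner (ψ : G → ℂ) (χ : G → ℂ) * (χ : G → ℂ) x := by
      simp only [classInner, mul_assoc, Finset.sum_mul]
      rw [← Finset.mul_sum, ← Finset.mul_sum]
      congr 1
      rw [Finset.sum_comm]
      conv_rhs => rw [Finset.sum_comm]
      refine Finset.sum_congr rfl (fun y _ => ?_)
      by_cases hy : p ∣ orderOf y
      · simp only [pRegularPart_of_sing hy, zero_mul, Finset.sum_const_zero]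
        have h2 := weak_block_orthogonality' hM hB x y hx hy
        rw [finsum_mem_eq_finite_toFinset_sum _ (Set.toFinite B)] at h2
        symm
        calc ∑ χ ∈ (Set.toFinite B).toFinset,
            (ψ : G → ℂ) y * (conj ((χ : G → ℂ) y) * (χ : G → ℂ) x)
            = (ψ : G → ℂ) y * ∑ χ ∈ (Set.toFinite B).toFinset,
              (χ : G → ℂ) x * conj ((χ : G → ℂ) y) := by
              rw [Finset.mul_sum]
              refine Finset.sum_congr rfl (fun χ _ => ?_)
              ring
          _ = 0 := by rw [h2, mul_zero]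
      · simp only [pRegularPart_of_reg hy]
    rw [h1]
    rw [Finset.sum_eq_single ψ]
    · rw [Helper79.classInner_irr_self, one_mul]
    · intro χ _ hne
      rw [Helper79.classInner_irr_ne (Ne.symm hne), zero_mul]
    · intro h
      exfalso
      apply h
      simpa using hψ

/-- The projection operator onto the span of the `χ⁰`, `χ ∈ B`. -/
noncomputable def blockProj (p : ℕ) (B : Set (IrrCharacter G)) : (G → ℂ) →ₗ[ℂ] (G → ℂ) :=
  ∑ χ ∈ (Set.toFinite B).toFinset,
    (innerL (pRegularPart p (χ : G → ℂ))).smulRight (pRegularPart p (χ : G → ℂ))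

theorem blockProj_apply (B : Set (IrrCharacter G)) (f : G → ℂ) :
    blockProj p B f = ∑ χ ∈ (Set.toFinite B).toFinset,
      classInner f (pRegularPart p (χ : G → ℂ)) • pRegularPart p (χ : G → ℂ) := by
  unfold blockProj
  rw [LinearMap.sum_apply]
  rfl

theorem blockProj_isProj (hM : IsPModular p M) {B : Set (IrrCharacter G)} (hB : IsPBlock M B) :
    LinearMap.IsProj
      (Submodule.span ℂ ((fun χ : IrrCharacter G => pRegularPart p (χ : G → ℂ)) '' B))
      (blockProj p B) := by
  classical
  constructor
  · intro f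
    rw [blockProj_apply]
    refine Submodule.sum_mem _ (fun χ hχ => ?_)
    refine Submodule.smul_mem _ _ (Submodule.subset_span ?_)
    exact ⟨χ, by simpa using hχ, rfl⟩
  · intro f hf
    induction hf using Submodule.span_induction with
    | mem f hf =>
      obtain ⟨ψ, hψ, rfl⟩ := hf
      funext x
      rw [blockProj_apply, Finset.sum_apply]
      simp only [Pi.smul_apply, smul_eq_mul]
      exact sum_inner_pRegularPart hM hB ψ hψ x
    | zero => exact map_zero _
    | add f g _ _ hf hg => rw [map_add, hf, hg]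
    | smul c f _ hf => rw [map_smul, hf]

theorem blockProj_trace (B : Set (IrrCharacter G)) :
    LinearMap.trace ℂ (G → ℂ) (blockProj p B) =
      ∑ χ ∈ (Set.toFinite B).toFinset,
        classInner (pRegularPart p (χ : G → ℂ)) (pRegularPart p (χ : G → ℂ)) := by
  unfold blockProj
  rw [map_sum]
  refine Finset.sum_congr rfl (fun χ _ => ?_)
  rw [LinearMap.trace_smulRight]
  rfl

/-- The block rank formula. -/
theorem blockRank_formula (hM : IsPModular p M) {B : Set (IrrCharacter G)} (hB : IsPBlock M B) :
    (Nat.card G : ℂ) * (blockRank p B : ℂ) =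
      ∑ x : G, ∑ᶠ χ ∈ B, pRegularPart p (χ : G → ℂ) x * (χ : G → ℂ) x⁻¹ := by
  classical
  have hcard : (Nat.card G : ℂ) ≠ 0 := Helper79.card_ne_zero_complex
  have h1 := (blockProj_isProj hM hB).trace
  rw [blockProj_trace] at h1
  unfold blockRank
  rw [← h1]
  simp only [classInner]
  rw [← Finset.mul_sum, ← mul_assoc, mul_inv_cancel₀ hcard, one_mul, Finset.sum_comm]
  refine Finset.sum_congr rfl (fun x _ => ?_)
  rw [finsum_mem_eq_finite_toFinset_sum _ (Set.toFinite B)]
  refine Finset.sum_congr rfl (fun χ _ => ?_)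
  by_cases hx : p ∣ orderOf x
  · simp only [pRegularPart_of_sing hx, zero_mul]
  · simp only [pRegularPart_of_reg hx]
    obtain ⟨χ, n, ρ, hirr, rfl⟩ := χ
    show ρ.character x * conj (ρ.character x) = ρ.character x * ρ.character x⁻¹
    rw [Helper79.char_inv]

end Cfsg.Agent.Helper77
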