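import Cfsg.Agent.Helper77.BlockOrth
import Cfsg.Agent.Helper78.LocalRing
import Cfsg.Agent.Helper78.Burnside
import Cfsg.Agent.Helper78.IrrBasic

/-!
# The order of a defect group

(helper77's layer (15c), file 11.)  A defect group of a `p`-block `B` has order `p ^ d`, with `d` the
defect of `B`.
-/

set_option autoImplicit false
set_option linter.unusedSectionVars false

namespace Cfsg.Agent.Helper77

open Cfsg
open scoped ComplexConjugate

section Trace

variable {V : Type*} [AddCommGroup V] [Module ℂ V] [FiniteDimensional ℂ V]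

/-- The trace of an endomorphism `f` with `f ^ (m + 1) = f` is an algebraic integer. -/
theorem isIntegral_trace_of_pow_succ_eq (f : Module.End ℂ V) {m : ℕ} (hm : 0 < m)
    (hf : f ^ (m + 1) = f) : IsIntegral ℤ (LinearMap.trace ℂ V f) := by
  rw [Helper78.trace_eq_sum_roots' f]
  refine IsIntegral.multiset_sum fun r hr => ?_
  have hroot : f.charpoly.IsRoot r := (Polynomial.mem_roots'.1 hr).2
  have hev : f.HasEigenvalue r := (Module.End.hasEigenvalue_iff_isRoot_charpoly f r).2 hroot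
  obtain ⟨v, hv⟩ := hev.exists_hasEigenvector
  have h1 : (f ^ (m + 1)) v = r ^ (m + 1) • v := hv.pow_apply (m + 1)
  rw [hf, hv.apply_eq_smul] at h1
  have h2 : (r ^ (m + 1) - r) • v = 0 := by
    rw [sub_smul, ← h1, sub_self]
  rcases smul_eq_zero.1 h2 with h | h
  · have h3 : r * (r ^ m - 1) = 0 := by rw [← h]; ring
    rcases mul_eq_zero.1 h3 with h4 | h4
    · rw [h4]; exact isIntegral_zero
    · refine IsIntegral.of_pow hm ?_
      rw [sub_eq_zero.1 h4]
      exact isIntegral_one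
  · exact absurd h hv.2

end Trace

section Avg

variable {G : Type*} [Group G] [Fintype G]

/-- The average of a character over a coset `D x` with `x` centralizing the subgroup `D` is an
algebraic integer. -/
theorem exists_isIntegral_sum_char {V : Type*} [AddCommGroup V] [Module ℂ V]
    [FiniteDimensional ℂ V] (ρ : Representation ℂ G V) (D : Subgroup G) [Fintype D] (x : G)
    (hx : ∀ u ∈ D, u * x = x * u) :
    ∃ β : ℂ, IsIntegral ℤ β ∧ ∑ u : D, ρ.character ((u : G) * x) = (Nat.card D : ℂ) * β := by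
  classical
  have hcard : (Nat.card D : ℂ) ≠ 0 := by
    have : 0 < Nat.card D := Nat.card_pos
    exact_mod_cast this.ne'
  set S : Module.End ℂ V := ∑ u : D, ρ (u : G) with hS
  have hSS : S * S = (Nat.card D : ℂ) • S := by
    rw [hS, Finset.sum_mul]
    have h1 : ∀ u : D, ρ (u : G) * ∑ v : D, ρ (v : G) = ∑ v : D, ρ (v : G) := by
      intro u
      rw [Finset.mul_sum]
      refine Fintype.sum_equiv (Equiv.mulLeft u) _ _ (fun v => ?_)
      rw [← map_mul]
      rfl
    rw [Finset.sum_congr rfl (fun u _ => h1 u), Finset.sum_const, Finset.card_univ,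
      Nat.card_eq_fintype_card, Nat.cast_smul_eq_nsmul]
  have hST : S * ρ x = ρ x * S := by
    rw [hS, Finset.sum_mul, Finset.mul_sum]
    refine Finset.sum_congr rfl (fun u _ => ?_)
    rw [← map_mul, ← map_mul, hx u u.2]
  set π : Module.End ℂ V := (Nat.card D : ℂ)⁻¹ • S with hπ
  have hππ : π * π = π := by
    rw [hπ, smul_mul_smul_comm, hSS, smul_smul, mul_assoc, inv_mul_cancel₀ hcard, mul_one]
  have hπT : π * ρ x = ρ x * π := by
    rw [hπ, smul_mul_assoc, hST, mul_smul_comm]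
  set f : Module.End ℂ V := ρ x * π with hf
  have hcomm : Commute (ρ x) π := hπT.symm
  have hfk : ∀ k : ℕ, f ^ (k + 1) = (ρ x) ^ (k + 1) * π := by
    intro k
    rw [hf, hcomm.mul_pow]
    congr 1
    exact (IsIdempotentElem.pow_succ_eq k hππ)
  have hord : 0 < orderOf x := orderOf_pos x
  have hfn : f ^ (orderOf x + 1) = f := by
    rw [hfk, pow_succ, ← map_pow, pow_orderOf_eq_one, map_one, one_mul]
  refine ⟨LinearMap.trace ℂ V f, isIntegral_trace_of_pow_succ_eq f hord hfn, ?_⟩
  rw [hf, hπ, mul_smul_comm, map_smul, smul_eq_mul, ← mul_assoc, mul_inv_cancel₀ hcard, one_mul,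
    hS, Finset.mul_sum, map_sum]
  refine Finset.sum_congr rfl (fun u _ => ?_)
  rw [← map_mul, ← hx u u.2]
  rfl

end Avg

section Main

variable {G : Type*} [Group G] [Fintype G] {M : Ideal AlgInt} {p : ℕ}

/-- If the central character of `χ` at `g` is a unit, the `p`-part of the class size of `g`
divides the degree of `χ`. -/
theorem pow_dvd_charDegree_of_centralChar_unit (hM : IsPModular p M) (χ : IrrCharacter G) (g : G)
    (h : ¬ MemLocalIdeal M (centralChar (χ : G → ℂ) g)) :
    p ^ ((Subgroup.centralizer ({g} : Set G)).index.factorization p) ∣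
      charDegree (χ : G → ℂ) := by
  have hMp : M.IsPrime := isPrime_of_isPModular hM
  have hp : p.Prime := hM.1
  set idx := (Subgroup.centralizer ({g} : Set G)).index with hidx
  have hidx0 : idx ≠ 0 := Subgroup.index_ne_zero_of_finite
  set e := idx.factorization p with he
  obtain ⟨m₀, hm₀⟩ : p ^ e ∣ idx := Nat.ordProj_dvd idx p
  have hpe : (p ^ e : ℕ) ≠ 0 := pow_ne_zero _ hp.ne_zero
  apply Helper78.pow_dvd_of_memLocalRing_div hM hpe (dvd_refl _)
  -- `charDegree χ / p ^ e = m₀ * χ g * ω⁻¹`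
  set ω := centralChar (χ : G → ℂ) g with hω
  have hωR : MemLocalRing M ω :=
    memLocalRing_of_isIntegral M (Helper16.irr_isIntegral_centralChar χ g)
  have hω0 : ω ≠ 0 := fun h0 => h (h0 ▸ memLocalIdeal_zero M)
  have hωinv : MemLocalRing M ω⁻¹ := memLocalRing_inv M hωR h
  have hχ1 : (χ : G → ℂ) 1 = (charDegree (χ : G → ℂ) : ℂ) := Helper78.irrChar_one_eq_charDegree χ.2
  have hχ10 : (χ : G → ℂ) 1 ≠ 0 := Helper16.irr_one_ne_zero χ
  have hχg : MemLocalRing M ((χ : G → ℂ) g) :=
    memLocalRing_of_isIntegral M (Helper78.isIntegral_irrChar_apply χ.2 g)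
  have heq : ((charDegree (χ : G → ℂ) : ℕ) : ℂ) / ((p ^ e : ℕ) : ℂ) =
      (m₀ : ℂ) * (χ : G → ℂ) g * ω⁻¹ := by
    have h1 : ω = (idx : ℂ) * (χ : G → ℂ) g / (χ : G → ℂ) 1 := rfl
    have h2 : (idx : ℂ) = ((p ^ e : ℕ) : ℂ) * (m₀ : ℂ) := by
      rw [← Nat.cast_mul, ← hm₀]
    have hpe' : ((p ^ e : ℕ) : ℂ) ≠ 0 := by exact_mod_cast hpe
    have hχg0 : (χ : G → ℂ) g ≠ 0 := by
      intro h0
      apply hω0
      rw [h1, h0, mul_zero, zero_div]
    have hm₀0 : (m₀ : ℂ) ≠ 0 := by
      intro h0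
      apply hω0
      rw [h1, h2, h0, mul_zero, zero_mul, zero_div]
    rw [h1, h2, ← hχ1]
    field_simp
  rw [heq]
  exact memLocalRing_mul M (memLocalRing_mul M (memLocalRing_natCast M m₀) hχg) hωinv

/-- The order of `u * g`, `u ≠ 1` a `p`-element commuting with `g`, is divisible by `p`. -/
theorem dvd_orderOf_mul_of_isPGroup [Fact p.Prime] {D : Subgroup G} (hD : IsPGroup p D) {u g : G}
    (hu : u ∈ D) (hu1 : u ≠ 1) (hcomm : u * g = g * u) (hg : ¬ p ∣ orderOf g) :
    p ∣ orderOf (u * g) := by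
  have hp : p.Prime := Fact.out
  obtain ⟨k, hk⟩ := hD ⟨u, hu⟩
  have hk' : u ^ p ^ k = 1 := by
    have := congrArg (fun y : D => (y : G)) hk
    simpa using this
  -- `orderOf u` is a nontrivial power of `p`
  obtain ⟨j, hj, hj'⟩ := (Nat.dvd_prime_pow hp).1 (orderOf_dvd_of_pow_eq_one hk')
  have hj0 : j ≠ 0 := by
    rintro rfl
    rw [pow_zero, orderOf_eq_one_iff] at hj'
    exact hu1 hj'
  have hcop : (orderOf u).Coprime (orderOf g) := by
    rw [hj']
    exact Nat.Coprime.pow_left j ((Nat.Prime.coprime_iff_not_dvd hp).2 hg)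
  have hc : Commute u g := hcomm
  have h1 : orderOf (u * g) = orderOf u * orderOf g := hc.orderOf_mul_eq_mul_orderOf_of_coprime hcop
  rw [h1, hj']
  exact dvd_mul_of_dvd_left (dvd_pow_self p hj0) _

/-- If the block idempotent has a unit coefficient at `g`, `D` is a `p`-subgroup of `C_G(g)` and
`p ^ s` divides all degrees in `B`, then `|D| * p ^ s` divides `|G|`. -/
theorem card_mul_pow_dvd_of_blockCoeff_unit [Fact p.Prime] (hM : IsPModular p M)
    {B : Set (IrrCharacter G)} (hB : IsPBlock M B) (g : G)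
    (hnI : ¬ MemLocalIdeal M (blockCoeff B g)) (D : Subgroup G) (hDp : IsPGroup p D)
    (hDc : D ≤ Subgroup.centralizer ({g} : Set G)) (s : ℕ)
    (hs : ∀ χ ∈ B, p ^ s ∣ charDegree (χ : G → ℂ)) :
    Nat.card D * p ^ s ∣ Nat.card G := by
  classical
  have hMp : M.IsPrime := isPrime_of_isPModular hM
  have hp : p.Prime := hM.1
  have hcardG : (Nat.card G : ℂ) ≠ 0 := Helper79.card_ne_zero_complex
  -- `g` is `p`-regular
  have hgreg : ¬ p ∣ orderOf g := by
    intro hdvd
    apply hnI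
    rw [blockCoeff_eq_zero_of_dvd_orderOf hM hB g hdvd]
    exact memLocalIdeal_zero M
  have hcomm : ∀ u ∈ D, u * g = g * u := fun u hu =>
    Subgroup.mem_centralizer_singleton_iff.mp (hDc hu)
  -- the sum over the coset `D g` of the block idempotent is its value at `g`
  have hsum : ∑ u : D, blockCoeff B ((u : G) * g) = blockCoeff B g := by
    rw [Finset.sum_eq_single (1 : D)]
    · simp
    · intro u _ hu
      apply blockCoeff_eq_zero_of_dvd_orderOf hM hB
      refine dvd_orderOf_mul_of_isPGroup hDp u.2 ?_ (hcomm u u.2) hgreg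
      intro h1
      apply hu
      exact Subtype.ext h1
    · intro h
      exact absurd (Finset.mem_univ _) h
  -- the averages of the characters
  have hβ : ∀ χ : IrrCharacter G, ∃ β : ℂ, IsIntegral ℤ β ∧
      ∑ u : D, (χ : G → ℂ) ((u : G) * g) = (Nat.card D : ℂ) * β := by
    rintro ⟨χ, n, ρ, hirr, rfl⟩
    exact exists_isIntegral_sum_char ρ D g hcomm
  choose β hβint hβsum using hβ
  let c : IrrCharacter G → ℕ := fun χ => charDegree (χ : G → ℂ) / p ^ s
  have hc : ∀ χ : IrrCharacter G, χ ∈ B →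
      (χ : G → ℂ) 1 = ((p ^ s : ℕ) : ℂ) * (c χ : ℂ) := by
    intro χ hχ
    rw [Helper78.irrChar_one_eq_charDegree χ.2, ← Nat.cast_mul, Nat.mul_div_cancel' (hs χ hχ)]
  -- `|G| * a_B(g) = |D| * p ^ s * r`
  have hkey : ∃ r : ℂ, MemLocalRing M r ∧
      (Nat.card G : ℂ) * blockCoeff B g = (Nat.card D : ℂ) * ((p ^ s : ℕ) : ℂ) * r := by
    refine ⟨∑ χ : IrrCharacter G, if χ ∈ B then (c χ : ℂ) * conj (β χ) else 0,
      ?_, ?_⟩
    · refine memLocalRing_sum M _ _ (fun χ _ => ?_)
      by_cases h : χ ∈ B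
      · rw [if_pos h]
        refine memLocalRing_mul M (memLocalRing_natCast M _) ?_
        apply memLocalRing_of_isIntegral M
        exact (hβint χ).map (starRingEnd ℂ).toIntAlgHom
      · rw [if_neg h]
        exact (localRing M).zero_mem
    · rw [← hsum]
      simp only [Helper16.blockCoeff_eq_sum]
      rw [← Finset.mul_sum, ← mul_assoc, mul_inv_cancel₀ hcardG, one_mul, Finset.sum_comm,
        Finset.mul_sum]
      refine Finset.sum_congr rfl (fun χ _ => ?_)
      rw [← Finset.mul_sum, ← map_sum, hβsum χ]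
      by_cases h : χ ∈ B
      · rw [if_pos h, if_pos h, one_mul, hc χ h]
        simp only [map_mul, map_natCast]
        ring
      · rw [if_neg h, if_neg h]
        ring
  obtain ⟨r, hrR, hr⟩ := hkey
  -- conclude
  obtain ⟨k, hk⟩ := IsPGroup.iff_card.mp hDp
  rw [hk, ← pow_add]
  have hpow0 : (p ^ (k + s) : ℕ) ≠ 0 := pow_ne_zero _ hp.ne_zero
  apply Helper78.pow_dvd_of_memLocalRing_div hM hpow0 (dvd_refl _)
  have hbR : MemLocalRing M (blockCoeff B g) := Helper16.osima hB g
  have hb0 : blockCoeff B g ≠ 0 := fun h0 => hnI (h0 ▸ memLocalIdeal_zero M)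
  have hbinv : MemLocalRing M (blockCoeff B g)⁻¹ := memLocalRing_inv M hbR hnI
  have heq : ((Nat.card G : ℕ) : ℂ) / ((p ^ (k + s) : ℕ) : ℂ) = r * (blockCoeff B g)⁻¹ := by
    have hpow0' : ((p ^ (k + s) : ℕ) : ℂ) ≠ 0 := by exact_mod_cast hpow0
    rw [hk] at hr
    have h3 : ((p ^ (k + s) : ℕ) : ℂ) = ((p ^ k : ℕ) : ℂ) * ((p ^ s : ℕ) : ℂ) := by
      rw [← Nat.cast_mul, pow_add]
    rw [h3] at hpow0' ⊢
    have h4 : ((Nat.card G : ℕ) : ℂ) =
        ((p ^ k : ℕ) : ℂ) * ((p ^ s : ℕ) : ℂ) * r * (blockCoeff B g)⁻¹ := by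
      rw [← hr, mul_assoc, mul_inv_cancel₀ hb0, mul_one]
    rw [h4, mul_assoc (((p ^ k : ℕ) : ℂ) * ((p ^ s : ℕ) : ℂ)), mul_div_cancel_left₀ _ hpow0']
  rw [heq]
  exact memLocalRing_mul M hrR hbinv

/-- **The order of a defect group** is `p ^ d`, `d` the defect of the block. -/
theorem card_defectGroup [Fact p.Prime] (hM : IsPModular p M) {B : Set (IrrCharacter G)}
    (hB : IsPBlock M B) (D : Subgroup G) (hD : IsDefectGroup p M B D) :
    Nat.card D = p ^ blockDefect p B := by
  classical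
  have hMp : M.IsPrime := isPrime_of_isPModular hM
  have hp : p.Prime := hM.1
  obtain ⟨g, ⟨_, hnI, hcen⟩, P, hDdef⟩ := hD
  let C : Subgroup G := Subgroup.centralizer ({g} : Set G)
  have hDcard : Nat.card D = p ^ (Nat.card C).factorization p := by
    rw [hDdef, Subgroup.card_map_of_injective (Subgroup.subtype_injective _)]
    exact P.card_eq_multiplicity
  have hDle : D ≤ C := by rw [hDdef]; exact Subgroup.map_subtype_le _
  have hDp : IsPGroup p D := IsPGroup.of_card hDcard
  rw [hDcard]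
  congr 1
  -- the block is nonempty and the infimum is attained
  obtain ⟨χ₀, hχ₀⟩ : ∃ χ₀ : IrrCharacter G, χ₀ ∈ B := by
    obtain ⟨χ₀, rfl⟩ := hB
    exact ⟨χ₀, Helper16.sameBlock_refl _⟩
  set S : Set ℕ := (fun χ : IrrCharacter G => (charDegree (χ : G → ℂ)).factorization p) '' B
    with hS
  have hSne : S.Nonempty := ⟨_, χ₀, hχ₀, rfl⟩
  obtain ⟨χ₁, hχ₁, hχ₁s⟩ := Nat.sInf_mem hSne
  have hSle : ∀ χ ∈ B, sInf S ≤ (charDegree (χ : G → ℂ)).factorization p :=
    fun χ hχ => Nat.sInf_le ⟨χ, hχ, rfl⟩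
  have hdeg0 : ∀ χ : IrrCharacter G, charDegree (χ : G → ℂ) ≠ 0 :=
    fun χ => (Helper78.charDegree_pos_of_isIrrCharacter χ.2).ne'
  -- `a = d_g + ν(idx)`
  have hidx0 : C.index ≠ 0 := Subgroup.index_ne_zero_of_finite
  have hfac : (Nat.card G).factorization p =
      (Nat.card C).factorization p + C.index.factorization p := by
    rw [← Subgroup.card_mul_index C, Nat.factorization_mul Nat.card_pos.ne' hidx0,
      Finsupp.add_apply]
  -- (1) `ν(idx) ≤ s`
  have h1 : C.index.factorization p ≤ sInf S := by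
    rw [← hχ₁s]
    exact (hp.pow_dvd_iff_le_factorization (hdeg0 χ₁)).mp
      (pow_dvd_charDegree_of_centralChar_unit hM χ₁ g (hcen χ₁ hχ₁))
  -- (2) `d_g + s ≤ a`
  have h2 : (Nat.card C).factorization p + sInf S ≤ (Nat.card G).factorization p := by
    have hs : ∀ χ ∈ B, p ^ sInf S ∣ charDegree (χ : G → ℂ) := fun χ hχ =>
      (hp.pow_dvd_iff_le_factorization (hdeg0 χ)).mpr (hSle χ hχ)
    have h3 := card_mul_pow_dvd_of_blockCoeff_unit hM hB g hnI D hDp hDle (sInf S) hs
    rw [hDcard, ← pow_add] at h3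
    exact (hp.pow_dvd_iff_le_factorization Nat.card_pos.ne').mp h3
  unfold blockDefect
  rw [hS] at h1 h2
  omega

end Main

end Cfsg.Agent.Helper77
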