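import Cfsg.Agent.Helper77.ConjPair
import Cfsg.Agent.Helper77.DefectOrder

/-!
# Conjugacy of maximal Brauer pairs

(helper77, file 24.)
-/

set_option autoImplicit false
set_option linter.unusedSectionVars false

namespace Cfsg.Agent.Helper77

open Cfsg
open Cfsg.Agent.Helper16 (omega conv classInd deltaOne)

variable {G : Type*} [Group G] [Fintype G] {M : Ideal AlgInt} {p : ℕ}

section FunSet

/-- The members of a set of irreducible characters of `C_G(Q)`, as functions on `G`. -/
def funSet (Q : Subgroup G) (f : Set (IrrCharacter (Subgroup.centralizer (Q : Set G)))) :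
    Set (G → ℂ) :=
  (fun ξ : IrrCharacter (Subgroup.centralizer (Q : Set G)) =>
    extFun (Subgroup.centralizer (Q : Set G)) (ξ : Subgroup.centralizer (Q : Set G) → ℂ)) '' f

/-- The same for an element of the index type. -/
def funSetIdx (a : BrauerPairIdx G) : Set (G → ℂ) := funSet a.1 a.2

theorem idx_ext {a b : BrauerPairIdx G} (h1 : a.1 = b.1) (h2 : funSetIdx a = funSetIdx b) :
    a = b := by
  obtain ⟨Q, f⟩ := a
  obtain ⟨Q', f'⟩ := b
  simp only at h1
  subst h1
  have hinj : Function.Injective (fun ξ : IrrCharacter (Subgroup.centralizer (Q : Set G)) =>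
      extFun (Subgroup.centralizer (Q : Set G))
        (ξ : Subgroup.centralizer (Q : Set G) → ℂ)) := by
    intro ξ ξ' h
    exact Subtype.ext (extFun_injective _ h)
  have key : ∀ f₁ f₂ : Set (IrrCharacter (Subgroup.centralizer (Q : Set G))),
      funSet Q f₁ = funSet Q f₂ → f₁ ⊆ f₂ := by
    intro f₁ f₂ h ξ hξ
    have : extFun (Subgroup.centralizer (Q : Set G))
        (ξ : Subgroup.centralizer (Q : Set G) → ℂ) ∈ funSet Q f₂ := by
      rw [← h]
      exact ⟨ξ, hξ, rfl⟩
    obtain ⟨ξ', hξ', heq⟩ := this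
    rw [← hinj heq]
    exact hξ'
  have : f = f' := Set.Subset.antisymm (key f f' h2) (key f' f h2.symm)
  rw [this]

theorem funSet_conjBlock (Q : Subgroup G) (x : G)
    (f : Set (IrrCharacter (Subgroup.centralizer (Q : Set G)))) :
    funSet (Q.map (MulAut.conj x).toMonoidHom) (conjBlock Q x f) = conjFun x '' funSet Q f := by
  rw [conjBlock_eq_image]
  unfold funSet
  rw [Set.image_image, Set.image_image]
  refine Set.image_congr (fun ξ _ => ?_)
  exact extFun_comp_centConj_symm Q x (ξ : Subgroup.centralizer (Q : Set G) → ℂ)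

theorem funSetIdx_conjIdx (x : G) (a : BrauerPairIdx G) :
    funSetIdx (conjIdx x a) = conjFun x '' funSetIdx a := funSet_conjBlock a.1 x a.2

theorem extFun_comp_conjHom_symm (H C : Subgroup G)
    (hHC : H ≤ Subgroup.normalizer (C : Set G)) (n : H) (s : C → ℂ) :
    extFun C (fun c => s ((conjHom C H hHC n).symm c)) = conjFun (n : G) (extFun C s) := by
  funext g
  rw [conjFun_apply]
  have hN := hHC n.2
  by_cases hg : g ∈ C
  · have hg' : (n : G)⁻¹ * g * (n : G) ∈ C := (Subgroup.mem_normalizer_iff''.mp hN g).mp hg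
    rw [extFun_of_mem C _ hg, extFun_of_mem C _ hg']
    congr 1
  · have hg' : (n : G)⁻¹ * g * (n : G) ∉ C :=
      fun h => hg ((Subgroup.mem_normalizer_iff''.mp hN g).mpr h)
    rw [extFun_of_not_mem C _ hg, extFun_of_not_mem C _ hg']

theorem funSet_conjSet (P H : Subgroup G)
    (hHC : H ≤ Subgroup.normalizer ((Subgroup.centralizer (P : Set G) : Subgroup G) : Set G))
    (n : H) (S : Set (IrrCharacter (Subgroup.centralizer (P : Set G)))) :
    funSet P (conjSet H (Subgroup.centralizer (P : Set G)) hHC n S) =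
      conjFun (n : G) '' funSet P S := by
  unfold funSet conjSet
  rw [Set.image_image, Set.image_image]
  refine Set.image_congr (fun ξ _ => ?_)
  exact extFun_comp_conjHom_symm H _ hHC n (ξ : Subgroup.centralizer (P : Set G) → ℂ)

theorem conjFun_mul_image (x y : G) (S : Set (G → ℂ)) :
    conjFun (x * y) '' S = conjFun x '' (conjFun y '' S) := by
  rw [Set.image_image]
  refine Set.image_congr (fun φ _ => ?_)
  exact conjFun_mul x y φ

theorem sigma_eq_of_fst_eq {R P : Subgroup G} (h : R = P)
    (S : Set (IrrCharacter (Subgroup.centralizer (R : Set G)))) :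
    ∃ e₂ : Set (IrrCharacter (Subgroup.centralizer (P : Set G))),
      (⟨R, S⟩ : BrauerPairIdx G) = ⟨P, e₂⟩ := by
  subst h
  exact ⟨S, rfl⟩

end FunSet

section Maximal

/-- Every Brauer pair of `B` lies below a maximal one. -/
theorem exists_isMaximalBrauerPair_above (B : Set (IrrCharacter G)) :
    ∀ (k : ℕ) (a : BrauerPairIdx G), IsBrauerPairOf p M B a.1 a.2 →
      Nat.card G - Nat.card a.1 ≤ k →
      ∃ c : BrauerPairIdx G, Relation.ReflTransGen (NormalSubpairRel p M) a c ∧
        IsMaximalBrauerPair p M B c.1 c.2 := by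
  intro k
  induction k with
  | zero =>
    intro a ha hk
    refine ⟨a, Relation.ReflTransGen.refl, ha, fun R g hRg hle => ?_⟩
    have h1 : a.1 ≤ R := le_of_reflTransGen hle
    have h2 : Nat.card R ≤ Nat.card G := Subgroup.card_le_card_group R
    exact (Subgroup.eq_of_le_of_card_ge h1 (by omega)).symm
  | succ k ih =>
    intro a ha hk
    by_cases hmax : IsMaximalBrauerPair p M B a.1 a.2
    · exact ⟨a, Relation.ReflTransGen.refl, hmax⟩
    · unfold IsMaximalBrauerPair at hmax
      rw [not_and] at hmax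
      have h3 := hmax ha
      obtain ⟨R, hR⟩ := not_forall.mp h3
      obtain ⟨g, hg⟩ := not_forall.mp hR
      obtain ⟨hRg, hg2⟩ := Classical.not_imp.mp hg
      obtain ⟨hle, hne⟩ := Classical.not_imp.mp hg2
      have h1 : a.1 ≤ R := le_of_reflTransGen hle
      have hlt : a.1 < R := lt_of_le_of_ne h1 (fun h => hne h.symm)
      have hc := card_lt_card_of_lt hlt
      have h2 : Nat.card R ≤ Nat.card G := Subgroup.card_le_card_group R
      obtain ⟨c, hc1, hc2⟩ := ih ⟨R, g⟩ hRg (by show Nat.card G - Nat.card R ≤ k; omega)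
      exact ⟨c, Relation.ReflTransGen.trans hle hc1, hc2⟩

/-- The order of the subgroup of a Brauer pair of `B` is at most the order of a defect group. -/
theorem card_le_of_isBrauerPairOf [Fact p.Prime] (hM : IsPModular p M)
    (B : Set (IrrCharacter G)) (Q : Subgroup G)
    (f : Set (IrrCharacter (Subgroup.centralizer (Q : Set G))))
    (hQf : IsBrauerPairOf p M B Q f) : Nat.card Q ≤ p ^ blockDefect p B := by
  obtain ⟨c, hle, hmax⟩ := exists_isMaximalBrauerPair_above B _ ⟨Q, f⟩ hQf (le_refl _)
  have hD := isDefectGroup_of_isMaximalBrauerPair hM B c.1 c.2 hmax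
  rw [← card_defectGroup hM hQf.2.1 c.1 hD]
  exact Subgroup.card_le_of_le (le_of_reflTransGen hle)

/-- A Brauer pair of `B` on a subgroup of the order of a defect group is maximal. -/
theorem isMaximalBrauerPair_of_card [Fact p.Prime] (hM : IsPModular p M)
    (B : Set (IrrCharacter G)) (P : Subgroup G)
    (e : Set (IrrCharacter (Subgroup.centralizer (P : Set G))))
    (hPe : IsBrauerPairOf p M B P e) (hcard : Nat.card P = p ^ blockDefect p B) :
    IsMaximalBrauerPair p M B P e := by
  refine ⟨hPe, fun R g hRg hle => ?_⟩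
  have h1 : P ≤ R := le_of_reflTransGen hle
  have h2 := card_le_of_isBrauerPairOf hM B R g hRg
  exact (Subgroup.eq_of_le_of_card_ge h1 (by omega)).symm

end Maximal

section Conjugacy

/-- The covering block in `N_G(P)` of a Brauer pair `(P, e)` of `B`, `P` of the order of a defect
group of `B`, has defect group `P`. -/
theorem isDefectGroup_covering [Fact p.Prime] (hM : IsPModular p M)
    (B : Set (IrrCharacter G)) (P : Subgroup G)
    [Fintype (Subgroup.normalizer (P : Set G))]
    (e : Set (IrrCharacter (Subgroup.centralizer (P : Set G))))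
    (hPe : IsBrauerPairOf p M B P e) (hcard : Nat.card P = p ^ blockDefect p B)
    (E : Set (IrrCharacter (Subgroup.normalizer (P : Set G)))) (hE : IsPBlock M E)
    (hEe : ∀ t : Subgroup.normalizer (P : Set G), blockCoeff E t =
      orbitSum (Subgroup.normalizer (P : Set G)) (Subgroup.centralizer (P : Set G))
        (Helper78.normalizer_le_normalizer_centralizer P) e (t : G)) :
    IsDefectGroup p M E (P.subgroupOf (Subgroup.normalizer (P : Set G))) := by
  classical
  have hMp : M.IsPrime := isPrime_of_isPModular hM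
  have hP : IsPGroup p P := hPe.1.1
  have he : IsPBlock M e := hPe.1.2
  have hPN : P ≤ Subgroup.normalizer (P : Set G) := Subgroup.le_normalizer
  obtain ⟨ξ₀, hξ₀⟩ := Helper78.isPBlock_nonempty hMp hE
  have hEeq : E = blockOf M (ξ₀ : Subgroup.normalizer (P : Set G) → ℂ) :=
    Helper78.isPBlock_eq_blockOf_of_mem hMp hE hξ₀
  obtain ⟨DN, hDN⟩ : ∃ DN : Subgroup (Subgroup.normalizer (P : Set G)),
      IsDefectGroup p M E DN := by
    rw [hEeq]
    exact Helper16.exists_defectGroup p ξ₀
  obtain ⟨D', hcard', g, hsub⟩ := exists_normalSubpair_of_defectGroup hM P _ hP hPN (le_refl _)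
    (Helper78.normalizer_le_normalizer_centralizer P) e he E hE hEe DN hDN
  have hle : SubpairLE p M P e D' g := Relation.ReflTransGen.single hsub
  have hD'g : IsBrauerPairOf p M B D' g :=
    (isBrauerPairOf_iff_of_subpairLE hM D' P g e hsub.2.1 hsub.1 hle B).mpr hPe
  have hD'le := card_le_of_isBrauerPairOf hM B D' g hD'g
  have hn : (P.subgroupOf (Subgroup.normalizer (P : Set G))).Normal :=
    (Subgroup.normal_subgroupOf_iff_le_normalizer hPN).mpr (le_refl _)
  have hP' : IsPGroup p (P.subgroupOf (Subgroup.normalizer (P : Set G))) := hP.comap_subtype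
  have hPDN : P.subgroupOf (Subgroup.normalizer (P : Set G)) ≤ DN :=
    (Cfsg.Agent.Lib.le_pCore hn hP').trans (Cfsg.Agent.S0912.result p M hM E hE DN hDN)
  have hcardP' : Nat.card (P.subgroupOf (Subgroup.normalizer (P : Set G))) = Nat.card P :=
    Nat.card_congr (Subgroup.subgroupOfEquivOfLe hPN).toEquiv
  have hDNeq : P.subgroupOf (Subgroup.normalizer (P : Set G)) = DN := by
    apply Subgroup.eq_of_le_of_card_ge hPDN
    rw [← hcard', hcardP', hcard]
    exact hD'le
  rw [hDNeq]
  exact hDN

/-- Two Brauer pairs of `B` on the same subgroup `P` of the order of a defect group are conjugate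
under `N_G(P)`. -/
theorem exists_conjSet_eq [Fact p.Prime] (hM : IsPModular p M)
    (B : Set (IrrCharacter G)) (P : Subgroup G)
    [Fintype (Subgroup.normalizer (P : Set G))]
    (e e₂ : Set (IrrCharacter (Subgroup.centralizer (P : Set G))))
    (hPe : IsBrauerPairOf p M B P e) (hPe₂ : IsBrauerPairOf p M B P e₂)
    (hcard : Nat.card P = p ^ blockDefect p B) :
    ∃ n : Subgroup.normalizer (P : Set G),
      conjSet (Subgroup.normalizer (P : Set G)) (Subgroup.centralizer (P : Set G))
        (Helper78.normalizer_le_normalizer_centralizer P) n e₂ = e := by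
  classical
  have hMp : M.IsPrime := isPrime_of_isPModular hM
  have hP : IsPGroup p P := hPe.1.1
  have he : IsPBlock M e := hPe.1.2
  have he₂ : IsPBlock M e₂ := hPe₂.1.2
  have hB : IsPBlock M B := hPe.2.1
  have hPN : P ≤ Subgroup.normalizer (P : Set G) := Subgroup.le_normalizer
  have hCN : Subgroup.centralizer (P : Set G) ≤ Subgroup.normalizer (P : Set G) :=
    Subgroup.centralizer_le_normalizer _
  have hNC := Helper78.normalizer_le_normalizer_centralizer P
  have hfinC : Fintype (Subgroup.centralizer (P : Set G)) := Fintype.ofFinite _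
  have hsupp : ∀ E : Set (IrrCharacter (Subgroup.normalizer (P : Set G))), IsPBlock M E →
      ∀ t : Subgroup.normalizer (P : Set G), (t : G) ∉ Subgroup.centralizer (P : Set G) →
        blockCoeff E t = 0 :=
    fun E hE t ht => blockCoeff_eq_zero_of_not_mem_centralizer_sub hM P _ hP hPN (le_refl _)
      hE t ht
  obtain ⟨E₁, hE₁, hE₁e⟩ := exists_covering_block (Subgroup.normalizer (P : Set G))
    (Subgroup.centralizer (P : Set G)) hCN hNC e he hsupp
  obtain ⟨E₂, hE₂, hE₂e⟩ := exists_covering_block (Subgroup.normalizer (P : Set G))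
    (Subgroup.centralizer (P : Set G)) hCN hNC e₂ he₂ hsupp
  have hind₁ : IsInducedBlock M (Subgroup.normalizer (P : Set G)) E₁ B :=
    isInducedBlock_of_covering hM P _ hP hPN hCN (le_refl _) hNC B e hPe E₁ hE₁ hE₁e
  have hind₂ : IsInducedBlock M (Subgroup.normalizer (P : Set G)) E₂ B :=
    isInducedBlock_of_covering hM P _ hP hPN hCN (le_refl _) hNC B e₂ hPe₂ E₂ hE₂ hE₂e
  have hD₁ := isDefectGroup_covering hM B P e hPe hcard E₁ hE₁ hE₁e
  have hEE : E₂ = E₁ :=
    Cfsg.Agent.S0920.part_two_unique p M hM P hP B hB E₁ E₂ hE₁ hD₁ hind₁ hE₂ hind₂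
  have hsums : orbitSum (Subgroup.normalizer (P : Set G)) (Subgroup.centralizer (P : Set G))
      hNC e = orbitSum (Subgroup.normalizer (P : Set G)) (Subgroup.centralizer (P : Set G))
      hNC e₂ := by
    funext g
    by_cases hg : g ∈ Subgroup.normalizer (P : Set G)
    · rw [← hE₁e ⟨g, hg⟩, ← hE₂e ⟨g, hg⟩, hEE]
    · rw [orbitSum_of_not_mem _ _ hNC e (fun h => hg (hCN h)),
        orbitSum_of_not_mem _ _ hNC e₂ (fun h => hg (hCN h))]
  have hmem : e ∈ orbitFinset (Subgroup.normalizer (P : Set G))
      (Subgroup.centralizer (P : Set G)) hNC e₂ := by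
    by_contra hcon
    have h1 := orbitSum_conv_extFun (Subgroup.normalizer (P : Set G)) _ hNC he
      (self_mem_orbitFinset _ _ hNC e)
    rw [hsums] at h1
    have h2 : conv (orbitSum (Subgroup.normalizer (P : Set G))
        (Subgroup.centralizer (P : Set G)) hNC e₂)
        (extFun (Subgroup.centralizer (P : Set G)) (blockCoeff e)) = 0 := by
      unfold orbitSum
      rw [conv_finset_sum_left]
      refine Finset.sum_eq_zero (fun b hb => ?_)
      have hbne : b ≠ e := fun h => hcon (h ▸ hb)
      rw [extFun_conv, blockCoeff_conv_of_ne (isPBlock_of_mem_orbitFinset _ _ hNC he₂ hb) he hbne,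
        extFun_zero]
    rw [h2] at h1
    have h3 : blockCoeff e = 0 := by
      rw [← resFun_extFun (Subgroup.centralizer (P : Set G)) (blockCoeff e), ← h1]
      rfl
    exact blockCoeff_ne_zero he h3
  exact (mem_orbitFinset _ _ hNC e₂ e).mp hmem

/-- **Every Brauer pair of `B` is conjugate to a pair below a given maximal Brauer pair of
`B`.** -/
theorem exists_conj_subpairLE [Fact p.Prime] (hM : IsPModular p M)
    (B : Set (IrrCharacter G)) (P Q : Subgroup G)
    (e : Set (IrrCharacter (Subgroup.centralizer (P : Set G))))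
    (f : Set (IrrCharacter (Subgroup.centralizer (Q : Set G))))
    (hmax : IsMaximalBrauerPair p M B P e) (hQf : IsBrauerPairOf p M B Q f) :
    ∃ x : G, SubpairLE p M (Q.map (MulAut.conj x).toMonoidHom) (conjBlock Q x f) P e := by
  classical
  have hMp : M.IsPrime := isPrime_of_isPModular hM
  have hB : IsPBlock M B := hQf.2.1
  obtain ⟨c, hac, hcmax⟩ := exists_isMaximalBrauerPair_above B _ ⟨Q, f⟩ hQf (le_refl _)
  have hPD := isDefectGroup_of_isMaximalBrauerPair hM B P e hmax
  have hRD := isDefectGroup_of_isMaximalBrauerPair hM B c.1 c.2 hcmax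
  have hPcard := card_defectGroup hM hB P hPD
  have hRcard := card_defectGroup hM hB c.1 hRD
  have hRp : IsPGroup p c.1 := hcmax.1.1.1
  have hRN : c.1 ≤ Subgroup.normalizer (c.1 : Set G) := Subgroup.le_normalizer
  have hCN : Subgroup.centralizer (c.1 : Set G) ≤ Subgroup.normalizer (c.1 : Set G) :=
    Subgroup.centralizer_le_normalizer _
  have hNC := Helper78.normalizer_le_normalizer_centralizer c.1
  have hfinNR : Fintype (Subgroup.normalizer (c.1 : Set G)) := Fintype.ofFinite _
  have hfinNP : Fintype (Subgroup.normalizer (P : Set G)) := Fintype.ofFinite _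
  obtain ⟨ER, hER, hERe⟩ := exists_covering_block (Subgroup.normalizer (c.1 : Set G))
    (Subgroup.centralizer (c.1 : Set G)) hCN hNC c.2 hcmax.1.1.2
    (fun E hE t ht => blockCoeff_eq_zero_of_not_mem_centralizer_sub hM c.1 _ hRp hRN (le_refl _)
      hE t ht)
  have hindR : IsInducedBlock M (Subgroup.normalizer (c.1 : Set G)) ER B :=
    isInducedBlock_of_covering hM c.1 _ hRp hRN hCN (le_refl _) hNC B c.2 hcmax.1 ER hER hERe
  have hDR := isDefectGroup_covering hM B c.1 c.2 hcmax.1 hRcard ER hER hERe
  obtain ⟨y, hy⟩ := Helper78.defectGroup_le_of_induced hM (Subgroup.normalizer (c.1 : Set G))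
    ER B hindR _ hDR P hPD
  have hRy : c.1.map (MulAut.conj y).toMonoidHom = P := by
    have h1 : (c.1.subgroupOf (Subgroup.normalizer (c.1 : Set G))).map
        (Subgroup.normalizer (c.1 : Set G)).subtype = c.1 := by
      rw [Subgroup.subgroupOf_map_subtype]
      exact inf_eq_left.mpr Subgroup.le_normalizer
    rw [h1] at hy
    apply Subgroup.eq_of_le_of_card_ge hy
    rw [Subgroup.card_map_of_injective (MulAut.conj y).injective, hRcard, hPcard]
  obtain ⟨e₂, he₂⟩ := sigma_eq_of_fst_eq hRy (conjBlock c.1 y c.2)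
  have he₂' : conjIdx y c = ⟨P, e₂⟩ := he₂
  have hPe₂ : IsBrauerPairOf p M B P e₂ := by
    have h1 : IsBrauerPairOf p M B (conjIdx y c).1 (conjIdx y c).2 :=
      isBrauerPairOf_conj B c.1 y hcmax.1
    rw [he₂'] at h1
    exact h1
  obtain ⟨n, hn⟩ := exists_conjSet_eq hM B P e e₂ hmax.1 hPe₂ hPcard
  refine ⟨(n : G) * y, ?_⟩
  have hkey : conjIdx ((n : G) * y) c = ⟨P, e⟩ := by
    apply idx_ext
    · show c.1.map (MulAut.conj ((n : G) * y)).toMonoidHom = P
      ext z
      rw [mem_map_conj_iff]
      have h1 : ((n : G) * y)⁻¹ * z * ((n : G) * y) = y⁻¹ * ((n : G)⁻¹ * z * (n : G)) * y := by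
        group
      rw [h1, ← mem_map_conj_iff, hRy]
      exact (Subgroup.mem_normalizer_iff''.mp n.2 z).symm
    · rw [funSetIdx_conjIdx, conjFun_mul_image, ← funSetIdx_conjIdx y c, he₂']
      show conjFun (n : G) '' funSet P e₂ = funSet P e
      rw [← funSet_conjSet P _ (Helper78.normalizer_le_normalizer_centralizer P) n e₂, hn]
  have h := reflTransGen_conjIdx ((n : G) * y) hac
  rw [hkey] at h
  exact h

end Conjugacy

end Cfsg.Agent.Helper77
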