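import Cfsg.Agent.Helper77.BlockSaturated
import Cfsg.Agent.S5083

/-!
# Nilpotent blocks and the inner fusion system

(helper77, file 33.)
-/

set_option autoImplicit false
set_option linter.unusedSectionVars false

namespace Cfsg.Agent.Helper77

open Cfsg Cfsg.FusionSystem Cfsg.Agent.Helper87

variable {G : Type*} [Group G] [Fintype G] {M : Ideal AlgInt} {p : ℕ}

/-- Automorphisms in `Aut_F(Q)` are induced by elements of the stabilizer of `(Q, f)`. -/
theorem exists_stab_of_mem_autGroup [Fact p.Prime] (hM : IsPModular p M)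
    (B : Set (IrrCharacter G)) (P : Subgroup G)
    (e : Set (IrrCharacter (Subgroup.centralizer (P : Set G)))) (F : FusionSystem P)
    (hF : IsBlockFusionSystemOn p M B P e F) (Q : Subgroup G)
    (f : Set (IrrCharacter (Subgroup.centralizer (Q : Set G)))) (hQP : Q ≤ P)
    (hle : SubpairLE p M Q f P e) (α : MulAut Q) (hα : α ∈ F.autGroup Q) :
    ∃ g ∈ stabT Q f, ∀ u : Q, ((α u : Q) : G) = g * (u : G) * g⁻¹ := by
  have hPe : IsBrauerPair p M P e := hF.1.1.1
  have h1 := (mem_autGroup_iff F hQP α).mp hα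
  obtain ⟨_, g, hg, _, f₁, hle₁, hle₁g⟩ := (hF.2 Q _).mp h1
  have hff : f₁ = f := subpairLE_unique hM P e hPe _ Q (le_refl _) f₁ f hle₁ hle
  rw [hff] at hle₁g
  have hgN : g ∈ Subgroup.normalizer (Q : Set G) := mem_normalizer_of_conj_eq α g hg
  have hfix : conjIdx g ⟨Q, f⟩ = ⟨Q, f⟩ :=
    idx_eq_of_le_of_fst_eq hM P e hPe hle₁g hle (map_conj_eq_self_of_mem_normalizer Q hgN)
  exact ⟨g, (mem_stabT Q f g).mpr ⟨hgN, (conjIdx_eq_self_iff Q f g hgN).mp hfix⟩, hg⟩

/-- Elements of the stabilizer of `(Q, f) ≤ (P, e)` induce maps of the fusion system. -/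
theorem conjHom_mem_of_mem_stab [Fact p.Prime]
    (B : Set (IrrCharacter G)) (P : Subgroup G)
    (e : Set (IrrCharacter (Subgroup.centralizer (P : Set G)))) (F : FusionSystem P)
    (hF : IsBlockFusionSystemOn p M B P e F) (Q : Subgroup G)
    (f : Set (IrrCharacter (Subgroup.centralizer (Q : Set G)))) (hQP : Q ≤ P)
    (hle : SubpairLE p M Q f P e) (g : G) (hg : g ∈ stabT Q f) :
    Cfsg.conjHom Q g ∈ F.Hom Q := by
  obtain ⟨hgN, hgS⟩ := (mem_stabT Q f g).mp hg
  have hfix : conjIdx g ⟨Q, f⟩ = ⟨Q, f⟩ := (conjIdx_eq_self_iff Q f g hgN).mpr hgS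
  have hle' : Relation.ReflTransGen (NormalSubpairRel p M) (conjIdx g ⟨Q, f⟩) ⟨P, e⟩ := by
    rw [hfix]
    exact hle
  exact (hF.2 Q _).mpr ⟨hQP, g, fun u => rfl, le_of_reflTransGen hle', f, hle, hle'⟩

/-- For a nilpotent block, all the automizers `Aut_F(Q)` are `p`-groups. -/
theorem isPGroup_autGroup_of_isNilpotentBlock [Fact p.Prime] (hM : IsPModular p M)
    (B : Set (IrrCharacter G)) (P : Subgroup G)
    (e : Set (IrrCharacter (Subgroup.centralizer (P : Set G)))) (F : FusionSystem P)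
    (hF : IsBlockFusionSystemOn p M B P e F) (hnil : IsNilpotentBlock p M B)
    (Q : Subgroup G) (hQP : Q ≤ P) : IsPGroup p (F.autGroup Q) := by
  classical
  have hPe : IsBrauerPair p M P e := hF.1.1.1
  obtain ⟨f, hf, hle⟩ := exists_subpairLE hM P e hPe _ Q hQP (le_refl _)
  have hQf : IsBrauerPair p M Q f := ⟨hPe.1.to_le hQP, hf⟩
  have hQfB : IsBrauerPairOf p M B Q f :=
    (isBrauerPairOf_iff_of_subpairLE hM P Q e f hPe hQf hle B).mp hF.1.1
  rintro ⟨α, hα⟩
  obtain ⟨g, hgT, hg⟩ := exists_stab_of_mem_autGroup hM B P e F hF Q f hQP hle α hα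
  have hm : orderOf g ≠ 0 := (orderOf_pos g).ne'
  obtain ⟨a, m', hm', hmeq⟩ :=
    Nat.exists_eq_pow_mul_and_not_dvd hm p (Nat.Prime.ne_one Fact.out)
  have hreg : IsPRegular p (g ^ p ^ a) := by
    intro hdvd
    apply hm'
    have : orderOf (g ^ p ^ a) ∣ m' := by
      apply orderOf_dvd_of_pow_eq_one
      rw [← pow_mul, ← hmeq, pow_orderOf_eq_one]
    exact hdvd.trans this
  have hgaT : g ^ p ^ a ∈ stabT Q f := Subgroup.pow_mem _ hgT _
  obtain ⟨hgaN, hgaS⟩ := (mem_stabT Q f _).mp hgaT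
  have hgaC := hnil.2 Q f hQfB _ hgaN hgaS hreg
  refine ⟨a, ?_⟩
  apply Subtype.ext
  show α ^ p ^ a = 1
  rw [eq_conjAut_of_conj_eq α g hg, conjAut_pow]
  ext x
  rw [conjAut_apply]
  have := hgaC (x : G) x.2
  rw [← this]
  simp

/-- **Nilpotent blocks have the inner fusion system.** -/
theorem eq_inner_of_isNilpotentBlock [Fact p.Prime] (hM : IsPModular p M)
    (B : Set (IrrCharacter G)) (P : Subgroup G)
    (e : Set (IrrCharacter (Subgroup.centralizer (P : Set G)))) (F : FusionSystem P)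
    (hF : IsBlockFusionSystemOn p M B P e F) (hnil : IsNilpotentBlock p M B) :
    F = innerFusionSystem P :=
  Cfsg.Agent.S5083.result p hF.1.1.1.1 F (isSaturated_of_isBlockFusionSystemOn hM B P e F hF)
    (fun Q hQP => isPGroup_autGroup_of_isNilpotentBlock hM B P e F hF hnil Q hQP)

/-- A `p`-regular element inducing on `Q` the same automorphism as an element of a `p`-group
centralizes `Q`. -/
theorem mem_centralizer_of_isPRegular_of_conj_eq [Fact p.Prime] (P Q : Subgroup G)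
    (hP : IsPGroup p P) (x u : G) (hu : u ∈ P) (hx : IsPRegular p x)
    (h : ∀ q ∈ Q, x * q * x⁻¹ = u * q * u⁻¹) (hxN : x ∈ Subgroup.normalizer (Q : Set G)) :
    x ∈ Subgroup.centralizer (Q : Set G) := by
  have hα : ∀ q : Q, ((conjAut Q x hxN q : Q) : G) = u * (q : G) * u⁻¹ := fun q => h q q.2
  have huN : u ∈ Subgroup.normalizer (Q : Set G) := mem_normalizer_of_conj_eq _ u hα
  have hαu : conjAut Q x hxN = conjAut Q u huN := by
    ext q
    rw [hα q, conjAut_apply]
  have h1 : (conjAut Q x hxN) ^ orderOf x = 1 := by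
    rw [conjAut_pow]
    ext q
    rw [conjAut_apply]
    simp [pow_orderOf_eq_one]
  have h2 : (conjAut Q x hxN) ^ orderOf u = 1 := by
    rw [hαu, conjAut_pow]
    ext q
    rw [conjAut_apply]
    simp [pow_orderOf_eq_one]
  obtain ⟨k, hk⟩ := IsPGroup.iff_orderOf.mp hP ⟨u, hu⟩
  rw [Subgroup.orderOf_mk] at hk
  have hd1 : orderOf (conjAut Q x hxN) ∣ orderOf x := orderOf_dvd_of_pow_eq_one h1
  have hd2 : orderOf (conjAut Q x hxN) ∣ p ^ k := by
    rw [← hk]
    exact orderOf_dvd_of_pow_eq_one h2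
  obtain ⟨j, _, hj⟩ := (Nat.dvd_prime_pow Fact.out).mp hd2
  have hj0 : j = 0 := by
    by_contra hne
    apply hx
    have : p ∣ p ^ j := dvd_pow_self p hne
    rw [← hj] at this
    exact this.trans hd1
  rw [hj0, pow_zero, orderOf_eq_one_iff] at hj
  rw [Subgroup.mem_centralizer_iff]
  intro q hq
  have h3 : ((conjAut Q x hxN ⟨q, hq⟩ : Q) : G) = q := by
    rw [hj]
    rfl
  rw [conjAut_apply] at h3
  have h4 : x * q = q * x := by
    calc x * q = x * q * x⁻¹ * x := by group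
      _ = q * x := by rw [h3]
  exact h4.symm

/-- **Blocks with the inner fusion system are nilpotent.** -/
theorem isNilpotentBlock_of_inner [Fact p.Prime] (hM : IsPModular p M)
    (B : Set (IrrCharacter G)) (P : Subgroup G)
    (e : Set (IrrCharacter (Subgroup.centralizer (P : Set G)))) (F : FusionSystem P)
    (hF : IsBlockFusionSystemOn p M B P e F)
    (h : ∀ Q : Subgroup G, F.Hom Q = (innerFusionSystem P).Hom Q) :
    IsNilpotentBlock p M B := by
  classical
  have hmax := hF.1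
  have hPe : IsBrauerPair p M P e := hmax.1.1
  refine ⟨hmax.1.2.1, ?_⟩
  intro Q f hQf x hxN hxS hxreg
  obtain ⟨g, hleg⟩ := exists_conj_subpairLE hM B P Q e f hmax hQf
  have hQ'P : Q.map (MulAut.conj g).toMonoidHom ≤ P := le_of_reflTransGen hleg
  have hx'N := (mem_normalizer_map_conj_iff Q g x).mpr hxN
  have hx'S := (stabilizesBlock_conjBlock_iff Q g x f).mpr hxS
  have hx'T : g * x * g⁻¹ ∈ stabT (Q.map (MulAut.conj g).toMonoidHom) (conjBlock Q g f) :=
    (mem_stabT _ _ _).mpr ⟨hx'N, hx'S⟩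
  have hmem := conjHom_mem_of_mem_stab B P e F hF _ _ hQ'P hleg _ hx'T
  rw [h] at hmem
  obtain ⟨_, u, hu, hconj⟩ := hmem
  have hx'reg : IsPRegular p (g * x * g⁻¹) := by
    unfold IsPRegular
    have : g * x * g⁻¹ = MulAut.conj g x := rfl
    rw [this, MulEquiv.orderOf_eq]
    exact hxreg
  have hc := mem_centralizer_of_isPRegular_of_conj_eq P (Q.map (MulAut.conj g).toMonoidHom)
    hPe.1 (g * x * g⁻¹) u hu hx'reg (fun q hq => hconj ⟨q, hq⟩) hx'N
  have := (mem_centralizer_map_conj_iff Q g (g * x * g⁻¹)).mp hc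
  have h5 : g⁻¹ * (g * x * g⁻¹) * g = x := by group
  rwa [h5] at this

end Cfsg.Agent.Helper77
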