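import Cfsg.Agent.Helper77.CyclicAut
import Cfsg.Agent.Helper77.NilpotentFusion

/-!
# Blocks with cyclic defect groups: the inertial quotient

(helper77, file 40.)
-/

set_option autoImplicit false
set_option linter.unusedSectionVars false
set_option linter.style.haveILetI false

namespace Cfsg.Agent.Helper77

open Cfsg Cfsg.FusionSystem Cfsg.Agent.Helper87

variable {G : Type*} [Group G] [Fintype G] {M : Ideal AlgInt} {p : ℕ}

/-- For an abelian defect group `P` of `B`, a block `c` of `C_G(P)` inducing `B` gives a maximal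
Brauer pair `(P, c)` of `B`. -/
theorem isMaximalBrauerPair_of_isInducedBlock_of_abelian [Fact p.Prime] (hM : IsPModular p M)
    (B : Set (IrrCharacter G)) (hB : IsPBlock M B) (P : Subgroup G)
    (hPD : IsDefectGroup p M B P) (hab : ∀ x ∈ P, ∀ y ∈ P, x * y = y * x)
    (c : Set (IrrCharacter (Subgroup.centralizer (P : Set G))))
    (hc : IsInducedBlock M (Subgroup.centralizer (P : Set G)) c B) :
    IsMaximalBrauerPair p M B P c := by
  classical
  have hcard := card_defectGroup hM hB P hPD
  have hPp : IsPGroup p P := IsPGroup.of_card hcard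
  have hPC : P ≤ Subgroup.centralizer (P : Set G) := by
    intro u hu
    rw [Subgroup.mem_centralizer_iff]
    intro q hq
    exact hab q hq u hu
  have hfinC : Fintype (Subgroup.centralizer (P : Set G)) := Fintype.ofFinite _
  have hpair : IsBrauerPairOf p M B P c :=
    isBrauerPairOf_of_isInducedBlock hM P (Subgroup.centralizer (P : Set G)) hPp hPC le_rfl
      (Subgroup.centralizer_le_normalizer _) Subgroup.le_normalizer B c hc.1
      (fun t ht => stabilizesBlock_of_mem_self _ c t ht) c hc.1
      (fun t => (extFun_of_mem _ _ t.2).symm) hc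
  exact isMaximalBrauerPair_of_card hM B P c hpair hcard

/-- **The inertial quotient of a block with a nontrivial cyclic defect group** is cyclic of order
dividing `p - 1` and acts freely on the non-identity elements of the defect group. -/
theorem cyclic_defect_inertial_quotient [Fact p.Prime] (hM : IsPModular p M)
    (B : Set (IrrCharacter G)) (hB : IsPBlock M B) (P : Subgroup G)
    (hPD : IsDefectGroup p M B P) (hP1 : P ≠ ⊥) (hcyc : IsCyclic P)
    (c : Set (IrrCharacter (Subgroup.centralizer (P : Set G))))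
    (hc : IsInducedBlock M (Subgroup.centralizer (P : Set G)) c B) (T : Subgroup G)
    (hT : ∀ g : G, g ∈ T ↔ (g ∈ Subgroup.normalizer (P : Set G) ∧
      StabilizesBlock (Subgroup.centralizer (P : Set G)) c g))
    [hn : ((Subgroup.centralizer (P : Set G)).subgroupOf T).Normal] :
    IsCyclic (T ⧸ (Subgroup.centralizer (P : Set G)).subgroupOf T) ∧
      (Subgroup.centralizer (P : Set G)).relIndex T ∣ p - 1 ∧
      ∀ g ∈ T, ∀ x ∈ P, x ≠ 1 → g * x * g⁻¹ = x → g ∈ Subgroup.centralizer (P : Set G) := by
  classical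
  have hab : ∀ x ∈ P, ∀ y ∈ P, x * y = y * x := by
    intro x hx y hy
    exact congrArg Subtype.val ((IsCyclic.commGroup (α := P)).mul_comm ⟨x, hx⟩ ⟨y, hy⟩)
  have hmax := isMaximalBrauerPair_of_isInducedBlock_of_abelian hM B hB P hPD hab c hc
  have hPe : IsBrauerPair p M P c := hmax.1.1
  have hPp : IsPGroup p P := hPe.1
  have hF := isBlockFusionSystemOn_blockFusionSystem hM B P c hmax
  have hsat := isSaturated_of_isBlockFusionSystemOn hM B P c _ hF
  obtain ⟨P', ⟨φ, hφ, hrange⟩, hauto, _⟩ := hsat P le_rfl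
  have hP' : P' = P := by
    apply Subgroup.eq_of_le_of_card_ge
    · rw [← hrange]
      rintro _ ⟨x, rfl⟩
      exact ((blockFusionSystem hM P c hPe).le_of_mem hφ).2 x
    · rw [← hrange]
      exact (Nat.card_congr (MonoidHom.ofInjective
        ((blockFusionSystem hM P c hPe).injective_of_mem hφ)).toEquiv).le
  rw [hP'] at hauto
  obtain ⟨_, R, hR⟩ := hauto
  have hbot : autInducedBy P P = ⊥ := by
    rw [eq_bot_iff]
    intro α hα
    obtain ⟨g, hg, hgx⟩ := (mem_autInducedBy_iff P P α).mp hα
    rw [Subgroup.mem_bot]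
    ext x
    rw [hgx x, MulAut.one_apply, hab g hg x x.2]
    exact mul_inv_cancel_right _ _
  haveI hfinAut : Finite (MulAut P) := finite_mulAut_of_le (S := P) (le_refl P)
  have hA : ¬ p ∣ Nat.card ((blockFusionSystem hM P c hPe).autGroup P) := by
    intro hdvd
    have h1 := R.dvd_card_of_dvd_card hdvd
    have hRbot : (R : Subgroup ((blockFusionSystem hM P c hPe).autGroup P)) = ⊥ := by
      rw [hR, hbot]
      ext α
      rw [Subgroup.mem_subgroupOf, Subgroup.mem_bot, Subgroup.mem_bot]
      exact ⟨fun h => Subtype.ext h, fun h => congrArg Subtype.val h⟩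
    have h2 : Nat.card R = 1 := by
      show Nat.card (R : Subgroup ((blockFusionSystem hM P c hPe).autGroup P)) = 1
      rw [hRbot]
      exact Subgroup.card_bot
    rw [h2] at h1
    exact (Fact.out : p.Prime).one_lt.ne' (Nat.dvd_one.mp h1)
  obtain ⟨x₀, hx₀⟩ := (Subgroup.ne_bot_iff_exists_ne_one).mp hP1
  obtain ⟨hAcyc, hAcard, hAfree⟩ := cyclic_pgroup_aut_pprime hPp x₀ hx₀ _ hA
  obtain ⟨hPT, hCT, hTN, hstabT⟩ := stab_basic P c T hT
  have hθmem : ∀ t : T, stabToAut P T hTN t ∈ (blockFusionSystem hM P c hPe).autGroup P := by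
    intro t
    rw [mem_autGroup_iff _ (le_refl P)]
    have hfix : conjIdx (t : G) ⟨P, c⟩ = ⟨P, c⟩ :=
      (conjIdx_eq_self_iff P c (t : G) (hTN t.2)).mpr (hstabT t t.2)
    have hle' : Relation.ReflTransGen (NormalSubpairRel p M) (conjIdx (t : G) ⟨P, c⟩) ⟨P, c⟩ := by
      rw [hfix]
    exact (hF.2 P _).mpr ⟨le_refl P, (t : G), fun u => rfl, le_of_reflTransGen hle', c,
      Relation.ReflTransGen.refl, hle'⟩
  have hfree : ∀ g ∈ T, ∀ x ∈ P, x ≠ 1 → g * x * g⁻¹ = x →
      g ∈ Subgroup.centralizer (P : Set G) := by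
    intro g hg x hx hx1 hgx
    have h1 := hAfree _ (hθmem ⟨g, hg⟩) ⟨x, hx⟩
      (fun h => hx1 (congrArg Subtype.val h)) (Subtype.ext hgx)
    rw [Subgroup.mem_centralizer_iff]
    intro y hy
    have h2 : ((stabToAut P T hTN ⟨g, hg⟩ ⟨y, hy⟩ : P) : G) = y := by
      rw [h1]
      rfl
    rw [stabToAut_apply] at h2
    calc y * g = g * y * g⁻¹ * g := by rw [h2]
      _ = g * y := by group
  let θ : T →* (blockFusionSystem hM P c hPe).autGroup P :=
    (stabToAut P T hTN).codRestrict _ hθmem
  have hθker : ∀ t : T, θ t = 1 ↔ t ∈ (Subgroup.centralizer (P : Set G)).subgroupOf T := by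
    intro t
    rw [Subgroup.mem_subgroupOf]
    constructor
    · intro h
      rw [Subgroup.mem_centralizer_iff]
      intro y hy
      have h2 : ((stabToAut P T hTN t ⟨y, hy⟩ : P) : G) = y := by
        have h3 : stabToAut P T hTN t = 1 := congrArg Subtype.val h
        rw [h3]
        rfl
      rw [stabToAut_apply] at h2
      calc y * (t : G) = (t : G) * y * (t : G)⁻¹ * (t : G) := by rw [h2]
        _ = (t : G) * y := by group
    · intro h
      apply Subtype.ext
      show stabToAut P T hTN t = 1
      ext y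
      rw [stabToAut_apply, MulAut.one_apply, ← h (y : G) y.2]
      exact mul_inv_cancel_right _ _
  let ψ : T ⧸ (Subgroup.centralizer (P : Set G)).subgroupOf T →*
      (blockFusionSystem hM P c hPe).autGroup P :=
    QuotientGroup.lift _ θ (fun t ht => (hθker t).mpr ht)
  have hψinj : Function.Injective ψ := by
    rw [injective_iff_map_eq_one]
    intro q hq
    obtain ⟨t, rfl⟩ := QuotientGroup.mk_surjective q
    rw [QuotientGroup.eq_one_iff]
    exact (hθker t).mp hq
  refine ⟨isCyclic_of_injective ψ hψinj, ?_, hfree⟩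
  have h1 := Subgroup.card_dvd_of_injective ψ hψinj
  have h2 : (Subgroup.centralizer (P : Set G)).relIndex T =
      Nat.card (T ⧸ (Subgroup.centralizer (P : Set G)).subgroupOf T) :=
    Subgroup.index_eq_card _
  rw [h2]
  exact h1.trans hAcard

end Cfsg.Agent.Helper77
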