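import Cfsg.Agent.Helper77.HS
import Cfsg.Agent.Helper16.BlockIdem
import Cfsg.Agent.Helper16.MinMax
import Cfsg.Agent.Helper16.CharBasic
import Cfsg.Agent.Helper79.CharBasic

/-!
# Osima vanishing and weak block orthogonality

(helper77's layer (15a), file 6.)

* `twisted_vanishing`: for a central idempotent `a` of the local group ring, `x` a `p`-regular
  and `y` a `p`-singular element, `∑ g, a (g y g⁻¹ x) = 0`.
* `blockCoeff_eq_zero_of_dvd_orderOf`: block idempotents are supported on `p`-regular elements.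
* `weak_block_orthogonality`: `∑_{χ ∈ B} χ x * conj (χ y) = 0` for `x` `p`-regular and
  `y` `p`-singular.
-/

set_option autoImplicit false

namespace Cfsg.Agent.Helper77

open Cfsg
open scoped ComplexConjugate

variable {G : Type*} [Group G] [Fintype G] {M : Ideal AlgInt} {p : ℕ}

theorem twisted_vanishing (hM : IsPModular p M) (a : G → ℂ) (hcl : IsClassFunction G a)
    (haR : ∀ g, MemLocalRing M (a g)) (hidem : ∀ w : G, ∑ g : G, a g * a (g⁻¹ * w) = a w)
    (x y : G) (hx : ¬ p ∣ orderOf x) (hy : p ∣ orderOf y) :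
    ∑ g : G, a (g * y * g⁻¹ * x) = 0 := by
  classical
  have : M.IsPrime := isPrime_of_isPModular hM
  set Z : Subgroup G := Subgroup.zpowers x with hZ
  let n : ℕ := Fintype.card Z
  have hn : n = orderOf x := by
    simp only [n, hZ]
    exact Fintype.card_zpowers
  have hnp : ¬ p ∣ n := by rw [hn]; exact hx
  have hnR : MemLocalRing M (n : ℂ) := memLocalRing_natCast M n
  have hnI : ¬ MemLocalIdeal M (n : ℂ) := by
    rw [memLocalIdeal_natCast_iff hM]; exact hnp
  have hn0 : (n : ℂ) ≠ 0 := by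
    intro h
    apply hnI
    rw [h]; exact memLocalIdeal_zero M
  have hninv : MemLocalRing M ((n : ℂ)⁻¹) := memLocalRing_inv M hnR hnI
  -- the idempotent on G × Z
  let ε : G × Z → ℂ := fun w => (n : ℂ)⁻¹ * a (w.1 * (w.2 : G))
  have hεR : ∀ w, MemLocalRing M (ε w) := fun w => memLocalRing_mul M hninv (haR _)
  have hcomm : ∀ z k : Z, (z : G) * (k : G) = (k : G) * (z : G) := by
    intro z k
    obtain ⟨z, hz⟩ := z
    obtain ⟨k, hk⟩ := k
    obtain ⟨i, rfl⟩ := Subgroup.mem_zpowers_iff.mp hz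
    obtain ⟨j, rfl⟩ := Subgroup.mem_zpowers_iff.mp hk
    exact (Commute.zpow_zpow (Commute.refl x) i j).eq
  have hε : ∀ w : G × Z, ∑ u : G × Z, ε u * ε (u⁻¹ * w) = ε w := by
    rintro ⟨w, k⟩
    rw [Fintype.sum_prod_type, Finset.sum_comm]
    have hinner : ∀ z : Z, ∑ g : G, ε (g, z) * ε ((g, z)⁻¹ * (w, k)) =
        (n : ℂ)⁻¹ * (n : ℂ)⁻¹ * a (w * (k : G)) := by
      intro z
      simp only [ε, Prod.inv_mk, Prod.mk_mul_mk]
      rw [← hidem (w * (k : G)), Finset.mul_sum]
      refine Fintype.sum_equiv (Equiv.mulRight (z : G)) _ _ (fun g => ?_)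
      simp only [Equiv.coe_mulRight, mul_inv_rev]
      have h1 : a (g⁻¹ * w * ((z⁻¹ * k : Z) : G)) = a ((z : G)⁻¹ * g⁻¹ * (w * (k : G))) := by
        have h2 := hcl ((z : G)⁻¹ * g⁻¹ * (w * (k : G))) (z : G)
        rw [← h2]
        congr 1
        have h3 := hcomm z⁻¹ k
        simp only [Subgroup.coe_mul, Subgroup.coe_inv] at h3 ⊢
        calc g⁻¹ * w * ((z : G)⁻¹ * (k : G)) = g⁻¹ * w * ((k : G) * (z : G)⁻¹) := by rw [h3]
          _ = (z : G) * ((z : G)⁻¹ * g⁻¹ * (w * (k : G))) * (z : G)⁻¹ := by group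
      rw [h1]
      ring
    rw [Finset.sum_congr rfl (fun z _ => hinner z), Finset.sum_const, Finset.card_univ]
    simp only [ε, nsmul_eq_mul]
    change (n : ℂ) * _ = _
    field_simp
  have hord : p ∣ orderOf ((y, ⟨x, Subgroup.mem_zpowers x⟩) : G × Z) := by
    rw [Prod.orderOf_mk]
    exact dvd_trans hy (Nat.dvd_lcm_left _ _)
  have key := hs_vanishing hM ε hεR hε (y, ⟨x, Subgroup.mem_zpowers x⟩) hord
  rw [Fintype.sum_prod_type, Finset.sum_comm] at key
  have hinner2 : ∀ z : Z, ∑ g : G, ε ((g, z) * (y, ⟨x, Subgroup.mem_zpowers x⟩) * (g, z)⁻¹) =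
      (n : ℂ)⁻¹ * ∑ g : G, a (g * y * g⁻¹ * x) := by
    intro z
    rw [Finset.mul_sum]
    refine Finset.sum_congr rfl (fun g _ => ?_)
    simp only [ε, Prod.inv_mk, Prod.mk_mul_mk]
    congr 2
    have h3 := hcomm z ⟨x, Subgroup.mem_zpowers x⟩
    simp only [Subgroup.coe_mul, Subgroup.coe_inv] at h3 ⊢
    rw [h3, mul_inv_cancel_right]
  rw [Finset.sum_congr rfl (fun z _ => hinner2 z), Finset.sum_const, Finset.card_univ,
    nsmul_eq_mul] at key
  change (n : ℂ) * _ = _ at key
  rw [← mul_assoc, mul_inv_cancel₀ hn0, one_mul] at key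
  exact key


/-- Same as `twisted_vanishing`, with the `p`-regular element on the left. -/
theorem twisted_vanishing' (hM : IsPModular p M) (a : G → ℂ) (hcl : IsClassFunction G a)
    (haR : ∀ g, MemLocalRing M (a g)) (hidem : ∀ w : G, ∑ g : G, a g * a (g⁻¹ * w) = a w)
    (x y : G) (hx : ¬ p ∣ orderOf x) (hy : p ∣ orderOf y) :
    ∑ g : G, a (x * (g * y * g⁻¹)) = 0 := by
  rw [← twisted_vanishing hM a hcl haR hidem x y hx hy]
  refine Finset.sum_congr rfl (fun g _ => ?_)
  rw [← hcl (g * y * g⁻¹ * x) x]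
  congr 1
  group

/-- The block idempotent is an idempotent for convolution. -/
theorem blockCoeff_conv_self [M.IsPrime] {B : Set (IrrCharacter G)} (hB : IsPBlock M B) :
    Helper16.conv (blockCoeff B) (blockCoeff B) = blockCoeff B := by
  classical
  obtain ⟨χ₀, rfl⟩ := hB
  obtain ⟨hcl, _, hom⟩ := Helper16.osima_strong (M := M) χ₀
  apply Helper16.classFunction_ext_omega (Helper16.isClassFunction_conv hcl hcl) hcl
  intro χ
  rw [Helper16.irr_omega_conv χ hcl hcl, hom χ]
  split_ifs <;> simp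

theorem blockCoeff_isClassFunction [M.IsPrime] {B : Set (IrrCharacter G)} (hB : IsPBlock M B) :
    IsClassFunction G (blockCoeff B) := by
  classical
  obtain ⟨χ₀, rfl⟩ := hB
  exact (Helper16.osima_strong (M := M) χ₀).1

/-- Twisted vanishing for block idempotents. -/
theorem blockCoeff_twisted_vanishing (hM : IsPModular p M) {B : Set (IrrCharacter G)}
    (hB : IsPBlock M B) (x y : G) (hx : ¬ p ∣ orderOf x) (hy : p ∣ orderOf y) :
    ∑ g : G, blockCoeff B (x * (g * y * g⁻¹)) = 0 := by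
  have : M.IsPrime := isPrime_of_isPModular hM
  refine twisted_vanishing' hM (blockCoeff B) (blockCoeff_isClassFunction hB)
    (fun g => Helper16.osima hB g) ?_ x y hx hy
  intro w
  exact congrFun (blockCoeff_conv_self hB) w

/-- **Osima vanishing**: the block idempotent is supported on the `p`-regular elements. -/
theorem blockCoeff_eq_zero_of_dvd_orderOf (hM : IsPModular p M) {B : Set (IrrCharacter G)}
    (hB : IsPBlock M B) (y : G) (hy : p ∣ orderOf y) : blockCoeff B y = 0 := by
  have : M.IsPrime := isPrime_of_isPModular hM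
  have hp : p.Prime := hM.1
  have h := blockCoeff_twisted_vanishing hM hB 1 y (by rw [orderOf_one]; exact hp.not_dvd_one) hy
  have hcl := blockCoeff_isClassFunction hB
  simp only [one_mul] at h
  rw [Finset.sum_congr rfl (fun g _ => hcl y g), Finset.sum_const, Finset.card_univ,
    nsmul_eq_mul] at h
  rcases mul_eq_zero.mp h with h0 | h0
  · exfalso
    have : (Fintype.card G : ℂ) ≠ 0 := by exact_mod_cast Fintype.card_ne_zero
    exact this h0
  · exact h0

/-- The class sum formula for an irreducible character. -/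
theorem irr_sum_mul_conj (χ : IrrCharacter G) (u v : G) :
    ∑ t : G, (χ : G → ℂ) (u * (t * v * t⁻¹)) =
      (Nat.card G : ℂ) * (χ : G → ℂ) v / (χ : G → ℂ) 1 * (χ : G → ℂ) u := by
  obtain ⟨χ, n, ρ, hirr, rfl⟩ := χ
  have hirr' : ρ.IsIrreducible := hirr
  have h := Helper16.sum_char_mul_conj ρ u v
  show ∑ t : G, ρ.character (u * (t * v * t⁻¹)) =
    (Nat.card G : ℂ) * ρ.character v / ρ.character 1 * ρ.character u
  rw [h, Representation.char_one]

/-- The sum of the block idempotent over a twisted class, in terms of characters. -/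
theorem sum_blockCoeff_twisted (B : Set (IrrCharacter G)) (x y : G) :
    ∑ g : G, blockCoeff B (x * (g * y * g⁻¹)) =
      ∑ᶠ χ ∈ B, conj ((χ : G → ℂ) y) * conj ((χ : G → ℂ) x) := by
  classical
  have hcard : (Nat.card G : ℂ) ≠ 0 := Helper79.card_ne_zero_complex
  rw [finsum_mem_eq_finite_toFinset_sum _ (Set.toFinite B)]
  simp only [Helper16.blockCoeff_eq_sum]
  rw [← Finset.mul_sum, Finset.sum_comm]
  have h1 : ∀ χ : IrrCharacter G,
      ∑ g : G, (if χ ∈ B then (1 : ℂ) else 0) * (χ : G → ℂ) 1 *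
        conj ((χ : G → ℂ) (x * (g * y * g⁻¹))) =
      (Nat.card G : ℂ) * ((if χ ∈ B then (1 : ℂ) else 0) *
        (conj ((χ : G → ℂ) y) * conj ((χ : G → ℂ) x))) := by
    intro χ
    rw [← Finset.mul_sum, ← map_sum, irr_sum_mul_conj χ x y]
    have h1 : (χ : G → ℂ) 1 ≠ 0 := Helper16.irr_one_ne_zero χ
    have h2 : conj ((χ : G → ℂ) 1) = (χ : G → ℂ) 1 := by
      obtain ⟨χ, n, ρ, hirr, rfl⟩ := χ
      show conj (ρ.character 1) = ρ.character 1
      rw [Representation.char_one]
      simp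
    simp only [map_mul, map_div₀, map_natCast, h2]
    field_simp
  rw [Finset.sum_congr rfl (fun χ _ => h1 χ), ← Finset.mul_sum, ← mul_assoc,
    inv_mul_cancel₀ hcard, one_mul]
  simp only [ite_mul, one_mul, zero_mul]
  rw [← Finset.sum_filter]
  refine Finset.sum_congr ?_ (fun _ _ => rfl)
  ext χ
  simp

/-- **Weak block orthogonality**. -/
theorem weak_block_orthogonality (hM : IsPModular p M) {B : Set (IrrCharacter G)}
    (hB : IsPBlock M B) (x y : G) (hx : ¬ p ∣ orderOf x) (hy : p ∣ orderOf y) :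
    ∑ᶠ χ ∈ B, (χ : G → ℂ) y * (χ : G → ℂ) x = 0 := by
  classical
  have h := blockCoeff_twisted_vanishing hM hB x y hx hy
  rw [sum_blockCoeff_twisted] at h
  rw [finsum_mem_eq_finite_toFinset_sum _ (Set.toFinite B)] at h ⊢
  have h2 := congrArg conj h
  rw [map_sum, map_zero] at h2
  rw [← h2]
  refine Finset.sum_congr rfl (fun χ _ => ?_)
  simp

/-- Weak block orthogonality, with a complex conjugate. -/
theorem weak_block_orthogonality' (hM : IsPModular p M) {B : Set (IrrCharacter G)}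
    (hB : IsPBlock M B) (x y : G) (hx : ¬ p ∣ orderOf x) (hy : p ∣ orderOf y) :
    ∑ᶠ χ ∈ B, (χ : G → ℂ) x * conj ((χ : G → ℂ) y) = 0 := by
  classical
  have h := weak_block_orthogonality hM hB x y⁻¹ hx (by rw [orderOf_inv]; exact hy)
  rw [← h]
  refine finsum_congr (fun χ => ?_)
  refine finsum_congr (fun _ => ?_)
  obtain ⟨χ, n, ρ, hirr, rfl⟩ := χ
  show ρ.character x * conj (ρ.character y) = ρ.character y⁻¹ * ρ.character x
  rw [Helper79.char_inv, mul_comm]

end Cfsg.Agent.Helper77
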