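import Cfsg.Agent.Helper77.NormalP

/-!
# Block idempotents supported on a normal subgroup

(helper77's layer (15b), file 9.)  If `C` is a normal subgroup of `G` such that every central
character value at every element outside `C` lies in the local ideal, then every block idempotent
of `G` is supported on `C`.  With `C = C_G(P)` for a normal `p`-subgroup `P` this gives: block
idempotents are supported on `C_G(P)`.

The proof repeats helper16's proof of Osima's theorem inside the subring of the centre of the local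
group ring spanned by the class sums inside `C`.
-/

set_option autoImplicit false
set_option linter.unusedSectionVars false

namespace Cfsg.Agent.Helper77

open Cfsg
open Cfsg.Agent.Helper16 (omega conv classInd deltaOne InLambda)

variable {G : Type*} [Group G] [Fintype G] {M : Ideal AlgInt}

/-- The image, under the central characters, of the part of the centre of the local group ring
supported on the subgroup `C`. -/
def InLambdaOn (C : Subgroup G) (M : Ideal AlgInt) (l : IrrCharacter G → ℂ) : Prop :=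
  ∃ s : G → ℂ, IsClassFunction G s ∧ (∀ g, MemLocalRing M (s g)) ∧ (∀ g, g ∉ C → s g = 0) ∧
    ∀ χ : IrrCharacter G, l χ = omega (χ : G → ℂ) s

variable {C : Subgroup G}

theorem InLambdaOn.inLambda {l : IrrCharacter G → ℂ} (hl : InLambdaOn C M l) : InLambda M l := by
  obtain ⟨s, hs, hsS, _, hsl⟩ := hl
  exact ⟨s, hs, hsS, hsl⟩

theorem inLambdaOn_sub [M.IsPrime] {l m : IrrCharacter G → ℂ} (hl : InLambdaOn C M l)
    (hm : InLambdaOn C M m) : InLambdaOn C M (fun χ => l χ - m χ) := by
  obtain ⟨s, hs, hsS, hsC, hsl⟩ := hl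
  obtain ⟨t, ht, htS, htC, htm⟩ := hm
  refine ⟨s - t, Helper16.isClassFunction_sub hs ht,
    fun g => Helper16.memLocalRing_sub (hsS g) (htS g), ?_, ?_⟩
  · intro g hg
    rw [Pi.sub_apply, hsC g hg, htC g hg, sub_zero]
  · intro χ
    show l χ - m χ = _
    rw [Helper16.omega_sub, hsl, htm]

theorem inLambdaOn_smul [M.IsPrime] {c : ℂ} (hc : MemLocalRing M c) {l : IrrCharacter G → ℂ}
    (hl : InLambdaOn C M l) : InLambdaOn C M (fun χ => c * l χ) := by
  obtain ⟨s, hs, hsS, hsC, hsl⟩ := hl
  refine ⟨c • s, Helper16.isClassFunction_smul c hs,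
    fun g => Helper16.memLocalRing_mul hc (hsS g), ?_, ?_⟩
  · intro g hg
    rw [Pi.smul_apply, hsC g hg, smul_zero]
  · intro χ
    show c * l χ = _
    rw [Helper16.omega_smul, hsl]

theorem inLambdaOn_mul [M.IsPrime] {l m : IrrCharacter G → ℂ} (hl : InLambdaOn C M l)
    (hm : InLambdaOn C M m) : InLambdaOn C M (fun χ => l χ * m χ) := by
  obtain ⟨s, hs, hsS, hsC, hsl⟩ := hl
  obtain ⟨t, ht, htS, htC, htm⟩ := hm
  refine ⟨conv s t, Helper16.isClassFunction_conv hs ht, ?_, ?_, ?_⟩
  · intro g
    unfold conv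
    exact Helper16.memLocalRing_sum _ _ (fun x _ => Helper16.memLocalRing_mul (hsS x) (htS _))
  · intro g hg
    unfold conv
    refine Finset.sum_eq_zero (fun x _ => ?_)
    by_cases hx : x ∈ C
    · have : x⁻¹ * g ∉ C := by
        intro h
        apply hg
        have := C.mul_mem hx h
        rwa [mul_inv_cancel_left] at this
      rw [htC _ this, mul_zero]
    · rw [hsC x hx, zero_mul]
  · intro χ
    show l χ * m χ = _
    rw [Helper16.irr_omega_conv χ hs ht, hsl, htm]

theorem inLambdaOn_const [M.IsPrime] {c : ℂ} (hc : MemLocalRing M c) :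
    InLambdaOn C M (fun _ : IrrCharacter G => c) := by
  classical
  refine ⟨c • deltaOne, Helper16.isClassFunction_smul c Helper16.isClassFunction_deltaOne,
    ?_, ?_, ?_⟩
  · intro g
    refine Helper16.memLocalRing_mul hc ?_
    unfold deltaOne
    by_cases h : g = 1
    · rw [if_pos h]; exact Helper16.memLocalRing_one
    · rw [if_neg h]; exact Helper16.memLocalRing_zero
  · intro g hg
    have : g ≠ 1 := by
      rintro rfl
      exact hg C.one_mem
    rw [Pi.smul_apply]
    unfold deltaOne
    rw [if_neg this, smul_zero]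
  · intro χ
    show c = _
    rw [Helper16.omega_smul, Helper16.omega_deltaOne _ (Helper16.irr_one_ne_zero χ), mul_one]

theorem inLambdaOn_one [M.IsPrime] : InLambdaOn C M (fun _ : IrrCharacter G => 1) :=
  inLambdaOn_const Helper16.memLocalRing_one

theorem inLambdaOn_prod [M.IsPrime] {ι : Type*} (I : Finset ι) (f : ι → IrrCharacter G → ℂ)
    (h : ∀ i ∈ I, InLambdaOn C M (f i)) : InLambdaOn C M (fun χ => ∏ i ∈ I, f i χ) := by
  classical
  induction I using Finset.induction_on with
  | empty => simpa using inLambdaOn_one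
  | insert a I ha ih =>
    simp_rw [Finset.prod_insert ha]
    exact inLambdaOn_mul (h a (Finset.mem_insert_self a I))
      (ih (fun i hi => h i (Finset.mem_insert_of_mem hi)))

theorem inLambdaOn_centralChar [M.IsPrime] [C.Normal] (g : G) (hg : g ∈ C) :
    InLambdaOn C M (fun χ : IrrCharacter G => centralChar (χ : G → ℂ) g) := by
  classical
  refine ⟨classInd g, Helper16.isClassFunction_classInd g, ?_, ?_, ?_⟩
  · intro x
    unfold classInd
    by_cases h : IsConj g x
    · rw [if_pos h]; exact Helper16.memLocalRing_one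
    · rw [if_neg h]; exact Helper16.memLocalRing_zero
  · intro x hx
    unfold classInd
    rw [if_neg]
    intro h
    apply hx
    obtain ⟨c, rfl⟩ := isConj_iff.mp h
    exact ‹C.Normal›.conj_mem g hg c
  · intro χ
    show centralChar (χ : G → ℂ) g = _
    rw [Helper16.omega_classInd _ (Helper16.irr_isClassFunction χ)]

open Classical in
/-- The indicator of a block lies in the part of `Λ` supported on `C`. -/
theorem inLambdaOn_indicator [M.IsPrime] [C.Normal]
    (hC : ∀ g, g ∉ C → ∀ χ : IrrCharacter G, MemLocalIdeal M (centralChar (χ : G → ℂ) g))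
    (χ₀ : IrrCharacter G) :
    InLambdaOn C M (fun χ : IrrCharacter G =>
      if SameBlock M (χ₀ : G → ℂ) (χ : G → ℂ) then (1 : ℂ) else 0) := by
  classical
  let B : Finset (IrrCharacter G) :=
    Finset.univ.filter (fun χ => SameBlock M (χ₀ : G → ℂ) (χ : G → ℂ))
  let Bc : Finset (IrrCharacter G) :=
    Finset.univ.filter (fun χ => ¬ SameBlock M (χ₀ : G → ℂ) (χ : G → ℂ))
  -- separating elements, inside `C`
  have hsep : ∀ ψ : IrrCharacter G, ∃ g : G, g ∈ C ∧ (¬ SameBlock M (χ₀ : G → ℂ) (ψ : G → ℂ) →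
      ¬ MemLocalIdeal M (centralChar (χ₀ : G → ℂ) g - centralChar (ψ : G → ℂ) g)) := by
    intro ψ
    by_cases h : SameBlock M (χ₀ : G → ℂ) (ψ : G → ℂ)
    · exact ⟨1, C.one_mem, fun h' => absurd h h'⟩
    · unfold SameBlock at h
      obtain ⟨g, hg⟩ := not_forall.mp h
      refine ⟨g, ?_, fun _ => hg⟩
      by_contra hgC
      exact hg (Helper16.memLocalIdeal_sub (hC g hgC χ₀) (hC g hgC ψ))
  choose gsel hgselC hgsel using hsep
  let y : IrrCharacter G → IrrCharacter G → ℂ := fun ψ χ =>
    centralChar (χ : G → ℂ) (gsel ψ) - centralChar (ψ : G → ℂ) (gsel ψ)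
  have hy : ∀ ψ, InLambdaOn C M (y ψ) := by
    intro ψ
    exact inLambdaOn_sub (inLambdaOn_centralChar (gsel ψ) (hgselC ψ))
      (inLambdaOn_const (Helper16.memLocalRing_of_isIntegral
        (Helper16.irr_isIntegral_centralChar ψ _)))
  have hy_unit : ∀ ψ ∈ Bc, ∀ χ ∈ B, ¬ MemLocalIdeal M (y ψ χ) := by
    intro ψ hψ χ hχ
    simp only [Bc, B, Finset.mem_filter, Finset.mem_univ, true_and] at hψ hχ
    have h1 := hgsel ψ hψ
    have h2 : MemLocalIdeal M
        (centralChar (χ : G → ℂ) (gsel ψ) - centralChar (χ₀ : G → ℂ) (gsel ψ)) :=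
      Helper16.sameBlock_symm hχ (gsel ψ)
    have h3 := Helper16.not_memLocalIdeal_add h1 h2
    have h4 : centralChar (χ₀ : G → ℂ) (gsel ψ) - centralChar (ψ : G → ℂ) (gsel ψ) +
        (centralChar (χ : G → ℂ) (gsel ψ) - centralChar (χ₀ : G → ℂ) (gsel ψ)) = y ψ χ := by
      simp only [y]; ring
    rwa [h4] at h3
  let z : IrrCharacter G → ℂ := fun χ => ∏ ψ ∈ Bc, y ψ χ
  have hz : InLambdaOn C M z := inLambdaOn_prod Bc y (fun ψ _ => hy ψ)
  have hz0 : ∀ ψ ∈ Bc, z ψ = 0 := by
    intro ψ hψ
    exact Finset.prod_eq_zero hψ (by simp only [y]; ring)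
  have hz_unit : ∀ χ ∈ B, ¬ MemLocalIdeal M (z χ) := by
    intro χ hχ
    exact Helper16.not_memLocalIdeal_prod _ _ (fun ψ _ => (hy ψ).inLambda.memLocalRing χ)
      (fun ψ hψ => hy_unit ψ hψ χ hχ)
  let c : ℂ := ∏ χ ∈ B, (0 - z χ)
  have hcS : MemLocalRing M c :=
    Helper16.memLocalRing_prod _ _ (fun χ _ =>
      Helper16.memLocalRing_sub Helper16.memLocalRing_zero (hz.inLambda.memLocalRing χ))
  have hc_unit : ¬ MemLocalIdeal M c := by
    refine Helper16.not_memLocalIdeal_prod _ _
      (fun χ _ => Helper16.memLocalRing_sub Helper16.memLocalRing_zero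
        (hz.inLambda.memLocalRing χ)) ?_
    intro χ hχ
    rw [zero_sub]
    exact Helper16.not_memLocalIdeal_neg (hz_unit χ hχ)
  have hc0 : c ≠ 0 := by
    intro h
    rw [h] at hc_unit
    exact hc_unit Helper16.memLocalIdeal_zero
  let gz : IrrCharacter G → ℂ := fun ψ => ∏ χ ∈ B, (z ψ - z χ)
  have hgz : InLambdaOn C M gz :=
    inLambdaOn_prod B (fun χ ψ => z ψ - z χ)
      (fun χ _ => inLambdaOn_sub hz (inLambdaOn_const (hz.inLambda.memLocalRing χ)))
  have he : InLambdaOn C M (fun ψ => 1 - c⁻¹ * gz ψ) :=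
    inLambdaOn_sub inLambdaOn_one (inLambdaOn_smul (Helper16.memLocalRing_inv hcS hc_unit) hgz)
  have heq : (fun ψ : IrrCharacter G => 1 - c⁻¹ * gz ψ) =
      (fun χ : IrrCharacter G =>
        if SameBlock M (χ₀ : G → ℂ) (χ : G → ℂ) then (1 : ℂ) else 0) := by
    funext ψ
    by_cases h : SameBlock M (χ₀ : G → ℂ) (ψ : G → ℂ)
    · rw [if_pos h]
      have hψB : ψ ∈ B := by simp only [B, Finset.mem_filter, Finset.mem_univ, true_and]; exact h
      have : gz ψ = 0 := Finset.prod_eq_zero hψB (sub_self _)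
      rw [this, mul_zero, sub_zero]
    · rw [if_neg h]
      have hψB : ψ ∈ Bc := by
        simp only [Bc, Finset.mem_filter, Finset.mem_univ, true_and]; exact h
      have : gz ψ = c := by
        simp only [gz, c, hz0 ψ hψB]
      rw [this, inv_mul_cancel₀ hc0, sub_self]
  rw [← heq]
  exact he

/-- If every central character vanishes modulo the local ideal outside the normal subgroup `C`,
every block idempotent is supported on `C`. -/
theorem blockCoeff_eq_zero_of_centralChar_memLocalIdeal [M.IsPrime] [C.Normal]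
    (hC : ∀ g, g ∉ C → ∀ χ : IrrCharacter G, MemLocalIdeal M (centralChar (χ : G → ℂ) g))
    {B : Set (IrrCharacter G)} (hB : IsPBlock M B) (g : G) (hg : g ∉ C) :
    blockCoeff B g = 0 := by
  classical
  obtain ⟨χ₀, rfl⟩ := hB
  obtain ⟨s, hs, _, hsC, hsl⟩ := inLambdaOn_indicator (M := M) hC χ₀
  have hfun : blockCoeff (blockOf M (χ₀ : G → ℂ)) = s := by
    funext g
    rw [Helper16.blockCoeff_eq_sum, Helper16.classFunction_eq_sum_omega hs g]
    congr 1
    refine Finset.sum_congr rfl (fun χ _ => ?_)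
    rw [← hsl χ]
    rfl
  rw [hfun]
  exact hsC g hg

/-- **Block idempotents are supported on the centralizer of a normal `p`-subgroup.** -/
theorem blockCoeff_eq_zero_of_not_mem_centralizer {p : ℕ} (hM : IsPModular p M)
    (P : Subgroup G) [P.Normal] (hP : IsPGroup p P) {B : Set (IrrCharacter G)}
    (hB : IsPBlock M B) (g : G) (hg : g ∉ Subgroup.centralizer (P : Set G)) :
    blockCoeff B g = 0 := by
  have hMp : M.IsPrime := isPrime_of_isPModular hM
  exact blockCoeff_eq_zero_of_centralChar_memLocalIdeal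
    (C := Subgroup.centralizer (P : Set G))
    (fun k hk χ => centralChar_memLocalIdeal_of_not_mem_centralizer hM P hP k hk χ) hB g hg

end Cfsg.Agent.Helper77
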