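import Cfsg.Agent.Helper16.DefOneSetup
import Cfsg.Agent.Helper82.DefOne.Glue
import Cfsg.Agent.Helper60.DefOneGT4a
import Cfsg.Agent.Helper77.CyclicDefect
import Cfsg.Agent.Helper77.ConjMax
import Cfsg.Agent.S0914
import Cfsg.Agent.S0936
import Cfsg.Agent.Helper74.DegP

/-!
# Blocks of defect one: the blocks are the sets `R_θ` (helper77, GT4 of the defect-one engine)
-/

set_option autoImplicit false

namespace Cfsg.Agent.Helper77.DefOne

open Cfsg Cfsg.Agent.Helper16 Cfsg.Agent.Helper16.DefOne Cfsg.Agent.Helper82.DefOne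
open Cfsg.Agent.Helper77

universe u

variable {G : Type u} [Group G] [Fintype G] {p : ℕ} [Fact p.Prime] (M : Ideal AlgInt)
  (P : Sylow p G)

/-- (GT4-a) second main theorem: a nonzero row over `θ` forces `b_θ^G = B_χ`
(proved by helper60 in primed form). -/
theorem isInducedBlock_of_mem_Rset (hM : IsPModular p M) (hP : Nat.card P = p)
    (θ : IrrCharacter (cen P)) (hθ : IsCanon P θ) (χ : IrrCharacter G) (hχ : χ ∈ Rset P θ) :
    IsInducedBlock M (cen P) (blockOf M (θ : cen P → ℂ)) (blockOf M (χ : G → ℂ)) :=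
  Cfsg.Agent.Helper60.DefOne.isInducedBlock_of_mem_Rset' M P hM hP
    (fun φ x hx => can_apply_regular P hP φ x hx)
    (fun φ ψ => sameBlock_iff_can M P hM hP φ ψ) θ (can_eq_self P hP θ hθ) χ hχ

theorem factorization_card_eq_one (hP : Nat.card P = p) : (Nat.card G).factorization p = 1 := by
  have hp : p.Prime := Fact.out
  have h := P.card_eq_multiplicity
  rw [hP] at h
  have h2 : p ^ 1 = p ^ (Nat.card G).factorization p := by rw [pow_one]; exact h
  exact (Nat.pow_right_injective hp.two_le h2).symm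

/-- (GT4-z) -/
theorem not_dvd_degree_of_mem_block (hM : IsPModular p M) (hP : Nat.card P = p)
    (B : Set (IrrCharacter G)) (hB : IsPBlock M B)
    (hfull : ∃ χ ∈ B, ¬ p ∣ charDegree (χ : G → ℂ)) :
    ∀ χ ∈ B, ¬ p ∣ charDegree (χ : G → ℂ) := by
  intro χ hχ hdvd
  have hp : p.Prime := Fact.out
  have hMp : M.IsPrime := IsPModular.isPrime hM
  obtain ⟨ψ, hψ, hψp⟩ := hfull
  have hfac := factorization_card_eq_one P hP
  have hdeg : charDegree (χ : G → ℂ) ∣ Nat.card G := Helper74.charDegree_dvd_card χ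
  have hnd : ¬ p ∣ Nat.card G / charDegree (χ : G → ℂ) := by
    intro h
    obtain ⟨a, ha⟩ := hdvd
    obtain ⟨b, hb⟩ := h
    have hG : Nat.card G = charDegree (χ : G → ℂ) * (Nat.card G / charDegree (χ : G → ℂ)) :=
      (Nat.mul_div_cancel' hdeg).symm
    have hpp : p ^ 2 ∣ Nat.card G := by
      rw [hG, hb, ha]
      exact ⟨a * b, by ring⟩
    have hpos : Nat.card G ≠ 0 := Nat.card_pos.ne'
    have := (hp.pow_dvd_iff_le_factorization hpos).mp hpp
    omega
  have hsing := (Cfsg.Agent.S0914.result p M hM χ).mp hnd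
  have hBeq : B = blockOf M (χ : G → ℂ) := Helper78.isPBlock_eq_blockOf_of_mem hMp hB hχ
  rw [hBeq, hsing, Set.mem_singleton_iff] at hψ
  rw [hψ] at hψp
  exact hψp hdvd

theorem blockDefect_eq_one (hP : Nat.card P = p) (B : Set (IrrCharacter G))
    (hfull : ∃ χ ∈ B, ¬ p ∣ charDegree (χ : G → ℂ)) : blockDefect p B = 1 := by
  have hp : p.Prime := Fact.out
  obtain ⟨ψ, hψ, hψp⟩ := hfull
  unfold blockDefect
  rw [factorization_card_eq_one P hP]
  have h0 : sInf ((fun χ : IrrCharacter G => (charDegree (χ : G → ℂ)).factorization p) '' B) = 0 := by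
    apply Nat.eq_zero_of_le_zero
    apply Nat.sInf_le
    refine ⟨ψ, hψ, ?_⟩
    exact Nat.factorization_eq_zero_of_not_dvd hψp
  rw [h0]

/-- a block of `C_G(P)` inducing `B` gives a Brauer pair `(P, e)` of `B` -/
theorem isBrauerPairOf_of_induced (hM : IsPModular p M) (hP : Nat.card P = p)
    (B : Set (IrrCharacter G)) (e : Set (IrrCharacter (cen P)))
    (h : IsInducedBlock M (cen P) e B) : IsBrauerPairOf p M B (P : Subgroup G) e := by
  classical
  have hPp : IsPGroup p (P : Subgroup G) := P.isPGroup'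
  have hPC : (P : Subgroup G) ≤ cen P := le_cen P hP
  have hfinC : Fintype (Subgroup.centralizer ((P : Subgroup G) : Set G)) := Fintype.ofFinite _
  exact isBrauerPairOf_of_isInducedBlock hM (P : Subgroup G)
      (Subgroup.centralizer ((P : Subgroup G) : Set G)) hPp hPC le_rfl
      (Subgroup.centralizer_le_normalizer _) Subgroup.le_normalizer B e h.1
      (fun t ht => stabilizesBlock_of_mem_self _ e t ht) e h.1
      (fun t => (extFun_of_mem _ _ t.2).symm) h

/-- (GT4-d) extended first main theorem for canonical characters -/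
theorem exists_smul_eq_of_isInducedBlock (hM : IsPModular p M) (hP : Nat.card P = p)
    (B : Set (IrrCharacter G)) (hfull : ∃ χ ∈ B, ¬ p ∣ charDegree (χ : G → ℂ))
    (θ θ' : IrrCharacter (cen P)) (hθ : IsCanon P θ) (hθ' : IsCanon P θ')
    (h : IsInducedBlock M (cen P) (blockOf M (θ : cen P → ℂ)) B)
    (h' : IsInducedBlock M (cen P) (blockOf M (θ' : cen P → ℂ)) B) :
    ∃ n : nor P, n • θ' = θ := by
  classical
  have hMp : M.IsPrime := IsPModular.isPrime hM
  have hpair := isBrauerPairOf_of_induced M P hM hP B _ h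
  have hpair' := isBrauerPairOf_of_induced M P hM hP B _ h'
  have hcard : Nat.card (P : Subgroup G) = p ^ blockDefect p B := by
    rw [blockDefect_eq_one P hP B hfull, pow_one]
    exact hP
  have : Fintype (Subgroup.normalizer ((P : Subgroup G) : Set G)) := Fintype.ofFinite _
  obtain ⟨n, hn⟩ := exists_conjSet_eq hM B (P : Subgroup G) _ _ hpair hpair' hcard
  have hNC := Helper78.normalizer_le_normalizer_centralizer (P : Subgroup G)
  let n' : nor P := ⟨(n : G), hNC n.2⟩
  refine ⟨n', ?_⟩
  have hmem : Helper78.irrMap (conjHom (Subgroup.centralizer ((P : Subgroup G) : Set G))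
      (Subgroup.normalizer ((P : Subgroup G) : Set G)) hNC n) θ' ∈
      blockOf M (θ : cen P → ℂ) := by
    rw [← hn]
    exact ⟨θ', sameBlock_refl (M := M) _, rfl⟩
  have heq : Helper78.irrMap (conjHom (Subgroup.centralizer ((P : Subgroup G) : Set G))
      (Subgroup.normalizer ((P : Subgroup G) : Set G)) hNC n) θ' = n' • θ' := by
    apply Subtype.ext
    funext c
    rfl
  rw [heq] at hmem
  have hsb : SameBlock M (θ : cen P → ℂ) ((n' • θ' : IrrCharacter (cen P)) : cen P → ℂ) := hmem
  have hcan := (sameBlock_iff_can M P hM hP θ (n' • θ')).mp hsb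
  rw [can_eq_self P hP θ hθ, can_eq_self P hP (n' • θ') (isCanon_smul P hP n' θ' hθ')] at hcan
  exact hcan.symm

/-- (GT4-e) the block induced by the block of a canonical `θ` is `R_θ` -/
theorem block_eq_Rset (hM : IsPModular p M) (hP : Nat.card P = p)
    (B : Set (IrrCharacter G)) (hB : IsPBlock M B)
    (hfull : ∃ χ ∈ B, ¬ p ∣ charDegree (χ : G → ℂ))
    (θ : IrrCharacter (cen P)) (hθ : IsCanon P θ)
    (h : IsInducedBlock M (cen P) (blockOf M (θ : cen P → ℂ)) B) :
    B = Rset P θ := by
  have hMp : M.IsPrime := IsPModular.isPrime hM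
  apply Set.Subset.antisymm
  · intro χ hχ
    have hχp := not_dvd_degree_of_mem_block M P hM hP B hB hfull χ hχ
    obtain ⟨θ', hθ', hχR⟩ := exists_canon_mem_Rset P hP χ hχp
    have hind' := isInducedBlock_of_mem_Rset M P hM hP θ' hθ' χ hχR
    have hBχ : B = blockOf M (χ : G → ℂ) := Helper78.isPBlock_eq_blockOf_of_mem hMp hB hχ
    rw [← hBχ] at hind'
    obtain ⟨n, hn⟩ := exists_smul_eq_of_isInducedBlock M P hM hP B hfull θ θ' hθ hθ' h hind'
    rw [← hn, Rset_smul P hP n θ']
    exact hχR
  · intro χ hχ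
    have hind' := isInducedBlock_of_mem_Rset M P hM hP θ hθ χ hχ
    have : B = blockOf M (χ : G → ℂ) := isInducedBlock_unique _ h hind'
    rw [this]
    exact sameBlock_refl (M := M) _

/-- (GT4-f) every block with a member of `p'`-degree is some `R_θ` -/
theorem exists_canon_block_eq_Rset (hM : IsPModular p M) (hP : Nat.card P = p)
    (B : Set (IrrCharacter G)) (hB : IsPBlock M B)
    (hfull : ∃ χ ∈ B, ¬ p ∣ charDegree (χ : G → ℂ)) :
    ∃ θ : IrrCharacter (cen P), IsCanon P θ ∧
      IsInducedBlock M (cen P) (blockOf M (θ : cen P → ℂ)) B ∧ B = Rset P θ := by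
  have hMp : M.IsPrime := IsPModular.isPrime hM
  obtain ⟨χ, hχ, hχp⟩ := hfull
  obtain ⟨θ, hθ, hχR⟩ := exists_canon_mem_Rset P hP χ hχp
  have hind := isInducedBlock_of_mem_Rset M P hM hP θ hθ χ hχR
  have hBχ : B = blockOf M (χ : G → ℂ) := Helper78.isPBlock_eq_blockOf_of_mem hMp hB hχ
  rw [← hBχ] at hind
  exact ⟨θ, hθ, hind, block_eq_Rset M P hM hP B hB ⟨χ, hχ, hχp⟩ θ hθ hind⟩

/-- the principal character of `C_G(P)` -/
noncomputable def oneIrr (P : Sylow p G) : IrrCharacter (cen P) :=
  ⟨fun _ => 1, Cfsg.Agent.Helper79.isIrrCharacter_one⟩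

theorem isCanon_oneIrr : IsCanon P (oneIrr P) := fun _ _ => rfl

/-- the principal character of `G` -/
noncomputable def oneIrrG (G : Type u) [Group G] : IrrCharacter G :=
  ⟨fun _ => 1, Cfsg.Agent.Helper79.isIrrCharacter_one⟩

/-- (GT4-c) the principal block is `R_1` -/
theorem principalBlock_eq_Rset (hM : IsPModular p M) (hP : Nat.card P = p) :
    principalBlock M G = Rset P (oneIrr P) := by
  have hMp : M.IsPrime := IsPModular.isPrime hM
  have hp : p.Prime := Fact.out
  have hB : IsPBlock M (principalBlock M G) := ⟨oneIrrG G, rfl⟩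
  have hfull : ∃ χ ∈ principalBlock M G, ¬ p ∣ charDegree (χ : G → ℂ) := by
    refine ⟨oneIrrG G, sameBlock_refl (M := M) _, ?_⟩
    have : charDegree ((oneIrrG G : IrrCharacter G) : G → ℂ) = 1 := by
      unfold charDegree oneIrrG
      simp
    rw [this]
    exact hp.one_lt.ne' ∘ Nat.dvd_one.mp
  have hb : IsPBlock M (principalBlock M (cen P)) := ⟨oneIrr P, rfl⟩
  have hdef : InducedBlockDefined M (cen P) (principalBlock M (cen P)) :=
    Helper78.inducedBlockDefined_of_le_normalizer hM P.isPGroup' (le_cen P hP) le_rfl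
      (Subgroup.centralizer_le_normalizer _) _ hb
  have hind : IsInducedBlock M (cen P) (principalBlock M (cen P)) (principalBlock M G) :=
    (Cfsg.Agent.S0936.result p M hM (cen P) _ hdef).mpr rfl
  exact block_eq_Rset M P hM hP _ hB hfull (oneIrr P) (isCanon_oneIrr P) hind

end Cfsg.Agent.Helper77.DefOne
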