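import Cfsg.Agent.Helper77.FullNorm

/-!
# Brauer's extended first main theorem

(helper77, file 29.)
-/

set_option autoImplicit false
set_option linter.unusedSectionVars false

namespace Cfsg.Agent.Helper77

open Cfsg
open Cfsg.Agent.Helper16 (omega conv classInd deltaOne)

variable {G : Type*} [Group G] [Fintype G] {M : Ideal AlgInt} {p : ℕ}

/-- The orbit sum of a stable block is its idempotent. -/
theorem orbitSum_of_stable (H C : Subgroup G) [Fintype H]
    (hHC : H ≤ Subgroup.normalizer (C : Set G)) (e : Set (IrrCharacter C))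
    (hstab : ∀ t ∈ H, StabilizesBlock C e t) :
    orbitSum H C hHC e = extFun C (blockCoeff e) := by
  classical
  have hfix : ∀ x : H, conjSet H C hHC x e = e :=
    fun x => (stabilizesBlock_iff_image_eq C H hHC e x).mp (hstab x x.2)
  have : orbitFinset H C hHC e = {e} := by
    ext b
    rw [mem_orbitFinset, Finset.mem_singleton]
    constructor
    · rintro ⟨x, rfl⟩
      exact hfix x
    · rintro rfl
      exact ⟨1, conjSet_one H C hHC b⟩
  unfold orbitSum
  rw [this, Finset.sum_singleton]

/-- Every block of a subgroup `L ≥ C` whose block idempotents are supported on `C` and which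
stabilizes all blocks of `C` has the idempotent of a block of `C`. -/
theorem exists_block_eq_extFun [M.IsPrime] (L C : Subgroup G) (hCL : C ≤ L)
    (hstab : ∀ e : Set (IrrCharacter C), IsPBlock M e → ∀ t ∈ L, StabilizesBlock C e t)
    (hsupp : ∀ E : Set (IrrCharacter L), IsPBlock M E →
      ∀ t : L, (t : G) ∉ C → blockCoeff E t = 0)
    (b : Set (IrrCharacter L)) (hb : IsPBlock M b) :
    ∃ e : Set (IrrCharacter C), IsPBlock M e ∧
      ∀ t : L, blockCoeff b t = extFun C (blockCoeff e) (t : G) := by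
  classical
  have hMp : M.IsPrime := inferInstance
  have hfinL : Fintype L := Fintype.ofFinite _
  have hfinC : Fintype C := Fintype.ofFinite _
  have hsum : ∑ e ∈ blocksFinset M C, resFun L (extFun C (blockCoeff e)) =
      (deltaOne : L → ℂ) := by
    funext t
    rw [Finset.sum_apply]
    have h1 : ∑ e ∈ blocksFinset M C, extFun C (blockCoeff e) (t : G) =
        extFun C (∑ e ∈ blocksFinset M C, blockCoeff e) (t : G) := by
      rw [extFun_finset_sum, Finset.sum_apply]
    show ∑ e ∈ blocksFinset M C, extFun C (blockCoeff e) (t : G) = _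
    rw [h1, sum_blockCoeff_blocks, extFun_deltaOne]
    unfold Helper16.deltaOne
    by_cases ht : t = 1
    · subst ht
      simp
    · have ht' : (t : G) ≠ 1 := fun h => ht (Subtype.ext h)
      simp [ht, ht']
  have h1 : blockCoeff b = ∑ e ∈ blocksFinset M C,
      conv (blockCoeff b) (resFun L (extFun C (blockCoeff e))) := by
    rw [← conv_finset_sum_right, hsum, Helper78.conv_deltaOne_right]
  have hne : ∑ e ∈ blocksFinset M C,
      conv (blockCoeff b) (resFun L (extFun C (blockCoeff e))) ≠ 0 := by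
    rw [← h1]
    exact blockCoeff_ne_zero hb
  obtain ⟨e, he, hne⟩ := Finset.exists_ne_zero_of_sum_ne_zero hne
  have he' : IsPBlock M e := mem_blocksFinset.mp he
  obtain ⟨E, hE, hEe⟩ := exists_block_of_stabilizer L C hCL e he' (hstab e he') hsupp
  have hEfun : resFun L (extFun C (blockCoeff e)) = blockCoeff E :=
    funext (fun t => (hEe t).symm)
  by_cases hbE : b = E
  · rw [hbE]
    exact ⟨e, he', hEe⟩
  · exfalso
    apply hne
    rw [hEfun]
    exact blockCoeff_conv_of_ne hb hE hbE

/-- A block of `L` (`P C_G(P) ≤ L ≤ N_G(P)`) inducing `B` whose idempotent is that of the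
`L`-stable block `e` of `C_G(P)` gives the Brauer pair `(P, e)` of `B`. -/
theorem isBrauerPairOf_of_isInducedBlock [Fact p.Prime] (hM : IsPModular p M)
    (P L : Subgroup G) [Fintype L] (hP : IsPGroup p P) (hPL : P ≤ L)
    (hCL : Subgroup.centralizer (P : Set G) ≤ L) (hLN : L ≤ Subgroup.normalizer (P : Set G))
    (hLC : L ≤ Subgroup.normalizer ((Subgroup.centralizer (P : Set G) : Subgroup G) : Set G))
    (B : Set (IrrCharacter G))
    (e : Set (IrrCharacter (Subgroup.centralizer (P : Set G)))) (he : IsPBlock M e)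
    (hstab : ∀ t ∈ L, StabilizesBlock (Subgroup.centralizer (P : Set G)) e t)
    (b : Set (IrrCharacter L)) (hb : IsPBlock M b)
    (hbe : ∀ t : L, blockCoeff b t =
      extFun (Subgroup.centralizer (P : Set G)) (blockCoeff e) (t : G))
    (hind : IsInducedBlock M L b B) : IsBrauerPairOf p M B P e := by
  have hMp : M.IsPrime := isPrime_of_isPModular hM
  obtain ⟨B', hB', _⟩ := existsUnique_isBrauerPairOf hM P e ⟨hP, he⟩
  have hind' : IsInducedBlock M L b B' :=
    isInducedBlock_of_covering hM P L hP hPL hCL hLN hLC B' e hB' b hb (fun t => by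
      rw [orbitSum_of_stable L _ hLC e hstab]
      exact hbe t)
  have : B = B' := isInducedBlock_unique L hind hind'
  rw [this]
  exact hB'

section Main

variable (P : Subgroup G)

theorem le_sup_centralizer_left : P ≤ P ⊔ Subgroup.centralizer (P : Set G) := le_sup_left

theorem sup_centralizer_le_normalizer :
    P ⊔ Subgroup.centralizer (P : Set G) ≤ Subgroup.normalizer (P : Set G) :=
  sup_le Subgroup.le_normalizer (Subgroup.centralizer_le_normalizer _)

theorem stabilizesBlock_of_mem_sup (e : Set (IrrCharacter (Subgroup.centralizer (P : Set G))))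
    (t : G) (ht : t ∈ P ⊔ Subgroup.centralizer (P : Set G)) :
    StabilizesBlock (Subgroup.centralizer (P : Set G)) e t := by
  have : P ⊔ Subgroup.centralizer (P : Set G) ≤
      stabSubgroup (Subgroup.centralizer (P : Set G)) e :=
    sup_le (fun y hy => stabilizesBlock_of_mem_base P e y hy)
      (fun y hy => stabilizesBlock_of_mem_self _ e y hy)
  exact this ht

/-- **Extended first main theorem, existence.** -/
theorem exists_block_sup_centralizer [Fact p.Prime] (hM : IsPModular p M)
    (B : Set (IrrCharacter G)) (hB : IsPBlock M B) (hPB : IsDefectGroup p M B P) :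
    ∃ b : Set (IrrCharacter ↥(P ⊔ Subgroup.centralizer (P : Set G))),
      IsDefectGroup p M b (P.subgroupOf (P ⊔ Subgroup.centralizer (P : Set G))) ∧
      IsInducedBlock M (P ⊔ Subgroup.centralizer (P : Set G)) b B := by
  classical
  have hMp : M.IsPrime := isPrime_of_isPModular hM
  have hP : IsPGroup p P := IsPGroup.of_card (card_defectGroup hM hB P hPB)
  have hPL := le_sup_centralizer_left P
  have hCL : Subgroup.centralizer (P : Set G) ≤ P ⊔ Subgroup.centralizer (P : Set G) :=
    le_sup_right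
  have hLN := sup_centralizer_le_normalizer P
  have hnorm : (P.subgroupOf (P ⊔ Subgroup.centralizer (P : Set G))).Normal :=
    (Subgroup.normal_subgroupOf_iff_le_normalizer hPL).mpr hLN
  obtain ⟨g, hg, Q, hQ⟩ := id hPB
  obtain ⟨χ₀, rfl⟩ := hB
  have hgP : g ∈ Subgroup.centralizer (P : Set G) := by
    intro u hu
    rw [hQ] at hu
    obtain ⟨v, -, rfl⟩ := hu
    have := v.2
    rw [Subgroup.mem_centralizer_singleton_iff] at this
    exact this
  obtain ⟨b, hind⟩ := Helper78.exists_induced_of_blockCoeff_not_mem hM hP hPL hCL hLN χ₀ g hgP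
    hg.2.1
  refine ⟨b, ?_, hind⟩
  obtain ⟨ξ₀, hξ₀⟩ := hind.1
  obtain ⟨Db, hDb⟩ := Cfsg.Agent.Helper16.exists_defectGroup (M := M) p ξ₀
  rw [← hξ₀] at hDb
  have h1 : Cfsg.pCore p ↥(P ⊔ Subgroup.centralizer (P : Set G)) ≤ Db :=
    Cfsg.Agent.S0912.result p M hM b hind.1 Db hDb
  obtain ⟨x, hx⟩ := Helper78.defectGroup_le_of_induced hM _ b _ hind Db hDb P hPB
  have hc2 : Nat.card ((Db.map (P ⊔ Subgroup.centralizer (P : Set G)).subtype).map
      (MulAut.conj x).toMonoidHom) = Nat.card Db := by
    rw [Subgroup.card_map_of_injective (MulAut.conj x).injective,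
      Subgroup.card_map_of_injective (Subgroup.subtype_injective _)]
  have hc3 : Nat.card Db ≤ Nat.card P := by
    rw [← hc2]
    exact Subgroup.card_le_of_le hx
  have h2 : P.subgroupOf (P ⊔ Subgroup.centralizer (P : Set G)) ≤
      Cfsg.pCore p ↥(P ⊔ Subgroup.centralizer (P : Set G)) :=
    Cfsg.Agent.Lib.le_pCore hnorm hP.comap_subtype
  have h3 : P.subgroupOf (P ⊔ Subgroup.centralizer (P : Set G)) = Db := by
    apply Subgroup.eq_of_le_of_card_ge (h2.trans h1)
    rw [card_subgroupOf_of_le hPL]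
    exact hc3
  rw [h3]
  exact hDb

/-- **Extended first main theorem, conjugacy.** -/
theorem exists_conj_block_sup_centralizer [Fact p.Prime] (hM : IsPModular p M)
    (B : Set (IrrCharacter G)) (hB : IsPBlock M B) (hPB : IsDefectGroup p M B P)
    (b b' : Set (IrrCharacter ↥(P ⊔ Subgroup.centralizer (P : Set G))))
    (hind : IsInducedBlock M (P ⊔ Subgroup.centralizer (P : Set G)) b B)
    (hind' : IsInducedBlock M (P ⊔ Subgroup.centralizer (P : Set G)) b' B) :
    ∃ n ∈ Subgroup.normalizer (P : Set G), ∀ θ ∈ b, ∃ θ' ∈ b',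
      ∀ x : ↥(P ⊔ Subgroup.centralizer (P : Set G)),
      ∀ hx : n * (x : G) * n⁻¹ ∈ P ⊔ Subgroup.centralizer (P : Set G),
        (θ' : ↥(P ⊔ Subgroup.centralizer (P : Set G)) → ℂ) x =
          (θ : ↥(P ⊔ Subgroup.centralizer (P : Set G)) → ℂ) ⟨n * (x : G) * n⁻¹, hx⟩ := by
  classical
  have hMp : M.IsPrime := isPrime_of_isPModular hM
  have hcard := card_defectGroup hM hB P hPB
  have hP : IsPGroup p P := IsPGroup.of_card hcard
  have hPL := le_sup_centralizer_left P
  have hCL : Subgroup.centralizer (P : Set G) ≤ P ⊔ Subgroup.centralizer (P : Set G) :=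
    le_sup_right
  have hLN := sup_centralizer_le_normalizer P
  have hNC := Helper78.normalizer_le_normalizer_centralizer P
  have hLC := hLN.trans hNC
  have hfinN : Fintype (Subgroup.normalizer (P : Set G)) := Fintype.ofFinite _
  have hsupp : ∀ E : Set (IrrCharacter ↥(P ⊔ Subgroup.centralizer (P : Set G))), IsPBlock M E →
      ∀ t : ↥(P ⊔ Subgroup.centralizer (P : Set G)),
        (t : G) ∉ Subgroup.centralizer (P : Set G) → blockCoeff E t = 0 :=
    fun E hE t ht => blockCoeff_eq_zero_of_not_mem_centralizer_sub hM P _ hP hPL hLN hE t ht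
  have hstab : ∀ e : Set (IrrCharacter (Subgroup.centralizer (P : Set G))), IsPBlock M e →
      ∀ t ∈ P ⊔ Subgroup.centralizer (P : Set G),
        StabilizesBlock (Subgroup.centralizer (P : Set G)) e t :=
    fun e _ t ht => stabilizesBlock_of_mem_sup P e t ht
  obtain ⟨e, he, hbe⟩ := exists_block_eq_extFun _ _ hCL hstab hsupp b hind.1
  obtain ⟨e', he', hbe'⟩ := exists_block_eq_extFun _ _ hCL hstab hsupp b' hind'.1
  have hPe : IsBrauerPairOf p M B P e :=
    isBrauerPairOf_of_isInducedBlock hM P _ hP hPL hCL hLN hLC B e he (hstab e he) b hind.1 hbe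
      hind
  have hPe' : IsBrauerPairOf p M B P e' :=
    isBrauerPairOf_of_isInducedBlock hM P _ hP hPL hCL hLN hLC B e' he' (hstab e' he') b' hind'.1
      hbe' hind'
  obtain ⟨n, hn⟩ := exists_conjSet_eq hM B P e e' hPe hPe' hcard
  -- conjugation by `n⁻¹` on `L`
  have hconjL : ∀ (m : G), m ∈ Subgroup.normalizer (P : Set G) →
      ∀ k ∈ P ⊔ Subgroup.centralizer (P : Set G),
        m * k * m⁻¹ ∈ P ⊔ Subgroup.centralizer (P : Set G) := by
    intro m hm k hk
    have hle' : P ⊔ Subgroup.centralizer (P : Set G) ≤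
        (P ⊔ Subgroup.centralizer (P : Set G)).comap (MulAut.conj m).toMonoidHom := by
      refine sup_le ?_ ?_
      · intro u hu
        rw [Subgroup.mem_comap]
        exact hPL ((Subgroup.mem_normalizer_iff.mp hm u).mp hu)
      · intro u hu
        rw [Subgroup.mem_comap]
        exact hCL ((Subgroup.mem_normalizer_iff.mp (hNC hm) u).mp hu)
    exact hle' hk
  have h1 : ∀ k ∈ P ⊔ Subgroup.centralizer (P : Set G),
      (n : G)⁻¹ * k * (n : G)⁻¹⁻¹ ∈ P ⊔ Subgroup.centralizer (P : Set G) :=
    fun k hk => hconjL _ (Subgroup.inv_mem _ n.2) k hk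
  have h2 : ∀ k ∈ P ⊔ Subgroup.centralizer (P : Set G),
      (n : G)⁻¹⁻¹ * k * (n : G)⁻¹ ∈ P ⊔ Subgroup.centralizer (P : Set G) := by
    intro k hk
    have := hconjL _ n.2 k hk
    rwa [inv_inv]
  let σ : ↥(P ⊔ Subgroup.centralizer (P : Set G)) ≃* ↥(P ⊔ Subgroup.centralizer (P : Set G)) :=
    Helper78.conjEquiv (n : G)⁻¹ h1 h2
  have hb'' : IsPBlock M (Helper78.irrMap σ '' b) := isPBlock_image_irrMap σ hind.1
  have hcoef : ∀ t, blockCoeff (Helper78.irrMap σ '' b) t = blockCoeff b' t := by
    intro t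
    rw [blockCoeff_image_irrMap', hbe, hbe', ← hn, extFun_blockCoeff_conjSet]
    congr 1
    show (n : G)⁻¹ * ((n : G)⁻¹⁻¹ * (t : G) * (n : G)⁻¹) * (n : G) = (t : G)
    group
  have hbb : Helper78.irrMap σ '' b = b' := isPBlock_eq_of_blockCoeff_eq hb'' hind'.1 hcoef
  refine ⟨(n : G), n.2, fun θ hθ => ⟨Helper78.irrMap σ θ, ?_, ?_⟩⟩
  · rw [← hbb]
    exact Set.mem_image_of_mem _ hθ
  · intro x hx
    rw [Helper78.irrMap_apply]
    have hxx : σ.symm x = ⟨(n : G) * (x : G) * (n : G)⁻¹, hx⟩ := by
      apply Subtype.ext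
      show (n : G)⁻¹⁻¹ * (x : G) * (n : G)⁻¹ = n * x * (n : G)⁻¹
      rw [inv_inv]
    rw [hxx]

end Main

end Cfsg.Agent.Helper77
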