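import Cfsg.Agent.Helper77.CoverRel
import Cfsg.Agent.Helper78.InducedDefect
import Cfsg.Agent.S0912
import Cfsg.Agent.S0920

/-!
# Maximal Brauer pairs and defect groups

(helper77, file 22.)
-/

set_option autoImplicit false
set_option linter.unusedSectionVars false

namespace Cfsg.Agent.Helper77

open Cfsg
open Cfsg.Agent.Helper16 (omega conv classInd deltaOne)

variable {G : Type*} [Group G] [Fintype G] {M : Ideal AlgInt} {p : ℕ}

/-- Block idempotents of a subgroup `H` with `P ≤ H ≤ N_G(P)` are supported on `C_G(P)`. -/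
theorem blockCoeff_eq_zero_of_not_mem_centralizer_sub (hM : IsPModular p M) (P H : Subgroup G)
    (hP : IsPGroup p P) (hPH : P ≤ H) (hHN : H ≤ Subgroup.normalizer (P : Set G))
    {E : Set (IrrCharacter H)} (hE : IsPBlock M E) (t : H)
    (ht : (t : G) ∉ Subgroup.centralizer (P : Set G)) : blockCoeff E t = 0 := by
  classical
  have hfin : Fintype H := Fintype.ofFinite _
  have hn : (P.subgroupOf H).Normal := (Subgroup.normal_subgroupOf_iff_le_normalizer hPH).mpr hHN
  have hP' : IsPGroup p (P.subgroupOf H) := hP.comap_subtype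
  refine blockCoeff_eq_zero_of_not_mem_centralizer hM (P.subgroupOf H) hP' hE t ?_
  intro h
  exact ht ((Helper78.mem_centralizer_subgroupOf_iff hPH t).mp h)

/-- Idempotency modulo the local ideal of the truncation of a `D`-stable block idempotent. -/
theorem resFun_conv_sub_memLocalIdeal [Fact p.Prime] (hM : IsPModular p M) (D : Subgroup G)
    (hD : IsPGroup p D) [Fintype (Subgroup.centralizer (D : Set G))] (β : G → ℂ)
    (hβR : ∀ x, MemLocalRing M (β x)) (hβD : InvUnder (D : Set G) β) (hββ : conv β β = β)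
    (c : Subgroup.centralizer (D : Set G)) :
    MemLocalIdeal M (conv (resFun (Subgroup.centralizer (D : Set G)) β)
      (resFun (Subgroup.centralizer (D : Set G)) β) c -
        resFun (Subgroup.centralizer (D : Set G)) β c) := by
  have hMp : M.IsPrime := isPrime_of_isPModular hM
  have h := conv_sub_conv_res_memLocalIdeal hM D hD _ rfl β β hβR hβR hβD hβD c
  rw [hββ] at h
  have := Helper16.memLocalIdeal_neg h
  rw [neg_sub] at this
  exact this

/-- **From a defect group of the covering block to a normal inclusion of Brauer pairs.** -/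
theorem exists_normalSubpair_of_defectGroup [Fact p.Prime] (hM : IsPModular p M)
    (P H : Subgroup G) [Fintype H] (hP : IsPGroup p P) (hPH : P ≤ H)
    (hHN : H ≤ Subgroup.normalizer (P : Set G))
    (hHC : H ≤ Subgroup.normalizer ((Subgroup.centralizer (P : Set G) : Subgroup G) : Set G))
    (e : Set (IrrCharacter (Subgroup.centralizer (P : Set G)))) (he : IsPBlock M e)
    (E : Set (IrrCharacter H)) (hE : IsPBlock M E)
    (hEe : ∀ t : H, blockCoeff E t =
      orbitSum H (Subgroup.centralizer (P : Set G)) hHC e (t : G))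
    (DH : Subgroup H) (hDH : IsDefectGroup p M E DH) :
    ∃ D' : Subgroup G, Nat.card D' = Nat.card DH ∧
      ∃ g : Set (IrrCharacter (Subgroup.centralizer (D' : Set G))),
        IsNormalSubpair p M P e D' g := by
  classical
  have hMp : M.IsPrime := isPrime_of_isPModular hM
  have hfinC : Fintype (Subgroup.centralizer (P : Set G)) := Fintype.ofFinite _
  -- `P ≤ D_H`
  have hn : (P.subgroupOf H).Normal := (Subgroup.normal_subgroupOf_iff_le_normalizer hPH).mpr hHN
  have hP' : IsPGroup p (P.subgroupOf H) := hP.comap_subtype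
  have hPDH : P.subgroupOf H ≤ DH :=
    (Cfsg.Agent.Lib.le_pCore hn hP').trans (Cfsg.Agent.S0912.result p M hM E hE DH hDH)
  obtain ⟨n₀, ⟨hn₀R, hn₀I, _⟩, hDHle, hDHcard⟩ := (Helper16.isDefectGroup_iff p E DH).mp hDH
  have hDHp : IsPGroup p DH := IsPGroup.of_card hDHcard
  -- the action of `D_H` on sets of characters of `C_G(P)`
  let act0 : MulAction (MulAut (Subgroup.centralizer (P : Set G)))
    (IrrCharacter (Subgroup.centralizer (P : Set G))) := irrAutAction _
  let act1 : MulAction DH (IrrCharacter (Subgroup.centralizer (P : Set G))) :=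
    MulAction.compHom _ ((conjHom (Subgroup.centralizer (P : Set G)) H hHC).comp DH.subtype)
  let act2 : MulAction DH (Set (IrrCharacter (Subgroup.centralizer (P : Set G)))) :=
    Set.mulActionSet
  have hsmul : ∀ (d : DH) (S : Set (IrrCharacter (Subgroup.centralizer (P : Set G)))),
      d • S = conjSet H (Subgroup.centralizer (P : Set G)) hHC (d : H) S := fun d S => rfl
  let 𝒪 := orbitFinset H (Subgroup.centralizer (P : Set G)) hHC e
  let v : Set (IrrCharacter (Subgroup.centralizer (P : Set G))) → ℂ := fun b =>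
    if b ∈ 𝒪 then extFun (Subgroup.centralizer (P : Set G)) (blockCoeff b) ((n₀ : H) : G) else 0
  have hvR : ∀ b, MemLocalRing M (v b) := by
    intro b
    simp only [v]
    split_ifs with hb
    · exact extFun_memLocalRing _
        (blockCoeff_memLocalRing (isPBlock_of_mem_orbitFinset H _ hHC he hb)) _
    · exact Helper16.memLocalRing_zero
  have hmem_iff : ∀ (d : DH) (b : Set (IrrCharacter (Subgroup.centralizer (P : Set G)))),
      d • b ∈ 𝒪 ↔ b ∈ 𝒪 := by
    intro d b
    rw [hsmul]
    constructor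
    · intro h
      have := conjSet_mem_orbitFinset H _ hHC e (d : H)⁻¹ h
      rwa [← conjSet_mul, inv_mul_cancel, conjSet_one] at this
    · exact fun h => conjSet_mem_orbitFinset H _ hHC e (d : H) h
  have hinv : ∀ (d : DH) (b : Set (IrrCharacter (Subgroup.centralizer (P : Set G)))),
      v (d • b) = v b := by
    intro d b
    simp only [v]
    by_cases hb : b ∈ 𝒪
    · rw [if_pos hb, if_pos ((hmem_iff d b).mpr hb), hsmul, extFun_blockCoeff_conjSet]
      congr 1
      have hd := hDHle d.2
      rw [Subgroup.mem_centralizer_singleton_iff] at hd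
      have hd' : ((d : H) : G) * ((n₀ : H) : G) = ((n₀ : H) : G) * ((d : H) : G) :=
        congrArg Subtype.val hd
      rw [mul_assoc, ← hd', inv_mul_cancel_left]
    · rw [if_neg hb, if_neg (fun h => hb ((hmem_iff d b).mp h))]
  have hsum : ∑ b, v b = blockCoeff E n₀ := by
    simp only [v]
    rw [← Finset.sum_filter, Finset.filter_mem_eq_inter, Finset.univ_inter, hEe n₀,
      orbitSum_apply]
  obtain ⟨b, hbfix, hbnot⟩ := Helper16.exists_fixed_of_sum_not_memLocalIdeal (M := M) hM.2.2
    (Γ := DH) hDHp v hvR hinv (by rw [hsum]; exact hn₀I)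
  have hb𝒪 : b ∈ 𝒪 := by
    by_contra hb
    apply hbnot
    simp only [v]
    rw [if_neg hb]
    exact Helper16.memLocalIdeal_zero
  have hbval : ¬ MemLocalIdeal M
      (extFun (Subgroup.centralizer (P : Set G)) (blockCoeff b) ((n₀ : H) : G)) := by
    intro h
    apply hbnot
    simp only [v]
    rw [if_pos hb𝒪]
    exact h
  obtain ⟨x, rfl⟩ := (mem_orbitFinset H _ hHC e b).mp hb𝒪
  -- the conjugate defect group
  let D' : Subgroup G := (DH.map H.subtype).map (MulAut.conj ((x : G)⁻¹)).toMonoidHom
  have hD'card : Nat.card D' = Nat.card DH := by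
    simp only [D']
    rw [Subgroup.card_map_of_injective (MulAut.conj ((x : G)⁻¹)).injective,
      Subgroup.card_map_of_injective H.subtype_injective]
  have hD'p : IsPGroup p D' := IsPGroup.of_card (hD'card.trans hDHcard)
  have hD'mem : ∀ y : G, y ∈ D' ↔ ∃ d : DH, y = (x : G)⁻¹ * ((d : H) : G) * (x : G) := by
    intro y
    simp only [D']
    constructor
    · rintro ⟨_, ⟨d, hd, rfl⟩, rfl⟩
      exact ⟨⟨d, hd⟩, by simp⟩
    · rintro ⟨d, rfl⟩
      exact ⟨((d : H) : G), ⟨(d : H), d.2, rfl⟩, by simp⟩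
  have hD'H : D' ≤ H := by
    intro y hy
    obtain ⟨d, rfl⟩ := (hD'mem y).mp hy
    exact H.mul_mem (H.mul_mem (H.inv_mem x.2) (d : H).2) x.2
  have hPD' : P ≤ D' := by
    intro u hu
    rw [hD'mem]
    have hxu : (x : G) * u * (x : G)⁻¹ ∈ P := (Subgroup.mem_normalizer_iff.mp (hHN x.2) u).mp hu
    have hmem : (⟨(x : G) * u * (x : G)⁻¹, hPH hxu⟩ : H) ∈ DH :=
      hPDH (Subgroup.mem_subgroupOf.mpr hxu)
    refine ⟨⟨_, hmem⟩, ?_⟩
    show u = (x : G)⁻¹ * ((x : G) * u * (x : G)⁻¹) * (x : G)
    group
  -- `e` is `D'`-stable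
  have hstab : ∀ y ∈ D', StabilizesBlock (Subgroup.centralizer (P : Set G)) e y := by
    intro y hy
    obtain ⟨d, rfl⟩ := (hD'mem y).mp hy
    let u : H := x⁻¹ * (d : H) * x
    have hu : (u : G) = (x : G)⁻¹ * ((d : H) : G) * (x : G) := rfl
    rw [← hu, stabilizesBlock_iff_image_eq _ H hHC e u]
    show conjSet H _ hHC u e = e
    have hd := hbfix d
    rw [hsmul] at hd
    simp only [u]
    rw [conjSet_mul, conjSet_mul, hd, ← conjSet_mul, inv_mul_cancel, conjSet_one]
  -- the value at the conjugate of `n₀`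
  let n₀' : G := (x : G)⁻¹ * ((n₀ : H) : G) * (x : G)
  have hn₀'val : ¬ MemLocalIdeal M
      (extFun (Subgroup.centralizer (P : Set G)) (blockCoeff e) n₀') := by
    rw [extFun_blockCoeff_conjSet] at hbval
    exact hbval
  have hn₀'D' : n₀' ∈ Subgroup.centralizer (D' : Set G) := by
    rw [Subgroup.mem_centralizer_iff]
    intro y hy
    obtain ⟨d, rfl⟩ := (hD'mem y).mp hy
    have hd := hDHle d.2
    rw [Subgroup.mem_centralizer_singleton_iff] at hd
    have hd' : ((d : H) : G) * ((n₀ : H) : G) = ((n₀ : H) : G) * ((d : H) : G) :=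
      congrArg Subtype.val hd
    simp only [n₀']
    calc (x : G)⁻¹ * ((d : H) : G) * (x : G) * ((x : G)⁻¹ * ((n₀ : H) : G) * (x : G))
        = (x : G)⁻¹ * (((d : H) : G) * ((n₀ : H) : G)) * (x : G) := by group
      _ = (x : G)⁻¹ * (((n₀ : H) : G) * ((d : H) : G)) * (x : G) := by rw [hd']
      _ = _ := by group
  -- the Brauer value
  have hfinD' : Fintype (Subgroup.centralizer (D' : Set G)) := Fintype.ofFinite _
  let F : G → ℂ := extFun (Subgroup.centralizer (P : Set G)) (blockCoeff e)
  have hFR : ∀ g, MemLocalRing M (F g) := extFun_memLocalRing _ (blockCoeff_memLocalRing he)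
  have hFD' : InvUnder (D' : Set G) F := invUnder_extFun_blockCoeff_of_stabilizes _ D' e hstab
  have hCD'C : Subgroup.centralizer (D' : Set G) ≤ Subgroup.centralizer (P : Set G) :=
    Subgroup.centralizer_le hPD'
  have hFC : InvUnder (Subgroup.centralizer (D' : Set G) : Set G) F :=
    (invUnder_extFun_of_isClassFunction _ (blockCoeff_isClassFunction he)).le hCD'C
  have hFF : conv F F = F := by
    simp only [F]
    rw [extFun_conv, blockCoeff_conv_self he]
  let t₀ : Subgroup.centralizer (D' : Set G) → ℂ := resFun (Subgroup.centralizer (D' : Set G)) F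
  have ht₀ZS : Helper78.IsZS M t₀ := ⟨isClassFunction_resFun hFC, fun c => hFR _⟩
  have ht₀idem : Helper78.JValued M (conv t₀ t₀ - t₀) :=
    fun c => resFun_conv_sub_memLocalIdeal hM D' hD'p F hFR hFD' hFF c
  obtain ⟨γ, hγ⟩ : ∃ γ : IrrCharacter (Subgroup.centralizer (D' : Set G)),
      ¬ MemLocalIdeal M (omega (γ : Subgroup.centralizer (D' : Set G) → ℂ) t₀) := by
    by_contra hcon0
    have hcon : ∀ γ : IrrCharacter (Subgroup.centralizer (D' : Set G)),
        MemLocalIdeal M (omega (γ : Subgroup.centralizer (D' : Set G) → ℂ) t₀) :=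
      fun γ => by_contra (fun h => hcon0 ⟨γ, h⟩)
    exact hn₀'val (ht₀ZS.jValued_of_idem ht₀idem hcon ⟨n₀', hn₀'D'⟩)
  -- the value is congruent to `1`
  have hval1 : MemLocalIdeal M
      (brauerOmega D' F (γ : Subgroup.centralizer (D' : Set G) → ℂ) - 1) := by
    have h1 := brauerOmega_conv_sub_memLocalIdeal hM D' hD'p F F hFR hFR hFD' hFD' hFC hFC γ
    rw [hFF] at h1
    have hR := brauerOmega_memLocalRing D' F hFR hFC γ
    have h2 : MemLocalIdeal M
        (brauerOmega D' F (γ : Subgroup.centralizer (D' : Set G) → ℂ) *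
          (1 - brauerOmega D' F (γ : Subgroup.centralizer (D' : Set G) → ℂ))) := by
      rw [mul_sub, mul_one]
      exact h1
    rcases memLocalIdeal_or_of_mul M hR
      (Helper16.memLocalRing_sub Helper16.memLocalRing_one hR) h2 with h3 | h3
    · exfalso
      apply hγ
      rw [← brauerOmega_eq_omega]
      exact h3
    · have := Helper16.memLocalIdeal_neg h3
      rwa [neg_sub] at this
  refine ⟨D', hD'card, blockOf M (γ : Subgroup.centralizer (D' : Set G) → ℂ),
    ⟨hP, he⟩, ⟨hD'p, ⟨γ, rfl⟩⟩, hPD', hD'H.trans hHN, hstab, fun γ' hγ' => ?_⟩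
  have h1 := brauerOmega_sub_memLocalIdeal_of_sameBlock (M := M) D' F hFR hFC
    (Helper16.sameBlock_symm (show SameBlock M (γ : Subgroup.centralizer (D' : Set G) → ℂ)
      (γ' : Subgroup.centralizer (D' : Set G) → ℂ) from hγ'))
  have h2 := Helper16.memLocalIdeal_add h1 hval1
  rwa [sub_add_sub_cancel] at h2

/-- **Radical lemma for a subgroup**: a central element of the local group ring of `H` which is
the extension of a central element of the local group ring of `C ≤ H` with all central character
values in the local ideal has all its central character values in the local ideal. -/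
theorem omega_memLocalIdeal_of_extFun_eq [M.IsPrime] (H C : Subgroup G) [Fintype H] [Fintype C]
    {dH : H → ℂ} (hdHcl : IsClassFunction H dH) (hdHR : ∀ h, MemLocalRing M (dH h))
    {d₀ : C → ℂ} (hd₀cl : IsClassFunction C d₀) (hd₀R : ∀ c, MemLocalRing M (d₀ c))
    (hd₀I : ∀ θ : IrrCharacter C, MemLocalIdeal M (omega (θ : C → ℂ) d₀))
    (hext : extFun H dH = extFun C d₀) (ξ : IrrCharacter H) :
    MemLocalIdeal M (omega (ξ : H → ℂ) dH) := by
  have hMp : M.IsPrime := inferInstance
  obtain ⟨k, hk⟩ := exists_convPow_memLocalIdeal hd₀cl hd₀R hd₀I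
  have hk1 : ∀ c, MemLocalIdeal M (convPow d₀ (k + 1) c) := by
    intro c
    rw [convPow_succ]
    exact memLocalIdeal_conv_left hk hd₀R c
  have hJ : ∀ h, MemLocalIdeal M (convPow dH (k + 1) h) := by
    intro h
    have h1 : extFun H (convPow dH (k + 1)) = extFun C (convPow d₀ (k + 1)) := by
      rw [← extFun_convPow H dH (k + 1) (Nat.succ_pos k), hext,
        extFun_convPow C d₀ (k + 1) (Nat.succ_pos k)]
    have h2 := congrFun h1 (h : G)
    rw [extFun_coe] at h2
    rw [h2]
    exact extFun_memLocalIdeal C hk1 _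
  have h3 := omega_memLocalIdeal ξ (isClassFunction_convPow hdHcl (k + 1)) hJ
  rw [omega_convPow ξ hdHcl] at h3
  exact memLocalIdeal_of_pow M (Helper16.omega_memLocalRing ξ hdHcl hdHR) h3

theorem isInducedBlock_unique [M.IsPrime] (H : Subgroup G) {b : Set (IrrCharacter H)}
    {B B' : Set (IrrCharacter G)} (h : IsInducedBlock M H b B) (h' : IsInducedBlock M H b B') :
    B = B' := by
  have hMp : M.IsPrime := inferInstance
  obtain ⟨hb, hB, hind⟩ := h
  obtain ⟨_, hB', hind'⟩ := h'
  obtain ⟨ξ, hξ⟩ := Helper78.isPBlock_nonempty hMp hb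
  obtain ⟨χ, hχ⟩ := Helper78.isPBlock_nonempty hMp hB
  obtain ⟨χ', hχ'⟩ := Helper78.isPBlock_nonempty hMp hB'
  have hsame : SameBlock M (χ : G → ℂ) (χ' : G → ℂ) := by
    intro g
    have h1 := hind ξ hξ χ hχ g
    have h2 := hind' ξ hξ χ' hχ' g
    have := Helper16.memLocalIdeal_sub h2 h1
    rwa [sub_sub_sub_cancel_left] at this
  have h1 : B = blockOf M (χ : G → ℂ) := Helper78.isPBlock_eq_blockOf_of_mem hMp hB hχ
  have hχ'B : χ' ∈ B := by
    rw [h1]
    exact hsame
  exact Helper78.isPBlock_eq_of_mem_of_mem hMp hB hB' hχ'B hχ'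

/-- **The covering block of a Brauer pair of `B` induces `B`.** -/
theorem isInducedBlock_of_covering [Fact p.Prime] (hM : IsPModular p M)
    (P H : Subgroup G) [Fintype H] (hP : IsPGroup p P) (hPH : P ≤ H)
    (hCH : Subgroup.centralizer (P : Set G) ≤ H) (hHN : H ≤ Subgroup.normalizer (P : Set G))
    (hHC : H ≤ Subgroup.normalizer ((Subgroup.centralizer (P : Set G) : Subgroup G) : Set G))
    (B : Set (IrrCharacter G))
    (e : Set (IrrCharacter (Subgroup.centralizer (P : Set G))))
    (hBe : IsBrauerPairOf p M B P e)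
    (E : Set (IrrCharacter H)) (hE : IsPBlock M E)
    (hEe : ∀ t : H, blockCoeff E t =
      orbitSum H (Subgroup.centralizer (P : Set G)) hHC e (t : G)) :
    IsInducedBlock M H E B := by
  classical
  have hMp : M.IsPrime := isPrime_of_isPModular hM
  have hfinC : Fintype (Subgroup.centralizer (P : Set G)) := Fintype.ofFinite _
  obtain ⟨⟨_, he⟩, hB, hbr⟩ := hBe
  obtain ⟨ξ, hξ⟩ := Helper78.isPBlock_nonempty hMp hE
  have hBcl := blockCoeff_isClassFunction hB
  have hBR := blockCoeff_memLocalRing hB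
  have hBZS : Helper78.IsZS M (blockCoeff B) := ⟨hBcl, hBR⟩
  have hΛ := Helper78.isModHom_brauer hM hP hCH hHN ξ
  obtain ⟨χ', hχ'⟩ := hΛ.exists_irr
  -- the key congruence `ω_ξ(Br_P(e_B)) ≡ 1`
  let s : G → ℂ := orbitSum H (Subgroup.centralizer (P : Set G)) hHC e
  let z : H → ℂ := Helper78.brRes P H (blockCoeff B)
  have hzZS : Helper78.IsZS M z := Helper78.isZS_brRes hHN hBZS
  have hEcl := blockCoeff_isClassFunction hE
  have hER := blockCoeff_memLocalRing hE
  let z₀ : Subgroup.centralizer (P : Set G) → ℂ :=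
    resFun (Subgroup.centralizer (P : Set G)) (blockCoeff B)
  let σ₀ : Subgroup.centralizer (P : Set G) → ℂ := resFun (Subgroup.centralizer (P : Set G)) s
  have hsH : InvUnder (H : Set G) s := invUnder_orbitSum H _ hHC e
  have hsR : ∀ g, MemLocalRing M (s g) := orbitSum_memLocalRing H _ hHC he
  have hsσ₀ : extFun (Subgroup.centralizer (P : Set G)) σ₀ = s :=
    extFun_resFun_of_support _ s (fun g hg => orbitSum_of_not_mem H _ hHC e hg)
  have hσ₀cl : IsClassFunction (Subgroup.centralizer (P : Set G)) σ₀ :=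
    isClassFunction_resFun (hsH.le hCH)
  have hσ₀R : ∀ c, MemLocalRing M (σ₀ c) := fun c => hsR _
  have hz₀cl : IsClassFunction (Subgroup.centralizer (P : Set G)) z₀ :=
    isClassFunction_resFun (invUnder_of_isClassFunction hBcl _)
  have hz₀R : ∀ c, MemLocalRing M (z₀ c) := fun c => hBR _
  have hzext : extFun H z = extFun (Subgroup.centralizer (P : Set G)) z₀ := by
    funext g
    by_cases hgC : g ∈ Subgroup.centralizer (P : Set G)
    · rw [extFun_of_mem _ _ hgC, extFun_of_mem H _ (hCH hgC)]
      exact Helper78.brRes_of_mem P H _ hgC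
    · rw [extFun_of_not_mem _ _ hgC]
      by_cases hgH : g ∈ H
      · rw [extFun_of_mem H _ hgH]
        exact Helper78.brRes_of_not_mem P H _ hgC
      · exact extFun_of_not_mem H _ hgH
  have hEext : extFun H (blockCoeff E) = s := by
    funext g
    by_cases hgH : g ∈ H
    · rw [extFun_of_mem H _ hgH]
      exact hEe ⟨g, hgH⟩
    · rw [extFun_of_not_mem H _ hgH]
      exact (orbitSum_of_not_mem H _ hHC e (fun h => hgH (hCH h))).symm
  let dH : H → ℂ := conv z (blockCoeff E) - blockCoeff E
  let d₀ : Subgroup.centralizer (P : Set G) → ℂ := conv z₀ σ₀ - σ₀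
  have hdHcl : IsClassFunction H dH :=
    Helper16.isClassFunction_sub (Helper16.isClassFunction_conv hzZS.1 hEcl) hEcl
  have hdHR : ∀ h, MemLocalRing M (dH h) := fun h =>
    Helper16.memLocalRing_sub (memLocalRing_conv hzZS.2 hER h) (hER h)
  have hd₀cl : IsClassFunction (Subgroup.centralizer (P : Set G)) d₀ :=
    Helper16.isClassFunction_sub (Helper16.isClassFunction_conv hz₀cl hσ₀cl) hσ₀cl
  have hd₀R : ∀ c, MemLocalRing M (d₀ c) := fun c =>
    Helper16.memLocalRing_sub (memLocalRing_conv hz₀R hσ₀R c) (hσ₀R c)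
  have hext : extFun H dH = extFun (Subgroup.centralizer (P : Set G)) d₀ := by
    simp only [dH, d₀]
    rw [extFun_sub, extFun_sub, ← extFun_conv, ← extFun_conv, hzext, hEext, hsσ₀]
  have hd₀I : ∀ θ : IrrCharacter (Subgroup.centralizer (P : Set G)),
      MemLocalIdeal M (omega (θ : Subgroup.centralizer (P : Set G) → ℂ) d₀) := by
    intro θ
    simp only [d₀]
    rw [Helper16.omega_sub, Helper16.irr_omega_conv θ hz₀cl hσ₀cl]
    by_cases hθ : omega (θ : Subgroup.centralizer (P : Set G) → ℂ) σ₀ = 0
    · rw [hθ, mul_zero, sub_zero]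
      exact Helper16.memLocalIdeal_zero
    · have h1 : omega (θ : Subgroup.centralizer (P : Set G) → ℂ) σ₀ =
          ∑ b ∈ orbitFinset H (Subgroup.centralizer (P : Set G)) hHC e,
            omega (θ : Subgroup.centralizer (P : Set G) → ℂ) (blockCoeff b) := by
        have : σ₀ = ∑ b ∈ orbitFinset H (Subgroup.centralizer (P : Set G)) hHC e,
            blockCoeff b := by
          funext c
          show orbitSum H (Subgroup.centralizer (P : Set G)) hHC e (c : G) = _
          rw [orbitSum_apply, Finset.sum_apply]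
          exact Finset.sum_congr rfl (fun b _ => extFun_coe _ _ c)
        rw [this, Helper16.omega_sum]
      have hθ' := hθ
      rw [h1] at hθ'
      obtain ⟨b, hb, hbne⟩ := Finset.exists_ne_zero_of_sum_ne_zero hθ'
      rw [omega_blockCoeff (isPBlock_of_mem_orbitFinset H _ hHC he hb) θ] at hbne
      have hθb : θ ∈ b := by
        by_contra h
        exact hbne (if_neg h)
      obtain ⟨x, rfl⟩ := (mem_orbitFinset H _ hHC e b).mp hb
      obtain ⟨θ₀, hθ₀, rfl⟩ := hθb
      have h2 : omega (Helper78.irrMap (conjHom (Subgroup.centralizer (P : Set G)) H hHC x) θ₀ :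
          Subgroup.centralizer (P : Set G) → ℂ) z₀ =
          omega (θ₀ : Subgroup.centralizer (P : Set G) → ℂ) z₀ :=
        omega_conj_of_invUnder H _ hHC x θ₀ (blockCoeff B) (invUnder_of_isClassFunction hBcl _)
      have h3 : MemLocalIdeal M (omega (θ₀ : Subgroup.centralizer (P : Set G) → ℂ) z₀ - 1) := by
        have := hbr θ₀ hθ₀
        rw [brauerOmega_eq_omega] at this
        exact this
      have h4 := Helper16.memLocalIdeal_mul_right h3
        (Helper16.omega_memLocalRing
          (Helper78.irrMap (conjHom (Subgroup.centralizer (P : Set G)) H hHC x) θ₀) hσ₀cl hσ₀R)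
      rw [h2]
      rwa [sub_mul, one_mul] at h4
  have hkey : MemLocalIdeal M (omega (ξ : H → ℂ) z - 1) := by
    have h1 := omega_memLocalIdeal_of_extFun_eq H _ hdHcl hdHR hd₀cl hd₀R hd₀I hext ξ
    simp only [dH] at h1
    rw [Helper16.omega_sub, Helper16.irr_omega_conv ξ hzZS.1 hEcl, omega_blockCoeff hE ξ,
      if_pos hξ, mul_one] at h1
    exact h1
  -- `χ'` lies in `B`
  have hχ'B : χ' ∈ B := by
    by_contra hcon
    have h1 := hχ' _ hBZS
    rw [omega_blockCoeff hB χ', if_neg hcon, sub_zero] at h1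
    have h2 := Helper16.memLocalIdeal_sub h1 hkey
    rw [sub_sub_cancel] at h2
    exact Helper16.not_memLocalIdeal_one h2
  rw [Helper78.isInducedBlock_iff_brauerCentralChar hM hP hPH hHN E hE B hB]
  intro ξ' hξ' χ hχ g
  rw [Helper78.brauerCentralChar_eq_omega]
  have hcZS : Helper78.IsZS M (Helper78.brRes P H (classInd g)) :=
    Helper78.isZS_brRes hHN (Helper78.isZS_classInd g)
  have a1 := Helper16.omega_sub_memLocalIdeal
    (Helper78.sameBlock_of_mem_of_mem hMp hE hξ' hξ) hcZS.1 hcZS.2
  have a2 := hχ' _ (Helper78.isZS_classInd (M := M) g)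
  rw [Helper16.omega_classInd _ (Helper16.irr_isClassFunction χ')] at a2
  have a3 : MemLocalIdeal M (centralChar (χ' : G → ℂ) g - centralChar (χ : G → ℂ) g) :=
    Helper78.sameBlock_of_mem_of_mem hMp hB hχ'B hχ g
  have := Helper16.memLocalIdeal_add (Helper16.memLocalIdeal_add a1 a2) a3
  rwa [sub_add_sub_cancel, sub_add_sub_cancel] at this

/-- **The subgroup of a maximal Brauer pair of `B` is a defect group of `B`.** -/
theorem isDefectGroup_of_isMaximalBrauerPair [Fact p.Prime] (hM : IsPModular p M)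
    (B : Set (IrrCharacter G)) (P : Subgroup G)
    (e : Set (IrrCharacter (Subgroup.centralizer (P : Set G))))
    (hmax : IsMaximalBrauerPair p M B P e) : IsDefectGroup p M B P := by
  classical
  have hMp : M.IsPrime := isPrime_of_isPModular hM
  obtain ⟨hBe, hmaxall⟩ := hmax
  have hBe' := hBe
  obtain ⟨⟨hP, he⟩, hB, hbr⟩ := hBe'
  have hPN : P ≤ Subgroup.normalizer (P : Set G) := Subgroup.le_normalizer
  have hCN : Subgroup.centralizer (P : Set G) ≤ Subgroup.normalizer (P : Set G) :=
    Subgroup.centralizer_le_normalizer _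
  have hNC := Helper78.normalizer_le_normalizer_centralizer P
  have hfinN : Fintype (Subgroup.normalizer (P : Set G)) := Fintype.ofFinite _
  obtain ⟨E, hE, hEe⟩ := exists_covering_block (Subgroup.normalizer (P : Set G))
    (Subgroup.centralizer (P : Set G)) hCN hNC e he
    (fun E hE t ht => blockCoeff_eq_zero_of_not_mem_centralizer_sub hM P _ hP hPN (le_refl _)
      hE t ht)
  have hind : IsInducedBlock M (Subgroup.normalizer (P : Set G)) E B :=
    isInducedBlock_of_covering hM P _ hP hPN hCN (le_refl _) hNC B e hBe E hE hEe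
  obtain ⟨ξ₀, hξ₀⟩ := Helper78.isPBlock_nonempty hMp hE
  have hEeq : E = blockOf M (ξ₀ : Subgroup.normalizer (P : Set G) → ℂ) :=
    Helper78.isPBlock_eq_blockOf_of_mem hMp hE hξ₀
  obtain ⟨DN, hDN⟩ : ∃ DN : Subgroup (Subgroup.normalizer (P : Set G)),
      IsDefectGroup p M E DN := by
    rw [hEeq]
    exact Helper16.exists_defectGroup p ξ₀
  obtain ⟨D', hcard, g, hsub⟩ := exists_normalSubpair_of_defectGroup hM P _ hP hPN (le_refl _)
    hNC e he E hE hEe DN hDN
  have hle : SubpairLE p M P e D' g := Relation.ReflTransGen.single hsub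
  have hD'g : IsBrauerPairOf p M B D' g :=
    (isBrauerPairOf_iff_of_subpairLE hM D' P g e hsub.2.1 hsub.1 hle B).mpr hBe
  have hD'P : D' = P := hmaxall D' g hD'g hle
  have hn : (P.subgroupOf (Subgroup.normalizer (P : Set G))).Normal :=
    (Subgroup.normal_subgroupOf_iff_le_normalizer hPN).mpr (le_refl _)
  have hP' : IsPGroup p (P.subgroupOf (Subgroup.normalizer (P : Set G))) := hP.comap_subtype
  have hPDN : P.subgroupOf (Subgroup.normalizer (P : Set G)) ≤ DN :=
    (Cfsg.Agent.Lib.le_pCore hn hP').trans (Cfsg.Agent.S0912.result p M hM E hE DN hDN)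
  have hDNeq : P.subgroupOf (Subgroup.normalizer (P : Set G)) = DN := by
    apply Subgroup.eq_of_le_of_card_ge hPDN
    rw [← hcard, hD'P]
    exact le_of_eq (Nat.card_congr (Subgroup.subgroupOfEquivOfLe hPN).toEquiv).symm
  rw [← hDNeq] at hDN
  obtain ⟨B'', hB'', hDB'', hind''⟩ := Cfsg.Agent.S0920.part_one p M hM P hP E hE hDN
  have : B'' = B := isInducedBlock_unique _ hind'' hind
  rw [← this]
  exact hDB''

end Cfsg.Agent.Helper77
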