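import Mathlib
import Cfsg.Prelude.Def_DegreeGraph

/-!
Helper77: groups all of whose nonlinear irreducible characters have prime degree (Isaacs-Passman);
the defining predicate, for S4466 / S4813.
-/

set_option autoImplicit false

namespace Cfsg.Agent.Helper77.PrimeDeg

open Cfsg

universe u

/-- every irreducible character of degree `≠ 1` has prime degree -/
def AllPrimeDeg (G : Type u) [Group G] : Prop :=
  ∀ χ : IrrCharacter G, charDegree (χ : G → ℂ) ≠ 1 → (charDegree (χ : G → ℂ)).Prime

end Cfsg.Agent.Helper77.PrimeDeg
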