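import Cfsg.Agent.Helper77.BrauerMap

/-!
# The partition of the irreducible characters into blocks, and Brauer pairs of blocks

(helper77, file 14.)
-/

set_option autoImplicit false
set_option linter.unusedSectionVars false

namespace Cfsg.Agent.Helper77

open Cfsg
open Cfsg.Agent.Helper16 (omega conv classInd deltaOne)

variable {G : Type*} [Group G] [Fintype G] {M : Ideal AlgInt} {p : ℕ}

open Classical in
/-- The finite set of blocks of `G`. -/
noncomputable def blocksFinset (M : Ideal AlgInt) (G : Type*) [Group G] [Fintype G] :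
    Finset (Set (IrrCharacter G)) :=
  Finset.univ.image (fun χ : IrrCharacter G => blockOf M (χ : G → ℂ))

theorem mem_blocksFinset {B : Set (IrrCharacter G)} : B ∈ blocksFinset M G ↔ IsPBlock M B := by
  classical
  unfold blocksFinset IsPBlock
  rw [Finset.mem_image]
  constructor
  · rintro ⟨χ, _, rfl⟩
    exact ⟨χ, rfl⟩
  · rintro ⟨χ, rfl⟩
    exact ⟨χ, Finset.mem_univ _, rfl⟩

open Classical in
theorem omega_blockCoeff [M.IsPrime] {B : Set (IrrCharacter G)} (hB : IsPBlock M B)
    (χ : IrrCharacter G) :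
    omega (χ : G → ℂ) (blockCoeff B) = if χ ∈ B then 1 else 0 := by
  obtain ⟨χ₀, rfl⟩ := hB
  obtain ⟨_, _, hom⟩ := Helper16.osima_strong (M := M) χ₀
  rw [hom χ]
  rfl

theorem blockCoeff_memLocalRing [M.IsPrime] {B : Set (IrrCharacter G)} (hB : IsPBlock M B)
    (g : G) : MemLocalRing M (blockCoeff B g) := Helper16.osima hB g

/-- The block idempotents sum to the identity. -/
theorem sum_blockCoeff_blocks [hMp : M.IsPrime] :
    ∑ B ∈ blocksFinset M G, blockCoeff B = (deltaOne : G → ℂ) := by
  classical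
  apply Helper16.classFunction_ext_omega
    (Helper16.isClassFunction_sum _ _ (fun B hB =>
      blockCoeff_isClassFunction (mem_blocksFinset.mp hB)))
    Helper16.isClassFunction_deltaOne
  intro χ
  rw [Helper16.omega_sum, Helper16.omega_deltaOne _ (Helper16.irr_one_ne_zero χ)]
  rw [Finset.sum_eq_single (blockOf M (χ : G → ℂ))]
  · rw [omega_blockCoeff ⟨χ, rfl⟩, if_pos (Helper78.mem_blockOf_self hMp χ)]
  · intro B hB hne
    rw [omega_blockCoeff (mem_blocksFinset.mp hB), if_neg]
    intro hχ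
    exact hne (Helper78.isPBlock_eq_blockOf_of_mem hMp (mem_blocksFinset.mp hB) hχ)
  · intro h
    exact absurd (mem_blocksFinset.mpr ⟨χ, rfl⟩) h

/-- Distinct block idempotents are orthogonal. -/
theorem blockCoeff_conv_of_ne [hMp : M.IsPrime] {B B' : Set (IrrCharacter G)}
    (hB : IsPBlock M B) (hB' : IsPBlock M B') (hne : B ≠ B') :
    conv (blockCoeff B) (blockCoeff B') = 0 := by
  classical
  apply Helper16.classFunction_ext_omega
    (Helper16.isClassFunction_conv (blockCoeff_isClassFunction hB) (blockCoeff_isClassFunction hB'))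
    Helper16.isClassFunction_zero
  intro χ
  rw [Helper16.irr_omega_conv χ (blockCoeff_isClassFunction hB) (blockCoeff_isClassFunction hB'),
    omega_blockCoeff hB, omega_blockCoeff hB', Helper16.omega_zero]
  by_cases h : χ ∈ B
  · rw [if_pos h, if_neg, mul_zero]
    intro h'
    exact hne (Helper78.isPBlock_eq_of_mem_of_mem hMp hB hB' h h')
  · rw [if_neg h, zero_mul]

/-- Orthogonal elements of the local ring summing to `1` modulo the local ideal: exactly one of
them is congruent to `1`. -/
theorem exists_unique_congr_one [hMp : M.IsPrime] {ι : Type*} (I : Finset ι) (v : ι → ℂ)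
    (hvR : ∀ i ∈ I, MemLocalRing M (v i))
    (hsum : MemLocalIdeal M (∑ i ∈ I, v i - 1))
    (horth : ∀ i ∈ I, ∀ j ∈ I, i ≠ j → MemLocalIdeal M (v i * v j)) :
    ∃ i ∈ I, MemLocalIdeal M (v i - 1) ∧ ∀ j ∈ I, MemLocalIdeal M (v j - 1) → j = i := by
  classical
  -- idempotency modulo the ideal
  have hidem : ∀ i ∈ I, MemLocalIdeal M (v i * (v i - 1)) := by
    intro i hi
    have h1 : v i * (v i - 1) = v i * (∑ j ∈ I, v j - 1) - ∑ j ∈ I.erase i, v i * v j := by
      rw [← Finset.add_sum_erase I v hi, ← Finset.mul_sum]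
      ring
    rw [h1]
    refine memLocalIdeal_sub M (memLocalIdeal_mul_left M (hvR i hi) hsum) ?_
    refine memLocalIdeal_sum M _ _ (fun j hj => ?_)
    exact horth i hi j (Finset.mem_of_mem_erase hj) (Finset.ne_of_mem_erase hj).symm
  have hor : ∀ i ∈ I, MemLocalIdeal M (v i) ∨ MemLocalIdeal M (v i - 1) := fun i hi =>
    memLocalIdeal_or_of_mul M (hvR i hi)
      (memLocalRing_sub M (hvR i hi) (localRing M).one_mem) (hidem i hi)
  have hex : ∃ i ∈ I, MemLocalIdeal M (v i - 1) := by
    by_contra hcon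
    have hcon : ∀ i ∈ I, ¬ MemLocalIdeal M (v i - 1) := fun i hi h => hcon ⟨i, hi, h⟩
    have hall : ∀ i ∈ I, MemLocalIdeal M (v i) := fun i hi =>
      (hor i hi).resolve_right (hcon i hi)
    have h1 : MemLocalIdeal M (∑ i ∈ I, v i) := memLocalIdeal_sum M _ _ hall
    have h2 := memLocalIdeal_sub M h1 hsum
    rw [sub_sub_cancel] at h2
    exact not_memLocalIdeal_one M h2
  obtain ⟨i, hi, hi1⟩ := hex
  refine ⟨i, hi, hi1, fun j hj hj1 => ?_⟩
  by_contra hne
  have h1 := horth j hj i hi hne
  have h2 : v j * v i - 1 = (v j - 1) * v i + (v i - 1) := by ring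
  have h3 : MemLocalIdeal M (v j * v i - 1) := by
    rw [h2]
    exact memLocalIdeal_add M (by rw [mul_comm]; exact memLocalIdeal_mul_left M (hvR i hi) hj1) hi1
  have h4 := memLocalIdeal_sub M h1 h3
  rw [sub_sub_cancel] at h4
  exact not_memLocalIdeal_one M h4

/-- **Every Brauer pair belongs to exactly one block.** -/
theorem existsUnique_isBrauerPairOf [Fact p.Prime] (hM : IsPModular p M) (P : Subgroup G)
    (e : Set (IrrCharacter (Subgroup.centralizer (P : Set G))))
    (hPe : IsBrauerPair p M P e) :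
    ∃! B : Set (IrrCharacter G), IsBrauerPairOf p M B P e := by
  classical
  have hMp : M.IsPrime := isPrime_of_isPModular hM
  obtain ⟨hP, he⟩ := hPe
  obtain ⟨ξ₀, hξ₀⟩ := Helper78.isPBlock_nonempty hMp he
  have hinv : ∀ B : Set (IrrCharacter G), IsPBlock M B → ∀ S : Set G, InvUnder S (blockCoeff B) :=
    fun B hB S => invUnder_of_isClassFunction (blockCoeff_isClassFunction hB) S
  let v : Set (IrrCharacter G) → ℂ := fun B =>
    brauerOmega P (blockCoeff B) (ξ₀ : Subgroup.centralizer (P : Set G) → ℂ)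
  have hvR : ∀ B ∈ blocksFinset M G, MemLocalRing M (v B) := fun B hB =>
    brauerOmega_memLocalRing P _ (blockCoeff_memLocalRing (mem_blocksFinset.mp hB))
      (hinv B (mem_blocksFinset.mp hB) _) ξ₀
  have hsum : MemLocalIdeal M (∑ B ∈ blocksFinset M G, v B - 1) := by
    simp only [v]
    rw [← brauerOmega_finset_sum, sum_blockCoeff_blocks, brauerOmega_deltaOne, sub_self]
    exact memLocalIdeal_zero M
  have horth : ∀ B ∈ blocksFinset M G, ∀ B' ∈ blocksFinset M G, B ≠ B' →
      MemLocalIdeal M (v B * v B') := by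
    intro B hB B' hB' hne
    have hB1 := mem_blocksFinset.mp hB
    have hB1' := mem_blocksFinset.mp hB'
    have h1 := brauerOmega_conv_sub_memLocalIdeal hM P hP (blockCoeff B) (blockCoeff B')
      (blockCoeff_memLocalRing hB1) (blockCoeff_memLocalRing hB1')
      (hinv B hB1 _) (hinv B' hB1' _) (hinv B hB1 _) (hinv B' hB1' _) ξ₀
    rw [blockCoeff_conv_of_ne hB1 hB1' hne] at h1
    have h0 : brauerOmega P (0 : G → ℂ) (ξ₀ : Subgroup.centralizer (P : Set G) → ℂ) = 0 := by
      have := brauerOmega_sub P (0 : G → ℂ) 0 (ξ₀ : Subgroup.centralizer (P : Set G) → ℂ)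
      rw [sub_zero, sub_self] at this
      exact this
    rw [h0, zero_sub] at h1
    have := memLocalIdeal_neg h1
    rwa [neg_neg] at this
  obtain ⟨B₀, hB₀, hB₀1, huniq⟩ := exists_unique_congr_one (blocksFinset M G) v hvR hsum horth
  have hB₀' := mem_blocksFinset.mp hB₀
  refine ⟨B₀, ⟨⟨hP, he⟩, hB₀', fun ξ hξ => ?_⟩, ?_⟩
  · have h1 := brauerOmega_sub_memLocalIdeal_of_sameBlock (M := M) P (blockCoeff B₀)
      (blockCoeff_memLocalRing hB₀') (hinv B₀ hB₀' _)
      (Helper78.sameBlock_of_mem_of_mem hMp he hξ hξ₀)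
    have h2 := memLocalIdeal_add M h1 hB₀1
    simp only [v] at h2
    rwa [sub_add_sub_cancel] at h2
  · rintro B' ⟨_, hB', hB'1⟩
    exact huniq B' (mem_blocksFinset.mpr hB') (hB'1 ξ₀ hξ₀)

end Cfsg.Agent.Helper77
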