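import Cfsg.Agent.Helper77.ConvPow
import Cfsg.Agent.Helper78.PrincipalPair

/-!
# Functions on a subgroup extended by zero

(helper77, file 16.)
-/

set_option autoImplicit false
set_option linter.unusedSectionVars false

namespace Cfsg.Agent.Helper77

open Cfsg
open Cfsg.Agent.Helper16 (omega conv classInd deltaOne)

variable {G : Type*} [Group G] [Fintype G] {M : Ideal AlgInt} {p : ℕ}

/-- Extension by zero of a function on a subgroup. -/
noncomputable def extFun (H : Subgroup G) (s : H → ℂ) : G → ℂ :=
  fun g => by classical exact if h : g ∈ H then s ⟨g, h⟩ else 0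

theorem extFun_of_mem (H : Subgroup G) (s : H → ℂ) {g : G} (h : g ∈ H) :
    extFun H s g = s ⟨g, h⟩ := by
  unfold extFun
  exact dif_pos h

theorem extFun_of_not_mem (H : Subgroup G) (s : H → ℂ) {g : G} (h : g ∉ H) :
    extFun H s g = 0 := by
  unfold extFun
  exact dif_neg h

theorem extFun_coe (H : Subgroup G) (s : H → ℂ) (h : H) : extFun H s (h : G) = s h := by
  rw [extFun_of_mem H s h.2]

theorem subgroupBlockCoeff_eq_extFun (H : Subgroup G) (e : Set (IrrCharacter H)) :
    subgroupBlockCoeff H e = extFun H (blockCoeff e) := rfl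

theorem resFun_extFun (H : Subgroup G) (s : H → ℂ) : resFun H (extFun H s) = s := by
  funext h
  exact extFun_coe H s h

theorem extFun_memLocalRing [M.IsPrime] (H : Subgroup G) {s : H → ℂ}
    (hs : ∀ h, MemLocalRing M (s h)) (g : G) : MemLocalRing M (extFun H s g) := by
  by_cases h : g ∈ H
  · rw [extFun_of_mem H s h]; exact hs _
  · rw [extFun_of_not_mem H s h]; exact Helper16.memLocalRing_zero

theorem extFun_memLocalIdeal [M.IsPrime] (H : Subgroup G) {s : H → ℂ}
    (hs : ∀ h, MemLocalIdeal M (s h)) (g : G) : MemLocalIdeal M (extFun H s g) := by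
  by_cases h : g ∈ H
  · rw [extFun_of_mem H s h]; exact hs _
  · rw [extFun_of_not_mem H s h]; exact Helper16.memLocalIdeal_zero

/-- Convolution of extensions by zero. -/
theorem extFun_conv (H : Subgroup G) [Fintype H] (s t : H → ℂ) :
    conv (extFun H s) (extFun H t) = extFun H (conv s t) := by
  classical
  funext g
  rw [Helper16.conv_apply]
  by_cases hg : g ∈ H
  · rw [extFun_of_mem H _ hg]
    have h1 : ∀ x : G, x ∉ H → extFun H s x * extFun H t (x⁻¹ * g) = 0 := by
      intro x hx
      rw [extFun_of_not_mem H s hx, zero_mul]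
    have h2 : conv s t ⟨g, hg⟩ =
        conv (resFun H (extFun H s)) (resFun H (extFun H t)) ⟨g, hg⟩ := by
      rw [resFun_extFun, resFun_extFun]
    rw [h2, resFun_conv_res]
    rw [← Finset.sum_subtype (Finset.univ.filter (fun x => x ∈ H)) (p := fun x => x ∈ H)
      (by intro x; simp) (fun x => extFun H s x * extFun H t (x⁻¹ * g))]
    rw [Finset.sum_filter]
    refine Finset.sum_congr rfl (fun x _ => ?_)
    by_cases hx : x ∈ H
    · rw [if_pos hx]
    · rw [if_neg hx, h1 x hx]
  · rw [extFun_of_not_mem H _ hg]
    refine Finset.sum_eq_zero (fun x _ => ?_)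
    by_cases hx : x ∈ H
    · have : x⁻¹ * g ∉ H := by
        intro h
        apply hg
        have := H.mul_mem hx h
        rwa [mul_inv_cancel_left] at this
      rw [extFun_of_not_mem H t this, mul_zero]
    · rw [extFun_of_not_mem H s hx, zero_mul]

theorem extFun_convPow (H : Subgroup G) [Fintype H] (s : H → ℂ) (n : ℕ) (hn : 0 < n) :
    convPow (extFun H s) n = extFun H (convPow s n) := by
  induction n with
  | zero => exact absurd hn (lt_irrefl 0)
  | succ n ih =>
    rcases Nat.eq_zero_or_pos n with h0 | hpos
    · subst h0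
      rw [convPow_succ, convPow_succ, convPow_zero, convPow_zero]
      -- `δ * x = x`
      have h1 : ∀ (K : Type _) [Group K] [Fintype K] (u : K → ℂ), conv (deltaOne : K → ℂ) u = u := by
        intro K _ _ u
        classical
        funext k
        rw [Helper16.conv_apply, Finset.sum_eq_single (1 : K)]
        · unfold deltaOne
          simp
        · intro x _ hx
          unfold deltaOne
          simp [hx]
        · intro h
          exact absurd (Finset.mem_univ _) h
      rw [h1, h1]
    · rw [convPow_succ, ih hpos, extFun_conv, ← convPow_succ]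

/-- The extension by zero of a class function of `H` is invariant under conjugation by `H`. -/
theorem invUnder_extFun_of_isClassFunction (H : Subgroup G) {s : H → ℂ}
    (hs : IsClassFunction H s) : InvUnder (H : Set G) (extFun H s) := by
  intro u hu x
  by_cases hx : x ∈ H
  · have hux : u * x * u⁻¹ ∈ H := H.mul_mem (H.mul_mem hu hx) (H.inv_mem hu)
    rw [extFun_of_mem H s hux, extFun_of_mem H s hx]
    exact hs ⟨x, hx⟩ ⟨u, hu⟩
  · have hux : u * x * u⁻¹ ∉ H := by
      intro h
      apply hx
      have := H.mul_mem (H.mul_mem (H.inv_mem hu) h) hu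
      have e : u⁻¹ * (u * x * u⁻¹) * u = x := by group
      rwa [e] at this
    rw [extFun_of_not_mem H s hux, extFun_of_not_mem H s hx]

theorem InvUnder.le {H K : Subgroup G} {β : G → ℂ} (h : InvUnder (H : Set G) β) (hle : K ≤ H) :
    InvUnder (K : Set G) β := h.mono (fun _ hx => hle hx)

/-- Truncation of a function invariant under `P` to a subgroup normalized by `P`. -/
theorem invUnder_extFun_resFun (H P : Subgroup G)
    (hPH : P ≤ Subgroup.normalizer (H : Set G)) {β : G → ℂ} (hβ : InvUnder (P : Set G) β) :
    InvUnder (P : Set G) (extFun H (resFun H β)) := by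
  intro u hu x
  have hiff : u * x * u⁻¹ ∈ H ↔ x ∈ H := ((Subgroup.mem_normalizer_iff.mp (hPH hu)) x).symm
  by_cases hx : x ∈ H
  · rw [extFun_of_mem H _ (hiff.mpr hx), extFun_of_mem H _ hx]
    exact hβ u hu x
  · rw [extFun_of_not_mem H _ (fun h => hx (hiff.mp h)), extFun_of_not_mem H _ hx]

/-- The Brauer value of a function only depends on its truncation to a subgroup containing the
centralizer. -/
theorem brauerOmega_extFun_resFun (P H : Subgroup G)
    (hle : Subgroup.centralizer (P : Set G) ≤ H) (β : G → ℂ)
    (ξ : Subgroup.centralizer (P : Set G) → ℂ) :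
    brauerOmega P (extFun H (resFun H β)) ξ = brauerOmega P β ξ := by
  unfold brauerOmega
  refine finsum_congr (fun c => ?_)
  rw [extFun_of_mem H _ (hle c.2)]
  rfl

/-- The block idempotent of a block stabilized by `x` is invariant under conjugation by `x`. -/
theorem blockCoeff_conj_of_stabilizesBlock (H : Subgroup G) (f : Set (IrrCharacter H)) (x : G)
    (hx : StabilizesBlock H f x) (h : H) (hmem : x * (h : G) * x⁻¹ ∈ H) :
    blockCoeff f ⟨x * (h : G) * x⁻¹, hmem⟩ = blockCoeff f h := by
  classical
  obtain ⟨hxN, hstab⟩ := hx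
  let e : H ≃* H := Helper78.conjEquiv x
    (fun k hk => (Subgroup.mem_normalizer_iff.mp hxN k).mp hk)
    (fun k hk => (Subgroup.mem_normalizer_iff''.mp hxN k).mp hk)
  have hmaps : Set.MapsTo (Helper78.irrMap e) f f := by
    intro χ hχ
    obtain ⟨χ', hχ', hconj⟩ := hstab χ hχ
    have : Helper78.irrMap e χ = χ' := by
      apply Subtype.ext
      funext k'
      rw [Helper78.irrMap_apply]
      have := hconj (e.symm k') k' (by
        have h1 : ((e (e.symm k') : H) : G) = x * ((e.symm k' : H) : G) * x⁻¹ := rfl
        rw [MulEquiv.apply_symm_apply] at h1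
        exact h1)
      exact this.symm
    rw [this]
    exact hχ'
  have hfin : f.Finite := Set.toFinite f
  have hinj : Set.InjOn (Helper78.irrMap e) f := (Helper78.irrMap_injective e).injOn
  have hbij : Set.BijOn (Helper78.irrMap e) f f := (hfin.injOn_iff_bijOn_of_mapsTo hmaps).mp hinj
  rw [Helper78.blockCoeff_of_bijOn e hbij]
  congr 1
  apply e.injective
  rw [MulEquiv.apply_symm_apply]
  apply Subtype.ext
  rfl

end Cfsg.Agent.Helper77
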