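import Cfsg.Agent.Helper77.BrauerMap

/-!
# Convolution powers; central elements with central characters in the local ideal are nilpotent
modulo the local ideal

(helper77, file 15.)
-/

set_option autoImplicit false
set_option linter.unusedSectionVars false

namespace Cfsg.Agent.Helper77

open Cfsg
open Cfsg.Agent.Helper16 (omega conv classInd deltaOne)

variable {H : Type*} [Group H] [Fintype H] {M : Ideal AlgInt}

/-- Convolution powers. -/
noncomputable def convPow (s : H → ℂ) : ℕ → H → ℂ
  | 0 => deltaOne
  | n + 1 => conv (convPow s n) s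

theorem convPow_zero (s : H → ℂ) : convPow s 0 = deltaOne := rfl

theorem convPow_succ (s : H → ℂ) (n : ℕ) : convPow s (n + 1) = conv (convPow s n) s := rfl

theorem isClassFunction_convPow {s : H → ℂ} (hs : IsClassFunction H s) (n : ℕ) :
    IsClassFunction H (convPow s n) := by
  induction n with
  | zero => exact Helper16.isClassFunction_deltaOne
  | succ n ih => exact Helper16.isClassFunction_conv ih hs

theorem memLocalRing_deltaOne [M.IsPrime] (h : H) : MemLocalRing M ((deltaOne : H → ℂ) h) := by
  classical
  unfold deltaOne
  split_ifs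
  · exact Helper16.memLocalRing_one
  · exact Helper16.memLocalRing_zero

theorem memLocalRing_conv [M.IsPrime] {s t : H → ℂ} (hs : ∀ h, MemLocalRing M (s h))
    (ht : ∀ h, MemLocalRing M (t h)) (h : H) : MemLocalRing M (conv s t h) := by
  unfold conv
  exact Helper16.memLocalRing_sum _ _ (fun x _ => Helper16.memLocalRing_mul (hs x) (ht _))

theorem memLocalIdeal_conv_left [M.IsPrime] {s t : H → ℂ} (hs : ∀ h, MemLocalIdeal M (s h))
    (ht : ∀ h, MemLocalRing M (t h)) (h : H) : MemLocalIdeal M (conv s t h) := by
  unfold conv
  exact Helper16.memLocalIdeal_sum _ _ (fun x _ => Helper16.memLocalIdeal_mul_right (hs x) (ht _))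

theorem memLocalRing_convPow [M.IsPrime] {s : H → ℂ} (hs : ∀ h, MemLocalRing M (s h)) (n : ℕ)
    (h : H) : MemLocalRing M (convPow s n h) := by
  induction n generalizing h with
  | zero => exact memLocalRing_deltaOne h
  | succ n ih => exact memLocalRing_conv ih hs h

theorem omega_convPow (χ : IrrCharacter H) {s : H → ℂ} (hs : IsClassFunction H s) (n : ℕ) :
    omega (χ : H → ℂ) (convPow s n) = omega (χ : H → ℂ) s ^ n := by
  induction n with
  | zero => rw [convPow_zero, Helper16.omega_deltaOne _ (Helper16.irr_one_ne_zero χ), pow_zero]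
  | succ n ih =>
    rw [convPow_succ, Helper16.irr_omega_conv χ (isClassFunction_convPow hs n) hs, ih, pow_succ]

theorem conv_sub_left (s t u : H → ℂ) : conv (s - t) u = conv s u - conv t u := by
  funext h
  simp only [conv, Pi.sub_apply, sub_mul, Finset.sum_sub_distrib]

/-- A central element of the local group ring all of whose central character values lie in the
local ideal is nilpotent modulo the local ideal. -/
theorem exists_convPow_memLocalIdeal [M.IsPrime] {d : H → ℂ} (hd : IsClassFunction H d)
    (hdR : ∀ h, MemLocalRing M (d h))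
    (hdI : ∀ φ : IrrCharacter H, MemLocalIdeal M (omega (φ : H → ℂ) d)) :
    ∃ k : ℕ, ∀ h, MemLocalIdeal M (convPow d k h) := by
  classical
  -- the products `∏_{φ ∈ l} (d - ω_φ(d))`
  have key : ∀ l : List (IrrCharacter H), ∃ D : H → ℂ, IsClassFunction H D ∧
      (∀ h, MemLocalRing M (D h)) ∧ (∀ h, MemLocalIdeal M (D h - convPow d l.length h)) ∧
      ∀ ψ : IrrCharacter H, omega (ψ : H → ℂ) D =
        (l.map (fun φ : IrrCharacter H => omega (ψ : H → ℂ) d - omega (φ : H → ℂ) d)).prod := by
    intro l
    induction l with
    | nil =>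
      refine ⟨deltaOne, Helper16.isClassFunction_deltaOne, memLocalRing_deltaOne, ?_, ?_⟩
      · intro h
        rw [List.length_nil, convPow_zero, sub_self]
        exact Helper16.memLocalIdeal_zero
      · intro ψ
        rw [List.map_nil, List.prod_nil, Helper16.omega_deltaOne _ (Helper16.irr_one_ne_zero ψ)]
    | cons φ l ih =>
      obtain ⟨D, hDcl, hDR, hDI, hDω⟩ := ih
      refine ⟨conv D d - omega (φ : H → ℂ) d • D, ?_, ?_, ?_, ?_⟩
      · exact Helper16.isClassFunction_sub (Helper16.isClassFunction_conv hDcl hd)
          (Helper16.isClassFunction_smul _ hDcl)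
      · intro h
        exact Helper16.memLocalRing_sub (memLocalRing_conv hDR hdR h)
          (Helper16.memLocalRing_mul (Helper16.memLocalIdeal_memLocalRing (hdI φ)) (hDR h))
      · intro h
        rw [List.length_cons, convPow_succ]
        have h1 : (conv D d - omega (φ : H → ℂ) d • D) h - conv (convPow d l.length) d h =
            conv (D - convPow d l.length) d h - omega (φ : H → ℂ) d * D h := by
          rw [conv_sub_left]
          simp only [Pi.sub_apply, Pi.smul_apply, smul_eq_mul]
          ring
        rw [h1]
        exact Helper16.memLocalIdeal_sub (memLocalIdeal_conv_left (fun x => hDI x) hdR h)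
          (Helper16.memLocalIdeal_mul_right (hdI φ) (hDR h))
      · intro ψ
        rw [Helper16.omega_sub, Helper16.omega_smul, Helper16.irr_omega_conv ψ hDcl hd, hDω ψ,
          List.map_cons, List.prod_cons]
        ring
  obtain ⟨D, hDcl, hDR, hDI, hDω⟩ := key (Finset.univ : Finset (IrrCharacter H)).toList
  have hD0 : D = 0 := by
    apply Helper16.classFunction_ext_omega hDcl Helper16.isClassFunction_zero
    intro ψ
    rw [hDω ψ, Helper16.omega_zero]
    apply List.prod_eq_zero
    rw [List.mem_map]
    exact ⟨ψ, Finset.mem_toList.mpr (Finset.mem_univ ψ), sub_self _⟩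
  refine ⟨(Finset.univ : Finset (IrrCharacter H)).toList.length, fun h => ?_⟩
  have := Helper16.memLocalIdeal_neg (hDI h)
  rw [hD0, Pi.zero_apply, zero_sub, neg_neg] at this
  exact this

end Cfsg.Agent.Helper77
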