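import Cfsg.Agent.Helper16.Brauer43.L3a
import Cfsg.Agent.Helper77.DefOneBlocks

/-!
# S0997 piece (C1) for helper16: `X ∪ Y` lies in the principal `p`-block
-/

set_option autoImplicit false

namespace Cfsg.Agent.Helper77.BT97

open Cfsg Cfsg.Agent.Helper16 Cfsg.Agent.Helper16.DefOne Cfsg.Agent.Helper82.DefOne
  Cfsg.Agent.Helper77.DefOne Cfsg.Agent.Helper16.Brauer43
open scoped ComplexConjugate

universe u

variable {G : Type u} [Group G] [Fintype G] {p : ℕ} [Fact p.Prime]
  (P : Sylow p G) [Fintype (P : Subgroup G)] (D : L0Data P)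

omit [Fintype (P : Subgroup G)] in
/-- a character that does not vanish at some nontrivial element of `P` lies in `R_1` -/
theorem mem_Rset_of_apply_ne_zero (hP : Nat.card P = p) (hC : cen P = (P : Subgroup G))
    (χ : IrrCharacter G) (x : G) (hx : x ∈ (P : Subgroup G)) (hx1 : x ≠ 1)
    (hne : (χ : G → ℂ) x ≠ 0) : χ ∈ Rset P (oneIrr P) := by
  classical
  let _ : Fintype (cen P) := Fintype.ofFinite _
  have hmemC : x ∈ cen P := by rw [hC]; exact hx
  have hc1 : (⟨x, hmemC⟩ : cen P) ≠ 1 := fun h => hx1 (congrArg Subtype.val h)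
  have h1 := apply_singular_eq P hP χ ⟨x, hmemC⟩ (dvd_orderOf_of_ne_one P hP hC _ hc1)
  by_contra hnot
  apply hne
  rw [h1]
  have hz : ∀ φ : IrrCharacter (cen P), rowZ P χ φ = 0 := by
    intro φ
    by_contra h
    exact hnot ⟨φ, can_eq_oneIrr P hP hC φ, h⟩
  simp [hz]

/-- (C1) `X ∪ Y` lies in the principal `p`-block -/
theorem XY_subset_principal (hP : Nat.card P = p) (hC : cen P = (P : Subgroup G))
    (Mp : Ideal AlgInt) (hMp : IsPModular p Mp) : D.X ∪ D.Y ⊆ principalBlock Mp G := by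
  classical
  rw [principalBlock_eq_Rset Mp P hMp hP]
  have hp : p.Prime := Fact.out
  -- a nontrivial element of `P`
  have hex : ∃ x : G, x ∈ (P : Subgroup G) ∧ x ≠ 1 := by
    have h1 : 1 < Nat.card (P : Subgroup G) := by
      have : Nat.card (P : Subgroup G) = p := hP
      rw [this]; exact hp.one_lt
    have := (Subgroup.one_lt_card_iff_ne_bot (P : Subgroup G)).mp h1
    obtain ⟨x, hx1⟩ := (Subgroup.ne_bot_iff_exists_ne_one).mp this
    exact ⟨(x : G), x.2, fun h => hx1 (Subtype.ext h)⟩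
  rintro χ (hχ | hχ)
  · obtain ⟨x, hx, hx1⟩ := hex
    apply mem_Rset_of_apply_ne_zero P hP hC χ x hx hx1
    rw [D.hX χ hχ x hx hx1]
    rcases D.hε χ with h | h <;> rw [h] <;> norm_num
  · by_contra hnot
    have hzero : ∀ x : G, x ∈ (P : Subgroup G) → x ≠ 1 → (χ : G → ℂ) x = 0 := by
      intro x hx hx1
      by_contra hne
      exact hnot (mem_Rset_of_apply_ne_zero P hP hC χ x hx hx1 hne)
    have h2 := D.hY2 χ hχ
    have hsum : ∑ z : (P : Subgroup G), (χ : G → ℂ) z * conj ((χ : G → ℂ) z) =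
        (χ : G → ℂ) 1 * conj ((χ : G → ℂ) 1) := by
      rw [Finset.sum_eq_single (1 : (P : Subgroup G))]
      · simp
      · intro z _ hz
        have hz1 : (z : G) ≠ 1 := fun h => hz (Subtype.ext h)
        rw [hzero z z.2 hz1]; simp
      · intro h; exact absurd (Finset.mem_univ _) h
    rw [hsum, Helper79.irr_one χ] at h2
    have hconj : conj ((charDegree (χ : G → ℂ) : ℕ) : ℂ) = ((charDegree (χ : G → ℂ) : ℕ) : ℂ) := by
      simp
    rw [hconj] at h2
    obtain ⟨he1, -, hep⟩ := e_basic P hP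
    set e := (cen P).relIndex (nor P) with he
    have h3 : (e : ℂ) * ((p : ℂ) - (e : ℂ)) = 0 := by
      have : ((charDegree (χ : G → ℂ) : ℕ) : ℂ) * ((charDegree (χ : G → ℂ) : ℕ) : ℂ) =
          ((charDegree (χ : G → ℂ) : ℕ) : ℂ) ^ 2 + (e : ℂ) * (p : ℂ) - (e : ℂ) ^ 2 := h2
      linear_combination -this
    rcases mul_eq_zero.mp h3 with h | h
    · have : (e : ℂ) ≠ 0 := by exact_mod_cast (by omega : e ≠ 0)
      exact this h
    · have : (p : ℂ) = (e : ℂ) := by linear_combination h
      have : p = e := by exact_mod_cast this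
      omega

end Cfsg.Agent.Helper77.BT97
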