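import Cfsg.Agent.Helper77.Subpair

/-!
# The action of a normalizing subgroup on the blocks of a subgroup

(helper77, file 18.)
-/

set_option autoImplicit false
set_option linter.unusedSectionVars false

namespace Cfsg.Agent.Helper77

open Cfsg
open Cfsg.Agent.Helper16 (omega conv classInd deltaOne)

section Aut

variable {H : Type*} [Group H] {M : Ideal AlgInt}

/-- The image of a block under transport along an isomorphism is a block. -/
theorem isPBlock_image_irrMap {H' : Type*} [Group H'] (σ : H ≃* H') {S : Set (IrrCharacter H)}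
    (hS : IsPBlock M S) : IsPBlock M (Helper78.irrMap σ '' S) := by
  obtain ⟨χ, rfl⟩ := hS
  refine ⟨Helper78.irrMap σ χ, ?_⟩
  ext ψ
  constructor
  · rintro ⟨ψ₀, hψ₀, rfl⟩
    exact (Helper78.sameBlock_comp_symm_iff M σ (χ : H → ℂ) (ψ₀ : H → ℂ)).mpr hψ₀
  · intro hψ
    refine ⟨Helper78.irrMap σ.symm ψ, ?_, Helper78.irrMap_irrMap_symm σ ψ⟩
    have h2 : (ψ : H' → ℂ) =
        fun x => (Helper78.irrMap σ.symm ψ : H → ℂ) (σ.symm x) := by
      funext x
      rw [Helper78.irrMap_apply, MulEquiv.symm_symm, MulEquiv.apply_symm_apply]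
    have h3 : SameBlock M (fun x => (χ : H → ℂ) (σ.symm x)) (ψ : H' → ℂ) := hψ
    rw [h2] at h3
    exact (Helper78.sameBlock_comp_symm_iff M σ (χ : H → ℂ) _).mp h3

theorem isPBlock_image_irrMap_iff (σ : H ≃* H) {S : Set (IrrCharacter H)} :
    IsPBlock M (Helper78.irrMap σ '' S) ↔ IsPBlock M S := by
  constructor
  · intro h
    have := isPBlock_image_irrMap (M := M) σ.symm h
    rw [Set.image_image] at this
    simp only [Helper78.irrMap_symm_irrMap, Set.image_id'] at this
    exact this
  · exact isPBlock_image_irrMap σ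

theorem blockCoeff_image_irrMap (σ : H ≃* H) (S : Set (IrrCharacter H)) (h : H) :
    blockCoeff (Helper78.irrMap σ '' S) h = blockCoeff S (σ.symm h) :=
  Helper78.blockCoeff_of_bijOn σ
    ⟨Set.mapsTo_image _ _, (Helper78.irrMap_injective σ).injOn, Set.surjOn_image _ _⟩ h

/-- `MulAut H` acts on the irreducible characters of `H`. -/
@[reducible] noncomputable def irrAutAction (H : Type*) [Group H] : MulAction (MulAut H) (IrrCharacter H) where
  smul σ ξ := Helper78.irrMap σ ξ
  one_smul ξ := by
    apply Subtype.ext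
    funext h
    rfl
  mul_smul σ τ ξ := by
    apply Subtype.ext
    funext h
    rfl

end Aut

variable {G : Type*} [Group G] [Fintype G] {M : Ideal AlgInt} {p : ℕ}

/-- Conjugation by the elements of a subgroup `P` normalizing `H`, as automorphisms of `H`. -/
def conjHom (H P : Subgroup G) (hPH : P ≤ Subgroup.normalizer (H : Set G)) : P →* MulAut H where
  toFun u := Helper78.conjEquiv (u : G)
    (fun k hk => (Subgroup.mem_normalizer_iff.mp (hPH u.2) k).mp hk)
    (fun k hk => (Subgroup.mem_normalizer_iff''.mp (hPH u.2) k).mp hk)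
  map_one' := by
    ext k
    simp [Helper78.coe_conjEquiv]
  map_mul' u v := by
    ext k
    simp [Helper78.coe_conjEquiv, mul_assoc]

theorem coe_conjHom_apply (H P : Subgroup G) (hPH : P ≤ Subgroup.normalizer (H : Set G)) (u : P)
    (k : H) : ((conjHom H P hPH u k : H) : G) = (u : G) * (k : G) * (u : G)⁻¹ := rfl

theorem coe_conjHom_symm_apply (H P : Subgroup G) (hPH : P ≤ Subgroup.normalizer (H : Set G))
    (u : P) (k : H) :
    (((conjHom H P hPH u).symm k : H) : G) = (u : G)⁻¹ * (k : G) * (u : G) := rfl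

theorem extFun_finset_sum {ι : Type*} (I : Finset ι) (H : Subgroup G) (s : ι → H → ℂ) :
    extFun H (∑ i ∈ I, s i) = ∑ i ∈ I, extFun H (s i) := by
  funext g
  by_cases hg : g ∈ H
  · rw [extFun_of_mem H _ hg, Finset.sum_apply, Finset.sum_apply]
    refine Finset.sum_congr rfl (fun i _ => ?_)
    rw [extFun_of_mem H _ hg]
  · rw [extFun_of_not_mem H _ hg, Finset.sum_apply]
    symm
    refine Finset.sum_eq_zero (fun i _ => ?_)
    rw [extFun_of_not_mem H _ hg]

theorem extFun_deltaOne (H : Subgroup G) :
    extFun H (deltaOne : H → ℂ) = (deltaOne : G → ℂ) := by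
  classical
  funext g
  by_cases hg : g ∈ H
  · rw [extFun_of_mem H _ hg]
    unfold deltaOne
    by_cases h1 : g = 1
    · subst h1
      simp
    · have : (⟨g, hg⟩ : H) ≠ 1 := fun h => h1 (congrArg Subtype.val h)
      simp [h1, this]
  · rw [extFun_of_not_mem H _ hg]
    unfold deltaOne
    have : g ≠ 1 := fun h => hg (h ▸ H.one_mem)
    simp [this]

theorem extFun_zero (H : Subgroup G) : extFun H (0 : H → ℂ) = 0 := by
  funext g
  by_cases hg : g ∈ H
  · rw [extFun_of_mem H _ hg]
    rfl
  · rw [extFun_of_not_mem H _ hg]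
    rfl

/-- The idempotent of a `P`-stable block of `H` is invariant under conjugation by `P`. -/
theorem invUnder_extFun_blockCoeff_of_stabilizes (H P : Subgroup G) (f : Set (IrrCharacter H))
    (hstab : ∀ x ∈ P, StabilizesBlock H f x) :
    InvUnder (P : Set G) (extFun H (blockCoeff f)) := by
  intro u hu x
  have hN := (hstab u hu).1
  by_cases hx : x ∈ H
  · have hux : u * x * u⁻¹ ∈ H := (Subgroup.mem_normalizer_iff.mp hN x).mp hx
    rw [extFun_of_mem _ _ hux, extFun_of_mem _ _ hx]
    exact blockCoeff_conj_of_stabilizesBlock _ f u (hstab u hu) ⟨x, hx⟩ hux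
  · have hux : u * x * u⁻¹ ∉ H := fun h => hx ((Subgroup.mem_normalizer_iff.mp hN x).mpr h)
    rw [extFun_of_not_mem _ _ hux, extFun_of_not_mem _ _ hx]

/-- Among the blocks of a subgroup `H ≥ C_G(P)` normalized by the `p`-group `P` there is a
`P`-stable one whose idempotent has Brauer value `≡ 1` at a given irreducible character of
`C_G(P)`. -/
theorem exists_stable_block [Fact p.Prime] (hM : IsPModular p M) (P : Subgroup G)
    (hP : IsPGroup p P) (H : Subgroup G)
    (hCH : Subgroup.centralizer (P : Set G) ≤ H)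
    (hPH : P ≤ Subgroup.normalizer (H : Set G))
    (ξ₀ : IrrCharacter (Subgroup.centralizer (P : Set G))) :
    ∃ f : Set (IrrCharacter H), IsPBlock M f ∧ (∀ x ∈ P, StabilizesBlock H f x) ∧
      MemLocalIdeal M (brauerOmega P (extFun H (blockCoeff f))
        (ξ₀ : Subgroup.centralizer (P : Set G) → ℂ) - 1) := by
  classical
  have hMp : M.IsPrime := isPrime_of_isPModular hM
  have : Fintype H := Fintype.ofFinite _
  let act0 : MulAction (MulAut H) (IrrCharacter H) := irrAutAction H
  let act1 : MulAction P (IrrCharacter H) := MulAction.compHom (IrrCharacter H) (conjHom H P hPH)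
  let act2 : MulAction P (Set (IrrCharacter H)) := Set.mulActionSet
  have hsmul : ∀ (u : P) (S : Set (IrrCharacter H)),
      u • S = Helper78.irrMap (conjHom H P hPH u) '' S := fun u S => rfl
  have hFC : ∀ S : Set (IrrCharacter H), IsPBlock M S →
      InvUnder (Subgroup.centralizer (P : Set G) : Set G) (extFun H (blockCoeff S)) :=
    fun S hS => (invUnder_extFun_of_isClassFunction H (blockCoeff_isClassFunction hS)).le hCH
  have hFR : ∀ S : Set (IrrCharacter H), IsPBlock M S →
      ∀ x, MemLocalRing M (extFun H (blockCoeff S) x) :=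
    fun S hS => extFun_memLocalRing H (blockCoeff_memLocalRing hS)
  let v : Set (IrrCharacter H) → ℂ := fun S =>
    if IsPBlock M S then
      brauerOmega P (extFun H (blockCoeff S)) (ξ₀ : Subgroup.centralizer (P : Set G) → ℂ)
    else 0
  have hvR : ∀ S, MemLocalRing M (v S) := by
    intro S
    simp only [v]
    split_ifs with hS
    · exact brauerOmega_memLocalRing P _ (hFR S hS) (hFC S hS) ξ₀
    · exact Helper16.memLocalRing_zero
  have hinv : ∀ (u : P) (S : Set (IrrCharacter H)), v (u • S) = v S := by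
    intro u S
    rw [hsmul]
    simp only [v]
    by_cases hS : IsPBlock M S
    · rw [if_pos hS, if_pos ((isPBlock_image_irrMap_iff _).mpr hS)]
      unfold brauerOmega
      refine finsum_congr (fun c => ?_)
      have hc : (c : G) ∈ H := hCH c.2
      rw [extFun_of_mem H _ hc, extFun_of_mem H _ hc, blockCoeff_image_irrMap]
      congr 3
      apply Subtype.ext
      rw [coe_conjHom_symm_apply]
      show (u : G)⁻¹ * (c : G) * (u : G) = (c : G)
      have := Subgroup.mem_centralizer_iff.mp c.2 (u : G) u.2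
      rw [mul_assoc, ← this, inv_mul_cancel_left]
    · rw [if_neg hS, if_neg (fun h => hS ((isPBlock_image_irrMap_iff _).mp h))]
  have hsum : ∑ S, v S = 1 := by
    simp only [v]
    rw [← Finset.sum_filter]
    have hfilt : Finset.univ.filter (fun S : Set (IrrCharacter H) => IsPBlock M S) =
        blocksFinset M H := by
      ext S
      rw [Finset.mem_filter, mem_blocksFinset]
      simp
    rw [hfilt, ← brauerOmega_finset_sum, ← extFun_finset_sum, sum_blockCoeff_blocks,
      extFun_deltaOne, brauerOmega_deltaOne]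
  obtain ⟨S, hfix, hnot⟩ := Helper16.exists_fixed_of_sum_not_memLocalIdeal (M := M) hM.2.2
    (Γ := P) hP v hvR hinv (by rw [hsum]; exact Helper16.not_memLocalIdeal_one)
  have hS : IsPBlock M S := by
    by_contra hS
    apply hnot
    simp only [v]
    rw [if_neg hS]
    exact Helper16.memLocalIdeal_zero
  have hstab : ∀ x ∈ P, StabilizesBlock H S x := by
    intro x hx
    refine ⟨hPH hx, fun χ hχ => ⟨Helper78.irrMap (conjHom H P hPH ⟨x, hx⟩) χ, ?_, ?_⟩⟩
    · have h3 : Helper78.irrMap (conjHom H P hPH ⟨x, hx⟩) χ ∈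
          Helper78.irrMap (conjHom H P hPH ⟨x, hx⟩) '' S := Set.mem_image_of_mem _ hχ
      rwa [← hsmul, hfix] at h3
    · intro k k' hkk'
      have : k' = conjHom H P hPH ⟨x, hx⟩ k := Subtype.ext hkk'
      rw [this, Helper78.irrMap_apply_apply]
  refine ⟨S, hS, hstab, ?_⟩
  have hFP := invUnder_extFun_blockCoeff_of_stabilizes H P S hstab
  have hconv : conv (extFun H (blockCoeff S)) (extFun H (blockCoeff S)) =
      extFun H (blockCoeff S) := by
    rw [extFun_conv, blockCoeff_conv_self hS]
  have h1 := brauerOmega_conv_sub_memLocalIdeal hM P hP _ _ (hFR S hS) (hFR S hS) hFP hFP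
    (hFC S hS) (hFC S hS) ξ₀
  rw [hconv] at h1
  have hvS : v S =
      brauerOmega P (extFun H (blockCoeff S)) (ξ₀ : Subgroup.centralizer (P : Set G) → ℂ) := by
    simp only [v]
    rw [if_pos hS]
  rw [hvS] at hnot
  have hR := brauerOmega_memLocalRing P _ (hFR S hS) (hFC S hS) ξ₀
  have h2 : MemLocalIdeal M
      (brauerOmega P (extFun H (blockCoeff S)) (ξ₀ : Subgroup.centralizer (P : Set G) → ℂ) *
        (1 - brauerOmega P (extFun H (blockCoeff S))
          (ξ₀ : Subgroup.centralizer (P : Set G) → ℂ))) := by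
    rw [mul_sub, mul_one]
    exact h1
  rcases memLocalIdeal_or_of_mul M hR (Helper16.memLocalRing_sub Helper16.memLocalRing_one hR) h2
    with h3 | h3
  · exact absurd h3 hnot
  · have := Helper16.memLocalIdeal_neg h3
    rwa [neg_sub] at this

/-- **Below a Brauer pair `(P, e)` there is exactly one normal subpair on each normal subgroup
`Q` of `P`.** -/
theorem existsUnique_isNormalSubpair [Fact p.Prime] (hM : IsPModular p M) (P Q : Subgroup G)
    (e : Set (IrrCharacter (Subgroup.centralizer (P : Set G))))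
    (hPe : IsBrauerPair p M P e) (hQP : Q ≤ P) (hPN : P ≤ Subgroup.normalizer (Q : Set G)) :
    ∃! f : Set (IrrCharacter (Subgroup.centralizer (Q : Set G))),
      IsNormalSubpair p M Q f P e := by
  classical
  have hMp : M.IsPrime := isPrime_of_isPModular hM
  obtain ⟨hP, he⟩ := hPe
  obtain ⟨ξ₀, hξ₀⟩ := Helper78.isPBlock_nonempty hMp he
  have hCH : Subgroup.centralizer (P : Set G) ≤ Subgroup.centralizer (Q : Set G) :=
    Subgroup.centralizer_le hQP
  have hPH : P ≤ Subgroup.normalizer ((Subgroup.centralizer (Q : Set G) : Subgroup G) : Set G) :=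
    hPN.trans (Helper78.normalizer_le_normalizer_centralizer Q)
  have : Fintype (Subgroup.centralizer (Q : Set G)) := Fintype.ofFinite _
  have hFC : ∀ S : Set (IrrCharacter (Subgroup.centralizer (Q : Set G))), IsPBlock M S →
      InvUnder (Subgroup.centralizer (P : Set G) : Set G)
        (extFun (Subgroup.centralizer (Q : Set G)) (blockCoeff S)) :=
    fun S hS => (invUnder_extFun_of_isClassFunction _ (blockCoeff_isClassFunction hS)).le hCH
  have hFR : ∀ S : Set (IrrCharacter (Subgroup.centralizer (Q : Set G))), IsPBlock M S →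
      ∀ x, MemLocalRing M (extFun (Subgroup.centralizer (Q : Set G)) (blockCoeff S) x) :=
    fun S hS => extFun_memLocalRing _ (blockCoeff_memLocalRing hS)
  obtain ⟨f, hf, hstab, hf1⟩ := exists_stable_block hM P hP (Subgroup.centralizer (Q : Set G))
    hCH hPH ξ₀
  refine ⟨f, ⟨⟨hP.to_le hQP, hf⟩, ⟨hP, he⟩, hQP, hPN, hstab, fun ξ hξ => ?_⟩, ?_⟩
  · have h1 := brauerOmega_sub_memLocalIdeal_of_sameBlock (M := M) P
      (extFun (Subgroup.centralizer (Q : Set G)) (blockCoeff f)) (hFR f hf) (hFC f hf)
      (Helper78.sameBlock_of_mem_of_mem hMp he hξ hξ₀)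
    have h2 := Helper16.memLocalIdeal_add h1 hf1
    rwa [sub_add_sub_cancel] at h2
  · rintro f' ⟨⟨_, hf'⟩, _, _, _, hstab', hbr'⟩
    by_contra hne
    have hFP := invUnder_extFun_blockCoeff_of_stabilizes _ P f hstab
    have hFP' := invUnder_extFun_blockCoeff_of_stabilizes _ P f' hstab'
    have h1 := brauerOmega_conv_sub_memLocalIdeal hM P hP _ _ (hFR f' hf') (hFR f hf) hFP' hFP
      (hFC f' hf') (hFC f hf) ξ₀
    rw [extFun_conv, blockCoeff_conv_of_ne hf' hf hne, extFun_zero, brauerOmega_zero,
      zero_sub] at h1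
    have h2 := Helper16.memLocalIdeal_neg h1
    rw [neg_neg] at h2
    have hbr'' : MemLocalIdeal M
        (brauerOmega P (extFun (Subgroup.centralizer (Q : Set G)) (blockCoeff f'))
          (ξ₀ : Subgroup.centralizer (P : Set G) → ℂ) - 1) := hbr' ξ₀ hξ₀
    have h3 : MemLocalIdeal M
        (brauerOmega P (extFun (Subgroup.centralizer (Q : Set G)) (blockCoeff f'))
          (ξ₀ : Subgroup.centralizer (P : Set G) → ℂ) *
        brauerOmega P (extFun (Subgroup.centralizer (Q : Set G)) (blockCoeff f))
          (ξ₀ : Subgroup.centralizer (P : Set G) → ℂ) - 1) :=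
      congr_one_of_mul (brauerOmega_memLocalRing P _ (hFR f hf) (hFC f hf) ξ₀)
        (by rw [sub_self]; exact Helper16.memLocalIdeal_zero) hbr'' hf1
    have h4 := Helper16.memLocalIdeal_sub h2 h3
    rw [sub_sub_cancel] at h4
    exact Helper16.not_memLocalIdeal_one h4

end Cfsg.Agent.Helper77
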