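import Cfsg.Agent.Helper77.AbelianDefect
import Cfsg.Agent.Helper77.NilpotentFusion

/-!
# Blocks with abelian defect groups: nilpotent iff trivial inertial quotient

(helper77, file 35.)
-/

set_option autoImplicit false
set_option linter.unusedSectionVars false

namespace Cfsg.Agent.Helper77

open Cfsg

variable {G : Type*} [Group G] [Fintype G] {M : Ideal AlgInt} {p : ℕ}

/-- For a nilpotent block with abelian `P`, the inertial quotient is trivial. -/
theorem mem_centralizer_of_isNilpotentBlock_of_abelian [Fact p.Prime] (hM : IsPModular p M)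
    (B : Set (IrrCharacter G)) (P : Subgroup G)
    (e : Set (IrrCharacter (Subgroup.centralizer (P : Set G))))
    (hmax : IsMaximalBrauerPair p M B P e) (hab : ∀ x ∈ P, ∀ y ∈ P, x * y = y * x)
    (hnil : IsNilpotentBlock p M B) (x : G) (hxN : x ∈ Subgroup.normalizer (P : Set G))
    (hxS : StabilizesBlock (Subgroup.centralizer (P : Set G)) e x) :
    x ∈ Subgroup.centralizer (P : Set G) := by
  have hPe : IsBrauerPair p M P e := hmax.1.1
  have hF := isBlockFusionSystemOn_blockFusionSystem hM B P e hmax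
  have hinner := eq_inner_of_isNilpotentBlock hM B P e _ hF hnil
  have hmem := conjHom_mem_of_mem_stab B P e _ hF P e le_rfl Relation.ReflTransGen.refl x
    ((mem_stabT P e x).mpr ⟨hxN, hxS⟩)
  rw [hinner] at hmem
  obtain ⟨_, u, hu, hconj⟩ := hmem
  rw [Subgroup.mem_centralizer_iff]
  intro q hq
  have h1 : x * q * x⁻¹ = u * q * u⁻¹ := hconj ⟨q, hq⟩
  have h2 : u * q * u⁻¹ = q := by
    rw [hab u hu q hq]
    exact mul_inv_cancel_right q u
  rw [h2] at h1
  calc q * x = x * q * x⁻¹ * x := by rw [h1]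
    _ = x * q := by group

/-- For abelian `P`, a block with trivial inertial quotient is nilpotent. -/
theorem isNilpotentBlock_of_abelian_of_stab_le [Fact p.Prime] (hM : IsPModular p M)
    (B : Set (IrrCharacter G)) (P : Subgroup G)
    (e : Set (IrrCharacter (Subgroup.centralizer (P : Set G))))
    (hmax : IsMaximalBrauerPair p M B P e) (hab : ∀ x ∈ P, ∀ y ∈ P, x * y = y * x)
    (h : ∀ x : G, x ∈ Subgroup.normalizer (P : Set G) →
      StabilizesBlock (Subgroup.centralizer (P : Set G)) e x →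
      x ∈ Subgroup.centralizer (P : Set G)) :
    IsNilpotentBlock p M B := by
  classical
  have hPe : IsBrauerPair p M P e := hmax.1.1
  refine ⟨hmax.1.2.1, ?_⟩
  intro Q f hQf x hxN hxS _
  obtain ⟨g, hleg⟩ := exists_conj_subpairLE hM B P Q e f hmax hQf
  have hQ'P : Q.map (MulAut.conj g).toMonoidHom ≤ P := le_of_reflTransGen hleg
  have hx'N := (mem_normalizer_map_conj_iff Q g x).mpr hxN
  have hx'S := (stabilizesBlock_conjBlock_iff Q g x f).mpr hxS
  have hx'T : g * x * g⁻¹ ∈ stabT (Q.map (MulAut.conj g).toMonoidHom) (conjBlock Q g f) :=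
    (mem_stabT _ _ _).mpr ⟨hx'N, hx'S⟩
  have hf' : IsPBlock M (conjBlock Q g f) := isPBlock_conjBlock Q g hQf.1.2
  obtain ⟨y, hy, c, hc, hxyc⟩ := exists_mul_of_mem_stabT_of_abelian hM B P e hmax hab _ _ hQ'P
    hf' hleg _ hx'T
  obtain ⟨hyN, hyS⟩ := (mem_stabT P e y).mp hy
  have hyC : y ∈ Subgroup.centralizer
      ((Q.map (MulAut.conj g).toMonoidHom : Subgroup G) : Set G) :=
    Subgroup.centralizer_le hQ'P (h y hyN hyS)
  have hc' : g * x * g⁻¹ ∈ Subgroup.centralizer
      ((Q.map (MulAut.conj g).toMonoidHom : Subgroup G) : Set G) := by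
    rw [hxyc]
    exact Subgroup.mul_mem _ hyC hc
  have h4 := (mem_centralizer_map_conj_iff Q g (g * x * g⁻¹)).mp hc'
  have h5 : g⁻¹ * (g * x * g⁻¹) * g = x := by group
  rwa [h5] at h4

end Cfsg.Agent.Helper77
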