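import Cfsg.Agent.Helper77.AbelianNilpotent

/-!
# Local blocks of nilpotent blocks are nilpotent

Brauer pairs `(R, k)` of the block `f` of `K = C_G(Q)` give Brauer pairs `(Q R, k)` of `G`
containing `(Q, f)` normally, since `C_K(R) = C_G(Q R)`.

(helper77, file 36.)
-/

set_option autoImplicit false
set_option linter.unusedSectionVars false

namespace Cfsg.Agent.Helper77

open Cfsg
open Cfsg.Agent.Helper16 (omega conv classInd deltaOne)

variable {G : Type*} [Group G] [Fintype G] {M : Ideal AlgInt} {p : ℕ}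

theorem mem_centralizer_sup_iff (H L : Subgroup G) (z : G) :
    z ∈ Subgroup.centralizer ((H ⊔ L : Subgroup G) : Set G) ↔
      z ∈ Subgroup.centralizer (H : Set G) ∧ z ∈ Subgroup.centralizer (L : Set G) := by
  constructor
  · intro hz
    exact ⟨Subgroup.centralizer_le (le_sup_left : H ≤ H ⊔ L) hz,
      Subgroup.centralizer_le (le_sup_right : L ≤ H ⊔ L) hz⟩
  · rintro ⟨hH, hL⟩
    have h1 : H ⊔ L ≤ Subgroup.centralizer ({z} : Set G) := by
      refine sup_le ?_ ?_
      · intro h hh
        rw [Subgroup.mem_centralizer_singleton_iff]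
        exact hH h hh
      · intro h hh
        rw [Subgroup.mem_centralizer_singleton_iff]
        exact hL h hh
    rw [Subgroup.mem_centralizer_iff]
    intro h hh
    exact Subgroup.mem_centralizer_singleton_iff.mp (h1 hh)

theorem map_conj_sup (H L : Subgroup G) (x : G) :
    (H ⊔ L).map (MulAut.conj x).toMonoidHom =
      H.map (MulAut.conj x).toMonoidHom ⊔ L.map (MulAut.conj x).toMonoidHom :=
  Subgroup.map_sup H L _

theorem mem_normalizer_sup (H L : Subgroup G) (x : G)
    (hH : x ∈ Subgroup.normalizer (H : Set G)) (hL : x ∈ Subgroup.normalizer (L : Set G)) :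
    x ∈ Subgroup.normalizer ((H ⊔ L : Subgroup G) : Set G) := by
  apply mem_normalizer_of_map_conj_eq
  rw [map_conj_sup, map_conj_eq_self_of_mem_normalizer H hH,
    map_conj_eq_self_of_mem_normalizer L hL]

section Loc

variable (Q : Subgroup G)

/-- The identification of `C_K(R)`, `K = C_G(Q)`, with `C_G(Q R)`. -/
def locIso (R : Subgroup (Subgroup.centralizer (Q : Set G))) :
    ↥(Subgroup.centralizer (R : Set (Subgroup.centralizer (Q : Set G)))) ≃*
      ↥(Subgroup.centralizer
        ((Q ⊔ R.map (Subgroup.centralizer (Q : Set G)).subtype : Subgroup G) : Set G)) where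
  toFun c := ⟨((c : Subgroup.centralizer (Q : Set G)) : G),
    (mem_centralizer_sup_iff _ _ _).mpr ⟨(c : Subgroup.centralizer (Q : Set G)).2, by
      rintro _ ⟨a, ha, rfl⟩
      exact congrArg Subtype.val (c.2 a ha)⟩⟩
  invFun z := ⟨⟨(z : G), ((mem_centralizer_sup_iff _ _ _).mp z.2).1⟩, by
    intro a ha
    exact Subtype.ext (((mem_centralizer_sup_iff _ _ _).mp z.2).2 (a : G) ⟨a, ha, rfl⟩)⟩
  left_inv _ := rfl
  right_inv _ := rfl
  map_mul' _ _ := rfl

theorem coe_locIso_apply (R : Subgroup (Subgroup.centralizer (Q : Set G)))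
    (c : Subgroup.centralizer (R : Set (Subgroup.centralizer (Q : Set G)))) :
    ((locIso Q R c : _) : G) = ((c : Subgroup.centralizer (Q : Set G)) : G) := rfl

theorem coe_locIso_symm_apply (R : Subgroup (Subgroup.centralizer (Q : Set G)))
    (z : Subgroup.centralizer
      ((Q ⊔ R.map (Subgroup.centralizer (Q : Set G)).subtype : Subgroup G) : Set G)) :
    ((((locIso Q R).symm z : _) : Subgroup.centralizer (Q : Set G)) : G) = (z : G) := rfl

/-- **Brauer pairs of the block `f` of `C_G(Q)` give Brauer pairs of `G` normally containing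
`(Q, f)`.** -/
theorem isNormalSubpair_loc (hQ : IsPGroup p Q)
    (f : Set (IrrCharacter (Subgroup.centralizer (Q : Set G))))
    (R : Subgroup (Subgroup.centralizer (Q : Set G)))
    (k : Set (IrrCharacter (Subgroup.centralizer (R : Set (Subgroup.centralizer (Q : Set G))))))
    (h : IsBrauerPairOf p M f R k) :
    IsNormalSubpair p M Q f (Q ⊔ R.map (Subgroup.centralizer (Q : Set G)).subtype)
      (Helper78.irrMap (locIso Q R) '' k) := by
  classical
  obtain ⟨⟨hRp, hk⟩, hf, hbr⟩ := h
  have hRK : R.map (Subgroup.centralizer (Q : Set G)).subtype ≤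
      Subgroup.centralizer (Q : Set G) := Subgroup.map_subtype_le R
  have hRN : R.map (Subgroup.centralizer (Q : Set G)).subtype ≤
      Subgroup.normalizer (Q : Set G) := hRK.trans (Subgroup.centralizer_le_normalizer _)
  refine ⟨⟨hQ, hf⟩, ⟨IsPGroup.to_sup_of_normal_left' hQ (hRp.map _) hRN,
    isPBlock_image_irrMap _ hk⟩, le_sup_left, sup_le Subgroup.le_normalizer hRN, ?_, ?_⟩
  · intro x hx
    exact stabilizesBlock_of_mem_sup Q f x (sup_le_sup_left hRK Q hx)
  · rintro _ ⟨ξ, hξ, rfl⟩
    have hf1 : Fintype (Subgroup.centralizer (R : Set (Subgroup.centralizer (Q : Set G)))) :=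
      Fintype.ofFinite _
    have hf2 : Fintype (Subgroup.centralizer
        ((Q ⊔ R.map (Subgroup.centralizer (Q : Set G)).subtype : Subgroup G) : Set G)) :=
      Fintype.ofFinite _
    have h1 := hbr ξ hξ
    rw [brauerOmega_eq_omega] at h1
    rw [brauerOmega_eq_omega, omega_irrMap]
    convert h1 using 3
    funext c
    show subgroupBlockCoeff (Subgroup.centralizer (Q : Set G)) f
      (((c : Subgroup.centralizer (Q : Set G))) : G) =
      blockCoeff f (c : Subgroup.centralizer (Q : Set G))
    rw [subgroupBlockCoeff_eq_extFun,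
      extFun_of_mem _ _ (c : Subgroup.centralizer (Q : Set G)).2]

theorem stabilizesBlock_loc (R : Subgroup (Subgroup.centralizer (Q : Set G)))
    (k : Set (IrrCharacter (Subgroup.centralizer (R : Set (Subgroup.centralizer (Q : Set G))))))
    (x : Subgroup.centralizer (Q : Set G))
    (h : StabilizesBlock (Subgroup.centralizer (R : Set (Subgroup.centralizer (Q : Set G)))) k x)
    (hxN : (x : G) ∈ Subgroup.normalizer
      ((Q ⊔ R.map (Subgroup.centralizer (Q : Set G)).subtype : Subgroup G) : Set G)) :
    StabilizesBlock (Subgroup.centralizer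
      ((Q ⊔ R.map (Subgroup.centralizer (Q : Set G)).subtype : Subgroup G) : Set G))
      (Helper78.irrMap (locIso Q R) '' k) (x : G) := by
  refine ⟨Helper78.normalizer_le_normalizer_centralizer _ hxN, ?_⟩
  rintro _ ⟨χ, hχ, rfl⟩
  obtain ⟨χ', hχ', hconj⟩ := h.2 χ hχ
  refine ⟨Helper78.irrMap (locIso Q R) χ', Set.mem_image_of_mem _ hχ', ?_⟩
  intro c c' hcc'
  rw [Helper78.irrMap_apply, Helper78.irrMap_apply]
  apply hconj
  apply Subtype.ext
  exact hcc'

/-- **The blocks `f` of `C_G(Q)` in the Brauer pairs `(Q, f)` of a nilpotent block are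
nilpotent.** -/
theorem isNilpotentBlock_local [Fact p.Prime] (hM : IsPModular p M)
    (B : Set (IrrCharacter G)) (hnil : IsNilpotentBlock p M B)
    (f : Set (IrrCharacter (Subgroup.centralizer (Q : Set G))))
    (hQf : IsBrauerPairOf p M B Q f) : IsNilpotentBlock p M f := by
  refine ⟨hQf.1.2, ?_⟩
  intro R k hRk x hxN hxS hxreg
  have hsub := isNormalSubpair_loc Q hQf.1.1 f R k hRk
  have hB' : IsBrauerPairOf p M B (Q ⊔ R.map (Subgroup.centralizer (Q : Set G)).subtype)
      (Helper78.irrMap (locIso Q R) '' k) :=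
    (isBrauerPairOf_iff_of_subpairLE hM _ Q _ f hsub.2.1 hQf.1
      (Relation.ReflTransGen.single hsub) B).mpr hQf
  have hxNG : (x : G) ∈ Subgroup.normalizer
      ((Q ⊔ R.map (Subgroup.centralizer (Q : Set G)).subtype : Subgroup G) : Set G) := by
    apply mem_normalizer_sup
    · exact Subgroup.centralizer_le_normalizer _ x.2
    · exact Subgroup.le_normalizer_map _ ⟨x, hxN, rfl⟩
  have hreg : IsPRegular p (x : G) := by
    unfold IsPRegular at hxreg ⊢
    rwa [Subgroup.orderOf_coe]
  have h1 := hnil.2 _ _ hB' (x : G) hxNG (stabilizesBlock_loc Q R k x hxS hxNG) hreg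
  have h2 := ((mem_centralizer_sup_iff _ _ _).mp h1).2
  intro a ha
  exact Subtype.ext (h2 (a : G) ⟨a, ha, rfl⟩)

end Loc

/-- In the inner fusion system every subgroup of `P` is fully centralized. -/
theorem isFullyCentralized_inner (P Q : Subgroup G) (hQP : Q ≤ P) :
    (innerFusionSystem P).IsFullyCentralized Q := by
  refine ⟨hQP, ?_⟩
  rintro Q' ⟨φ, ⟨_, u, hu, hφ⟩, hrange⟩
  have hQ' : Q' = Q.map (MulAut.conj u).toMonoidHom := by
    rw [← hrange]
    exact range_eq_map_conj Q u φ hφ
  have hle : FusionSystem.centralizerIn P Q' ≤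
      (FusionSystem.centralizerIn P Q).map (MulAut.conj u).toMonoidHom := by
    intro y hy
    rw [hQ'] at hy
    obtain ⟨hyP, hyC⟩ := hy
    rw [mem_map_conj_iff]
    refine ⟨P.mul_mem (P.mul_mem (P.inv_mem hu) hyP) hu, ?_⟩
    exact (mem_centralizer_map_conj_iff Q u y).mp hyC
  have := Subgroup.card_le_of_le hle
  rwa [Subgroup.card_map_of_injective (MulAut.conj u).injective] at this

/-- For a nilpotent block, `C_P(Q)` is a defect group of `f` for every `(Q, f) ≤ (P, e)`. -/
theorem isDefectGroup_centralizerIn_of_isNilpotentBlock [Fact p.Prime] (hM : IsPModular p M)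
    (B : Set (IrrCharacter G)) (P : Subgroup G)
    (e : Set (IrrCharacter (Subgroup.centralizer (P : Set G))))
    (hmax : IsMaximalBrauerPair p M B P e) (hnil : IsNilpotentBlock p M B) (Q : Subgroup G)
    (f : Set (IrrCharacter (Subgroup.centralizer (Q : Set G)))) (hf : IsPBlock M f)
    (hle : SubpairLE p M Q f P e) :
    IsDefectGroup p M f
      ((P ⊓ Subgroup.centralizer (Q : Set G)).subgroupOf (Subgroup.centralizer (Q : Set G))) := by
  have hQP : Q ≤ P := le_of_reflTransGen hle
  have hF := isBlockFusionSystemOn_blockFusionSystem hM B P e hmax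
  have hinner := eq_inner_of_isNilpotentBlock hM B P e _ hF hnil
  rw [← isFullyCentralized_iff hM B P e _ hF Q f hQP hf hle, hinner]
  exact isFullyCentralized_inner P Q hQP

end Cfsg.Agent.Helper77
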