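import Cfsg.Agent.Helper77.MaxPairCriterion
import Cfsg.Agent.Helper77.CyclicDefect
import Cfsg.Agent.Helper77.LocalNilpotent
import Cfsg.Agent.Helper77.AbelianNilpotent

/-!
# Local blocks of a block with abelian defect group

(helper77, file 43.)
-/

set_option autoImplicit false
set_option linter.unusedSectionVars false
set_option linter.style.haveILetI false

namespace Cfsg.Agent.Helper77

open Cfsg

section Down

variable {G : Type*} [Group G] [Fintype G] {M : Ideal AlgInt} {p : ℕ}
variable (K : Subgroup G) [Fintype K]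

/-- Stabilization of a block of `C_G(R)` by an element of `K`, read inside `K`. -/
theorem stabilizesBlock_down (R : Subgroup G) (hRK : R ≤ K)
    (hR : Subgroup.centralizer (R : Set G) ≤ K)
    (h : Set (IrrCharacter (Subgroup.centralizer (R : Set G)))) (x : K)
    (hx : StabilizesBlock (Subgroup.centralizer (R : Set G)) h (x : G))
    (hxN : x ∈ Subgroup.normalizer ((R.subgroupOf K : Subgroup K) : Set K)) :
    StabilizesBlock (Subgroup.centralizer ((R.subgroupOf K : Subgroup K) : Set K))
      (downBlock K R hRK hR h) x := by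
  refine ⟨Helper78.normalizer_le_normalizer_centralizer _ hxN, ?_⟩
  rintro _ ⟨χ, hχ, rfl⟩
  obtain ⟨χ', hχ', hconj⟩ := hx.2 χ hχ
  refine ⟨Helper78.irrMap (centDown K R hRK hR) χ', Set.mem_image_of_mem _ hχ', ?_⟩
  intro k k' hkk'
  rw [Helper78.irrMap_apply, Helper78.irrMap_apply]
  apply hconj
  exact congrArg Subtype.val hkk'

/-- Normalizing `R` inside `K`. -/
theorem mem_normalizer_subgroupOf (R : Subgroup G) (x : K)
    (hx : (x : G) ∈ Subgroup.normalizer (R : Set G)) :
    x ∈ Subgroup.normalizer ((R.subgroupOf K : Subgroup K) : Set K) := by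
  rw [Subgroup.mem_normalizer_iff]
  intro y
  rw [Subgroup.mem_subgroupOf, Subgroup.mem_subgroupOf]
  exact Subgroup.mem_normalizer_iff.mp hx (y : G)

/-- **Induction inside `K`**: the block induction of the group `K` from `C_K(R)` is the block
induction "inside `K`" from `C_G(R)`. -/
theorem isInducedBlockIn_of_isInducedBlock_down (R : Subgroup G) (hRK : R ≤ K)
    (hR : Subgroup.centralizer (R : Set G) ≤ K)
    (h : Set (IrrCharacter (Subgroup.centralizer (R : Set G)))) (hh : IsPBlock M h)
    (F : Set (IrrCharacter K))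
    (hind : IsInducedBlock M (Subgroup.centralizer ((R.subgroupOf K : Subgroup K) : Set K))
      (downBlock K R hRK hR h) F) :
    IsInducedBlockIn M K (Subgroup.centralizer (R : Set G)) h F := by
  refine ⟨hh, hind.2.1, fun ξ hξ χ hχ k => ?_⟩
  have h1 := hind.2.2 (Helper78.irrMap (centDown K R hRK hR) ξ) (Set.mem_image_of_mem _ hξ) χ hχ k
  have h2 : inducedCentralChar (Subgroup.centralizer ((R.subgroupOf K : Subgroup K) : Set K))
      (Helper78.irrMap (centDown K R hRK hR) ξ : _ → ℂ) k =
      inducedCentralCharIn K (Subgroup.centralizer (R : Set G))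
        (ξ : Subgroup.centralizer (R : Set G) → ℂ) (k : G) := by
    unfold inducedCentralChar inducedCentralCharIn
    symm
    apply finsum_mem_eq_of_bijOn (centDown K R hRK hR)
    · refine ⟨?_, (centDown K R hRK hR).injective.injOn, ?_⟩
      · rintro c ⟨x, hx⟩
        show IsConj k ((centDown K R hRK hR c : _) : K)
        rw [isConj_iff]
        refine ⟨x⁻¹, ?_⟩
        apply Subtype.ext
        show ((x : G))⁻¹ * (k : G) * ((x : G))⁻¹⁻¹ = (c : G)
        rw [← hx]
        group
      · rintro c' hc'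
        have hc'' : IsConj k ((c' : _) : K) := hc'
        rw [isConj_iff] at hc''
        obtain ⟨x, hx⟩ := hc''
        refine ⟨(centDown K R hRK hR).symm c', ⟨x⁻¹, ?_⟩, (centDown K R hRK hR).apply_symm_apply c'⟩
        show ((x : G))⁻¹ * ((c' : K) : G) * ((x : G))⁻¹⁻¹ = (k : G)
        have := congrArg Subtype.val hx
        rw [← this]
        show ((x : G))⁻¹ * ((x : G) * (k : G) * ((x : G))⁻¹) * ((x : G))⁻¹⁻¹ = (k : G)
        group
    · intro c _
      rw [Helper78.irrMap_apply, Helper78.irrMap_apply, map_one,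
        (centDown K R hRK hR).symm_apply_apply]
  rw [h2] at h1
  exact h1

/-- Uniqueness of the block induced inside `K`. -/
theorem isInducedBlockIn_unique [hMp : M.IsPrime] (C : Subgroup G) {e : Set (IrrCharacter C)}
    {F F' : Set (IrrCharacter K)} (h : IsInducedBlockIn M K C e F)
    (h' : IsInducedBlockIn M K C e F') : F = F' := by
  obtain ⟨he, hF, hind⟩ := h
  obtain ⟨_, hF', hind'⟩ := h'
  obtain ⟨ξ, hξ⟩ := Helper78.isPBlock_nonempty hMp he
  obtain ⟨χ, hχ⟩ := Helper78.isPBlock_nonempty hMp hF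
  obtain ⟨χ', hχ'⟩ := Helper78.isPBlock_nonempty hMp hF'
  have hsame : SameBlock M (χ : K → ℂ) (χ' : K → ℂ) := by
    intro g
    have h1 := hind ξ hξ χ hχ g
    have h2 := hind' ξ hξ χ' hχ' g
    have h3 := Helper16.memLocalIdeal_sub h2 h1
    rwa [sub_sub_sub_cancel_left] at h3
  have hχ'F : χ' ∈ F := by
    rw [Helper78.isPBlock_eq_blockOf_of_mem hMp hF hχ]
    exact hsame
  exact Helper78.isPBlock_eq_of_mem_of_mem hMp hF hF' hχ'F hχ'

end Down

section Abelian

variable {G : Type*} [Group G] [Fintype G] {M : Ideal AlgInt} {p : ℕ} [Fact p.Prime]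

/-- An abelian group centralizes its subgroups. -/
theorem le_centralizer_of_abelian (P Q : Subgroup G) (hab : ∀ x ∈ P, ∀ y ∈ P, x * y = y * x)
    (hQP : Q ≤ P) : P ≤ Subgroup.centralizer (Q : Set G) := by
  intro u hu
  rw [Subgroup.mem_centralizer_iff]
  intro q hq
  exact hab q (hQP hq) u hu

/-- Below an abelian `P`, inclusion of pairs is normal inclusion. -/
theorem isNormalSubpair_of_subpairLE_of_abelian (hM : IsPModular p M) (P : Subgroup G)
    (e : Set (IrrCharacter (Subgroup.centralizer (P : Set G)))) (hPe : IsBrauerPair p M P e)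
    (hab : ∀ x ∈ P, ∀ y ∈ P, x * y = y * x) (Q : Subgroup G) (hQP : Q ≤ P)
    (f : Set (IrrCharacter (Subgroup.centralizer (Q : Set G))))
    (hle : SubpairLE p M Q f P e) : IsNormalSubpair p M Q f P e := by
  have hPC := le_centralizer_of_abelian P Q hab hQP
  obtain ⟨e', he', hsub', hle'⟩ := exists_isNormalSubpair_of_subpairLE hM P Q P e f hPe hQP le_rfl
    (hPC.trans (Subgroup.centralizer_le_normalizer _)) hle
  have hee : e' = e :=
    subpairLE_unique hM P e hPe _ P (le_refl _) e' e hle' Relation.ReflTransGen.refl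
  rwa [hee] at hsub'

/-- For abelian `P` and `(Q, f) ≤ (P, e)`, the pair `(P, e)` read inside `C_G(Q)` is a maximal
Brauer pair of `f`. -/
theorem isMaximalBrauerPair_down_of_abelian (hM : IsPModular p M)
    (B : Set (IrrCharacter G)) (P : Subgroup G)
    (e : Set (IrrCharacter (Subgroup.centralizer (P : Set G))))
    (hmax : IsMaximalBrauerPair p M B P e) (hab : ∀ x ∈ P, ∀ y ∈ P, x * y = y * x)
    (Q : Subgroup G) (f : Set (IrrCharacter (Subgroup.centralizer (Q : Set G)))) (hQP : Q ≤ P)
    (hf : IsPBlock M f) (hle : SubpairLE p M Q f P e)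
    [Fintype (Subgroup.centralizer (Q : Set G))]
    (hPK : P ≤ Subgroup.centralizer (Q : Set G))
    (hCK : Subgroup.centralizer (P : Set G) ≤ Subgroup.centralizer (Q : Set G)) :
    IsMaximalBrauerPair p M f (P.subgroupOf (Subgroup.centralizer (Q : Set G)))
      (downBlock (Subgroup.centralizer (Q : Set G)) P hPK hCK e) := by
  have hPe : IsBrauerPair p M P e := hmax.1.1
  have hMp : M.IsPrime := isPrime_of_isPModular hM
  have hsub := isNormalSubpair_of_subpairLE_of_abelian hM P e hPe hab Q hQP f hle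
  have hpair := isBrauerPairOf_down (Subgroup.centralizer (Q : Set G)) Q P f e hsub hPK le_rfl f hf
    (fun t => (extFun_of_mem _ _ t.2).symm)
  apply isMaximalBrauerPair_of_card hM f _ _ hpair
  rw [card_subgroupOf_of_le hPK]
  exact card_eq_pow_blockDefect_of_abelian hM B P e hmax hab Q f hQP hf hle

/-- For abelian `P` and `(Q, f) ≤ (P, e)`, the block `e` induces `f` inside `C_G(Q)`. -/
theorem isInducedBlockIn_of_subpairLE_of_abelian (hM : IsPModular p M)
    (P : Subgroup G)
    (e : Set (IrrCharacter (Subgroup.centralizer (P : Set G)))) (hPe : IsBrauerPair p M P e)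
    (hab : ∀ x ∈ P, ∀ y ∈ P, x * y = y * x)
    (Q : Subgroup G) (f : Set (IrrCharacter (Subgroup.centralizer (Q : Set G)))) (hQP : Q ≤ P)
    (hf : IsPBlock M f) (hle : SubpairLE p M Q f P e) :
    IsInducedBlockIn M (Subgroup.centralizer (Q : Set G)) (Subgroup.centralizer (P : Set G))
      e f := by
  classical
  have hfinK : Fintype (Subgroup.centralizer (Q : Set G)) := Fintype.ofFinite _
  have hMp : M.IsPrime := isPrime_of_isPModular hM
  have hPK := le_centralizer_of_abelian P Q hab hQP
  have hCK : Subgroup.centralizer (P : Set G) ≤ Subgroup.centralizer (Q : Set G) :=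
    Subgroup.centralizer_le hQP
  have hsub := isNormalSubpair_of_subpairLE_of_abelian hM P e hPe hab Q hQP f hle
  have hpair : IsBrauerPairOf p M f (P.subgroupOf (Subgroup.centralizer (Q : Set G)))
      (downBlock (Subgroup.centralizer (Q : Set G)) P hPK hCK e) :=
    isBrauerPairOf_down (Subgroup.centralizer (Q : Set G)) Q P f e hsub hPK le_rfl f hf
      (fun t => (extFun_of_mem _ _ t.2).symm)
  have hPKab : P.subgroupOf (Subgroup.centralizer (Q : Set G)) ≤
      Subgroup.centralizer ((P.subgroupOf (Subgroup.centralizer (Q : Set G)) :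
        Subgroup (Subgroup.centralizer (Q : Set G))) : Set (Subgroup.centralizer (Q : Set G))) := by
    intro u hu
    rw [Subgroup.mem_centralizer_iff]
    intro q hq
    exact Subtype.ext (hab q hq u hu)
  have hfinL : Fintype (Subgroup.centralizer
      ((P.subgroupOf (Subgroup.centralizer (Q : Set G)) :
        Subgroup (Subgroup.centralizer (Q : Set G))) : Set (Subgroup.centralizer (Q : Set G)))) :=
    Fintype.ofFinite _
  have hind := isInducedBlock_of_covering hM (P.subgroupOf (Subgroup.centralizer (Q : Set G)))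
    (Subgroup.centralizer ((P.subgroupOf (Subgroup.centralizer (Q : Set G)) :
        Subgroup (Subgroup.centralizer (Q : Set G))) : Set (Subgroup.centralizer (Q : Set G))))
    hpair.1.1 hPKab le_rfl (Subgroup.centralizer_le_normalizer _) Subgroup.le_normalizer f
    (downBlock (Subgroup.centralizer (Q : Set G)) P hPK hCK e) hpair
    (downBlock (Subgroup.centralizer (Q : Set G)) P hPK hCK e) hpair.1.2
    (fun t => by
      rw [orbitSum_of_stable _ _ _ _ (fun t ht => stabilizesBlock_of_mem_self _ _ t ht)]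
      exact (extFun_of_mem _ _ t.2).symm)
  exact isInducedBlockIn_of_isInducedBlock_down (Subgroup.centralizer (Q : Set G)) P hPK hCK e
    hPe.2 f hind

end Abelian

section Main

variable {G : Type*} [Group G] [Fintype G] {M : Ideal AlgInt} {p : ℕ} [Fact p.Prime]

/-- **Free inertial action ⇒ nilpotent local blocks**, for abelian defect groups. -/
theorem isNilpotentBlock_of_free_action (hM : IsPModular p M)
    (B : Set (IrrCharacter G)) (P : Subgroup G)
    (e : Set (IrrCharacter (Subgroup.centralizer (P : Set G))))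
    (hmax : IsMaximalBrauerPair p M B P e) (hab : ∀ x ∈ P, ∀ y ∈ P, x * y = y * x)
    (hfree : ∀ g ∈ stabT P e, ∀ x ∈ P, x ≠ 1 → g * x * g⁻¹ = x →
      g ∈ Subgroup.centralizer (P : Set G))
    (Q : Subgroup G) (hQP : Q ≤ P) (hQ1 : Q ≠ ⊥)
    (f : Set (IrrCharacter (Subgroup.centralizer (Q : Set G))))
    (hf : IsPBlock M f) (hle : SubpairLE p M Q f P e) : IsNilpotentBlock p M f := by
  classical
  have hPe : IsBrauerPair p M P e := hmax.1.1
  have hQp : IsPGroup p Q := hPe.1.to_le hQP
  have hQfB : IsBrauerPairOf p M B Q f :=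
    (isBrauerPairOf_iff_of_subpairLE hM P Q e f hPe ⟨hQp, hf⟩ hle B).mp hmax.1
  refine ⟨hf, ?_⟩
  intro R k hRk x hxN hxS _
  have hsub := isNormalSubpair_loc Q hQp f R k hRk
  have hB' : IsBrauerPairOf p M B (Q ⊔ R.map (Subgroup.centralizer (Q : Set G)).subtype)
      (Helper78.irrMap (locIso Q R) '' k) :=
    (isBrauerPairOf_iff_of_subpairLE hM _ Q _ f hsub.2.1 hQfB.1
      (Relation.ReflTransGen.single hsub) B).mpr hQfB
  have hxNG : (x : G) ∈ Subgroup.normalizer
      ((Q ⊔ R.map (Subgroup.centralizer (Q : Set G)).subtype : Subgroup G) : Set G) := by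
    apply mem_normalizer_sup
    · exact Subgroup.centralizer_le_normalizer _ x.2
    · exact Subgroup.le_normalizer_map _ ⟨x, hxN, rfl⟩
  have hxSG := stabilizesBlock_loc Q R k x hxS hxNG
  obtain ⟨g, hleg⟩ := exists_conj_subpairLE hM B P _ e _ hmax hB'
  have hS'P := le_of_reflTransGen hleg
  have hx'N := (mem_normalizer_map_conj_iff _ g (x : G)).mpr hxNG
  have hx'S := (stabilizesBlock_conjBlock_iff _ g (x : G) _).mpr hxSG
  have hx'T := (mem_stabT _ _ _).mpr ⟨hx'N, hx'S⟩
  have hf' := isPBlock_conjBlock (Q ⊔ R.map (Subgroup.centralizer (Q : Set G)).subtype) g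
    hB'.1.2
  obtain ⟨y, hy, c, hc, hxyc⟩ := exists_mul_of_mem_stabT_of_abelian hM B P e hmax hab _ _ hS'P
    hf' hleg _ hx'T
  -- a non-identity element of `Q`
  obtain ⟨q, hq, hq1⟩ := (Subgroup.ne_bot_iff_exists_ne_one.mp hQ1 : ∃ a : Q, a ≠ 1) |> fun ⟨a, ha⟩ =>
    (⟨(a : G), a.2, fun h => ha (Subtype.ext h)⟩ : ∃ q : G, q ∈ Q ∧ q ≠ 1)
  have hzS : g * q * g⁻¹ ∈ (Q ⊔ R.map (Subgroup.centralizer (Q : Set G)).subtype).map
      (MulAut.conj g).toMonoidHom := ⟨q, Subgroup.mem_sup_left hq, rfl⟩
  have hzP : g * q * g⁻¹ ∈ P := hS'P hzS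
  have hz1 : g * q * g⁻¹ ≠ 1 := by
    intro h
    apply hq1
    have : q = g⁻¹ * (g * q * g⁻¹) * g := by group
    rw [this, h]
    group
  have hxq : (x : G) * q = q * (x : G) := (Subgroup.mem_centralizer_iff.mp x.2 q hq).symm
  have hcz : c * (g * q * g⁻¹) = (g * q * g⁻¹) * c :=
    (Subgroup.mem_centralizer_iff.mp hc _ hzS).symm
  have hyz : y * (g * q * g⁻¹) * y⁻¹ = g * q * g⁻¹ := by
    have hy' : y = g * (x : G) * g⁻¹ * c⁻¹ := by rw [hxyc]; group
    have hciz : c⁻¹ * (g * q * g⁻¹) = (g * q * g⁻¹) * c⁻¹ :=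
      (Commute.inv_left (show Commute c (g * q * g⁻¹) from hcz)).eq
    rw [hy']
    calc g * (x : G) * g⁻¹ * c⁻¹ * (g * q * g⁻¹) * (g * (x : G) * g⁻¹ * c⁻¹)⁻¹
        = g * (x : G) * g⁻¹ * (c⁻¹ * (g * q * g⁻¹)) * (g * (x : G) * g⁻¹ * c⁻¹)⁻¹ := by group
      _ = g * (x : G) * g⁻¹ * ((g * q * g⁻¹) * c⁻¹) * (g * (x : G) * g⁻¹ * c⁻¹)⁻¹ := by rw [hciz]
      _ = g * ((x : G) * q) * (x : G)⁻¹ * g⁻¹ := by group
      _ = g * (q * (x : G)) * (x : G)⁻¹ * g⁻¹ := by rw [hxq]
      _ = g * q * g⁻¹ := by group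
  have hyC : y ∈ Subgroup.centralizer (P : Set G) := hfree y hy _ hzP hz1 hyz
  have hc' : g * (x : G) * g⁻¹ ∈ Subgroup.centralizer
      (((Q ⊔ R.map (Subgroup.centralizer (Q : Set G)).subtype).map
        (MulAut.conj g).toMonoidHom : Subgroup G) : Set G) := by
    rw [hxyc]
    exact Subgroup.mul_mem _ (Subgroup.centralizer_le hS'P hyC) hc
  have h4 := (mem_centralizer_map_conj_iff _ g (g * (x : G) * g⁻¹)).mp hc'
  have h5 : g⁻¹ * (g * (x : G) * g⁻¹) * g = (x : G) := by group
  rw [h5] at h4
  have h2 := ((mem_centralizer_sup_iff _ _ _).mp h4).2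
  intro a ha
  exact Subtype.ext (h2 (a : G) ⟨a, ha, rfl⟩)

/-- **Nilpotent local block ⇒ the inertial elements centralizing `Q` centralize `P`**, for
abelian defect groups. -/
theorem mem_centralizer_of_local_nilpotent (hM : IsPModular p M)
    (B : Set (IrrCharacter G)) (P : Subgroup G)
    (e : Set (IrrCharacter (Subgroup.centralizer (P : Set G))))
    (hmax : IsMaximalBrauerPair p M B P e) (hab : ∀ x ∈ P, ∀ y ∈ P, x * y = y * x)
    (Q : Subgroup G) (hQP : Q ≤ P)
    (f : Set (IrrCharacter (Subgroup.centralizer (Q : Set G))))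
    (hf : IsPBlock M f) (hle : SubpairLE p M Q f P e) (hnil : IsNilpotentBlock p M f)
    (g : G) (hg : g ∈ stabT P e) (hgQ : g ∈ Subgroup.centralizer (Q : Set G)) :
    g ∈ Subgroup.centralizer (P : Set G) := by
  classical
  have hfinK : Fintype (Subgroup.centralizer (Q : Set G)) := Fintype.ofFinite _
  have hPK := le_centralizer_of_abelian P Q hab hQP
  have hCK : Subgroup.centralizer (P : Set G) ≤ Subgroup.centralizer (Q : Set G) :=
    Subgroup.centralizer_le hQP
  have hmaxK := isMaximalBrauerPair_down_of_abelian hM B P e hmax hab Q f hQP hf hle hPK hCK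
  obtain ⟨hgN, hgS⟩ := (mem_stabT P e g).mp hg
  have hgN' := mem_normalizer_subgroupOf (Subgroup.centralizer (Q : Set G)) P ⟨g, hgQ⟩ hgN
  have hgS' := stabilizesBlock_down (Subgroup.centralizer (Q : Set G)) P hPK hCK e ⟨g, hgQ⟩
    hgS hgN'
  have habK : ∀ x ∈ P.subgroupOf (Subgroup.centralizer (Q : Set G)),
      ∀ y ∈ P.subgroupOf (Subgroup.centralizer (Q : Set G)), x * y = y * x :=
    fun x hx y hy => Subtype.ext (hab x hx y hy)
  have h1 := mem_centralizer_of_isNilpotentBlock_of_abelian hM f _ _ hmaxK habK hnil ⟨g, hgQ⟩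
    hgN' hgS'
  exact (Helper78.mem_centralizer_subgroupOf_iff hPK ⟨g, hgQ⟩).mp h1

/-- **Free inertial action ⇔ nilpotent local blocks**, for a block with a commutative defect
group. -/
theorem abelian_free_action_iff_local_nilpotent (hM : IsPModular p M)
    (B : Set (IrrCharacter G)) (hB : IsPBlock M B) (P : Subgroup G)
    (hPD : IsDefectGroup p M B P) (hab : ∀ x ∈ P, ∀ y ∈ P, x * y = y * x)
    (c : Set (IrrCharacter (Subgroup.centralizer (P : Set G))))
    (hc : IsInducedBlock M (Subgroup.centralizer (P : Set G)) c B) (T : Subgroup G)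
    (hT : ∀ g : G, g ∈ T ↔ (g ∈ Subgroup.normalizer (P : Set G) ∧
      StabilizesBlock (Subgroup.centralizer (P : Set G)) c g)) :
    (∀ g ∈ T, ∀ x ∈ P, x ≠ 1 → g * x * g⁻¹ = x → g ∈ Subgroup.centralizer (P : Set G)) ↔
      ∀ Q : Subgroup G, Q ≤ P → Q ≠ ⊥ →
        ∀ f : Set (IrrCharacter (Subgroup.centralizer (Q : Set G))),
          IsInducedBlockIn M (Subgroup.centralizer (Q : Set G))
            (Subgroup.centralizer (P : Set G)) c f → IsNilpotentBlock p M f := by
  classical
  have hmax := isMaximalBrauerPair_of_isInducedBlock_of_abelian hM B hB P hPD hab c hc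
  have hPe : IsBrauerPair p M P c := hmax.1.1
  have hMp : M.IsPrime := isPrime_of_isPModular hM
  constructor
  · intro hfree Q hQP hQ1 f hfind
    have hfinK : Fintype (Subgroup.centralizer (Q : Set G)) := Fintype.ofFinite _
    obtain ⟨f', hf', hle⟩ := exists_subpairLE hM P c hPe _ Q hQP le_rfl
    have hX := isInducedBlockIn_of_subpairLE_of_abelian hM P c hPe hab Q f' hQP hf' hle
    have hff' : f = f' :=
      isInducedBlockIn_unique (Subgroup.centralizer (Q : Set G))
        (Subgroup.centralizer (P : Set G)) hfind hX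
    rw [hff']
    apply isNilpotentBlock_of_free_action hM B P c hmax hab _ Q hQP hQ1 f' hf' hle
    intro g hg
    exact hfree g ((hT g).mpr ((mem_stabT P c g).mp hg))
  · intro hloc g hg x hx hx1 hgx
    have hQP : Subgroup.zpowers x ≤ P := (Subgroup.zpowers_le).mpr hx
    have hQ1 : Subgroup.zpowers x ≠ ⊥ := fun h => hx1 (Subgroup.zpowers_eq_bot.mp h)
    obtain ⟨f', hf', hle⟩ := exists_subpairLE hM P c hPe _ (Subgroup.zpowers x) hQP le_rfl
    have hX := isInducedBlockIn_of_subpairLE_of_abelian hM P c hPe hab (Subgroup.zpowers x) f'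
      hQP hf' hle
    have hnil := hloc (Subgroup.zpowers x) hQP hQ1 f' hX
    have hgQ : g ∈ Subgroup.centralizer ((Subgroup.zpowers x : Subgroup G) : Set G) := by
      rw [Subgroup.mem_centralizer_iff]
      rintro _ ⟨n, rfl⟩
      have hcomm : Commute x g := by
        show x * g = g * x
        have h9 : g * x = g * x * g⁻¹ * g := by group
        rw [h9, hgx]
      exact (hcomm.zpow_left n).eq
    exact mem_centralizer_of_local_nilpotent hM B P c hmax hab (Subgroup.zpowers x) hQP f' hf'
      hle hnil g ((mem_stabT P c g).mpr ((hT g).mp hg)) hgQ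

end Main

end Cfsg.Agent.Helper77
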