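import Cfsg.Agent.Helper77.ExtFirstMain

/-!
# Transport of Brauer pairs between a subgroup `K` and the whole group

For a subgroup `K` of `G` and a subgroup `A` of `K` whose centralizer in `G` lies in `K`, the
centralizer of `A` in `K` is "the same" as the centralizer of (the image of) `A` in `G`.  This file
transports Brauer pairs and their inclusions along this identification.

(helper77, file 30.)
-/

set_option autoImplicit false
set_option linter.unusedSectionVars false

namespace Cfsg.Agent.Helper77

open Cfsg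
open Cfsg.Agent.Helper16 (omega conv classInd deltaOne)

variable {G : Type*} [Group G] [Fintype G] {M : Ideal AlgInt} {p : ℕ}

section Cent

variable (K : Subgroup G) [Fintype K]

theorem coe_mem_centralizer_map (A : Subgroup K) (c : K)
    (hc : c ∈ Subgroup.centralizer (A : Set K)) :
    (c : G) ∈ Subgroup.centralizer ((A.map K.subtype : Subgroup G) : Set G) := by
  rintro _ ⟨a, ha, rfl⟩
  exact congrArg Subtype.val (hc a ha)

theorem mem_centralizer_of_coe_mem (A : Subgroup K) (c : K)
    (hc : (c : G) ∈ Subgroup.centralizer ((A.map K.subtype : Subgroup G) : Set G)) :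
    c ∈ Subgroup.centralizer (A : Set K) := by
  intro a ha
  exact Subtype.ext (hc (a : G) ⟨a, ha, rfl⟩)

/-- The identification of `C_K(A)` with `C_G(A)` when `C_G(A) ≤ K`. -/
def centIso (A : Subgroup K)
    (hA : Subgroup.centralizer ((A.map K.subtype : Subgroup G) : Set G) ≤ K) :
    ↥(Subgroup.centralizer (A : Set K)) ≃*
      ↥(Subgroup.centralizer ((A.map K.subtype : Subgroup G) : Set G)) where
  toFun c := ⟨((c : K) : G), coe_mem_centralizer_map K A c c.2⟩
  invFun c := ⟨⟨(c : G), hA c.2⟩, mem_centralizer_of_coe_mem K A ⟨(c : G), hA c.2⟩ c.2⟩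
  left_inv _ := rfl
  right_inv _ := rfl
  map_mul' _ _ := rfl

theorem coe_centIso_apply (A : Subgroup K)
    (hA : Subgroup.centralizer ((A.map K.subtype : Subgroup G) : Set G) ≤ K)
    (c : Subgroup.centralizer (A : Set K)) : ((centIso K A hA c : _) : G) = ((c : K) : G) := rfl

theorem coe_centIso_symm_apply (A : Subgroup K)
    (hA : Subgroup.centralizer ((A.map K.subtype : Subgroup G) : Set G) ≤ K)
    (c : Subgroup.centralizer ((A.map K.subtype : Subgroup G) : Set G)) :
    ((((centIso K A hA).symm c : _) : K) : G) = (c : G) := rfl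

/-- The set of characters of `C_G(A)` corresponding to a set of characters of `C_K(A)`. -/
def upBlock (A : Subgroup K) (α : Set (IrrCharacter (Subgroup.centralizer (A : Set K)))) :
    Set (IrrCharacter (Subgroup.centralizer ((A.map K.subtype : Subgroup G) : Set G))) :=
  {ξ | ∃ ξ' ∈ α, ∀ (c : Subgroup.centralizer ((A.map K.subtype : Subgroup G) : Set G))
    (c' : Subgroup.centralizer (A : Set K)), (c : G) = ((c' : K) : G) →
      (ξ : _ → ℂ) c = (ξ' : _ → ℂ) c'}

theorem upBlock_eq_image (A : Subgroup K)
    (hA : Subgroup.centralizer ((A.map K.subtype : Subgroup G) : Set G) ≤ K)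
    (α : Set (IrrCharacter (Subgroup.centralizer (A : Set K)))) :
    upBlock K A α = Helper78.irrMap (centIso K A hA) '' α := by
  ext ξ
  constructor
  · rintro ⟨ξ', hξ', hrel⟩
    refine ⟨ξ', hξ', ?_⟩
    apply Subtype.ext
    funext c
    rw [Helper78.irrMap_apply]
    exact (hrel c _ rfl).symm
  · rintro ⟨ξ', hξ', rfl⟩
    refine ⟨ξ', hξ', fun c c' hcc' => ?_⟩
    rw [Helper78.irrMap_apply]
    have : (centIso K A hA).symm c = c' := Subtype.ext (Subtype.ext hcc')
    rw [this]

/-- The transport of the index of a Brauer pair of `K` to `G`. -/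
def upIdx (a : BrauerPairIdx K) : BrauerPairIdx G :=
  ⟨a.1.map K.subtype, upBlock K a.1 a.2⟩

/-- Extension by zero in two steps. -/
theorem extFun_extFun_centralizer (A : Subgroup K)
    (hA : Subgroup.centralizer ((A.map K.subtype : Subgroup G) : Set G) ≤ K)
    (s : Subgroup.centralizer (A : Set K) → ℂ) :
    extFun K (extFun (Subgroup.centralizer (A : Set K)) s) =
      extFun (Subgroup.centralizer ((A.map K.subtype : Subgroup G) : Set G))
        (fun c => s ((centIso K A hA).symm c)) := by
  funext g
  by_cases hg : g ∈ Subgroup.centralizer ((A.map K.subtype : Subgroup G) : Set G)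
  · have hgK : g ∈ K := hA hg
    have hg' : (⟨g, hgK⟩ : K) ∈ Subgroup.centralizer (A : Set K) :=
      mem_centralizer_of_coe_mem K A ⟨g, hgK⟩ hg
    rw [extFun_of_mem _ _ hg, extFun_of_mem K _ hgK, extFun_of_mem _ _ hg']
    rfl
  · rw [extFun_of_not_mem _ _ hg]
    by_cases hgK : g ∈ K
    · rw [extFun_of_mem K _ hgK]
      have hg' : (⟨g, hgK⟩ : K) ∉ Subgroup.centralizer (A : Set K) :=
        fun h => hg (coe_mem_centralizer_map K A ⟨g, hgK⟩ h)
      exact extFun_of_not_mem _ _ hg'
    · exact extFun_of_not_mem K _ hgK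

theorem funSetIdx_upIdx (a : BrauerPairIdx K)
    (hA : Subgroup.centralizer ((a.1.map K.subtype : Subgroup G) : Set G) ≤ K) :
    funSetIdx (upIdx K a) = extFun K '' funSetIdx a := by
  show funSet (a.1.map K.subtype) (upBlock K a.1 a.2) = extFun K '' funSet a.1 a.2
  rw [upBlock_eq_image K a.1 hA]
  unfold funSet
  rw [Set.image_image, Set.image_image]
  refine Set.image_congr (fun ξ _ => ?_)
  rw [extFun_extFun_centralizer K a.1 hA]
  rfl

theorem stabilizesBlock_up (A : Subgroup K)
    (hA : Subgroup.centralizer ((A.map K.subtype : Subgroup G) : Set G) ≤ K)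
    (α : Set (IrrCharacter (Subgroup.centralizer (A : Set K)))) (x : K)
    (h : StabilizesBlock (Subgroup.centralizer (A : Set K)) α x)
    (hxN : (x : G) ∈ Subgroup.normalizer ((A.map K.subtype : Subgroup G) : Set G)) :
    StabilizesBlock (Subgroup.centralizer ((A.map K.subtype : Subgroup G) : Set G))
      (upBlock K A α) (x : G) := by
  rw [upBlock_eq_image K A hA]
  refine ⟨Helper78.normalizer_le_normalizer_centralizer _ hxN, ?_⟩
  rintro _ ⟨χ, hχ, rfl⟩
  obtain ⟨χ', hχ', hconj⟩ := h.2 χ hχ
  refine ⟨Helper78.irrMap (centIso K A hA) χ', Set.mem_image_of_mem _ hχ', ?_⟩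
  intro k k' hkk'
  rw [Helper78.irrMap_apply, Helper78.irrMap_apply]
  apply hconj
  apply Subtype.ext
  exact hkk'

theorem brauerOmega_up (A A' : Subgroup K)
    (hA : Subgroup.centralizer ((A.map K.subtype : Subgroup G) : Set G) ≤ K)
    (hA' : Subgroup.centralizer ((A'.map K.subtype : Subgroup G) : Set G) ≤ K)
    (hAA' : A ≤ A') (α : Set (IrrCharacter (Subgroup.centralizer (A : Set K))))
    (ξ : IrrCharacter (Subgroup.centralizer (A' : Set K))) :
    brauerOmega (A'.map K.subtype)
      (extFun (Subgroup.centralizer ((A.map K.subtype : Subgroup G) : Set G))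
        (blockCoeff (upBlock K A α)))
      (Helper78.irrMap (centIso K A' hA') ξ :
        Subgroup.centralizer ((A'.map K.subtype : Subgroup G) : Set G) → ℂ) =
    brauerOmega A' (extFun (Subgroup.centralizer (A : Set K)) (blockCoeff α))
      (ξ : Subgroup.centralizer (A' : Set K) → ℂ) := by
  classical
  have hf1 : Fintype (Subgroup.centralizer (A' : Set K)) := Fintype.ofFinite _
  have hf2 : Fintype (Subgroup.centralizer ((A'.map K.subtype : Subgroup G) : Set G)) :=
    Fintype.ofFinite _
  rw [brauerOmega_eq_omega, brauerOmega_eq_omega, omega_irrMap]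
  congr 1
  funext c
  show extFun (Subgroup.centralizer ((A.map K.subtype : Subgroup G) : Set G))
    (blockCoeff (upBlock K A α)) (((c : K)) : G) =
    extFun (Subgroup.centralizer (A : Set K)) (blockCoeff α) (c : K)
  rw [upBlock_eq_image K A hA]
  have hc1 : (c : K) ∈ Subgroup.centralizer (A : Set K) := Subgroup.centralizer_le hAA' c.2
  have hc2 : (((c : K)) : G) ∈ Subgroup.centralizer ((A.map K.subtype : Subgroup G) : Set G) :=
    coe_mem_centralizer_map K A c hc1
  rw [extFun_of_mem _ _ hc2, extFun_of_mem _ _ hc1, blockCoeff_image_irrMap']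
  rfl

/-- **Normal inclusions of Brauer pairs of `K` are normal inclusions of Brauer pairs of `G`.** -/
theorem isNormalSubpair_up (A A' : Subgroup K)
    (hA : Subgroup.centralizer ((A.map K.subtype : Subgroup G) : Set G) ≤ K)
    (α : Set (IrrCharacter (Subgroup.centralizer (A : Set K))))
    (α' : Set (IrrCharacter (Subgroup.centralizer (A' : Set K))))
    (h : IsNormalSubpair p M A α A' α') :
    IsNormalSubpair p M (A.map K.subtype) (upBlock K A α) (A'.map K.subtype)
      (upBlock K A' α') := by
  obtain ⟨⟨hAp, hα⟩, ⟨hA'p, hα'⟩, hAA', hA'N, hstab, hbr⟩ := h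
  have hAA'up : A.map K.subtype ≤ A'.map K.subtype := Subgroup.map_mono hAA'
  have hA' : Subgroup.centralizer ((A'.map K.subtype : Subgroup G) : Set G) ≤ K :=
    (Subgroup.centralizer_le hAA'up).trans hA
  have hA'Nup : A'.map K.subtype ≤
      Subgroup.normalizer ((A.map K.subtype : Subgroup G) : Set G) :=
    (Subgroup.map_mono hA'N).trans (Subgroup.le_normalizer_map _)
  refine ⟨⟨hAp.map _, ?_⟩, ⟨hA'p.map _, ?_⟩, hAA'up, hA'Nup, ?_, ?_⟩
  · rw [upBlock_eq_image K A hA]
    exact isPBlock_image_irrMap _ hα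
  · rw [upBlock_eq_image K A' hA']
    exact isPBlock_image_irrMap _ hα'
  · rintro _ ⟨x, hx, rfl⟩
    exact stabilizesBlock_up K A hA α x (hstab x hx) (hA'Nup ⟨x, hx, rfl⟩)
  · intro ξ hξ
    rw [upBlock_eq_image K A' hA'] at hξ
    obtain ⟨ξ', hξ', rfl⟩ := hξ
    rw [subgroupBlockCoeff_eq_extFun, brauerOmega_up K A A' hA hA' hAA' α ξ']
    exact hbr ξ' hξ'

/-- Chains of normal inclusions of Brauer pairs of `K` give chains in `G`. -/
theorem reflTransGen_up {a b : BrauerPairIdx K}
    (hab : Relation.ReflTransGen (NormalSubpairRel p M) a b)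
    (hA : Subgroup.centralizer ((a.1.map K.subtype : Subgroup G) : Set G) ≤ K) :
    Relation.ReflTransGen (NormalSubpairRel p M) (upIdx K a) (upIdx K b) := by
  refine Relation.ReflTransGen.head_induction_on
    (motive := fun a _ => Subgroup.centralizer ((a.1.map K.subtype : Subgroup G) : Set G) ≤ K →
      Relation.ReflTransGen (NormalSubpairRel p M) (upIdx K a) (upIdx K b)) hab ?_ ?_ hA
  · intro _
    exact Relation.ReflTransGen.refl
  · intro a c hac _ ih hA
    have hc : Subgroup.centralizer ((c.1.map K.subtype : Subgroup G) : Set G) ≤ K :=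
      (Subgroup.centralizer_le (Subgroup.map_mono hac.2.2.1)).trans hA
    exact Relation.ReflTransGen.head
      (show NormalSubpairRel p M (upIdx K a) (upIdx K c) from
        isNormalSubpair_up K a.1 c.1 hA a.2 c.2 hac) (ih hc)

theorem extFun_conjFun (t : K) (φ : K → ℂ) :
    extFun K (conjFun t φ) = conjFun (t : G) (extFun K φ) := by
  funext g
  rw [conjFun_apply]
  by_cases hg : g ∈ K
  · have hg' : (t : G)⁻¹ * g * (t : G) ∈ K := K.mul_mem (K.mul_mem (K.inv_mem t.2) hg) t.2
    rw [extFun_of_mem K _ hg, extFun_of_mem K _ hg', conjFun_apply]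
    rfl
  · have hg' : (t : G)⁻¹ * g * (t : G) ∉ K := by
      intro h
      apply hg
      have e : g = (t : G) * ((t : G)⁻¹ * g * (t : G)) * (t : G)⁻¹ := by group
      rw [e]
      exact K.mul_mem (K.mul_mem t.2 h) (K.inv_mem t.2)
    rw [extFun_of_not_mem K _ hg, extFun_of_not_mem K _ hg']

theorem map_conj_map_subtype (t : K) (A : Subgroup K) :
    (A.map (MulAut.conj t).toMonoidHom).map K.subtype =
      (A.map K.subtype).map (MulAut.conj (t : G)).toMonoidHom := by
  rw [Subgroup.map_map, Subgroup.map_map]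
  rfl

theorem centralizer_up_conjIdx_le (t : K) (a : BrauerPairIdx K)
    (hA : Subgroup.centralizer ((a.1.map K.subtype : Subgroup G) : Set G) ≤ K) :
    Subgroup.centralizer ((((conjIdx t a).1).map K.subtype : Subgroup G) : Set G) ≤ K := by
  show Subgroup.centralizer
    (((a.1.map (MulAut.conj t).toMonoidHom).map K.subtype : Subgroup G) : Set G) ≤ K
  rw [map_conj_map_subtype]
  intro g hg
  have h2 := hA ((mem_centralizer_map_conj_iff (a.1.map K.subtype) (t : G) g).mp hg)
  have e : g = (t : G) * ((t : G)⁻¹ * g * (t : G)) * (t : G)⁻¹ := by group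
  rw [e]
  exact K.mul_mem (K.mul_mem t.2 h2) (K.inv_mem t.2)

/-- Transport commutes with conjugation by elements of `K`. -/
theorem upIdx_conjIdx (t : K) (a : BrauerPairIdx K)
    (hA : Subgroup.centralizer ((a.1.map K.subtype : Subgroup G) : Set G) ≤ K) :
    upIdx K (conjIdx t a) = conjIdx (t : G) (upIdx K a) := by
  have h1 := map_conj_map_subtype K t a.1
  have hA' := centralizer_up_conjIdx_le K t a hA
  apply idx_ext
  · exact h1
  · rw [funSetIdx_upIdx K _ hA', funSetIdx_conjIdx, funSetIdx_conjIdx, funSetIdx_upIdx K a hA,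
      Set.image_image, Set.image_image]
    exact Set.image_congr (fun φ _ => extFun_conjFun K t φ)

/-- The identification of `C_G(R)` with `C_K(R)` for `R ≤ K` with `C_G(R) ≤ K`. -/
def centDown (R : Subgroup G) (hRK : R ≤ K) (hR : Subgroup.centralizer (R : Set G) ≤ K) :
    ↥(Subgroup.centralizer (R : Set G)) ≃*
      ↥(Subgroup.centralizer ((R.subgroupOf K : Subgroup K) : Set K)) where
  toFun c := ⟨⟨(c : G), hR c.2⟩, (Helper78.mem_centralizer_subgroupOf_iff hRK _).mpr c.2⟩
  invFun c := ⟨((c : K) : G), (Helper78.mem_centralizer_subgroupOf_iff hRK c.1).mp c.2⟩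
  left_inv _ := rfl
  right_inv _ := rfl
  map_mul' _ _ := rfl

/-- The set of characters of `C_K(R)` corresponding to a set of characters of `C_G(R)`. -/
def downBlock (R : Subgroup G) (hRK : R ≤ K) (hR : Subgroup.centralizer (R : Set G) ≤ K)
    (h : Set (IrrCharacter (Subgroup.centralizer (R : Set G)))) :
    Set (IrrCharacter (Subgroup.centralizer ((R.subgroupOf K : Subgroup K) : Set K))) :=
  Helper78.irrMap (centDown K R hRK hR) '' h

theorem map_subtype_subgroupOf (R : Subgroup G) (hRK : R ≤ K) :
    (R.subgroupOf K).map K.subtype = R := by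
  rw [Subgroup.subgroupOf_map_subtype]
  exact inf_eq_left.mpr hRK

theorem extFun_extFun_centDown (R : Subgroup G) (hRK : R ≤ K)
    (hR : Subgroup.centralizer (R : Set G) ≤ K)
    (s : Subgroup.centralizer (R : Set G) → ℂ) :
    extFun K (extFun (Subgroup.centralizer ((R.subgroupOf K : Subgroup K) : Set K))
      (fun c' => s ((centDown K R hRK hR).symm c'))) =
      extFun (Subgroup.centralizer (R : Set G)) s := by
  funext g
  by_cases hg : g ∈ Subgroup.centralizer (R : Set G)
  · have hgK : g ∈ K := hR hg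
    have hg' : (⟨g, hgK⟩ : K) ∈ Subgroup.centralizer ((R.subgroupOf K : Subgroup K) : Set K) :=
      (Helper78.mem_centralizer_subgroupOf_iff hRK _).mpr hg
    rw [extFun_of_mem _ _ hg, extFun_of_mem K _ hgK, extFun_of_mem _ _ hg']
    rfl
  · rw [extFun_of_not_mem _ _ hg]
    by_cases hgK : g ∈ K
    · rw [extFun_of_mem K _ hgK]
      have hg' : (⟨g, hgK⟩ : K) ∉
          Subgroup.centralizer ((R.subgroupOf K : Subgroup K) : Set K) :=
        fun h => hg ((Helper78.mem_centralizer_subgroupOf_iff hRK _).mp h)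
      exact extFun_of_not_mem _ _ hg'
    · exact extFun_of_not_mem K _ hgK

/-- Going down and up again gives back the pair. -/
theorem upIdx_down (R : Subgroup G) (hRK : R ≤ K) (hR : Subgroup.centralizer (R : Set G) ≤ K)
    (h : Set (IrrCharacter (Subgroup.centralizer (R : Set G)))) :
    upIdx K ⟨R.subgroupOf K, downBlock K R hRK hR h⟩ = ⟨R, h⟩ := by
  have h1 := map_subtype_subgroupOf K R hRK
  have hA : Subgroup.centralizer
      ((((⟨R.subgroupOf K, downBlock K R hRK hR h⟩ : BrauerPairIdx K).1).map K.subtype :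
        Subgroup G) : Set G) ≤ K := by
    show Subgroup.centralizer (((R.subgroupOf K).map K.subtype : Subgroup G) : Set G) ≤ K
    rw [h1]
    exact hR
  apply idx_ext
  · exact h1
  · rw [funSetIdx_upIdx K _ hA]
    show extFun K '' funSet (R.subgroupOf K) (downBlock K R hRK hR h) = funSet R h
    unfold funSet downBlock
    rw [Set.image_image, Set.image_image]
    refine Set.image_congr (fun ξ _ => ?_)
    exact extFun_extFun_centDown K R hRK hR (ξ : Subgroup.centralizer (R : Set G) → ℂ)

/-- A Brauer pair of `G` containing `(Q, f)` normally gives a Brauer pair, in `K`, of the block of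
`K` with the idempotent of `f`. -/
theorem isBrauerPairOf_down [M.IsPrime] (Q R : Subgroup G)
    (f : Set (IrrCharacter (Subgroup.centralizer (Q : Set G))))
    (h : Set (IrrCharacter (Subgroup.centralizer (R : Set G))))
    (hsub : IsNormalSubpair p M Q f R h) (hRK : R ≤ K)
    (hCK : Subgroup.centralizer (Q : Set G) ≤ K)
    (F : Set (IrrCharacter K)) (hF : IsPBlock M F)
    (hFf : ∀ t : K, blockCoeff F t =
      extFun (Subgroup.centralizer (Q : Set G)) (blockCoeff f) (t : G)) :
    IsBrauerPairOf p M F (R.subgroupOf K)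
      (downBlock K R hRK ((Subgroup.centralizer_le hsub.2.2.1).trans hCK) h) := by
  classical
  have hMp : M.IsPrime := inferInstance
  have hR : Subgroup.centralizer (R : Set G) ≤ K := (Subgroup.centralizer_le hsub.2.2.1).trans hCK
  obtain ⟨_, ⟨hRp, hh⟩, hQR, _, _, hbr⟩ := hsub
  have hf1 : Fintype (Subgroup.centralizer (R : Set G)) := Fintype.ofFinite _
  have hf2 : Fintype (Subgroup.centralizer ((R.subgroupOf K : Subgroup K) : Set K)) :=
    Fintype.ofFinite _
  refine ⟨⟨hRp.comap_subtype, isPBlock_image_irrMap _ hh⟩, hF, ?_⟩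
  rintro _ ⟨ξ, hξ, rfl⟩
  have h1 := hbr ξ hξ
  rw [subgroupBlockCoeff_eq_extFun, brauerOmega_eq_omega] at h1
  rw [brauerOmega_eq_omega, omega_irrMap]
  have : (fun c : Subgroup.centralizer (R : Set G) =>
      resFun (Subgroup.centralizer ((R.subgroupOf K : Subgroup K) : Set K)) (blockCoeff F)
        (centDown K R hRK hR c)) =
      resFun (Subgroup.centralizer (R : Set G))
        (extFun (Subgroup.centralizer (Q : Set G)) (blockCoeff f)) := by
    funext c
    show blockCoeff F (⟨(c : G), hR c.2⟩ : K) = _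
    rw [hFf]
    rfl
  rw [this]
  exact h1

/-- **Sylow theorem for Brauer pairs over `(Q, f)` inside `K`.**  If `(Q, f) ⊴ (D, k)` and
`(Q, f) ⊴ (R, h)` with `D, R ≤ K`, `C_G(Q) ≤ K`, and `D` has the order of a defect group of the
block of `K` with the idempotent of `f`, then some `K`-conjugate of `(R, h)` lies below `(D, k)`. -/
theorem exists_conj_subpairLE_over [Fact p.Prime] (hM : IsPModular p M) (Q D R : Subgroup G)
    (f : Set (IrrCharacter (Subgroup.centralizer (Q : Set G))))
    (k : Set (IrrCharacter (Subgroup.centralizer (D : Set G))))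
    (h : Set (IrrCharacter (Subgroup.centralizer (R : Set G))))
    (hD : IsNormalSubpair p M Q f D k) (hRsub : IsNormalSubpair p M Q f R h)
    (hDK : D ≤ K) (hRK : R ≤ K) (hCK : Subgroup.centralizer (Q : Set G) ≤ K)
    (F : Set (IrrCharacter K)) (hF : IsPBlock M F)
    (hFf : ∀ t : K, blockCoeff F t =
      extFun (Subgroup.centralizer (Q : Set G)) (blockCoeff f) (t : G))
    (hcard : Nat.card D = p ^ blockDefect p F) :
    ∃ t ∈ K, SubpairLE p M (R.map (MulAut.conj t).toMonoidHom) (conjBlock R t h) D k := by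
  have hMp : M.IsPrime := isPrime_of_isPModular hM
  have hRC : Subgroup.centralizer (R : Set G) ≤ K :=
    (Subgroup.centralizer_le hRsub.2.2.1).trans hCK
  have hDC : Subgroup.centralizer (D : Set G) ≤ K :=
    (Subgroup.centralizer_le hD.2.2.1).trans hCK
  have hRpair := isBrauerPairOf_down K Q R f h hRsub hRK hCK F hF hFf
  have hDpair := isBrauerPairOf_down K Q D f k hD hDK hCK F hF hFf
  have hDmax : IsMaximalBrauerPair p M F (D.subgroupOf K) (downBlock K D hDK hDC k) :=
    isMaximalBrauerPair_of_card hM F _ _ hDpair (by rw [card_subgroupOf_of_le hDK, hcard])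
  obtain ⟨t, ht⟩ := exists_conj_subpairLE hM F (D.subgroupOf K) (R.subgroupOf K) _ _ hDmax hRpair
  refine ⟨(t : G), t.2, ?_⟩
  have hA : Subgroup.centralizer
      ((((⟨R.subgroupOf K, downBlock K R hRK hRC h⟩ : BrauerPairIdx K).1).map K.subtype :
        Subgroup G) : Set G) ≤ K := by
    show Subgroup.centralizer (((R.subgroupOf K).map K.subtype : Subgroup G) : Set G) ≤ K
    rw [map_subtype_subgroupOf K R hRK]
    exact hRC
  have hup := reflTransGen_up K
    (a := conjIdx t ⟨R.subgroupOf K, downBlock K R hRK hRC h⟩)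
    (b := ⟨D.subgroupOf K, downBlock K D hDK hDC k⟩) ht
    (centralizer_up_conjIdx_le K t _ hA)
  rw [upIdx_conjIdx K t _ hA, upIdx_down, upIdx_down] at hup
  exact hup

end Cent

end Cfsg.Agent.Helper77
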