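import Cfsg.Agent.Helper77.ChevLinCert

/-!
Helper77: if a word `w` in the simple reflections sends the fundamental roots `p_i`, `i ∈ K`, to negative roots then it
sends every positive root of `Φ_K` to a negative root (piece (LIN) of helper19's plan for S2314).
-/

set_option autoImplicit false

namespace Cfsg.Agent.Helper77.ChevLin

open Cfsg Cfsg.Lie Cfsg.Agent.Helper18

theorem list_range_map_sum (n : ℕ) (f : ℕ → ℤ) : ((List.range n).map f).sum = ∑ k ∈ Finset.range n, f k := by
  induction n with
  | zero => simp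
  | succ n ih => rw [List.range_succ, List.map_append, List.sum_append, ih, Finset.sum_range_succ]; simp

theorem getD_eq_getElem (a : Array ℤ) (j : ℕ) (hj : j < a.size) : a.getD j 0 = a[j] := by
  simp [Array.getD, hj]

theorem linOK_spec (D : ChevalleyDatum) (tabs : List ℕ) (ht : tabsOK D tabs = true)
    (h : linOK D tabs = true) (r : ℕ) (hr : r < D.nroots) (hsl : ∀ k < D.rank, D.simple k < D.nroots) :
    (D.coroot.getD r #[]).size = D.rank ∧ ∀ i < D.rank, ∀ j < D.rank,
      cv D (D.reflectRoot i r) j = ∑ k ∈ Finset.range D.rank, cv D r k * cv D (D.reflectRoot i (D.simple k)) j := by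
  unfold linOK at h
  rw [List.all_eq_true] at h
  have h1 := h r (List.mem_range.mpr hr)
  rw [Bool.and_eq_true, decide_eq_true_eq, List.all_eq_true] at h1
  refine ⟨h1.1, fun i hi j hj => ?_⟩
  have h2 := h1.2 i (List.mem_range.mpr hi)
  rw [List.all_eq_true] at h2
  have h3 := h2 j (List.mem_range.mpr hj)
  rw [decide_eq_true_eq] at h3
  rw [(tabsOK_spec D tabs ht i r hi hr).1] at h3
  rw [h3, list_range_map_sum]
  refine Finset.sum_congr rfl fun k hk => ?_
  rw [(tabsOK_spec D tabs ht i _ hi (hsl k (Finset.mem_range.mp hk))).1]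

/-- linearity along a word -/
theorem cv_rho (D : ChevalleyDatum) (tabs : List ℕ) (ht : tabsOK D tabs = true) (hs : simpleOK D = true)
    (h : linOK D tabs = true) (w : List ℕ) (hw : ∀ i ∈ w, i < D.rank) (r : ℕ) (hr : r < D.nroots) :
    rho D w r < D.nroots ∧ ∀ j < D.rank,
      cv D (rho D w r) j = ∑ k ∈ Finset.range D.rank, cv D r k * cv D (rho D w (D.simple k)) j := by
  have hsl : ∀ k < D.rank, D.simple k < D.nroots := fun k hk => simple_lt D hs k hk
  have hδ : ∀ k < D.rank, ∀ j < D.rank, cv D (D.simple k) j = if j = k then 1 else 0 := by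
    intro k hk j hj
    unfold simpleOK at hs
    rw [List.all_eq_true] at hs
    have h1 := hs k (List.mem_range.mpr hk)
    rw [Bool.and_eq_true, List.all_eq_true] at h1
    have := h1.2 j (List.mem_range.mpr hj)
    rwa [decide_eq_true_eq] at this
  induction w generalizing r with
  | nil =>
    refine ⟨hr, fun j hj => ?_⟩
    simp only [rho, List.foldr_nil]
    rw [Finset.sum_eq_single j]
    · rw [hδ j hj j hj, if_pos rfl, mul_one]
    · intro k hk hkj
      rw [hδ k (Finset.mem_range.mp hk) j hj, if_neg (Ne.symm hkj), mul_zero]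
    · intro hj'
      exact absurd (Finset.mem_range.mpr hj) hj'
  | cons i w ih =>
    have hw' : ∀ i ∈ w, i < D.rank := fun j hj => hw j (List.mem_cons_of_mem _ hj)
    have hi := hw i List.mem_cons_self
    have ihr := ih hw' r hr
    have hstep : ∀ s, rho D (i :: w) s = D.reflectRoot i (rho D w s) := fun s => rfl
    refine ⟨?_, fun j hj => ?_⟩
    · rw [hstep]
      exact (tabsOK_spec D tabs ht i _ hi ihr.1).2
    · rw [hstep, (linOK_spec D tabs ht h _ ihr.1 hsl).2 i hi j hj]
      calc ∑ k ∈ Finset.range D.rank, cv D (rho D w r) k * cv D (D.reflectRoot i (D.simple k)) j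
          = ∑ k ∈ Finset.range D.rank, (∑ l ∈ Finset.range D.rank, cv D r l * cv D (rho D w (D.simple l)) k) *
              cv D (D.reflectRoot i (D.simple k)) j := by
            refine Finset.sum_congr rfl fun k hk => ?_
            rw [ihr.2 k (Finset.mem_range.mp hk)]
        _ = ∑ l ∈ Finset.range D.rank, cv D r l * ∑ k ∈ Finset.range D.rank,
              cv D (rho D w (D.simple l)) k * cv D (D.reflectRoot i (D.simple k)) j := by
            simp_rw [Finset.sum_mul, Finset.mul_sum]
            rw [Finset.sum_comm]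
            refine Finset.sum_congr rfl fun l _ => Finset.sum_congr rfl fun k _ => ?_
            ring
        _ = ∑ l ∈ Finset.range D.rank, cv D r l * cv D (rho D (i :: w) (D.simple l)) j := by
            refine Finset.sum_congr rfl fun l hl => ?_
            have hl' := Finset.mem_range.mp hl
            have ihl := ih hw' (D.simple l) (hsl l hl')
            rw [hstep, (linOK_spec D tabs ht h _ ihl.1 hsl).2 i hi j hj]

theorem linOK_of_mem (D : ChevalleyDatum) (hD : D ∈ [chevG2, chevB2, chevD4, chevF4, chevE6, chevE7, chevE8]) :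
    ∃ tabs, tabsOK D tabs = true ∧ linOK D tabs = true := by
  simp only [List.mem_cons, List.not_mem_nil, or_false] at hD
  rcases hD with rfl | rfl | rfl | rfl | rfl | rfl | rfl
  · exact ⟨_, tabsOK_G2, linOK_G2⟩
  · exact ⟨_, tabsOK_B2, linOK_B2⟩
  · exact ⟨_, tabsOK_D4, linOK_D4⟩
  · exact ⟨_, tabsOK_F4, linOK_F4⟩
  · exact ⟨_, tabsOK_E6, linOK_E6⟩
  · exact ⟨_, tabsOK_E7, linOK_E7⟩
  · exact ⟨_, tabsOK_E8, linOK_E8⟩

/-- (LIN) if `w` sends the fundamental roots `p_i`, `i ∈ K`, to negative roots, it sends the positive roots of `Φ_K`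
to negative roots. -/
theorem rho_neg_of_simple_neg (D : ChevalleyDatum) (hD : D ∈ [chevG2, chevB2, chevD4, chevF4, chevE6, chevE7, chevE8])
    (w : List ℕ) (hw : ∀ i ∈ w, i < D.rank) (K : Set ℕ)
    (hneg : ∀ i ∈ K, i < D.rank → D.IsNegRoot (rho D w (D.simple i)))
    (r : ℕ) (hr : D.IsPosRoot r) (hrK : D.InRootSub K r) : D.IsNegRoot (rho D w r) := by
  obtain ⟨tabs, ht, hl⟩ := linOK_of_mem D hD
  have hs := simpleOK_of_mem D hD
  have hsl : ∀ k < D.rank, D.simple k < D.nroots := fun k hk => simple_lt D hs k hk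
  obtain ⟨h1, h2⟩ := cv_rho D tabs ht hs hl w hw r hr.1
  refine ⟨h1, fun c hc => ?_⟩
  have hsz := (linOK_spec D tabs ht hl _ h1 hsl).1
  rw [Array.mem_toList_iff, Array.mem_iff_getElem] at hc
  obtain ⟨j, hj, rfl⟩ := hc
  have hj' : j < D.rank := hsz ▸ hj
  have hcv : (D.coroot.getD (rho D w r) #[])[j] = cv D (rho D w r) j := by
    unfold cv
    exact (getD_eq_getElem _ _ hj).symm
  rw [hcv, h2 j hj']
  apply Finset.sum_nonpos
  intro k hk
  have hk' := Finset.mem_range.mp hk
  by_cases hkK : k ∈ K
  · apply mul_nonpos_of_nonneg_of_nonpos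
    · -- cv r k ≥ 0
      have hszr := (linOK_spec D tabs ht hl r hr.1 hsl).1
      have hkr : k < (D.coroot.getD r #[]).size := hszr ▸ hk'
      have : cv D r k = (D.coroot.getD r #[])[k] := by
        unfold cv
        exact getD_eq_getElem _ _ hkr
      rw [this]
      exact hr.2 _ (Array.mem_toList_iff.mpr (Array.getElem_mem hkr))
    · -- cv (rho w (simple k)) j ≤ 0
      have hn := hneg k hkK hk'
      have hszk := (linOK_spec D tabs ht hl _ hn.1 hsl).1
      have hjk : j < (D.coroot.getD (rho D w (D.simple k)) #[]).size := hszk ▸ hj'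
      have : cv D (rho D w (D.simple k)) j = (D.coroot.getD (rho D w (D.simple k)) #[])[j] := by
        unfold cv
        exact getD_eq_getElem _ _ hjk
      rw [this]
      exact hn.2 _ (Array.mem_toList_iff.mpr (Array.getElem_mem hjk))
  · have : cv D r k = 0 := hrK.2 k hk' hkK
    rw [this, zero_mul]

end Cfsg.Agent.Helper77.ChevLin
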