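import Cfsg.Agent.Helper77.KnorrGalois

/-!
# Galois conjugates of irreducible characters under arbitrary automorphisms of `ℂ`
-/

set_option autoImplicit false

namespace Cfsg.Agent.Helper77.DefOne

open Cfsg Cfsg.Agent.Helper77 Cfsg.Agent.Helper77.Knorr

universe u

/-- every automorphism of `ℂ` acts on the `n`-th roots of unity as a power prime to `n` -/
theorem exists_actsAsPow (σ : ℂ ≃+* ℂ) (n : ℕ) (hn : 0 < n) :
    ∃ k : ℕ, k.Coprime n ∧ ActsAsPow σ n k := by
  have : NeZero n := ⟨hn.ne'⟩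
  have hζ : IsPrimitiveRoot (Complex.exp (2 * Real.pi * Complex.I / n)) n :=
    Complex.isPrimitiveRoot_exp n hn.ne'
  have hσζ : IsPrimitiveRoot (σ (Complex.exp (2 * Real.pi * Complex.I / n))) n :=
    hζ.map_of_injective (f := (σ : ℂ →+* ℂ)) σ.injective
  obtain ⟨k, -, hk, hkeq⟩ := (hζ.isPrimitiveRoot_iff).mp hσζ
  refine ⟨k, hk, fun μ hμ => ?_⟩
  obtain ⟨j, -, rfl⟩ := hζ.eq_pow_of_pow_eq_one hμ
  rw [map_pow, ← hkeq, ← pow_mul, ← pow_mul, Nat.mul_comm k j]

/-- (GAL-2) Galois conjugates of irreducible characters are irreducible (any automorphism) -/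
theorem isIrrCharacter_ringEquiv_comp {X : Type u} [Group X] [Finite X] (σ : ℂ ≃+* ℂ)
    {χ : X → ℂ} (hχ : IsIrrCharacter X χ) : IsIrrCharacter X (fun g => σ (χ g)) := by
  obtain ⟨k, hk, hact⟩ := exists_actsAsPow σ (Nat.card X) Nat.card_pos
  exact hact.isIrr_comp hk hχ

/-- the Galois conjugate as an element of `IrrCharacter X` -/
noncomputable def sig {X : Type u} [Group X] [Finite X] (σ : ℂ ≃+* ℂ) (φ : IrrCharacter X) :
    IrrCharacter X :=
  ⟨fun g => σ ((φ : X → ℂ) g), isIrrCharacter_ringEquiv_comp σ φ.2⟩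

theorem sig_apply {X : Type u} [Group X] [Finite X] (σ : ℂ ≃+* ℂ) (φ : IrrCharacter X) (g : X) :
    (sig σ φ : X → ℂ) g = σ ((φ : X → ℂ) g) := rfl

end Cfsg.Agent.Helper77.DefOne
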