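import Cfsg.Agent.Helper77.MaxPairCriterion
import Cfsg.Agent.Helper16.StableBlock
import Cfsg.Agent.Helper15.Clifford
import Cfsg.Agent.Helper78.BlockTransport
import Cfsg.Agent.S0966

/-!
# Nilpotent blocks and normal subgroups of `p`-power index

(helper77, file 42.)
-/

set_option autoImplicit false
set_option linter.unusedSectionVars false
set_option linter.style.haveILetI false

namespace Cfsg.Agent.Helper77

open Cfsg
open Cfsg.Agent.Helper16 (omega LiesOver)

section Abstract

variable {H : Type*} [Group H] [Fintype H] {M : Ideal AlgInt} {p : ℕ}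

/-- Functoriality of the transport of irreducible characters. -/
theorem irrMap_trans {H₁ H₂ H₃ : Type*} [Group H₁] [Group H₂] [Group H₃]
    (e₁ : H₁ ≃* H₂) (e₂ : H₂ ≃* H₃) (ξ : IrrCharacter H₁) :
    Helper78.irrMap (e₁.trans e₂) ξ = Helper78.irrMap e₂ (Helper78.irrMap e₁ ξ) := by
  apply Subtype.ext
  funext h
  rw [Helper78.irrMap_apply, Helper78.irrMap_apply, Helper78.irrMap_apply]
  rfl

theorem image_irrMap_trans {H₁ H₂ H₃ : Type*} [Group H₁] [Group H₂] [Group H₃]
    (e₁ : H₁ ≃* H₂) (e₂ : H₂ ≃* H₃) (S : Set (IrrCharacter H₁)) :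
    Helper78.irrMap (e₁.trans e₂) '' S = Helper78.irrMap e₂ '' (Helper78.irrMap e₁ '' S) := by
  rw [Set.image_image]
  exact Set.image_congr (fun ξ _ => irrMap_trans e₁ e₂ ξ)

/-- Transport of the inner product along a group isomorphism. -/
theorem classInner_comp_equiv {A B : Type*} [Group A] [Group B] [Fintype A] [Fintype B]
    (e : A ≃* B) (f g : B → ℂ) :
    classInner (fun a => f (e a)) (fun a => g (e a)) = classInner f g := by
  unfold classInner
  rw [Nat.card_congr e.toEquiv]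
  congr 1
  exact Fintype.sum_equiv e.toEquiv _ _ (fun a => rfl)

/-- Two blocks with a common member are equal. -/
theorem block_eq_of_mem_of_mem [hMp : M.IsPrime] {S T : Set (IrrCharacter H)}
    (hS : IsPBlock M S) (hT : IsPBlock M T) {ξ : IrrCharacter H} (h1 : ξ ∈ S) (h2 : ξ ∈ T) :
    S = T := by
  rw [Helper78.isPBlock_eq_blockOf_of_mem hMp hS h1, Helper78.isPBlock_eq_blockOf_of_mem hMp hT h2]

variable (L : Subgroup H) [hL : L.Normal] [Fintype L]

/-- Restriction of an automorphism preserving `L`. -/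
def resEquiv (α : H ≃* H) (hα : ∀ l : H, α l ∈ L ↔ l ∈ L) : L ≃* L where
  toFun l := ⟨α (l : H), (hα l).mpr l.2⟩
  invFun l := ⟨α.symm (l : H), (hα _).mp (by rw [α.apply_symm_apply]; exact l.2)⟩
  left_inv l := Subtype.ext (α.symm_apply_apply (l : H))
  right_inv l := Subtype.ext (α.apply_symm_apply (l : H))
  map_mul' a b := Subtype.ext (map_mul α (a : H) (b : H))

theorem coe_resEquiv_apply (α : H ≃* H) (hα : ∀ l : H, α l ∈ L ↔ l ∈ L) (l : L) :
    ((resEquiv L α hα l : L) : H) = α l := rfl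

theorem coe_resEquiv_symm_apply (α : H ≃* H) (hα : ∀ l : H, α l ∈ L ↔ l ∈ L) (l : L) :
    (((resEquiv L α hα).symm l : L) : H) = α.symm l := rfl

/-- The transport of a constituent is a constituent of the transport. -/
theorem classInner_irrMap_restrict (α : H ≃* H) (hα : ∀ l : H, α l ∈ L ↔ l ∈ L)
    (χ : IrrCharacter H) (θ : IrrCharacter L) :
    classInner (fun l : L => (Helper78.irrMap α χ : H → ℂ) l)
      (Helper78.irrMap (resEquiv L α hα) θ : L → ℂ) =
    classInner (fun l : L => (χ : H → ℂ) l) (θ : L → ℂ) := by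
  rw [← classInner_comp_equiv (resEquiv L α hα).symm (fun l : L => (χ : H → ℂ) l) (θ : L → ℂ)]
  have h1 : (fun l : L => (Helper78.irrMap α χ : H → ℂ) l) =
      fun a : L => (fun l : L => (χ : H → ℂ) l) ((resEquiv L α hα).symm a) := by
    funext l
    rw [Helper78.irrMap_apply]
    rfl
  have h2 : (Helper78.irrMap (resEquiv L α hα) θ : L → ℂ) =
      fun a : L => (θ : L → ℂ) ((resEquiv L α hα).symm a) := by
    funext l
    rw [Helper78.irrMap_apply]
  rw [h1, h2]

/-- Every member of a block of `H` covering the block `f` of `L` lies over `f`. -/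
theorem liesOver_of_mem_block [hMp : M.IsPrime] {E : Set (IrrCharacter H)} (hE : IsPBlock M E)
    {f : Set (IrrCharacter L)} (hf : IsPBlock M f) {χ₀ χ : IrrCharacter H} (h₀ : χ₀ ∈ E)
    (hχ : χ ∈ E) (hcov : LiesOver L (χ₀ : H → ℂ) f) : LiesOver L (χ : H → ℂ) f := by
  have hO := Helper16.gStable_conjUnion L f
  have hR := Helper16.memLocalRing_blockCoeff_conjUnion (M := M) L hf
  have hsame := Helper78.sameBlock_of_mem_of_mem hMp hE h₀ hχ
  have h1 : LiesOver L (χ₀ : H → ℂ) (Helper16.conjUnion L f) := by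
    obtain ⟨θ, hθ, hne⟩ := hcov
    exact ⟨θ, Helper16.subset_conjUnion L f hθ, hne⟩
  have h2 := (Helper16.liesOver_iff_of_sameBlock L hO hR hsame).mp h1
  exact Helper16.liesOver_of_liesOver_conjUnion L (Helper16.irr_isClassFunction χ) h2

/-- For `L` of `p`-power index, the characters lying over a block of `L` lie in one block. -/
theorem mem_block_of_liesOver [Fact p.Prime] (hM : IsPModular p M)
    (hidx : ∃ k : ℕ, L.index = p ^ k) {E : Set (IrrCharacter H)} (hE : IsPBlock M E)
    {f : Set (IrrCharacter L)} (hf : IsPBlock M f) {χ₀ χ : IrrCharacter H} (h₀ : χ₀ ∈ E)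
    (hcov : LiesOver L (χ₀ : H → ℂ) f) (hχ : LiesOver L (χ : H → ℂ) f) : χ ∈ E := by
  have hMp : M.IsPrime := isPrime_of_isPModular hM
  have hsame := Helper16.sameBlock_of_liesOver_of_index L hM hidx hf hcov hχ
  rw [Helper78.isPBlock_eq_blockOf_of_mem hMp hE h₀]
  exact hsame

/-- **An automorphism stabilizing a block of `L` stabilizes the block of `H` covering it.** -/
theorem image_irrMap_eq_of_cover [Fact p.Prime] (hM : IsPModular p M)
    (hidx : ∃ k : ℕ, L.index = p ^ k) {E : Set (IrrCharacter H)} (hE : IsPBlock M E)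
    {f : Set (IrrCharacter L)} (hf : IsPBlock M f) {χ₀ : IrrCharacter H} (h₀ : χ₀ ∈ E)
    (hcov : LiesOver L (χ₀ : H → ℂ) f)
    (α : H ≃* H) (hα : ∀ l : H, α l ∈ L ↔ l ∈ L)
    (hstab : Helper78.irrMap (resEquiv L α hα) '' f = f) :
    Helper78.irrMap α '' E = E := by
  have hMp : M.IsPrime := isPrime_of_isPModular hM
  have hmaps : Set.MapsTo (Helper78.irrMap α) E E := by
    intro χ hχ
    obtain ⟨θ, hθ, hne⟩ := liesOver_of_mem_block L hE hf h₀ hχ hcov
    refine mem_block_of_liesOver L hM hidx hE hf h₀ hcov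
      ⟨Helper78.irrMap (resEquiv L α hα) θ, ?_, ?_⟩
    · rw [← hstab]
      exact Set.mem_image_of_mem _ hθ
    · rw [classInner_irrMap_restrict]
      exact hne
  have hfinE : E.Finite := Set.toFinite E
  exact ((hfinE.injOn_iff_bijOn_of_mapsTo hmaps).mp (Helper78.irrMap_injective _).injOn).image_eq

/-- **An automorphism stabilizing a block of `H` stabilizes, up to an inner automorphism, a block
of `L` covered by it.** -/
theorem exists_conj_stab_of_cover [Fact p.Prime] (hM : IsPModular p M)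
    {E : Set (IrrCharacter H)} (hE : IsPBlock M E)
    {f : Set (IrrCharacter L)} (hf : IsPBlock M f) {χ₀ : IrrCharacter H} (h₀ : χ₀ ∈ E)
    (hcov : LiesOver L (χ₀ : H → ℂ) f)
    (α : H ≃* H) (hα : ∀ l : H, α l ∈ L ↔ l ∈ L)
    (hstab : Helper78.irrMap α '' E = E) :
    ∃ (h : H) (hβ : ∀ l : H, (α.trans (MulAut.conj h)) l ∈ L ↔ l ∈ L),
      Helper78.irrMap (resEquiv L (α.trans (MulAut.conj h)) hβ) '' f = f := by
  have hMp : M.IsPrime := isPrime_of_isPModular hM
  obtain ⟨θ₀, hθ₀, hne₀⟩ := hcov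
  have h1 : Helper78.irrMap α χ₀ ∈ E := by
    rw [← hstab]
    exact Set.mem_image_of_mem _ h₀
  obtain ⟨θ₂, hθ₂, hne₂⟩ := liesOver_of_mem_block L hE hf h₀ h1 ⟨θ₀, hθ₀, hne₀⟩
  have hne₁ : classInner (fun l : L => (Helper78.irrMap α χ₀ : H → ℂ) l)
      (Helper78.irrMap (resEquiv L α hα) θ₀ : L → ℂ) ≠ 0 := by
    rw [classInner_irrMap_restrict]
    exact hne₀
  obtain ⟨g, hg⟩ := Helper15.exists_conj_of_constituents L (Helper78.irrMap α χ₀).2
    (Helper78.irrMap (resEquiv L α hα) θ₀).2 θ₂.2 hne₁ hne₂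
  have hβ : ∀ l : H, (α.trans (MulAut.conj g⁻¹)) l ∈ L ↔ l ∈ L := by
    intro l
    show g⁻¹ * α l * g⁻¹⁻¹ ∈ L ↔ l ∈ L
    rw [← hα l]
    constructor
    · intro h
      have := hL.conj_mem _ h g
      simpa [mul_assoc] using this
    · intro h
      exact hL.conj_mem _ h g⁻¹
  refine ⟨g⁻¹, hβ, ?_⟩
  have himg : Helper78.irrMap (resEquiv L (α.trans (MulAut.conj g⁻¹)) hβ) θ₀ = θ₂ := by
    apply Subtype.ext
    rw [hg]
    funext l
    rw [Helper78.irrMap_apply, Helper15.conjFun_apply, Helper78.irrMap_apply]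
    refine congrArg _ (Subtype.ext ?_)
    show α.symm (g⁻¹⁻¹ * (l : H) * g⁻¹) = α.symm (g * (l : H) * g⁻¹)
    rw [inv_inv]
  have hblock : IsPBlock M (Helper78.irrMap (resEquiv L (α.trans (MulAut.conj g⁻¹)) hβ) '' f) :=
    isPBlock_image_irrMap _ hf
  refine block_eq_of_mem_of_mem hblock hf (ξ := θ₂) ?_ hθ₂
  rw [← himg]
  exact Set.mem_image_of_mem _ hθ₀

end Abstract

section Local

variable {G : Type*} [Group G] [Fintype G] {M : Ideal AlgInt} {p : ℕ}
variable (N : Subgroup G) [hN : N.Normal] [Fintype N]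

/-- An irreducible character restricted to a subgroup has an irreducible constituent. -/
theorem exists_constituent_res {H : Type*} [Group H] [Fintype H] (C : Subgroup H)
    [Fintype C] (χ : IrrCharacter H) :
    ∃ θ : IrrCharacter C, classInner (fun c : C => (χ : H → ℂ) c) (θ : C → ℂ) ≠ 0 := by
  classical
  letI := Helper74.irrFintype C
  have hres : IsCharacter C (fun c : C => (χ : H → ℂ) c) :=
    Helper74.isCharacter_restrict C (Helper74.isCharacter_of_isIrr χ.2)
  by_contra hno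
  push Not at hno
  have hdec := Helper74.isCharacter_eq_sum_irr hres
  have hzero : (fun c : C => (χ : H → ℂ) c) = 0 := by
    rw [hdec]
    apply Finset.sum_eq_zero
    intro μ _
    rw [hno μ, zero_smul]
  exact Helper79.irr_one_ne_zero χ (congrFun hzero 1)

/-- `C_N(A')`, as a subgroup of `C_G(A')`. -/
abbrev locL (A' : Subgroup N) :
    Subgroup (Subgroup.centralizer ((A'.map N.subtype : Subgroup G) : Set G)) :=
  N.subgroupOf (Subgroup.centralizer ((A'.map N.subtype : Subgroup G) : Set G))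

/-- The identification of `C_N(A')` inside `N` with `C_N(A')` inside `C_G(A')`. -/
def cnIso (A' : Subgroup N) : ↥(Subgroup.centralizer (A' : Set N)) ≃* ↥(locL N A') where
  toFun c := ⟨⟨((c : N) : G), coe_mem_centralizer_map N A' c c.2⟩,
    Subgroup.mem_subgroupOf.mpr (c : N).2⟩
  invFun l := ⟨⟨((l : Subgroup.centralizer ((A'.map N.subtype : Subgroup G) : Set G)) : G),
      Subgroup.mem_subgroupOf.mp l.2⟩,
    mem_centralizer_of_coe_mem N A' _
      (l : Subgroup.centralizer ((A'.map N.subtype : Subgroup G) : Set G)).2⟩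
  left_inv _ := rfl
  right_inv _ := rfl
  map_mul' _ _ := rfl

theorem coe_cnIso_apply (A' : Subgroup N) (c : Subgroup.centralizer (A' : Set N)) :
    (((cnIso N A' c : locL N A') :
      Subgroup.centralizer ((A'.map N.subtype : Subgroup G) : Set G)) : G) = ((c : N) : G) := rfl

theorem locL_index [Fact p.Prime] (hidx : ∃ k : ℕ, N.index = p ^ k) (A' : Subgroup N) :
    ∃ k : ℕ, (locL N A').index = p ^ k := by
  obtain ⟨k, hk⟩ := hidx
  have h1 : (locL N A').index ∣ N.index :=
    Subgroup.relIndex_dvd_index_of_normal N _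
  rw [hk] at h1
  obtain ⟨m, _, hm⟩ := (Nat.dvd_prime_pow Fact.out).mp h1
  exact ⟨m, hm⟩

/-- **Brauer values through the covering.** -/
theorem brauerOmega_eq_of_constituent (A' : Subgroup N)
    [Fintype (Subgroup.centralizer ((A'.map N.subtype : Subgroup G) : Set G))]
    [Fintype (locL N A')] [Fintype (Subgroup.centralizer (A' : Set N))]
    (c : Set (IrrCharacter N)) (B : Set (IrrCharacter G))
    (hBc : ∀ g : G, blockCoeff B g = subgroupBlockCoeff N c g)
    (χ : IrrCharacter (Subgroup.centralizer ((A'.map N.subtype : Subgroup G) : Set G)))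
    (θ' : IrrCharacter (Subgroup.centralizer (A' : Set N)))
    (hne : classInner (fun l : locL N A' => χ.1 l.1)
      (Helper78.irrMap (cnIso N A') θ' : _ → ℂ) ≠ 0) :
    brauerOmega (A'.map N.subtype) (blockCoeff B) (χ : _ → ℂ) =
      brauerOmega A' (blockCoeff c) (θ' : _ → ℂ) := by
  rw [brauerOmega_eq_omega, brauerOmega_eq_omega]
  have hS : IsClassFunction (Subgroup.centralizer ((A'.map N.subtype : Subgroup G) : Set G))
      (resFun (Subgroup.centralizer ((A'.map N.subtype : Subgroup G) : Set G))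
        (blockCoeff B)) :=
    isClassFunction_resFun
      (invUnder_of_isClassFunction (Helper16.isClassFunction_blockCoeff B) _)
  have hsupp : ∀ x : Subgroup.centralizer ((A'.map N.subtype : Subgroup G) : Set G),
      x ∉ locL N A' →
      resFun (Subgroup.centralizer ((A'.map N.subtype : Subgroup G) : Set G))
        (blockCoeff B) x = 0 := by
    intro x hx
    rw [resFun_apply, hBc]
    unfold subgroupBlockCoeff
    rw [dif_neg]
    intro h
    exact hx (Subgroup.mem_subgroupOf.mpr h)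
  rw [Helper16.omega_eq_omega_restrict_of_constituent (locL N A') χ
    (Helper78.irrMap (cnIso N A') θ') hne hS hsupp, omega_irrMap]
  congr 1
  funext c'
  rw [resFun_apply, resFun_apply, coe_cnIso_apply, hBc]
  unfold subgroupBlockCoeff
  rw [dif_pos (c' : N).2]

/-- **A Brauer pair of `c` in `N` gives a Brauer pair of `B` in `G`.** -/
theorem isBrauerPairOf_up [Fact p.Prime] (hM : IsPModular p M) (A' : Subgroup N)
    [Fintype (Subgroup.centralizer ((A'.map N.subtype : Subgroup G) : Set G))]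
    [Fintype (locL N A')] [Fintype (Subgroup.centralizer (A' : Set N))]
    (c : Set (IrrCharacter N)) (B : Set (IrrCharacter G)) (hB : IsPBlock M B)
    (hBc : ∀ g : G, blockCoeff B g = subgroupBlockCoeff N c g)
    (f' : Set (IrrCharacter (Subgroup.centralizer (A' : Set N))))
    (hpair : IsBrauerPairOf p M c A' f')
    (E : Set (IrrCharacter (Subgroup.centralizer ((A'.map N.subtype : Subgroup G) : Set G))))
    (hE : IsPBlock M E)
    (χ₀ : IrrCharacter (Subgroup.centralizer ((A'.map N.subtype : Subgroup G) : Set G)))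
    (h₀ : χ₀ ∈ E)
    (hcov : LiesOver (locL N A') (χ₀ : _ → ℂ) (Helper78.irrMap (cnIso N A') '' f')) :
    IsBrauerPairOf p M B (A'.map N.subtype) E := by
  have hMp : M.IsPrime := isPrime_of_isPModular hM
  have hf : IsPBlock M (Helper78.irrMap (cnIso N A') '' f') :=
    isPBlock_image_irrMap _ hpair.1.2
  refine ⟨⟨hpair.1.1.map _, hE⟩, hB, fun χ hχ => ?_⟩
  obtain ⟨_, ⟨θ', hθ', rfl⟩, hne⟩ := liesOver_of_mem_block (locL N A') hE hf h₀ hχ hcov
  rw [brauerOmega_eq_of_constituent N A' c B hBc χ θ' hne]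
  exact hpair.2.2 θ' hθ'

/-- **A Brauer pair of `B` on a subgroup of `N` gives a Brauer pair of `c` in `N`.** -/
theorem isBrauerPairOf_dn [Fact p.Prime] (hM : IsPModular p M)
    (hidx : ∃ k : ℕ, N.index = p ^ k) (A' : Subgroup N)
    [Fintype (Subgroup.centralizer ((A'.map N.subtype : Subgroup G) : Set G))]
    [Fintype (locL N A')] [Fintype (Subgroup.centralizer (A' : Set N))]
    (c : Set (IrrCharacter N)) (hc : IsPBlock M c) (B : Set (IrrCharacter G))
    (hBc : ∀ g : G, blockCoeff B g = subgroupBlockCoeff N c g)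
    (E : Set (IrrCharacter (Subgroup.centralizer ((A'.map N.subtype : Subgroup G) : Set G))))
    (hpair : IsBrauerPairOf p M B (A'.map N.subtype) E)
    (f : Set (IrrCharacter (locL N A'))) (hf : IsPBlock M f)
    (χ₀ : IrrCharacter (Subgroup.centralizer ((A'.map N.subtype : Subgroup G) : Set G)))
    (h₀ : χ₀ ∈ E) (hcov : LiesOver (locL N A') (χ₀ : _ → ℂ) f) :
    IsBrauerPairOf p M c A' (Helper78.irrMap (cnIso N A').symm '' f) := by
  have hMp : M.IsPrime := isPrime_of_isPModular hM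
  have hA' : IsPGroup p A' :=
    hpair.1.1.of_equiv (Subgroup.equivMapOfInjective A' N.subtype N.subtype_injective).symm
  refine ⟨⟨hA', isPBlock_image_irrMap _ hf⟩, hc, ?_⟩
  rintro _ ⟨θ, hθ, rfl⟩
  obtain ⟨χ, hχ⟩ := Helper16.exists_irr_over (locL N A') θ
  have hχE : χ ∈ E := mem_block_of_liesOver (locL N A') hM (locL_index N hidx A') hpair.1.2 hf h₀
    hcov ⟨θ, hθ, hχ⟩
  have hne : classInner (fun l : locL N A' => χ.1 l.1)
      (Helper78.irrMap (cnIso N A') (Helper78.irrMap (cnIso N A').symm θ) : _ → ℂ) ≠ 0 := by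
    rw [Helper78.irrMap_irrMap_symm]
    exact hχ
  rw [← brauerOmega_eq_of_constituent N A' c B hBc χ _ hne]
  exact hpair.2.2 χ hχE

end Local

section Conj

variable {G : Type*} [Group G] [Fintype G] {M : Ideal AlgInt} {p : ℕ}
variable (N : Subgroup G) [hN : N.Normal] [Fintype N]

theorem coe_mem_normalizer_map (A' : Subgroup N) (g' : N)
    (h : g' ∈ Subgroup.normalizer (A' : Set N)) :
    (g' : G) ∈ Subgroup.normalizer ((A'.map N.subtype : Subgroup G) : Set G) := by
  rw [Subgroup.mem_normalizer_iff]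
  intro x
  constructor
  · rintro ⟨a, ha, rfl⟩
    exact ⟨g' * a * g'⁻¹, (Subgroup.mem_normalizer_iff.mp h a).mp ha, rfl⟩
  · rintro ⟨b, hb, hbx⟩
    refine ⟨g'⁻¹ * b * g', (Subgroup.mem_normalizer_iff''.mp h b).mp hb, ?_⟩
    show (g' : G)⁻¹ * (N.subtype b) * (g' : G) = x
    rw [hbx]
    group

theorem mem_normalizer_of_coe_mem_map (A' : Subgroup N) (g' : N)
    (h : (g' : G) ∈ Subgroup.normalizer ((A'.map N.subtype : Subgroup G) : Set G)) :
    g' ∈ Subgroup.normalizer (A' : Set N) := by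
  rw [Subgroup.mem_normalizer_iff]
  intro a
  constructor
  · intro ha
    obtain ⟨b, hb, hbx⟩ := (Subgroup.mem_normalizer_iff.mp h (a : G)).mp ⟨a, ha, rfl⟩
    have : b = g' * a * g'⁻¹ := Subtype.ext hbx
    rw [← this]
    exact hb
  · intro ha
    obtain ⟨b, hb, hbx⟩ := (Subgroup.mem_normalizer_iff.mp h (a : G)).mpr ⟨_, ha, rfl⟩
    have : b = a := Subtype.ext hbx
    rw [← this]
    exact hb

/-- Conjugation by an element of `N_G(A')` on `C_G(A')`. -/
def conjH (A' : Subgroup N) (g : G)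
    (hg : g ∈ Subgroup.normalizer ((A'.map N.subtype : Subgroup G) : Set G)) :
    ↥(Subgroup.centralizer ((A'.map N.subtype : Subgroup G) : Set G)) ≃*
      ↥(Subgroup.centralizer ((A'.map N.subtype : Subgroup G) : Set G)) :=
  conjHom (Subgroup.centralizer ((A'.map N.subtype : Subgroup G) : Set G))
    (Subgroup.normalizer ((A'.map N.subtype : Subgroup G) : Set G))
    (Helper78.normalizer_le_normalizer_centralizer _) ⟨g, hg⟩

theorem coe_conjH_apply (A' : Subgroup N) (g : G)
    (hg : g ∈ Subgroup.normalizer ((A'.map N.subtype : Subgroup G) : Set G))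
    (k : Subgroup.centralizer ((A'.map N.subtype : Subgroup G) : Set G)) :
    ((conjH N A' g hg k : _) : G) = g * (k : G) * g⁻¹ := rfl

theorem conjH_mem_iff (A' : Subgroup N) (g : G)
    (hg : g ∈ Subgroup.normalizer ((A'.map N.subtype : Subgroup G) : Set G))
    (l : Subgroup.centralizer ((A'.map N.subtype : Subgroup G) : Set G)) :
    conjH N A' g hg l ∈ locL N A' ↔ l ∈ locL N A' := by
  rw [Subgroup.mem_subgroupOf, Subgroup.mem_subgroupOf, coe_conjH_apply]
  constructor
  · intro h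
    have := hN.conj_mem _ h g⁻¹
    simpa [mul_assoc] using this
  · intro h
    exact hN.conj_mem _ h g

/-- Conjugation by an element of `N_G(A')` on `C_N(A')`. -/
def resL (A' : Subgroup N) (g : G)
    (hg : g ∈ Subgroup.normalizer ((A'.map N.subtype : Subgroup G) : Set G)) :
    ↥(locL N A') ≃* ↥(locL N A') :=
  resEquiv (locL N A') (conjH N A' g hg) (conjH_mem_iff N A' g hg)

theorem coe_resL_apply (A' : Subgroup N) (g : G)
    (hg : g ∈ Subgroup.normalizer ((A'.map N.subtype : Subgroup G) : Set G))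
    (l : locL N A') :
    (((resL N A' g hg l : locL N A') :
      Subgroup.centralizer ((A'.map N.subtype : Subgroup G) : Set G)) : G) =
      g * ((l : Subgroup.centralizer ((A'.map N.subtype : Subgroup G) : Set G)) : G) * g⁻¹ := rfl

theorem resL_mul (A' : Subgroup N) (g₁ g₂ : G)
    (h₁ : g₁ ∈ Subgroup.normalizer ((A'.map N.subtype : Subgroup G) : Set G))
    (h₂ : g₂ ∈ Subgroup.normalizer ((A'.map N.subtype : Subgroup G) : Set G))
    (h12 : g₁ * g₂ ∈ Subgroup.normalizer ((A'.map N.subtype : Subgroup G) : Set G)) :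
    resL N A' (g₁ * g₂) h12 = (resL N A' g₂ h₂).trans (resL N A' g₁ h₁) := by
  ext l
  show (g₁ * g₂) * _ * (g₁ * g₂)⁻¹ = g₁ * (g₂ * _ * g₂⁻¹) * g₁⁻¹
  group

/-- `g ∈ N_G(A')` stabilizes the set `f` of characters of `C_N(A')`. -/
def StabL (A' : Subgroup N) (f : Set (IrrCharacter (locL N A'))) (g : G) : Prop :=
  ∃ hg : g ∈ Subgroup.normalizer ((A'.map N.subtype : Subgroup G) : Set G),
    Helper78.irrMap (resL N A' g hg) '' f = f

theorem stabL_mul (A' : Subgroup N) (f : Set (IrrCharacter (locL N A'))) {g₁ g₂ : G}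
    (h₁ : StabL N A' f g₁) (h₂ : StabL N A' f g₂) : StabL N A' f (g₁ * g₂) := by
  obtain ⟨hg₁, hf₁⟩ := h₁
  obtain ⟨hg₂, hf₂⟩ := h₂
  refine ⟨Subgroup.mul_mem _ hg₁ hg₂, ?_⟩
  rw [resL_mul N A' g₁ g₂ hg₁ hg₂, image_irrMap_trans, hf₂, hf₁]

theorem stabL_pow (A' : Subgroup N) (f : Set (IrrCharacter (locL N A'))) {g : G}
    (h : StabL N A' f g) (k : ℕ) : StabL N A' f (g ^ (k + 1)) := by
  induction k with
  | zero => simpa using h
  | succ k ih =>
    rw [pow_succ]
    exact stabL_mul N A' f ih h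

/-- Stabilization in `N` and stabilization through `C_G(A')`. -/
theorem stabilizesBlock_iff_stabL (A' : Subgroup N)
    (f' : Set (IrrCharacter (Subgroup.centralizer (A' : Set N)))) (g' : N)
    (hg' : g' ∈ Subgroup.normalizer (A' : Set N)) :
    StabilizesBlock (Subgroup.centralizer (A' : Set N)) f' g' ↔
      StabL N A' (Helper78.irrMap (cnIso N A') '' f') (g' : G) := by
  have hle : Subgroup.normalizer (A' : Set N) ≤
      Subgroup.normalizer ((Subgroup.centralizer (A' : Set N) : Subgroup N) : Set N) :=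
    Helper78.normalizer_le_normalizer_centralizer A'
  have hgG := coe_mem_normalizer_map N A' g' hg'
  have hcomm : (conjHom (Subgroup.centralizer (A' : Set N))
      (Subgroup.normalizer (A' : Set N)) hle ⟨g', hg'⟩ :
        ↥(Subgroup.centralizer (A' : Set N)) ≃* ↥(Subgroup.centralizer (A' : Set N))).trans
        (cnIso N A') = (cnIso N A').trans (resL N A' (g' : G) hgG) := by
    ext c
    rfl
  have hkey : Helper78.irrMap (resL N A' (g' : G) hgG) '' (Helper78.irrMap (cnIso N A') '' f') =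
      Helper78.irrMap (cnIso N A') '' (Helper78.irrMap (conjHom (Subgroup.centralizer (A' : Set N))
      (Subgroup.normalizer (A' : Set N)) hle ⟨g', hg'⟩) '' f') := by
    rw [← image_irrMap_trans, ← image_irrMap_trans, hcomm]
  rw [stabilizesBlock_iff_image_eq (Subgroup.centralizer (A' : Set N))
    (Subgroup.normalizer (A' : Set N)) hle f' ⟨g', hg'⟩]
  constructor
  · intro h
    refine ⟨hgG, ?_⟩
    rw [hkey, h]
  · rintro ⟨_, h⟩
    rw [hkey] at h
    exact (Set.image_injective.mpr (Helper78.irrMap_injective _)) h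

end Conj

section Main

variable {G : Type*} [Group G] [Fintype G] {M : Ideal AlgInt} {p : ℕ}
variable (N : Subgroup G) [hN : N.Normal] [Fintype N]

/-- **If `B` is nilpotent then so is `c`.** -/
theorem isNilpotentBlock_dn [Fact p.Prime] (hM : IsPModular p M)
    (hidx : ∃ k : ℕ, N.index = p ^ k) (c : Set (IrrCharacter N)) (hc : IsPBlock M c)
    (B : Set (IrrCharacter G)) (hB : IsPBlock M B)
    (hBc : ∀ g : G, blockCoeff B g = subgroupBlockCoeff N c g)
    (hnil : IsNilpotentBlock p M B) : IsNilpotentBlock p M c := by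
  classical
  have hMp : M.IsPrime := isPrime_of_isPModular hM
  refine ⟨hc, fun A' f' hpair x' hx'N hx'S hx'reg => ?_⟩
  have hfinH : Fintype (Subgroup.centralizer ((A'.map N.subtype : Subgroup G) : Set G)) :=
    Fintype.ofFinite _
  have hfinL : Fintype (locL N A') := Fintype.ofFinite _
  have hfinC : Fintype (Subgroup.centralizer (A' : Set N)) := Fintype.ofFinite _
  have hf : IsPBlock M (Helper78.irrMap (cnIso N A') '' f') :=
    isPBlock_image_irrMap _ hpair.1.2
  obtain ⟨θ₀', hθ₀'⟩ := Helper78.isPBlock_nonempty hMp hpair.1.2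
  obtain ⟨χ₀, hχ₀⟩ := Helper16.exists_irr_over (locL N A') (Helper78.irrMap (cnIso N A') θ₀')
  have hcov : LiesOver (locL N A') χ₀.1 (Helper78.irrMap (cnIso N A') '' f') :=
    ⟨_, Set.mem_image_of_mem _ hθ₀', hχ₀⟩
  have hE : IsPBlock M (blockOf M χ₀.1) := ⟨χ₀, rfl⟩
  have h₀ : χ₀ ∈ blockOf M χ₀.1 := Helper78.mem_blockOf_self hMp χ₀
  have hpairB := isBrauerPairOf_up N hM A' c B hB hBc f' hpair _ hE χ₀ h₀ hcov
  obtain ⟨hxN, hstabf⟩ := (stabilizesBlock_iff_stabL N A' f' x' hx'N).mp hx'S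
  have hstabE := image_irrMap_eq_of_cover (locL N A') hM (locL_index N hidx A') hE hf h₀ hcov
    (conjH N A' x' hxN) (conjH_mem_iff N A' x' hxN) hstabf
  have hS : StabilizesBlock (Subgroup.centralizer ((A'.map N.subtype : Subgroup G) : Set G))
      (blockOf M χ₀.1) (x' : G) :=
    (stabilizesBlock_iff_image_eq _ (Subgroup.normalizer ((A'.map N.subtype : Subgroup G) : Set G))
      (Helper78.normalizer_le_normalizer_centralizer _) _ ⟨x', hxN⟩).mpr hstabE
  have hreg : IsPRegular p (x' : G) := by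
    unfold IsPRegular at *
    rwa [Subgroup.orderOf_coe]
  have := hnil.2 _ _ hpairB (x' : G) hxN hS hreg
  exact mem_centralizer_of_coe_mem N A' x' this

/-- Powers of `h x` with `h ∈ C_G(A)` and `x ∈ N_G(A)`. -/
theorem exists_mul_pow_eq (A : Subgroup G) {h x : G}
    (hh : h ∈ Subgroup.centralizer (A : Set G)) (hx : x ∈ Subgroup.normalizer (A : Set G))
    (k : ℕ) : ∃ hk ∈ Subgroup.centralizer (A : Set G), (h * x) ^ k = hk * x ^ k := by
  induction k with
  | zero => exact ⟨1, Subgroup.one_mem _, by simp⟩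
  | succ k ih =>
    obtain ⟨hk, hhk, heq⟩ := ih
    have hxk : x ^ k ∈ Subgroup.normalizer
        ((Subgroup.centralizer (A : Set G) : Subgroup G) : Set G) :=
      Helper78.normalizer_le_normalizer_centralizer A (Subgroup.pow_mem _ hx k)
    have h1 : x ^ k * h * (x ^ k)⁻¹ ∈ Subgroup.centralizer (A : Set G) :=
      (Subgroup.mem_normalizer_iff.mp hxk h).mp hh
    refine ⟨hk * (x ^ k * h * (x ^ k)⁻¹), Subgroup.mul_mem _ hhk h1, ?_⟩
    rw [pow_succ, heq, pow_succ]
    group

/-- **The key step**: a `p`-regular element of the stabilizer of a Brauer pair `(Q, e)` of `B`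
centralizes `Q ∩ N`, when `c` is nilpotent. -/
theorem mem_centralizer_inf_of_isNilpotentBlock [Fact p.Prime] (hM : IsPModular p M)
    (hidx : ∃ k : ℕ, N.index = p ^ k) (c : Set (IrrCharacter N)) (hc : IsPBlock M c)
    (B : Set (IrrCharacter G))
    (hBc : ∀ g : G, blockCoeff B g = subgroupBlockCoeff N c g)
    (hnil : IsNilpotentBlock p M c)
    (Q : Subgroup G) (e : Set (IrrCharacter (Subgroup.centralizer (Q : Set G))))
    (hQe : IsBrauerPairOf p M B Q e) (x : G) (hxN : x ∈ Subgroup.normalizer (Q : Set G))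
    (hxS : StabilizesBlock (Subgroup.centralizer (Q : Set G)) e x) (hxreg : IsPRegular p x)
    (A' : Subgroup N) (hAup : A'.map N.subtype = Q ⊓ N) :
    x ∈ Subgroup.centralizer ((A'.map N.subtype : Subgroup G) : Set G) := by
  classical
  have hMp : M.IsPrime := isPrime_of_isPModular hM
  have hp : p.Prime := Fact.out
  have hfinH : Fintype (Subgroup.centralizer ((A'.map N.subtype : Subgroup G) : Set G)) :=
    Fintype.ofFinite _
  have hfinL : Fintype (locL N A') := Fintype.ofFinite _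
  have hfinC : Fintype (Subgroup.centralizer (A' : Set N)) := Fintype.ofFinite _
  have hAQ : A'.map N.subtype ≤ Q := by
    rw [hAup]
    exact inf_le_left
  -- the subpair on `A`
  obtain ⟨e₀, he₀, hle⟩ := exists_subpairLE hM Q e hQe.1 _ (A'.map N.subtype) hAQ le_rfl
  have hA'p : IsPGroup p (A'.map N.subtype : Subgroup G) := hQe.1.1.to_le hAQ
  have hpair₀ : IsBrauerPairOf p M B (A'.map N.subtype) e₀ :=
    (isBrauerPairOf_iff_of_subpairLE hM Q _ e e₀ hQe.1 ⟨hA'p, he₀⟩ hle B).mp hQe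
  -- `x` normalizes `A`
  have hxNA : x ∈ Subgroup.normalizer ((A'.map N.subtype : Subgroup G) : Set G) := by
    rw [hAup, Subgroup.mem_normalizer_iff]
    intro y
    constructor
    · rintro ⟨hyQ, hyN⟩
      exact ⟨(Subgroup.mem_normalizer_iff.mp hxN y).mp hyQ, hN.conj_mem y hyN x⟩
    · rintro ⟨hyQ, hyN⟩
      refine ⟨(Subgroup.mem_normalizer_iff.mp hxN y).mpr hyQ, ?_⟩
      have := hN.conj_mem _ hyN x⁻¹
      simpa [mul_assoc] using this
  -- `x` stabilizes `e₀`
  have hxS₀ : StabilizesBlock (Subgroup.centralizer ((A'.map N.subtype : Subgroup G) : Set G))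
      e₀ x := by
    have h1 := reflTransGen_conjIdx x hle
    have h2 : conjIdx x ⟨Q, e⟩ = ⟨Q, e⟩ := (conjIdx_eq_self_iff Q e x hxN).mpr hxS
    rw [h2] at h1
    have h3 : (conjIdx x ⟨A'.map N.subtype, e₀⟩).1 = A'.map N.subtype :=
      map_conj_eq_self_of_mem_normalizer _ hxNA
    have h4 := idx_eq_of_le_of_fst_eq hM Q e hQe.1 h1 hle h3
    exact (conjIdx_eq_self_iff _ e₀ x hxNA).mp h4
  -- a block of `C_N(A)` covered by `e₀`
  obtain ⟨χ₀, h₀⟩ := Helper78.isPBlock_nonempty hMp he₀
  obtain ⟨θ₀, hθ₀⟩ := exists_constituent_res (locL N A') χ₀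
  have hf : IsPBlock M (blockOf M θ₀.1) := ⟨θ₀, rfl⟩
  have hcov : LiesOver (locL N A') χ₀.1 (blockOf M θ₀.1) :=
    ⟨θ₀, Helper78.mem_blockOf_self hMp θ₀, hθ₀⟩
  have hpairc := isBrauerPairOf_dn N hM hidx A' c hc B hBc e₀ hpair₀ _ hf χ₀ h₀ hcov
  -- an element of `x C_G(A)` stabilizing it
  have hstabE : Helper78.irrMap (conjH N A' x hxNA) '' e₀ = e₀ :=
    (stabilizesBlock_iff_image_eq _
      (Subgroup.normalizer ((A'.map N.subtype : Subgroup G) : Set G))
      (Helper78.normalizer_le_normalizer_centralizer _) e₀ ⟨x, hxNA⟩).mp hxS₀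
  obtain ⟨h, hβ, hstabf⟩ := exists_conj_stab_of_cover (locL N A') hM he₀ hf h₀ hcov
    (conjH N A' x hxNA) (conjH_mem_iff N A' x hxNA) hstabE
  have hhN : (h : G) ∈ Subgroup.normalizer ((A'.map N.subtype : Subgroup G) : Set G) :=
    Subgroup.centralizer_le_normalizer _ h.2
  have hyN : (h : G) * x ∈ Subgroup.normalizer ((A'.map N.subtype : Subgroup G) : Set G) :=
    Subgroup.mul_mem _ hhN hxNA
  have hstab_y : StabL N A' (blockOf M θ₀.1) ((h : G) * x) := by
    refine ⟨hyN, ?_⟩
    have heq : resL N A' ((h : G) * x) hyN =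
        resEquiv (locL N A') ((conjH N A' x hxNA).trans (MulAut.conj h)) hβ := by
      ext l
      show ((h : G) * x) * _ * ((h : G) * x)⁻¹ = (h : G) * (x * _ * x⁻¹) * (h : G)⁻¹
      group
    rw [heq]
    exact hstabf
  -- its `p`-regular power
  obtain ⟨a, hreg⟩ := exists_pow_isPRegular (p := p) ((h : G) * x)
  have hpa : p ^ a - 1 + 1 = p ^ a := Nat.sub_add_cancel (Nat.one_le_pow _ _ hp.pos)
  have hstab_y₁ := stabL_pow N A' _ hstab_y (p ^ a - 1)
  rw [hpa] at hstab_y₁
  obtain ⟨hy₁NA, hy₁f⟩ := hstab_y₁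
  have hy₁N : ((h : G) * x) ^ p ^ a ∈ N := by
    by_contra hcon
    exact hreg (Cfsg.Agent.S0966.dvd_orderOf_of_not_mem N hidx hcon)
  have hy₁'N : (⟨((h : G) * x) ^ p ^ a, hy₁N⟩ : N) ∈ Subgroup.normalizer (A' : Set N) :=
    mem_normalizer_of_coe_mem_map N A' _ hy₁NA
  have hstab' : StabilizesBlock (Subgroup.centralizer (A' : Set N))
      (Helper78.irrMap (cnIso N A').symm '' blockOf M θ₀.1)
      (⟨((h : G) * x) ^ p ^ a, hy₁N⟩ : N) := by
    rw [stabilizesBlock_iff_stabL N A' _ _ hy₁'N, Helper78.image_irrMap_image_irrMap_symm]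
    exact ⟨hy₁NA, hy₁f⟩
  have hreg' : IsPRegular p (⟨((h : G) * x) ^ p ^ a, hy₁N⟩ : N) := by
    unfold IsPRegular at *
    rwa [← Subgroup.orderOf_coe] 
  have hcen := hnil.2 A' _ hpairc _ hy₁'N hstab' hreg'
  have hy₁H : ((h : G) * x) ^ p ^ a ∈
      Subgroup.centralizer ((A'.map N.subtype : Subgroup G) : Set G) :=
    coe_mem_centralizer_map N A' _ hcen
  -- hence `x ^ p ^ a` centralizes `A`
  obtain ⟨hk, hhk, heq⟩ := exists_mul_pow_eq (A'.map N.subtype) h.2 hxNA (p ^ a)
  have hxpa : x ^ p ^ a ∈ Subgroup.centralizer ((A'.map N.subtype : Subgroup G) : Set G) := by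
    have : x ^ p ^ a = hk⁻¹ * ((h : G) * x) ^ p ^ a := by
      rw [heq]
      group
    rw [this]
    exact Subgroup.mul_mem _ (Subgroup.inv_mem _ hhk) hy₁H
  -- and so does `x`
  have hcop : Nat.Coprime (p ^ a) (orderOf x) :=
    Nat.Coprime.pow_left a ((Nat.Prime.coprime_iff_not_dvd hp).mpr hxreg)
  obtain ⟨m, hm⟩ := exists_pow_eq_self_of_coprime hcop
  rw [← hm]
  exact Subgroup.pow_mem _ hxpa m

end Main

section Final

variable {G : Type*} [Group G] [Fintype G] {M : Ideal AlgInt} {p : ℕ}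
variable (N : Subgroup G) [hN : N.Normal] [Fintype N]

/-- A `p`-regular element of the normal subgroup `N` normalizing the `p`-group `Q` and centralizing
`Q ∩ N` centralizes `Q`. -/
theorem mem_centralizer_of_centralizes_inf [Fact p.Prime] (Q : Subgroup G) (hQ : IsPGroup p Q)
    (x : G) (hxNn : x ∈ N) (hxN : x ∈ Subgroup.normalizer (Q : Set G)) (hxreg : IsPRegular p x)
    (hc : x ∈ Subgroup.centralizer ((Q ⊓ N : Subgroup G) : Set G)) :
    x ∈ Subgroup.centralizer (Q : Set G) := by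
  have hp : p.Prime := Fact.out
  rw [Subgroup.mem_centralizer_iff]
  intro q hq
  have hxq : x * q * x⁻¹ ∈ Q := (Subgroup.mem_normalizer_iff.mp hxN q).mp hq
  have hzQ : q⁻¹ * (x * q * x⁻¹) ∈ Q := Subgroup.mul_mem _ (Subgroup.inv_mem _ hq) hxq
  have hzN : q⁻¹ * (x * q * x⁻¹) ∈ N := by
    have h1 : q⁻¹ * x * q⁻¹⁻¹ ∈ N := hN.conj_mem x hxNn q⁻¹
    have h2 : q⁻¹ * (x * q * x⁻¹) = (q⁻¹ * x * q⁻¹⁻¹) * x⁻¹ := by group
    rw [h2]
    exact Subgroup.mul_mem _ h1 (Subgroup.inv_mem _ hxNn)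
  have hcz : q⁻¹ * (x * q * x⁻¹) * x = x * (q⁻¹ * (x * q * x⁻¹)) := hc _ ⟨hzQ, hzN⟩
  generalize hz : q⁻¹ * (x * q * x⁻¹) = z at hzQ hzN hcz
  have hxqz : x * q * x⁻¹ = q * z := by
    rw [← hz]
    group
  have hzk : ∀ k : ℕ, x * z ^ k * x⁻¹ = z ^ k := by
    intro k
    have : Commute x z := hcz.symm
    have h2 : Commute x (z ^ k) := this.pow_right k
    rw [h2.eq, mul_inv_cancel_right]
  have key : ∀ k : ℕ, x ^ k * q * (x ^ k)⁻¹ = q * z ^ k := by
    intro k
    induction k with
    | zero => simp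
    | succ k ih =>
      have h1 : x ^ (k + 1) * q * (x ^ (k + 1))⁻¹ = x * (x ^ k * q * (x ^ k)⁻¹) * x⁻¹ := by
        rw [pow_succ']
        group
      rw [h1, ih]
      have h2 : x * (q * z ^ k) * x⁻¹ = (x * q * x⁻¹) * (x * z ^ k * x⁻¹) := by group
      rw [h2, hxqz, hzk k, pow_succ', mul_assoc]
  have h1 := key (orderOf x)
  rw [pow_orderOf_eq_one, one_mul, inv_one, mul_one] at h1
  have hz1 : z ^ orderOf x = 1 := by
    have := mul_left_cancel (a := q) (b := 1) (c := z ^ orderOf x) (by rw [mul_one]; exact h1)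
    exact this.symm
  have hdvd : orderOf z ∣ orderOf x := orderOf_dvd_of_pow_eq_one hz1
  obtain ⟨j, hj⟩ := (IsPGroup.iff_orderOf.mp hQ) ⟨z, hzQ⟩
  rw [Subgroup.orderOf_mk] at hj
  have hj0 : j = 0 := by
    by_contra hne
    apply hxreg
    refine dvd_trans ?_ hdvd
    rw [hj]
    exact dvd_pow_self p hne
  rw [hj0, pow_zero, orderOf_eq_one_iff] at hj
  rw [hj, mul_one] at hxqz
  calc q * x = (x * q * x⁻¹) * x := by rw [hxqz]
    _ = x * q := by group

/-- **If `c` is nilpotent then so is `B`.** -/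
theorem isNilpotentBlock_up [Fact p.Prime] (hM : IsPModular p M)
    (hidx : ∃ k : ℕ, N.index = p ^ k) (c : Set (IrrCharacter N)) (hc : IsPBlock M c)
    (B : Set (IrrCharacter G)) (hB : IsPBlock M B)
    (hBc : ∀ g : G, blockCoeff B g = subgroupBlockCoeff N c g)
    (hnil : IsNilpotentBlock p M c) : IsNilpotentBlock p M B := by
  refine ⟨hB, fun Q e hQe x hxN hxS hxreg => ?_⟩
  have hxNn : x ∈ N := by
    by_contra h
    exact hxreg (Cfsg.Agent.S0966.dvd_orderOf_of_not_mem N hidx h)
  have hAup : ((Q ⊓ N).subgroupOf N).map N.subtype = Q ⊓ N := by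
    rw [Subgroup.subgroupOf_map_subtype]
    exact inf_eq_left.mpr inf_le_right
  have h1 := mem_centralizer_inf_of_isNilpotentBlock N hM hidx c hc B hBc hnil Q e hQe x hxN hxS
    hxreg _ hAup
  rw [hAup] at h1
  exact mem_centralizer_of_centralizes_inf N Q hQe.1.1 x hxNn hxN hxreg h1

end Final

end Cfsg.Agent.Helper77
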