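import Cfsg.Agent.Helper77.FS_S2hCore
import Cfsg.Agent.Helper61.FS_BLK
import Cfsg.Agent.Helper48.FS_S2a

/-!
helper77 for helper25's Fong–Swan farm (#15059, S4440), leaf (S2h): the `θ`-part of an irreducible
Brauer character of `T` is itself or `0` (statement verbatim from `tools/helper25_fs/Skel.lean.txt`).
-/

set_option autoImplicit false
set_option linter.unusedSectionVars false
set_option linter.unusedVariables false

namespace Cfsg.Agent.Helper77.FS

open Cfsg Cfsg.Agent.Helper16 Cfsg.Agent.Helper16.DT Cfsg.Agent.Helper25.FS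

universe u

variable {p : ℕ} [Fact p.Prime] {M : Ideal AlgInt} [M.IsMaximal] {G : Type u} [Group G]

section ST2

variable [Fintype G] (N : Subgroup G) [hN : N.Normal] [Fintype N]

/-- (S2h) the `θ`-part of an irreducible Brauer character of `T` is itself or `0`.  PROOF: (CON) in `T`
gives `ψ ∈ Irr T` with `BrConst φ' ψ`; (BLK) in `T`: `φ' = ∑ᶠ ψ' ∈ blockOf M ψ, a ψ' • ψ'°`; by
`Cfsg.Agent.S0921.main` for the normal subgroup `N.subgroupOf T` of `T` all `ψ'` in the block lie
over `θ` or none does; (S2a), (S2b). -/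
theorem thetaProj_IBr (hM : IsPModular p M) (hNp : ¬ p ∣ Nat.card N) (T : Subgroup G) [Fintype T]
    (hNT : N ≤ T) (θ : IrrCharacter N)
    (hinv : ∀ t ∈ T, Helper15.conjFun N t (θ : N → ℂ) = (θ : N → ℂ)) {φ' : T → ℂ}
    (hφ' : φ' ∈ IBr p M T) :
    thetaProj N T hNT (θ : N → ℂ) φ' = φ' ∨ thetaProj N T hNT (θ : N → ℂ) φ' = 0 :=
  thetaProj_IBr_of N hM hNp T hNT θ
    (fun h => Helper61.FS.exists_int_comb_of_brConst hM h)
    (fun ψ => Helper48.FS.thetaProj_irr N T hNT θ hinv ψ) hφ'

end ST2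

end Cfsg.Agent.Helper77.FS
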