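import Mathlib
import Cfsg.Agent.Helper25.TwistedConj
import Cfsg.Agent.Helper25.CoprimePow

set_option autoImplicit false

/-! Two counting lemmas used for the Dade expansion:
* a sum over a finite `M`-set weighted by `|stabilizer| / |M|` of an invariant integer-valued
  function is an integer (it is the sum over orbit representatives);
* coprime coset averaging: if `a` normalizes `K` and has order coprime to `|K|`, the average of a
  conjugation-invariant function over the coset `K a` equals its average over `C_K(a) a`. -/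

namespace Cfsg.Agent.Helper77

open scoped ComplexConjugate

section orbit

variable {M X : Type*} [Group M] [Fintype M] [MulAction M X] [Fintype X]

theorem sum_stabilizer_weight_int (F : X → ℂ) (hF : ∀ (m : M) (x : X), F (m • x) = F x)
    (hint : ∀ x, ∃ z : ℤ, F x = z) :
    ∃ z : ℤ, ∑ x : X, ((Nat.card (MulAction.stabilizer M x) : ℂ) / (Nat.card M : ℂ)) * F x = z := by
  classical
  let Ω := MulAction.orbitRel.Quotient M X
  let π : X → Ω := fun x => Quotient.mk'' x
  have hM0 : (Nat.card M : ℂ) ≠ 0 := by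
    have : 0 < Nat.card M := Nat.card_pos
    exact_mod_cast this.ne'
  have key : ∀ ω : Ω, ∑ x ∈ Finset.univ.filter (fun x => π x = ω),
      ((Nat.card (MulAction.stabilizer M x) : ℂ) / (Nat.card M : ℂ)) * F x = F ω.out := by
    intro ω
    set x₀ := ω.out with hx₀
    have hmem : ∀ x : X, π x = ω ↔ x ∈ MulAction.orbit M x₀ := by
      intro x
      have hω : ω = π x₀ := (Quotient.out_eq' ω).symm
      rw [hω]
      show (Quotient.mk'' x : Ω) = Quotient.mk'' x₀ ↔ _
      rw [Quotient.eq'']
      exact Iff.rfl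
    have hterm : ∀ x ∈ Finset.univ.filter (fun x => π x = ω),
        ((Nat.card (MulAction.stabilizer M x) : ℂ) / (Nat.card M : ℂ)) * F x =
        ((Nat.card (MulAction.stabilizer M x₀) : ℂ) / (Nat.card M : ℂ)) * F x₀ := by
      intro x hx
      rw [Finset.mem_filter] at hx
      obtain ⟨m, rfl⟩ := (hmem x).mp hx.2
      rw [hF]
      congr 2
      have : MulAction.stabilizer M (m • x₀) =
          (MulAction.stabilizer M x₀).map (MulAut.conj m).toMonoidHom :=
        MulAction.stabilizer_smul_eq_stabilizer_map_conj m x₀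
      rw [this]
      congr 1
      exact Subgroup.card_map_of_injective (MulAut.conj m).injective
    rw [Finset.sum_congr rfl hterm, Finset.sum_const, nsmul_eq_mul]
    have hcard : (Finset.univ.filter (fun x => π x = ω)).card = Nat.card (MulAction.orbit M x₀) := by
      rw [Nat.card_eq_fintype_card, Fintype.card_subtype]
      congr 1
      ext x
      simp only [Finset.mem_filter, Finset.mem_univ, true_and]
      exact hmem x
    rw [hcard]
    have hos : Nat.card (MulAction.orbit M x₀) * Nat.card (MulAction.stabilizer M x₀) = Nat.card M := by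
      have := MulAction.card_orbit_mul_card_stabilizer_eq_card_group M x₀
      simpa [Nat.card_eq_fintype_card] using this
    have hos' : (Nat.card (MulAction.orbit M x₀) : ℂ) * (Nat.card (MulAction.stabilizer M x₀) : ℂ) =
        (Nat.card M : ℂ) := by exact_mod_cast hos
    rw [← mul_assoc, mul_div_assoc', hos', div_self hM0, one_mul]
  rw [← Finset.sum_fiberwise (s := Finset.univ) (g := π)]
  rw [Finset.sum_congr rfl (fun ω _ => key ω)]
  choose zf hzf using hint
  refine ⟨∑ ω : Ω, zf ω.out, ?_⟩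
  push_cast
  exact Finset.sum_congr rfl (fun ω _ => hzf _)

end orbit

section coset

variable {G : Type*} [Group G] [Fintype G]

/-- Coprime coset averaging. -/
theorem sum_coset_eq (K C : Subgroup G) (a : G) [Fintype ↥K] [Fintype ↥C]
    (hC : C = K ⊓ Subgroup.centralizer ({a} : Set G))
    (ha : a ∈ Subgroup.normalizer (K : Set G))
    (hcop : Nat.Coprime (orderOf a) (Nat.card K)) (f : G → ℂ)
    (hf : ∀ x ∈ K, ∀ g : G, f (x * g * x⁻¹) = f g) :
    (Nat.card ↥C : ℂ) * ∑ h : K, f ((h : G) * a) =
      (Nat.card K : ℂ) * ∑ c : ↥C, f ((c : G) * a) := by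
  classical
  have hCle : C ≤ K ⊓ Subgroup.centralizer ({a} : Set G) := hC.le
  have hCge : K ⊓ Subgroup.centralizer ({a} : Set G) ≤ C := hC.ge
  have hCK : ∀ c : C, (c : G) ∈ K := fun c => (hCle c.2).1
  have hCa : ∀ c : C, (c : G) * a = a * (c : G) := by
    intro c
    have : (c : G) ∈ Subgroup.centralizer ({a} : Set G) := (hCle c.2).2
    rw [Subgroup.mem_centralizer_singleton_iff] at this
    exact this
  -- the element `x c a x⁻¹ a⁻¹` lies in `K`
  have hnorm : ∀ k ∈ K, a * k * a⁻¹ ∈ K := fun k hk => (Subgroup.mem_normalizer_iff.mp ha k).mp hk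
  have hΦmem : ∀ p : K × C, (p.1 : G) * ((p.2 : G) * a) * (p.1 : G)⁻¹ * a⁻¹ ∈ K := by
    intro p
    have e : (p.1 : G) * ((p.2 : G) * a) * (p.1 : G)⁻¹ * a⁻¹ =
        (p.1 : G) * (p.2 : G) * (a * (p.1 : G)⁻¹ * a⁻¹) := by group
    rw [e]
    exact K.mul_mem (K.mul_mem p.1.2 (hCK p.2)) (hnorm _ (K.inv_mem p.1.2))
  let Φ : K × C → K := fun p => ⟨_, hΦmem p⟩
  have hΦ : ∀ p : K × C, ((Φ p : K) : G) * a = (p.1 : G) * ((p.2 : G) * a) * (p.1 : G)⁻¹ := by
    intro p
    show (p.1 : G) * ((p.2 : G) * a) * (p.1 : G)⁻¹ * a⁻¹ * a = _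
    group
  -- total sum computed in two ways
  have h1 : ∑ p : K × C, f ((p.1 : G) * ((p.2 : G) * a) * (p.1 : G)⁻¹) =
      (Nat.card K : ℂ) * ∑ c : C, f ((c : G) * a) := by
    rw [Fintype.sum_prod_type]
    simp only [hf _ (Subtype.property _)]
    rw [Finset.sum_const, Finset.card_univ, nsmul_eq_mul, Nat.card_eq_fintype_card]
  -- exponent isolating `a`
  obtain ⟨k, hk1, hk0⟩ := Helper25.exists_modEq_one_zero hcop
  have hpowC : ∀ c : C, ((c : G) * a) ^ k = a := by
    intro c
    have hcomm : Commute a (c : G) := (hCa c).symm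
    have h := Helper25.mul_pow_eq_left_of_modEq hcomm (pow_orderOf_eq_one a)
      (orderOf_dvd_iff_pow_eq_one.mp (Subgroup.orderOf_dvd_natCard K (hCK c))) hk1 hk0
    rw [← hCa c] at h
    exact h
  have hfib : ∀ h : K, (Finset.univ.filter (fun p : K × C => Φ p = h)).card = Nat.card C := by
    intro h
    obtain ⟨x, hx, c, hc, hcg, hxc⟩ :=
      Helper25.exists_conj_eq_centralizer_mul (orderOf a) K a rfl ha hcop h h.2
    -- base point of the fibre: `(x⁻¹, c)`
    have hcC : c ∈ C := by
      apply hCge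
      refine Subgroup.mem_inf.mpr ⟨hc, ?_⟩
      rw [Subgroup.mem_centralizer_singleton_iff]; exact hcg
    let x₀ : K := ⟨x⁻¹, K.inv_mem hx⟩
    let c₀ : C := ⟨c, hcC⟩
    have hbase : (h : G) * a = (x₀ : G) * ((c₀ : G) * a) * (x₀ : G)⁻¹ := by
      show (h : G) * a = x⁻¹ * (c * a) * x⁻¹⁻¹
      rw [← hxc]; group
    let i : C → K × C := fun y =>
      (⟨(x₀ : G) * (y : G)⁻¹, K.mul_mem x₀.2 (K.inv_mem (hCK y))⟩,
        ⟨(y : G) * (c₀ : G) * (y : G)⁻¹, C.mul_mem (C.mul_mem y.2 c₀.2) (C.inv_mem y.2)⟩)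
    have hi_inj : Function.Injective i := by
      intro y y' hyy
      have h1 := congrArg (fun p : K × C => ((p.1 : K) : G)) hyy
      simp only [i] at h1
      have h2 : (y : G)⁻¹ = (y' : G)⁻¹ := mul_left_cancel h1
      exact Subtype.ext (inv_injective h2)
    have himg : Finset.univ.filter (fun p : K × C => Φ p = h) = Finset.univ.image i := by
      ext p
      simp only [Finset.mem_filter, Finset.mem_univ, true_and, Finset.mem_image]
      constructor
      · intro hp
        have hp' : (p.1 : G) * ((p.2 : G) * a) * (p.1 : G)⁻¹ =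
            (x₀ : G) * ((c₀ : G) * a) * (x₀ : G)⁻¹ := by
          rw [← hΦ p, hp, hbase]
        -- y := p.1⁻¹ x₀
        set y : G := (p.1 : G)⁻¹ * (x₀ : G) with hy
        have hyK : y ∈ K := K.mul_mem (K.inv_mem p.1.2) x₀.2
        have hconj : y * ((c₀ : G) * a) * y⁻¹ = (p.2 : G) * a := by
          rw [hy]
          have : (p.2 : G) * a = (p.1 : G)⁻¹ * ((p.1 : G) * ((p.2 : G) * a) * (p.1 : G)⁻¹) * (p.1 : G) := by
            group
          rw [this, hp']; group
        have hya : y * a * y⁻¹ = a := by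
          have : (y * ((c₀ : G) * a) * y⁻¹) ^ k = ((p.2 : G) * a) ^ k := by rw [hconj]
          rw [Helper25.conj_pow', hpowC c₀, hpowC p.2] at this
          exact this
        have hyC : y ∈ C := by
          apply hCge
          refine Subgroup.mem_inf.mpr ⟨hyK, ?_⟩
          rw [Subgroup.mem_centralizer_singleton_iff]
          calc y * a = y * a * y⁻¹ * y := by group
            _ = a * y := by rw [hya]
        refine ⟨⟨y, hyC⟩, ?_⟩
        apply Prod.ext
        · apply Subtype.ext
          show (x₀ : G) * y⁻¹ = (p.1 : G)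
          rw [hy]; group
        · apply Subtype.ext
          show y * (c₀ : G) * y⁻¹ = (p.2 : G)
          have e : y * (c₀ : G) * y⁻¹ = (y * ((c₀ : G) * a) * y⁻¹) * (y * a * y⁻¹)⁻¹ := by group
          rw [e, hconj, hya]; group
      · rintro ⟨y, rfl⟩
        apply Subtype.ext
        have hya : (y : G) * a = a * (y : G) := hCa y
        have e1 : ((Φ (i y) : K) : G) = ((Φ (i y) : K) : G) * a * a⁻¹ := by group
        rw [e1, hΦ]
        show (x₀ : G) * (y : G)⁻¹ * ((y : G) * (c₀ : G) * (y : G)⁻¹ * a) * ((x₀ : G) * (y : G)⁻¹)⁻¹ * a⁻¹ = (h : G)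
        have e2 : (x₀ : G) * (y : G)⁻¹ * ((y : G) * (c₀ : G) * (y : G)⁻¹ * a) * ((x₀ : G) * (y : G)⁻¹)⁻¹ =
            (x₀ : G) * ((c₀ : G) * ((y : G)⁻¹ * a * (y : G))) * (x₀ : G)⁻¹ := by group
        have e3 : (y : G)⁻¹ * a * (y : G) = a := by
          rw [mul_assoc, ← hya]; group
        rw [e2, e3, ← hbase]; group
    rw [himg, Finset.card_image_of_injective _ hi_inj, Finset.card_univ, Nat.card_eq_fintype_card]
  have h2 : ∑ p : K × C, f ((p.1 : G) * ((p.2 : G) * a) * (p.1 : G)⁻¹) =
      (Nat.card C : ℂ) * ∑ h : K, f ((h : G) * a) := by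
    rw [← Finset.sum_fiberwise (s := Finset.univ) (g := Φ), Finset.mul_sum]
    refine Finset.sum_congr rfl (fun h _ => ?_)
    have : ∀ p ∈ Finset.univ.filter (fun p : K × C => Φ p = h),
        f ((p.1 : G) * ((p.2 : G) * a) * (p.1 : G)⁻¹) = f ((h : G) * a) := by
      intro p hp
      rw [Finset.mem_filter] at hp
      rw [← hΦ p, hp.2]
    rw [Finset.sum_congr rfl this, Finset.sum_const, nsmul_eq_mul, hfib h]
  rw [← h2, h1]

end coset

end Cfsg.Agent.Helper77
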