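import Mathlib
import Cfsg.Prelude.Def_OddOrderChar
import Cfsg.Agent.Helper25.DadeIso
import Cfsg.Agent.Helper25.GenChar
import Cfsg.Agent.Helper77.DadeOrbitSum

set_option autoImplicit false

/-! The Dade image of a generalized character is a generalized character (Peterfalvi (2.7)),
via the dual form of the expansion (2.6): for `a ∈ A` the average of `χ` over `a H(a)` is the
alternating sum, over the nonempty `a`-invariant subsets `B` of `A`, of the averages of `χ` over
`H_B a`, where `H_B = ⋂_{b ∈ B} H(b)`. -/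

namespace Cfsg.Agent.Helper77

open Cfsg Cfsg.Agent.Helper25
open scoped ComplexConjugate

section action

variable {G : Type*} [Group G] [DecidableEq G]

/-- Conjugation action of a subgroup on the finsets of the group. -/
@[reducible] def conjFinset (L : Subgroup G) : MulAction L (Finset G) where
  smul l B := B.image (fun b => (l : G) * b * (l : G)⁻¹)
  one_smul B := by
    show B.image (fun b => ((1 : L) : G) * b * ((1 : L) : G)⁻¹) = B
    simp
  mul_smul l l' B := by
    show B.image (fun b => ((l * l' : L) : G) * b * ((l * l' : L) : G)⁻¹) =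
      (B.image (fun b => (l' : G) * b * (l' : G)⁻¹)).image (fun b => (l : G) * b * (l : G)⁻¹)
    rw [Finset.image_image]
    congr 1
    ext b
    simp [mul_assoc]

attribute [local instance] conjFinset

theorem mem_conj_smul (L : Subgroup G) (l : L) (B : Finset G) (x : G) :
    x ∈ l • B ↔ (l : G)⁻¹ * x * (l : G) ∈ B := by
  show x ∈ B.image (fun b => (l : G) * b * (l : G)⁻¹) ↔ _
  rw [Finset.mem_image]
  constructor
  · rintro ⟨b, hb, rfl⟩
    have : (l : G)⁻¹ * ((l : G) * b * (l : G)⁻¹) * (l : G) = b := by group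
    rw [this]; exact hb
  · intro h
    exact ⟨_, h, by group⟩

theorem conj_mem_conj_smul (L : Subgroup G) (l : L) (B : Finset G) (b : G) :
    (l : G) * b * (l : G)⁻¹ ∈ l • B ↔ b ∈ B := by
  rw [mem_conj_smul]
  have : (l : G)⁻¹ * ((l : G) * b * (l : G)⁻¹) * (l : G) = b := by group
  rw [this]

theorem card_conj_smul (L : Subgroup G) (l : L) (B : Finset G) : (l • B).card = B.card := by
  show (B.image (fun b => (l : G) * b * (l : G)⁻¹)).card = B.card
  apply Finset.card_image_of_injective
  intro b b' h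
  simpa using h

/-- The intersection of the subgroups `H b`, `b ∈ B`. -/
def HB (H : G → Subgroup G) (B : Finset G) : Subgroup G := ⨅ b ∈ B, H b

theorem mem_HB {H : G → Subgroup G} {B : Finset G} {x : G} :
    x ∈ HB H B ↔ ∀ b ∈ B, x ∈ H b := by
  simp [HB, Subgroup.mem_iInf]

theorem HB_singleton (H : G → Subgroup G) (a : G) : HB H {a} = H a := by
  ext x; simp [mem_HB]

theorem HB_le {H : G → Subgroup G} {B : Finset G} {b : G} (hb : b ∈ B) : HB H B ≤ H b :=
  fun _ hx => mem_HB.mp hx b hb

end action

section dade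

variable {G : Type*} [Group G] [DecidableEq G] [Finite G]
  {A : Set G} {L : Subgroup G} {H : G → Subgroup G}

attribute [local instance] conjFinset

/-- `H (l b l⁻¹) = l (H b) l⁻¹`, elementwise. -/
theorem mem_H_conj_iff (hD : DadeHypothesis A L H) {b : G} (hb : b ∈ A) (l : L) (x : G) :
    x ∈ H ((l : G) * b * (l : G)⁻¹) ↔ (l : G)⁻¹ * x * (l : G) ∈ H b := by
  have hb' : (l : G) * b * (l : G)⁻¹ ∈ A := hD.conj_mem l l.2 b hb
  constructor
  · intro hx
    have e : (l : G)⁻¹ * ((l : G) * b * (l : G)⁻¹) * (l : G)⁻¹⁻¹ = b := by group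
    have := dade_conj_mem_H hD (g := (l : G)⁻¹) hb' (by rw [e]; exact hb) hx
    rw [e] at this
    simpa using this
  · intro hx
    have := dade_conj_mem_H hD (g := (l : G)) hb hb' hx
    have e : (l : G) * ((l : G)⁻¹ * x * (l : G)) * (l : G)⁻¹ = x := by group
    rwa [e] at this

theorem mem_HB_smul_iff (hD : DadeHypothesis A L H) {B : Finset G} (hB : ∀ b ∈ B, b ∈ A)
    (l : L) (x : G) : x ∈ HB H (l • B) ↔ (l : G)⁻¹ * x * (l : G) ∈ HB H B := by
  rw [mem_HB, mem_HB]
  constructor
  · intro h b hb
    have := h ((l : G) * b * (l : G)⁻¹) ((conj_mem_conj_smul L l B b).mpr hb)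
    exact (mem_H_conj_iff hD (hB b hb) l x).mp this
  · intro h b' hb'
    rw [mem_conj_smul] at hb'
    have h1 := h _ hb'
    have h2 := (mem_H_conj_iff hD (hB _ hb') l x).mpr h1
    have e : (l : G) * ((l : G)⁻¹ * b' * (l : G)) * (l : G)⁻¹ = b' := by group
    rwa [e] at h2

theorem subset_smul (hD : DadeHypothesis A L H) {B : Finset G} (hB : ∀ b ∈ B, b ∈ A)
    (l : L) : ∀ b ∈ l • B, b ∈ A := by
  intro b hb
  rw [mem_conj_smul] at hb
  have := hD.conj_mem l l.2 _ (hB _ hb)
  have e : (l : G) * ((l : G)⁻¹ * b * (l : G)) * (l : G)⁻¹ = b := by group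
  rwa [e] at this

theorem HB_smul_eq_map (hD : DadeHypothesis A L H) {B : Finset G} (hB : ∀ b ∈ B, b ∈ A)
    (l : L) : HB H (l • B) = (HB H B).map (MulAut.conj (l : G)).toMonoidHom := by
  ext x
  rw [mem_HB_smul_iff hD hB, Subgroup.mem_map_equiv]
  simp [MulAut.conj_symm_apply]

theorem card_HB_smul (hD : DadeHypothesis A L H) {B : Finset G} (hB : ∀ b ∈ B, b ∈ A)
    (l : L) : Nat.card (HB H (l • B)) = Nat.card (HB H B) := by
  rw [HB_smul_eq_map hD hB]
  exact Subgroup.card_map_of_injective (MulAut.conj (l : G)).injective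

/-- The stabilizer of `B` normalizes `H_B`. -/
theorem stab_le_normalizer (hD : DadeHypothesis A L H) {B : Finset G} (hB : ∀ b ∈ B, b ∈ A)
    {l : L} (hl : l • B = B) : (l : G) ∈ Subgroup.normalizer ((HB H B : Subgroup G) : Set G) := by
  rw [Subgroup.mem_normalizer_iff]
  intro x
  have h := mem_HB_smul_iff hD hB l ((l : G) * x * (l : G)⁻¹)
  rw [hl] at h
  have e : (l : G)⁻¹ * ((l : G) * x * (l : G)⁻¹) * (l : G) = x := by group
  rw [e] at h
  exact h.symm

theorem orderOf_coprime_HB (hD : DadeHypothesis A L H) {B : Finset G} (hB : ∀ b ∈ B, b ∈ A)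
    (hne : B.Nonempty) {a : G} (ha : a ∈ A) :
    Nat.Coprime (orderOf a) (Nat.card (HB H B)) := by
  obtain ⟨b, hb⟩ := hne
  have h1 : orderOf a ∣ Nat.card ↥(L ⊓ Subgroup.centralizer ({a} : Set G)) := by
    apply Subgroup.orderOf_dvd_natCard
    refine Subgroup.mem_inf.mpr ⟨hD.subset ha, ?_⟩
    rw [Subgroup.mem_centralizer_singleton_iff]
  have h2 : Nat.card (HB H B) ∣ Nat.card (H b) := Subgroup.card_dvd_of_le (HB_le hb)
  have h3 := hD.coprime b (hB b hb) a ha
  exact (Nat.Coprime.coprime_dvd_left h2 (Nat.Coprime.coprime_dvd_right h1 h3)).symm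

theorem HB_insert (hD : DadeHypothesis A L H) {B : Finset G} (hB : ∀ b ∈ B, b ∈ A)
    (hne : B.Nonempty) {a : G} (ha : a ∈ A) :
    HB H (insert a B) = HB H B ⊓ Subgroup.centralizer ({a} : Set G) := by
  ext x
  rw [mem_HB, Subgroup.mem_inf, mem_HB]
  constructor
  · intro h
    refine ⟨fun b hb => h b (Finset.mem_insert_of_mem hb), ?_⟩
    exact hD.le_centralizer a ha (h a (Finset.mem_insert_self a B))
  · rintro ⟨h1, h2⟩ b hb
    rw [Finset.mem_insert] at hb
    rcases hb with rfl | hb
    · obtain ⟨c, hc⟩ := hne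
      have hnorm : L ⊓ Subgroup.centralizer ({b} : Set G) ≤
          Subgroup.normalizer ((H b : Subgroup G) : Set G) := by
        intro y hy
        rw [Subgroup.mem_normalizer_iff]
        intro h
        constructor
        · intro hh
          exact hD.conj_mem_H b ha y hy.2 h hh
        · intro hh
          have := hD.conj_mem_H b ha y⁻¹ (Subgroup.inv_mem _ hy.2) _ hh
          simpa [mul_assoc] using this
      have hsup : x ∈ H b ⊔ (L ⊓ Subgroup.centralizer ({b} : Set G)) := by
        rw [hD.sup_eq b ha]; exact h2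
      have hpow : x ^ Nat.card (H c) = 1 :=
        orderOf_dvd_iff_pow_eq_one.mp (Subgroup.orderOf_dvd_natCard _ (h1 c hc))
      exact mem_of_mem_sup_of_pow_eq_one (H b) _ hnorm (hD.inf_eq_bot b ha) hsup hpow
        (hD.coprime c (hB c hc) b ha)
    · exact h1 b hb

end dade

section sums

variable {G : Type*} [Group G] [DecidableEq G] [Fintype G]
  {A : Set G} {L : Subgroup G} {H : G → Subgroup G}

attribute [local instance] conjFinset

theorem sum_ite_mem_subgroup (K : Subgroup G) [DecidablePred (· ∈ K)] [Fintype K] (F : G → ℂ) :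
    (∑ h : G, if h ∈ K then F h else 0) = ∑ h : K, F h := by
  rw [← Finset.sum_filter]
  exact Finset.sum_subtype (Finset.univ.filter (· ∈ K)) (by simp) F

open Classical in
/-- Average of `χ` over the coset `H_B a`. -/
noncomputable def avgB (H : G → Subgroup G) (χ : G → ℂ) (B : Finset G) (a : G) : ℂ :=
  (Nat.card (HB H B) : ℂ)⁻¹ * ∑ h : G, if h ∈ HB H B then χ (h * a) else 0

theorem avgB_insert (hD : DadeHypothesis A L H) {χ : G → ℂ} (hχ : IsClassFunction G χ)
    {B : Finset G} (hB : ∀ b ∈ B, b ∈ A) (hne : B.Nonempty) {a : L} (ha : (a : G) ∈ A)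
    (hst : a • B = B) :
    avgB H χ (insert (a : G) B) a = avgB H χ B a := by
  classical
  unfold avgB
  rw [sum_ite_mem_subgroup, sum_ite_mem_subgroup]
  have hC := HB_insert hD hB hne ha
  have key := sum_coset_eq (HB H B) (HB H (insert (a : G) B)) (a : G) hC
    (stab_le_normalizer hD hB hst) (orderOf_coprime_HB hD hB hne ha) χ
    (fun x _ g => hχ g x)
  have hK0 : (Nat.card (HB H B) : ℂ) ≠ 0 := by
    have : 0 < Nat.card (HB H B) := Nat.card_pos
    exact_mod_cast this.ne'
  have hC0 : (Nat.card (HB H (insert (a : G) B)) : ℂ) ≠ 0 := by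
    have : 0 < Nat.card (HB H (insert (a : G) B)) := Nat.card_pos
    exact_mod_cast this.ne'
  field_simp
  linear_combination (-1 : ℂ) * key

theorem conj_self_eq_iff (a x : G) : a⁻¹ * x * a = a ↔ x = a := by
  constructor
  · intro h
    have : x = a * (a⁻¹ * x * a) * a⁻¹ := by group
    rw [this, h]; group
  · rintro rfl; group

theorem smul_insert_self {a : L} {B : Finset G} (hst : a • B = B) :
    a • insert (a : G) B = insert (a : G) B := by
  ext x
  rw [mem_conj_smul, Finset.mem_insert, Finset.mem_insert, conj_self_eq_iff]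
  nth_rewrite 2 [← hst]
  rw [mem_conj_smul]

theorem smul_erase_self {a : L} {B : Finset G} (hst : a • B = B) :
    a • B.erase (a : G) = B.erase (a : G) := by
  ext x
  rw [mem_conj_smul, Finset.mem_erase, Finset.mem_erase, Ne, conj_self_eq_iff]
  nth_rewrite 2 [← hst]
  rw [mem_conj_smul]

/-- Toggle membership of `a`. -/
def tog (a : G) (B : Finset G) : Finset G := if a ∈ B then B.erase a else insert a B

theorem tog_tog (a : G) (B : Finset G) : tog a (tog a B) = B := by
  unfold tog
  by_cases h : a ∈ B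
  · rw [if_pos h, if_neg (Finset.notMem_erase a B), Finset.insert_erase h]
  · rw [if_neg h, if_pos (Finset.mem_insert_self a B), Finset.erase_insert h]

theorem tog_ne (a : G) (B : Finset G) : tog a B ≠ B := by
  unfold tog
  by_cases h : a ∈ B
  · rw [if_pos h]
    intro e
    have := Finset.notMem_erase a B
    rw [e] at this
    exact this h
  · rw [if_neg h]
    intro e
    have := Finset.mem_insert_self a B
    rw [e] at this
    exact h this

open Classical in
/-- The nonempty subsets of `A`. -/
noncomputable def subsetsA (A : Set G) : Finset (Finset G) :=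
  Finset.univ.filter (fun B : Finset G => (∀ b ∈ B, b ∈ A) ∧ B.Nonempty)

theorem mem_subsetsA {A : Set G} {B : Finset G} :
    B ∈ subsetsA A ↔ (∀ b ∈ B, b ∈ A) ∧ B.Nonempty := by
  classical
  simp [subsetsA]

/-- The sign `(-1)^(|B|+1)`. -/
def sgn (B : Finset G) : ℂ := (-1) ^ (B.card + 1)

theorem sgn_insert {a : G} {B : Finset G} (h : a ∉ B) : sgn (insert a B) = - sgn B := by
  unfold sgn
  rw [Finset.card_insert_of_notMem h, pow_succ]
  ring

theorem expansion (hD : DadeHypothesis A L H) {χ : G → ℂ} (hχ : IsClassFunction G χ)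
    {a : L} (ha : (a : G) ∈ A) :
    ∑ B ∈ subsetsA A, (if a • B = B then sgn B * avgB H χ B a else 0) =
      avgB H χ {(a : G)} a := by
  classical
  rw [← Finset.sum_filter]
  set T := (subsetsA A).filter (fun B => a • B = B) with hT
  have hmemT : ∀ B, B ∈ T ↔ ((∀ b ∈ B, b ∈ A) ∧ B.Nonempty) ∧ a • B = B := by
    intro B; rw [hT, Finset.mem_filter, mem_subsetsA]
  have hsing : a • ({(a : G)} : Finset G) = {(a : G)} := by
    ext x
    rw [mem_conj_smul, Finset.mem_singleton, Finset.mem_singleton, conj_self_eq_iff]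
  have ha_mem : ({(a : G)} : Finset G) ∈ T := by
    rw [hmemT]
    refine ⟨⟨?_, Finset.singleton_nonempty _⟩, hsing⟩
    intro b hb
    rw [Finset.mem_singleton] at hb
    rw [hb]; exact ha
  rw [← Finset.add_sum_erase T _ ha_mem]
  have h0 : ∑ B ∈ T.erase {(a : G)}, sgn B * avgB H χ B a = 0 := by
    refine Finset.sum_involution (fun B _ => tog (a : G) B) ?_ ?_ ?_ ?_
    · -- f B + f (tog B) = 0
      intro B hB
      rw [Finset.mem_erase, hmemT] at hB
      obtain ⟨hBne, ⟨hBA, hBn⟩, hst⟩ := hB
      by_cases h : (a : G) ∈ B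
      · -- B = insert a B'
        have hB' : ∀ b ∈ B.erase (a : G), b ∈ A := fun b hb => hBA b (Finset.mem_of_mem_erase hb)
        have hB'n : (B.erase (a : G)).Nonempty := by
          rw [Finset.nonempty_iff_ne_empty]
          intro he
          apply hBne
          rw [← Finset.insert_erase h, he]
          rfl
        have hst' := smul_erase_self hst
        have h1 := avgB_insert hD hχ hB' hB'n ha hst'
        rw [Finset.insert_erase h] at h1
        have h2 : sgn B = - sgn (B.erase (a : G)) := by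
          rw [← sgn_insert (Finset.notMem_erase (a : G) B), Finset.insert_erase h]
        show sgn B * avgB H χ B a + sgn (tog (a : G) B) * avgB H χ (tog (a : G) B) a = 0
        unfold tog
        rw [if_pos h, h1, h2]
        ring
      · have h1 := avgB_insert hD hχ hBA hBn ha hst
        show sgn B * avgB H χ B a + sgn (tog (a : G) B) * avgB H χ (tog (a : G) B) a = 0
        unfold tog
        rw [if_neg h, h1, sgn_insert h]
        ring
    · intro B _ _
      exact tog_ne _ _
    · intro B hB
      rw [Finset.mem_erase, hmemT] at hB ⊢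
      obtain ⟨hBne, ⟨hBA, hBn⟩, hst⟩ := hB
      unfold tog
      by_cases h : (a : G) ∈ B
      · rw [if_pos h]
        refine ⟨?_, ⟨fun b hb => hBA b (Finset.mem_of_mem_erase hb), ?_⟩, smul_erase_self hst⟩
        · intro e
          have := Finset.notMem_erase (a : G) B
          rw [e] at this
          exact this (Finset.mem_singleton_self _)
        · rw [Finset.nonempty_iff_ne_empty]
          intro he
          apply hBne
          rw [← Finset.insert_erase h, he]
          rfl
      · rw [if_neg h]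
        refine ⟨?_, ⟨?_, Finset.insert_nonempty _ _⟩, smul_insert_self hst⟩
        · intro e
          obtain ⟨b, hb⟩ := hBn
          have : b ∈ insert (a : G) B := Finset.mem_insert_of_mem hb
          rw [e, Finset.mem_singleton] at this
          rw [this] at hb
          exact h hb
        · intro b hb
          rw [Finset.mem_insert] at hb
          rcases hb with rfl | hb
          · exact ha
          · exact hBA b hb
    · intro B _
      exact tog_tog _ _
  rw [h0, add_zero]
  have : sgn ({(a : G)} : Finset G) = 1 := by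
    unfold sgn
    rw [Finset.card_singleton]
    norm_num
  rw [this, one_mul]

end sums

section TB

variable {G : Type*} [Group G] [DecidableEq G] [Fintype G]
  {A : Set G} {L : Subgroup G} [Fintype L] {H : G → Subgroup G}

attribute [local instance] conjFinset

open Classical in
/-- The double sum over `Stab_L(B) × H_B` of `α(n) conj χ(h n)`, as an indicator sum. -/
noncomputable def TB (L : Subgroup G) [Fintype L] (H : G → Subgroup G) (α : L → ℂ) (χ : G → ℂ)
    (B : Finset G) : ℂ :=
  ∑ n : L, ∑ h : G, if n • B = B ∧ h ∈ HB H B then α n * conj (χ (h * (n : G))) else 0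

/-- The normalized double sum: an inner product on `H_B ⋊ Stab_L(B)`. -/
noncomputable def cB (L : Subgroup G) [Fintype L] (H : G → Subgroup G) (α : L → ℂ) (χ : G → ℂ)
    (B : Finset G) : ℂ :=
  TB L H α χ B / ((Nat.card (MulAction.stabilizer L B) : ℂ) * (Nat.card (HB H B) : ℂ))

theorem TB_eq_sum_subtype (α : L → ℂ) (χ : G → ℂ) (B : Finset G)
    [Fintype (MulAction.stabilizer L B)] [Fintype (HB H B)] :
    TB L H α χ B = ∑ n : MulAction.stabilizer L B, ∑ k : HB H B,
      α (n : L) * conj (χ ((k : G) * ((n : L) : G))) := by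
  classical
  unfold TB
  have h1 : ∀ n : L, (∑ h : G, if n • B = B ∧ h ∈ HB H B then α n * conj (χ (h * (n : G))) else 0) =
      if n ∈ MulAction.stabilizer L B then
        (∑ k : HB H B, α n * conj (χ ((k : G) * (n : G)))) else 0 := by
    intro n
    by_cases hn : n • B = B
    · rw [if_pos (MulAction.mem_stabilizer_iff.mpr hn)]
      simp only [hn, true_and]
      exact sum_ite_mem_subgroup (HB H B) (fun h => α n * conj (χ (h * (n : G))))
    · rw [if_neg (fun h => hn (MulAction.mem_stabilizer_iff.mp h))]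
      simp only [hn, false_and, if_false, Finset.sum_const_zero]
  simp only [h1]
  exact sum_ite_mem_subgroup (G := L) (MulAction.stabilizer L B)
    (fun n => ∑ k : HB H B, α n * conj (χ ((k : G) * (n : G))))

theorem cB_int (hD : DadeHypothesis A L H) {α : L → ℂ} (hα : IsGeneralizedCharacter L α)
    {χ : G → ℂ} (hχ : IsCharacter G χ) {B : Finset G} (hB : ∀ b ∈ B, b ∈ A) :
    ∃ z : ℤ, cB L H α χ B = z := by
  classical
  have hnorm : ∀ n : MulAction.stabilizer L B,
      (L.subtype.comp (MulAction.stabilizer L B).subtype) n ∈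
        Subgroup.normalizer ((HB H B : Subgroup G) : Set G) :=
    fun n => stab_le_normalizer hD hB (MulAction.mem_stabilizer_iff.mp n.2)
  let ι : MulAction.stabilizer L B →* Subgroup.normalizer ((HB H B : Subgroup G) : Set G) :=
    (L.subtype.comp (MulAction.stabilizer L B).subtype).codRestrict _ hnorm
  let φ : MulAction.stabilizer L B →* MulAut (HB H B) := (HB H B).normalizerMonoidHom.comp ι
  let fS : (HB H B) ⋊[φ] (MulAction.stabilizer L B) →* G :=
    SemidirectProduct.lift (HB H B).subtype (L.subtype.comp (MulAction.stabilizer L B).subtype)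
      (by intro n; ext k; simp [φ, ι])
  let rS : (HB H B) ⋊[φ] (MulAction.stabilizer L B) →* L :=
    (MulAction.stabilizer L B).subtype.comp SemidirectProduct.rightHom
  let _ : Fintype ((HB H B) ⋊[φ] (MulAction.stabilizer L B)) :=
    Fintype.ofEquiv ((HB H B) × (MulAction.stabilizer L B)) SemidirectProduct.equivProd.symm
  have h1 : IsGeneralizedCharacter ((HB H B) ⋊[φ] (MulAction.stabilizer L B)) (α ∘ rS) := by
    obtain ⟨χ₁, χ₂, h₁, h₂, rfl⟩ := hα
    exact ⟨χ₁ ∘ rS, χ₂ ∘ rS, Helper74.isCharacter_comp rS h₁, Helper74.isCharacter_comp rS h₂, rfl⟩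
  have h2 : IsGeneralizedCharacter ((HB H B) ⋊[φ] (MulAction.stabilizer L B)) (χ ∘ fS) :=
    isGenChar_of_isCharacter (Helper74.isCharacter_comp fS hχ)
  obtain ⟨m, hm⟩ := isGenChar_inner_int h1 h2
  refine ⟨m, ?_⟩
  rw [← hm]
  unfold cB classInner
  rw [TB_eq_sum_subtype, SemidirectProduct.card]
  have hsum : ∑ s : (HB H B) ⋊[φ] (MulAction.stabilizer L B), (α ∘ rS) s * conj ((χ ∘ fS) s) =
      ∑ n : MulAction.stabilizer L B, ∑ k : HB H B,
        α (n : L) * conj (χ ((k : G) * ((n : L) : G))) := by
    rw [Finset.sum_comm, ← Fintype.sum_prod_type']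
    refine Fintype.sum_equiv SemidirectProduct.equivProd _ _ ?_
    intro s
    rfl
  rw [hsum]
  push_cast
  rw [div_eq_inv_mul, mul_comm (Nat.card (MulAction.stabilizer L B) : ℂ)]

theorem TB_smul (hD : DadeHypothesis A L H) {α : L → ℂ} (hα : IsClassFunction L α)
    {χ : G → ℂ} (hχ : IsClassFunction G χ) {B : Finset G} (hB : ∀ b ∈ B, b ∈ A) (l : L) :
    TB L H α χ (l • B) = TB L H α χ B := by
  classical
  unfold TB
  symm
  refine Fintype.sum_equiv (MulAut.conj l).toEquiv _ _ ?_
  intro n
  refine Fintype.sum_equiv (MulAut.conj (l : G)).toEquiv _ _ ?_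
  intro h
  have e1 : ((MulAut.conj l).toEquiv n) = l * n * l⁻¹ := rfl
  have e2 : ((MulAut.conj (l : G)).toEquiv h) = (l : G) * h * (l : G)⁻¹ := rfl
  rw [e1, e2]
  have c1 : (l * n * l⁻¹) • (l • B) = l • B ↔ n • B = B := by
    rw [← mul_smul]
    have : l * n * l⁻¹ * l = l * n := by group
    rw [this, mul_smul, smul_left_cancel_iff]
  have c2 : (l : G) * h * (l : G)⁻¹ ∈ HB H (l • B) ↔ h ∈ HB H B := by
    rw [mem_HB_smul_iff hD hB]
    have : (l : G)⁻¹ * ((l : G) * h * (l : G)⁻¹) * (l : G) = h := by group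
    rw [this]
  have c3 : α (l * n * l⁻¹) = α n := hα n l
  have c4 : χ ((l : G) * h * (l : G)⁻¹ * ((l * n * l⁻¹ : L) : G)) = χ (h * (n : G)) := by
    have : (l : G) * h * (l : G)⁻¹ * ((l * n * l⁻¹ : L) : G) =
        (l : G) * (h * (n : G)) * (l : G)⁻¹ := by
      push_cast
      group
    rw [this]
    exact hχ _ _
  simp only [c1, c2, c3, c4]

theorem card_stabilizer_smul (B : Finset G) (l : L) :
    Nat.card (MulAction.stabilizer L (l • B)) = Nat.card (MulAction.stabilizer L B) := by
  rw [MulAction.stabilizer_smul_eq_stabilizer_map_conj]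
  exact Subgroup.card_map_of_injective (MulAut.conj l).injective

theorem cB_smul (hD : DadeHypothesis A L H) {α : L → ℂ} (hα : IsClassFunction L α)
    {χ : G → ℂ} (hχ : IsClassFunction G χ) {B : Finset G} (hB : ∀ b ∈ B, b ∈ A) (l : L) :
    cB L H α χ (l • B) = cB L H α χ B := by
  unfold cB
  rw [TB_smul hD hα hχ hB, card_stabilizer_smul, card_HB_smul hD hB]

theorem conj_psi_eq (hD : DadeHypothesis A L H) (χ : G → ℂ) {a : L} (ha : (a : G) ∈ A) :
    conj ((Nat.card (H (a : G)) : ℂ)⁻¹ * ∑ᶠ u ∈ (H (a : G) : Set G), χ ((a : G) * u)) =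
      avgB H (fun g => conj (χ g)) {(a : G)} a := by
  classical
  unfold avgB
  rw [HB_singleton, finsum_mem_subgroup_eq_sum, map_mul, map_inv₀, map_natCast, map_sum]
  congr 1
  refine Finset.sum_congr rfl (fun u _ => ?_)
  by_cases hu : u ∈ H (a : G)
  · rw [if_pos hu, if_pos hu, (dade_commute hD ha hu).eq]
  · rw [if_neg hu, if_neg hu, map_zero]

theorem subsetsA_smul_iff (hD : DadeHypothesis A L H) (B : Finset G) (l : L) :
    l • B ∈ subsetsA A ↔ B ∈ subsetsA A := by
  rw [mem_subsetsA, mem_subsetsA]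
  constructor
  · rintro ⟨h1, h2⟩
    constructor
    · have := subset_smul hD h1 l⁻¹
      rwa [inv_smul_smul] at this
    · have hc := card_conj_smul L l B
      rw [← Finset.card_pos] at h2 ⊢
      rwa [hc] at h2
  · rintro ⟨h1, h2⟩
    refine ⟨subset_smul hD h1 l, ?_⟩
    have hc := card_conj_smul L l B
    rw [← Finset.card_pos] at h2 ⊢
    rwa [hc]

theorem sgn_smul (B : Finset G) (l : L) : sgn (l • B) = sgn B := by
  unfold sgn
  rw [card_conj_smul]

theorem sgn_int (B : Finset G) : ∃ z : ℤ, sgn B = z := by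
  refine ⟨(-1) ^ (B.card + 1), ?_⟩
  unfold sgn
  push_cast
  rfl

theorem inner_psi_int (hD : DadeHypothesis A L H) {α : L → ℂ} (hα : IsGeneralizedCharacter L α)
    (hαA : ∀ x : L, (x : G) ∉ A → α x = 0) {χ : G → ℂ} (hχ : IsCharacter G χ) :
    ∃ z : ℤ, classInner α (fun a : L => (Nat.card (H (a : G)) : ℂ)⁻¹ *
      ∑ᶠ u ∈ (H (a : G) : Set G), χ ((a : G) * u)) = z := by
  classical
  have hαcf : IsClassFunction L α := isGenChar_isClassFunction hα
  have hχcf : IsClassFunction G χ := isGenChar_isClassFunction (isGenChar_of_isCharacter hχ)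
  set χ' : G → ℂ := fun g => conj (χ g) with hχ'
  have hχ'cf : IsClassFunction G χ' := fun g h => by
    show conj (χ (h * g * h⁻¹)) = conj (χ g)
    rw [hχcf g h]
  -- step (a)
  have stepa : ∀ a : L, α a * conj ((Nat.card (H (a : G)) : ℂ)⁻¹ *
      ∑ᶠ u ∈ (H (a : G) : Set G), χ ((a : G) * u)) =
      ∑ B ∈ subsetsA A, (if a • B = B then sgn B * ((Nat.card (HB H B) : ℂ)⁻¹ *
        ∑ h : G, (if h ∈ HB H B then α a * conj (χ (h * (a : G))) else 0)) else 0) := by
    intro a
    have hterm : ∀ B : Finset G, (∑ h : G, (if h ∈ HB H B then α a * conj (χ (h * (a : G))) else 0)) =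
        α a * ∑ h : G, (if h ∈ HB H B then χ' (h * (a : G)) else 0) := by
      intro B
      rw [Finset.mul_sum]
      refine Finset.sum_congr rfl (fun h _ => ?_)
      split_ifs
      · rfl
      · rw [mul_zero]
    by_cases ha : (a : G) ∈ A
    · rw [conj_psi_eq hD χ ha, ← expansion hD hχ'cf ha, Finset.mul_sum]
      refine Finset.sum_congr rfl (fun B _ => ?_)
      split_ifs
      · rw [hterm B]
        unfold avgB
        ring
      · rw [mul_zero]
    · have h0 := hαA a ha
      rw [h0, zero_mul]
      symm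
      apply Finset.sum_eq_zero
      intro B _
      split_ifs
      · simp
      · rfl
  -- step (b)
  have stepb : ∑ a : L, α a * conj ((Nat.card (H (a : G)) : ℂ)⁻¹ *
      ∑ᶠ u ∈ (H (a : G) : Set G), χ ((a : G) * u)) =
      ∑ B ∈ subsetsA A, sgn B * ((Nat.card (HB H B) : ℂ)⁻¹ * TB L H α χ B) := by
    rw [Finset.sum_congr rfl (fun a _ => stepa a), Finset.sum_comm]
    refine Finset.sum_congr rfl (fun B _ => ?_)
    unfold TB
    rw [Finset.mul_sum, Finset.mul_sum]
    refine Finset.sum_congr rfl (fun a _ => ?_)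
    by_cases h : a • B = B
    · rw [if_pos h]
      simp only [h, true_and]
    · rw [if_neg h]
      simp only [h, false_and, if_false, Finset.sum_const_zero, mul_zero]
  -- step (c)
  have hL0 : (Nat.card L : ℂ) ≠ 0 := by
    have : 0 < Nat.card L := Nat.card_pos
    exact_mod_cast this.ne'
  have stepc : classInner α (fun a : L => (Nat.card (H (a : G)) : ℂ)⁻¹ *
      ∑ᶠ u ∈ (H (a : G) : Set G), χ ((a : G) * u)) =
      ∑ B : Finset G, ((Nat.card (MulAction.stabilizer L B) : ℂ) / (Nat.card L : ℂ)) *
        (if B ∈ subsetsA A then sgn B * cB L H α χ B else 0) := by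
    unfold classInner
    rw [stepb, Finset.mul_sum]
    have : ∀ B : Finset G, ((Nat.card (MulAction.stabilizer L B) : ℂ) / (Nat.card L : ℂ)) *
        (if B ∈ subsetsA A then sgn B * cB L H α χ B else 0) =
        if B ∈ subsetsA A then ((Nat.card (MulAction.stabilizer L B) : ℂ) / (Nat.card L : ℂ)) *
          (sgn B * cB L H α χ B) else 0 := by
      intro B
      split_ifs
      · rfl
      · rw [mul_zero]
    simp only [this]
    rw [← Finset.sum_filter, Finset.filter_mem_eq_inter, Finset.univ_inter]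
    refine Finset.sum_congr rfl (fun B _ => ?_)
    unfold cB
    have hS0 : (Nat.card (MulAction.stabilizer L B) : ℂ) ≠ 0 := by
      have : 0 < Nat.card (MulAction.stabilizer L B) := Nat.card_pos
      exact_mod_cast this.ne'
    have hH0 : (Nat.card (HB H B) : ℂ) ≠ 0 := by
      have : 0 < Nat.card (HB H B) := Nat.card_pos
      exact_mod_cast this.ne'
    field_simp
  rw [stepc]
  apply sum_stabilizer_weight_int
  · intro l B
    by_cases hB : B ∈ subsetsA A
    · rw [if_pos hB, if_pos ((subsetsA_smul_iff hD B l).mpr hB), sgn_smul,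
        cB_smul hD hαcf hχcf (mem_subsetsA.mp hB).1]
    · rw [if_neg hB, if_neg (fun h => hB ((subsetsA_smul_iff hD B l).mp h))]
  · intro B
    by_cases hB : B ∈ subsetsA A
    · rw [if_pos hB]
      obtain ⟨z₁, hz₁⟩ := sgn_int B
      obtain ⟨z₂, hz₂⟩ := cB_int hD hα hχ (mem_subsetsA.mp hB).1
      exact ⟨z₁ * z₂, by rw [hz₁, hz₂]; push_cast; rfl⟩
    · rw [if_neg hB]
      exact ⟨0, by simp⟩

end TB

section main

variable {G : Type*} [Group G] [Fintype G] {A : Set G} {L : Subgroup G} [Fintype L]
  {H : G → Subgroup G}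

/-- Peterfalvi (2.7): the Dade image of a generalized character supported on `A` is a
generalized character. -/
theorem dade_isGenChar (hD : DadeHypothesis A L H) {α : L → ℂ}
    (hα : IsGeneralizedCharacter L α) (hαA : ∀ x : L, (x : G) ∉ A → α x = 0) :
    IsGeneralizedCharacter G (dadeIsometry A L H α) := by
  classical
  let _ := Helper74.irrFintype G
  have hαcf : IsClassFunction L α := isGenChar_isClassFunction hα
  have hθ : IsClassFunction G (dadeIsometry A L H α) := isClassFunction_dadeIsometry hD hαcf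
  have hint : ∀ χ : IrrCharacter G, ∃ z : ℤ,
      classInner (dadeIsometry A L H α) (χ : G → ℂ) = z := by
    intro χ
    have hχ : IsCharacter G (χ : G → ℂ) := Helper74.isCharacter_of_isIrr χ.2
    have hχcf : IsClassFunction G (χ : G → ℂ) :=
      isGenChar_isClassFunction (isGenChar_of_isCharacter hχ)
    rw [dade_inner hD hαcf hαA (χ : G → ℂ)
      (fun a : L => (Nat.card (H (a : G)) : ℂ)⁻¹ *
        ∑ᶠ u ∈ (H (a : G) : Set G), (χ : G → ℂ) ((a : G) * u)) hχcf (fun a _ => rfl)]
    exact inner_psi_int hD hα hαA hχ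
  choose z hz using hint
  rw [Helper74.classFunction_eq_sum_irr hθ]
  apply isGenChar_sum
  intro χ _
  rw [hz χ]
  have : ((z χ : ℂ) • (χ : G → ℂ)) = (z χ) • (χ : G → ℂ) := by
    ext g
    simp
  rw [this]
  exact isGenChar_zsmul _ (isGenChar_of_isCharacter (Helper74.isCharacter_of_isIrr χ.2))

end main

end Cfsg.Agent.Helper77
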