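import Mathlib
import Cfsg.Prelude.Def_OddOrderChar
import Cfsg.Agent.Helper25.GenCharTwo
import Cfsg.Agent.Helper25.InnerBasics
import Cfsg.Agent.Helper81.ConjIrr
import Cfsg.Agent.Helper15.Gallagher
import Cfsg.Agent.Helper77.DadeExpansion

set_option autoImplicit false

/-! Peterfalvi (2.?): under the Dade hypothesis, if `χ ∈ Irr(L)` vanishes off `A ∪ {1}` then
`(χ - χ̄)^τ = μ - μ̄` for an irreducible character `μ` of `G`. -/

namespace Cfsg.Agent.Helper77

open Cfsg Cfsg.Agent.Helper25
open scoped ComplexConjugate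

variable {G : Type*} [Group G] {A : Set G} {L : Subgroup G} {H : G → Subgroup G}

theorem dadeIsometry_comp (f : ℂ → ℂ) (hf : f 0 = 0) (α : L → ℂ) :
    dadeIsometry A L H (fun x => f (α x)) = fun g => f (dadeIsometry A L H α g) := by
  funext g
  unfold dadeIsometry
  split_ifs
  · rfl
  · exact hf.symm

theorem dadeIsometry_one [Finite G] (hD : DadeHypothesis A L H) (α : L → ℂ) :
    dadeIsometry A L H α 1 = 0 := by
  apply dadeIsometry_of_not
  rintro ⟨a, ha, x, u, hu, hx⟩
  have h1 : (a : G) * u = 1 := by rw [← hx]; group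
  have hau : (a : G) = u⁻¹ := eq_inv_of_mul_eq_one_left h1
  have haH : (a : G) ∈ H (a : G) := by rw [hau]; exact (H _).inv_mem (by rwa [← hau])
  have hmem : (a : G) ∈ H (a : G) ⊓ (L ⊓ Subgroup.centralizer ({(a : G)} : Set G)) := by
    refine Subgroup.mem_inf.mpr ⟨haH, Subgroup.mem_inf.mpr ⟨a.2, ?_⟩⟩
    rw [Subgroup.mem_centralizer_singleton_iff]
  rw [hD.inf_eq_bot _ ha, Subgroup.mem_bot] at hmem
  rw [hmem] at ha
  exact hD.one_not_mem ha

theorem dade_irr_sub_conj [Fintype G] [Fintype L] (hD : DadeHypothesis A L H) {χ : L → ℂ}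
    (hχ : IsIrrCharacter L χ) (hsupp : ∀ x : L, x ≠ 1 → (x : G) ∉ A → χ x = 0) :
    ∃ μ : G → ℂ, IsIrrCharacter G μ ∧
      dadeIsometry A L H (χ - conjFun χ) = μ - conjFun μ := by
  classical
  have hχc : IsCharacter L χ := Helper74.isCharacter_of_isIrr hχ
  have hχbar : IsIrrCharacter L (conjFun χ) := Helper81.isIrrCharacter_conj hχ
  by_cases hreal : conjFun χ = χ
  · refine ⟨fun _ => 1, Helper15.isIrrCharacter_one G, ?_⟩
    rw [hreal, sub_self]
    have h0 : dadeIsometry A L H (0 : L → ℂ) = 0 := by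
      funext g
      unfold dadeIsometry
      split_ifs <;> rfl
    rw [h0]
    funext g
    simp [conjFun]
  · have hne : (⟨χ, hχ⟩ : IrrCharacter L) ≠ ⟨conjFun χ, hχbar⟩ := by
      intro h
      apply hreal
      exact (Subtype.mk.inj h).symm
    have h1 : classInner χ χ = 1 := Helper74.irr_inner_self (⟨χ, hχ⟩ : IrrCharacter L)
    have h2 : classInner (conjFun χ) (conjFun χ) = 1 :=
      Helper74.irr_inner_self (⟨conjFun χ, hχbar⟩ : IrrCharacter L)
    have h3 : classInner χ (conjFun χ) = 0 :=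
      Helper74.irr_inner_ne (χ := (⟨χ, hχ⟩ : IrrCharacter L)) (ψ := ⟨conjFun χ, hχbar⟩) hne
    have h4 : classInner (conjFun χ) χ = 0 :=
      Helper74.irr_inner_ne (χ := (⟨conjFun χ, hχbar⟩ : IrrCharacter L)) (ψ := ⟨χ, hχ⟩) hne.symm
    set α : L → ℂ := χ - conjFun χ with hα
    have hαg : IsGeneralizedCharacter L α :=
      ⟨χ, conjFun χ, hχc, Helper74.isCharacter_of_isIrr hχbar, rfl⟩
    have hχ1 : conj (χ 1) = χ 1 := by
      rw [← Helper74.charDegree_cast hχc, map_natCast]
    have hαA : ∀ x : L, (x : G) ∉ A → α x = 0 := by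
      intro x hx
      show χ x - conj (χ x) = 0
      by_cases h1 : x = 1
      · rw [h1, hχ1, sub_self]
      · rw [hsupp x h1 hx, map_zero, sub_self]
    have hαcf : IsClassFunction L α := isGenChar_isClassFunction hαg
    -- norm of α
    have hnormα : classInner α α = 2 := by
      rw [hα, Helper74.classInner_sub_left, Helper74.classInner_sub_right,
        Helper74.classInner_sub_right, h1, h2, h3, h4]
      norm_num
    set θ := dadeIsometry A L H α with hθ
    have hθg : IsGeneralizedCharacter G θ := dade_isGenChar hD hαg hαA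
    have hnormθ : classInner θ θ = 2 := by
      rw [← hnormα]
      refine dade_inner hD hαcf hαA θ α (isGenChar_isClassFunction hθg) ?_
      intro a ha
      rw [finsum_mem_subgroup_eq_sum]
      have h1 : ∀ u : G, (if u ∈ H (a : G) then θ ((a : G) * u) else 0) =
          if u ∈ H (a : G) then α a else 0 := by
        intro u
        split_ifs with hu
        · exact dadeIsometry_apply hD hαcf (x := 1) ha hu (by simp)
        · rfl
      simp only [h1]
      rw [← Finset.sum_filter, Finset.sum_const, nsmul_eq_mul]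
      have hcard : (Finset.univ.filter (fun u : G => u ∈ H (a : G))).card = Nat.card (H (a : G)) := by
        rw [Nat.card_eq_fintype_card, Fintype.card_subtype]
      rw [hcard]
      have hH0 : (Nat.card (H (a : G)) : ℂ) ≠ 0 := by
        have : 0 < Nat.card (H (a : G)) := Nat.card_pos
        exact_mod_cast this.ne'
      field_simp
    obtain ⟨θ₁, θ₂, hs₁, hs₂, horth, hsum⟩ := exists_two_signedIrr hθg hnormθ
    have hθ1 : θ 1 = 0 := dadeIsometry_one hD α
    obtain ⟨s₁, μ₁, hs₁', rfl⟩ := hs₁.exists_sign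
    obtain ⟨s₂, μ₂, hs₂', rfl⟩ := hs₂.exists_sign
    -- degrees are positive naturals
    have hd₁ : ((μ₁ : G → ℂ) 1) = (charDegree (μ₁ : G → ℂ) : ℂ) :=
      (Helper74.charDegree_cast (Helper74.isCharacter_of_isIrr μ₁.2)).symm
    have hd₂ : ((μ₂ : G → ℂ) 1) = (charDegree (μ₂ : G → ℂ) : ℂ) :=
      (Helper74.charDegree_cast (Helper74.isCharacter_of_isIrr μ₂.2)).symm
    have hp₁ : 0 < charDegree (μ₁ : G → ℂ) := by
      rcases Nat.eq_zero_or_pos (charDegree (μ₁ : G → ℂ)) with h | h
      · exfalso; apply irr_apply_one_ne_zero μ₁; rw [hd₁, h]; simp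
      · exact h
    have hp₂ : 0 < charDegree (μ₂ : G → ℂ) := by
      rcases Nat.eq_zero_or_pos (charDegree (μ₂ : G → ℂ)) with h | h
      · exfalso; apply irr_apply_one_ne_zero μ₂; rw [hd₂, h]; simp
      · exact h
    have hval : s₁ * (charDegree (μ₁ : G → ℂ) : ℂ) + s₂ * (charDegree (μ₂ : G → ℂ) : ℂ) = 0 := by
      have := congrFun hsum 1
      rw [hθ1] at this
      simp only [Pi.add_apply, Pi.smul_apply, smul_eq_mul] at this
      rw [hd₁, hd₂] at this
      exact this.symm
    -- distinctness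
    have hμne : μ₁ ≠ μ₂ := by
      intro h
      rw [h, Helper74.classInner_smul_left, Helper74.classInner_smul_right,
        Helper74.irr_inner_self] at horth
      rcases hs₁' with rfl | rfl <;> rcases hs₂' with rfl | rfl <;> simp at horth
    -- conjugation antisymmetry
    have hconjθ : conjFun θ = -θ := by
      have h1 : conjFun θ = dadeIsometry A L H (fun x => conj (α x)) :=
        (dadeIsometry_comp (A := A) (H := H) (fun z => conj z) (map_zero _) α).symm
      have h2 : (fun x => conj (α x)) = fun x => - α x := by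
        funext x
        show conj (χ x - conj (χ x)) = -(χ x - conj (χ x))
        rw [map_sub, Complex.conj_conj]; ring
      have h3 : dadeIsometry A L H (fun x => - α x) = fun g => - θ g :=
        dadeIsometry_comp (A := A) (H := H) (fun z => -z) neg_zero α
      rw [h1, h2, h3]; rfl
    -- the two sign cases
    have hnat : ∀ a b : ℕ, 0 < a → 0 < b → ((a : ℂ) + (b : ℂ) ≠ 0) := by
      intro a b ha hb h
      have : ((a + b : ℕ) : ℂ) = 0 := by push_cast; exact h
      have := Nat.cast_eq_zero.mp this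
      omega
    -- general step: if θ = ν₁ - ν₂ with ν irreducible distinct, then ν₂ = conj ν₁
    have key : ∀ ν₁ ν₂ : IrrCharacter G, ν₁ ≠ ν₂ → θ = (ν₁ : G → ℂ) - (ν₂ : G → ℂ) →
        ∃ μ : G → ℂ, IsIrrCharacter G μ ∧ θ = μ - conjFun μ := by
      intro ν₁ ν₂ hν hθν
      let ν₁b : IrrCharacter G := ⟨conjFun (ν₁ : G → ℂ), Helper81.isIrrCharacter_conj ν₁.2⟩
      let ν₂b : IrrCharacter G := ⟨conjFun (ν₂ : G → ℂ), Helper81.isIrrCharacter_conj ν₂.2⟩
      have hrel : (ν₁b : G → ℂ) + (ν₁ : G → ℂ) = (ν₂ : G → ℂ) + (ν₂b : G → ℂ) := by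
        have h1 : conjFun θ = (ν₁b : G → ℂ) - (ν₂b : G → ℂ) := by
          rw [hθν]; funext g; simp [conjFun, ν₁b, ν₂b]
        rw [hconjθ, hθν] at h1
        have : (ν₁b : G → ℂ) + (ν₁ : G → ℂ) - ((ν₂ : G → ℂ) + (ν₂b : G → ℂ)) = 0 := by
          rw [show (ν₁b : G → ℂ) + (ν₁ : G → ℂ) - ((ν₂ : G → ℂ) + (ν₂b : G → ℂ)) =
            ((ν₁b : G → ℂ) - (ν₂b : G → ℂ)) - (-((ν₁ : G → ℂ) - (ν₂ : G → ℂ))) by abel, ← h1]
          abel
        exact sub_eq_zero.mp this
      have hin := congrArg (fun f => classInner f (ν₁b : G → ℂ)) hrel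
      simp only [Helper74.classInner_add_left] at hin
      rw [Helper74.irr_inner_self, Helper74.irr_orthonormal ν₁ ν₁b, Helper74.irr_orthonormal ν₂ ν₁b,
        Helper74.irr_orthonormal ν₂b ν₁b] at hin
      have hν₂b : ν₂b ≠ ν₁b := by
        intro h
        apply hν
        have := congrArg (fun x : IrrCharacter G => conjFun (x : G → ℂ)) h
        simp only [ν₁b, ν₂b, conjFun_conjFun'] at this
        exact (Subtype.ext this).symm
      rw [if_neg hν₂b] at hin
      by_cases h21 : ν₂ = ν₁b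
      · refine ⟨ν₁, ν₁.2, ?_⟩
        rw [hθν, h21]
      · rw [if_neg h21] at hin
        exfalso
        split_ifs at hin <;> norm_num at hin
    rcases hs₁' with rfl | rfl <;> rcases hs₂' with rfl | rfl
    · exfalso
      apply hnat _ _ hp₁ hp₂
      simpa using hval
    · apply key μ₁ μ₂ hμne
      rw [hsum]; funext g; simp [sub_eq_add_neg]
    · obtain ⟨μ, hμ, hμe⟩ := key μ₂ μ₁ hμne.symm (by rw [hsum]; funext g; simp [sub_eq_add_neg, add_comm])
      exact ⟨μ, hμ, hμe⟩
    · exfalso
      apply hnat _ _ hp₁ hp₂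
      have : -((charDegree (μ₁ : G → ℂ) : ℂ) + (charDegree (μ₂ : G → ℂ) : ℂ)) = 0 := by
        rw [← hval]; ring
      exact neg_eq_zero.mp this

end Cfsg.Agent.Helper77
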