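import Cfsg.Agent.Helper77.ConjMax
import Cfsg.Agent.S0959

/-!
# Centralizers in the subgroup of a maximal Brauer pair and defect groups of local blocks

(helper77, file 26.)
-/

set_option autoImplicit false
set_option linter.unusedSectionVars false

namespace Cfsg.Agent.Helper77

open Cfsg
open Cfsg.Agent.Helper16 (omega conv classInd deltaOne)

/-- The defect of a set of irreducible characters is unchanged by transport along a group
isomorphism. -/
theorem blockDefect_image_irrMap {H H' : Type*} [Group H] [Group H'] (p : ℕ) (σ : H ≃* H')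
    (S : Set (IrrCharacter H)) :
    blockDefect p (Helper78.irrMap σ '' S) = blockDefect p S := by
  unfold blockDefect
  rw [Nat.card_congr σ.toEquiv.symm, Set.image_image]
  have : (fun χ : IrrCharacter H =>
      (charDegree (Helper78.irrMap σ χ : H' → ℂ)).factorization p) =
      fun χ : IrrCharacter H => (charDegree (χ : H → ℂ)).factorization p := by
    funext χ
    unfold charDegree
    rw [Helper78.irrMap_apply, map_one]
  rw [this]

variable {G : Type*} [Group G] [Fintype G] {M : Ideal AlgInt} {p : ℕ}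

/-- Elements of a subgroup stabilize every set of irreducible characters of it. -/
theorem stabilizesBlock_of_mem_self (K : Subgroup G) (f : Set (IrrCharacter K)) (y : G)
    (hy : y ∈ K) : StabilizesBlock K f y := by
  classical
  have hfin : Fintype K := Fintype.ofFinite _
  refine ⟨Subgroup.le_normalizer hy, fun χ hχ => ⟨χ, hχ, ?_⟩⟩
  intro k k' hkk'
  have : k' = (⟨y, hy⟩ : K) * k * (⟨y, hy⟩ : K)⁻¹ := Subtype.ext hkk'
  rw [this]
  exact Helper16.irr_isClassFunction χ k ⟨y, hy⟩

/-- Elements of `Q` stabilize every set of irreducible characters of `C_G(Q)`. -/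
theorem stabilizesBlock_of_mem_base (Q : Subgroup G)
    (f : Set (IrrCharacter (Subgroup.centralizer (Q : Set G)))) (y : G) (hy : y ∈ Q) :
    StabilizesBlock (Subgroup.centralizer (Q : Set G)) f y := by
  refine ⟨Helper78.normalizer_le_normalizer_centralizer Q (Subgroup.le_normalizer hy),
    fun χ hχ => ⟨χ, hχ, ?_⟩⟩
  intro k k' hkk'
  have hk := k.2
  rw [Subgroup.mem_centralizer_iff] at hk
  have : k' = k := by
    apply Subtype.ext
    rw [hkk', hk y hy, mul_inv_cancel_right]
  rw [this]

theorem stabilizesBlock_mul (K : Subgroup G) (f : Set (IrrCharacter K)) {a b : G}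
    (ha : StabilizesBlock K f a) (hb : StabilizesBlock K f b) : StabilizesBlock K f (a * b) := by
  have hNN : Subgroup.normalizer (K : Set G) ≤ Subgroup.normalizer (K : Set G) := le_refl _
  have h1 : conjSet _ K hNN ⟨a, ha.1⟩ f = f :=
    (stabilizesBlock_iff_image_eq K _ hNN f ⟨a, ha.1⟩).mp ha
  have h2 : conjSet _ K hNN ⟨b, hb.1⟩ f = f :=
    (stabilizesBlock_iff_image_eq K _ hNN f ⟨b, hb.1⟩).mp hb
  have h3 : conjSet _ K hNN ((⟨a, ha.1⟩ : Subgroup.normalizer (K : Set G)) * ⟨b, hb.1⟩) f = f := by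
    rw [conjSet_mul, h2, h1]
  exact (stabilizesBlock_iff_image_eq K _ hNN f
    ((⟨a, ha.1⟩ : Subgroup.normalizer (K : Set G)) *
      (⟨b, hb.1⟩ : Subgroup.normalizer (K : Set G)))).mpr h3

theorem stabilizesBlock_inv (K : Subgroup G) (f : Set (IrrCharacter K)) {a : G}
    (ha : StabilizesBlock K f a) : StabilizesBlock K f a⁻¹ := by
  have hNN : Subgroup.normalizer (K : Set G) ≤ Subgroup.normalizer (K : Set G) := le_refl _
  have h1 : conjSet _ K hNN ⟨a, ha.1⟩ f = f :=
    (stabilizesBlock_iff_image_eq K _ hNN f ⟨a, ha.1⟩).mp ha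
  have h3 : conjSet _ K hNN ((⟨a, ha.1⟩ : Subgroup.normalizer (K : Set G))⁻¹) f = f := by
    have h4 : conjSet _ K hNN ((⟨a, ha.1⟩ : Subgroup.normalizer (K : Set G))⁻¹)
        (conjSet _ K hNN ⟨a, ha.1⟩ f) = f := by
      rw [← conjSet_mul, inv_mul_cancel, conjSet_one]
    rwa [h1] at h4
  exact (stabilizesBlock_iff_image_eq K _ hNN f
    ((⟨a, ha.1⟩ : Subgroup.normalizer (K : Set G))⁻¹)).mpr h3

/-- The stabilizer in `G` of a set of irreducible characters of a subgroup `K`. -/
def stabSubgroup (K : Subgroup G) (f : Set (IrrCharacter K)) : Subgroup G where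
  carrier := {y | StabilizesBlock K f y}
  one_mem' := stabilizesBlock_of_mem_self K f 1 K.one_mem
  mul_mem' := fun ha hb => stabilizesBlock_mul K f ha hb
  inv_mem' := fun ha => stabilizesBlock_inv K f ha

theorem mem_stabSubgroup (K : Subgroup G) (f : Set (IrrCharacter K)) (y : G) :
    y ∈ stabSubgroup K f ↔ StabilizesBlock K f y := Iff.rfl

/-- **From a stable block with a non-vanishing idempotent coefficient on the centralizer to a
normal inclusion of Brauer pairs.** -/
theorem exists_isNormalSubpair_of_stable [Fact p.Prime] (hM : IsPModular p M)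
    (P D' : Subgroup G) (hP : IsPGroup p P) (hD'p : IsPGroup p D') (hPD' : P ≤ D')
    (hD'N : D' ≤ Subgroup.normalizer (P : Set G))
    (e : Set (IrrCharacter (Subgroup.centralizer (P : Set G)))) (he : IsPBlock M e)
    (hstab : ∀ y ∈ D', StabilizesBlock (Subgroup.centralizer (P : Set G)) e y)
    (n₀' : G) (hn₀'D' : n₀' ∈ Subgroup.centralizer (D' : Set G))
    (hn₀'val : ¬ MemLocalIdeal M
      (extFun (Subgroup.centralizer (P : Set G)) (blockCoeff e) n₀')) :
    ∃ g : Set (IrrCharacter (Subgroup.centralizer (D' : Set G))),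
      IsNormalSubpair p M P e D' g := by
  classical
  have hMp : M.IsPrime := isPrime_of_isPModular hM
  have hfinC : Fintype (Subgroup.centralizer (P : Set G)) := Fintype.ofFinite _
  have hfinD' : Fintype (Subgroup.centralizer (D' : Set G)) := Fintype.ofFinite _
  let F : G → ℂ := extFun (Subgroup.centralizer (P : Set G)) (blockCoeff e)
  have hFR : ∀ g, MemLocalRing M (F g) := extFun_memLocalRing _ (blockCoeff_memLocalRing he)
  have hFD' : InvUnder (D' : Set G) F := invUnder_extFun_blockCoeff_of_stabilizes _ D' e hstab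
  have hCD'C : Subgroup.centralizer (D' : Set G) ≤ Subgroup.centralizer (P : Set G) :=
    Subgroup.centralizer_le hPD'
  have hFC : InvUnder (Subgroup.centralizer (D' : Set G) : Set G) F :=
    (invUnder_extFun_of_isClassFunction _ (blockCoeff_isClassFunction he)).le hCD'C
  have hFF : conv F F = F := by
    simp only [F]
    rw [extFun_conv, blockCoeff_conv_self he]
  let t₀ : Subgroup.centralizer (D' : Set G) → ℂ := resFun (Subgroup.centralizer (D' : Set G)) F
  have ht₀ZS : Helper78.IsZS M t₀ := ⟨isClassFunction_resFun hFC, fun c => hFR _⟩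
  have ht₀idem : Helper78.JValued M (conv t₀ t₀ - t₀) :=
    fun c => resFun_conv_sub_memLocalIdeal hM D' hD'p F hFR hFD' hFF c
  obtain ⟨γ, hγ⟩ : ∃ γ : IrrCharacter (Subgroup.centralizer (D' : Set G)),
      ¬ MemLocalIdeal M (omega (γ : Subgroup.centralizer (D' : Set G) → ℂ) t₀) := by
    by_contra hcon0
    have hcon : ∀ γ : IrrCharacter (Subgroup.centralizer (D' : Set G)),
        MemLocalIdeal M (omega (γ : Subgroup.centralizer (D' : Set G) → ℂ) t₀) :=
      fun γ => by_contra (fun h => hcon0 ⟨γ, h⟩)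
    exact hn₀'val (ht₀ZS.jValued_of_idem ht₀idem hcon ⟨n₀', hn₀'D'⟩)
  have hval1 : MemLocalIdeal M
      (brauerOmega D' F (γ : Subgroup.centralizer (D' : Set G) → ℂ) - 1) := by
    have h1 := brauerOmega_conv_sub_memLocalIdeal hM D' hD'p F F hFR hFR hFD' hFD' hFC hFC γ
    rw [hFF] at h1
    have hR := brauerOmega_memLocalRing D' F hFR hFC γ
    have h2 : MemLocalIdeal M
        (brauerOmega D' F (γ : Subgroup.centralizer (D' : Set G) → ℂ) *
          (1 - brauerOmega D' F (γ : Subgroup.centralizer (D' : Set G) → ℂ))) := by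
      rw [mul_sub, mul_one]
      exact h1
    rcases memLocalIdeal_or_of_mul M hR
      (Helper16.memLocalRing_sub Helper16.memLocalRing_one hR) h2 with h3 | h3
    · exfalso
      apply hγ
      rw [← brauerOmega_eq_omega]
      exact h3
    · have := Helper16.memLocalIdeal_neg h3
      rwa [neg_sub] at this
  refine ⟨blockOf M (γ : Subgroup.centralizer (D' : Set G) → ℂ),
    ⟨hP, he⟩, ⟨hD'p, ⟨γ, rfl⟩⟩, hPD', hD'N, hstab, fun γ' hγ' => ?_⟩
  have h1 := brauerOmega_sub_memLocalIdeal_of_sameBlock (M := M) D' F hFR hFC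
    (Helper16.sameBlock_symm (show SameBlock M (γ : Subgroup.centralizer (D' : Set G) → ℂ)
      (γ' : Subgroup.centralizer (D' : Set G) → ℂ) from hγ'))
  have h2 := Helper16.memLocalIdeal_add h1 hval1
  rwa [sub_add_sub_cancel] at h2

/-- **`C_P(Q)` lies in a defect group of the local block.** -/
theorem exists_defectGroup_ge_centralizer [Fact p.Prime] (hM : IsPModular p M)
    (P Q : Subgroup G)
    (e : Set (IrrCharacter (Subgroup.centralizer (P : Set G))))
    (f : Set (IrrCharacter (Subgroup.centralizer (Q : Set G))))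
    (hPe : IsBrauerPair p M P e) (hQP : Q ≤ P) (hf : IsPBlock M f)
    (hle : SubpairLE p M Q f P e) :
    ∃ D : Subgroup (Subgroup.centralizer (Q : Set G)), IsDefectGroup p M f D ∧
      (P ⊓ Subgroup.centralizer (Q : Set G)).subgroupOf (Subgroup.centralizer (Q : Set G)) ≤ D := by
  classical
  have hMp : M.IsPrime := isPrime_of_isPModular hM
  let CP : Subgroup G := P ⊓ Subgroup.centralizer (Q : Set G)
  let R : Subgroup G := Q ⊔ CP
  have hRP : R ≤ P := sup_le hQP inf_le_left
  have hQR : Q ≤ R := le_sup_left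
  have hCPR : CP ≤ R := le_sup_right
  have hRN : R ≤ Subgroup.normalizer (Q : Set G) :=
    sup_le Subgroup.le_normalizer (inf_le_right.trans (Subgroup.centralizer_le_normalizer _))
  obtain ⟨fR, hfR, hRle⟩ := exists_subpairLE hM P e hPe _ R hRP (le_refl _)
  have hRp : IsBrauerPair p M R fR := ⟨hPe.1.to_le hRP, hfR⟩
  obtain ⟨f'', hf'', _⟩ := existsUnique_isNormalSubpair hM R Q fR hRp hQR hRN
  have hle'' : SubpairLE p M Q f'' P e :=
    Relation.ReflTransGen.head (show NormalSubpairRel p M ⟨Q, f''⟩ ⟨R, fR⟩ from hf'') hRle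
  have hff : f'' = f := subpairLE_unique hM P e hPe _ Q (le_refl _) f'' f hle'' hle
  rw [hff] at hf''
  obtain ⟨_, _, _, _, _, hbr⟩ := hf''
  obtain ⟨η, hη⟩ := Helper78.isPBlock_nonempty hMp hfR
  have hbrη : MemLocalIdeal M (brauerOmega R
      (extFun (Subgroup.centralizer (Q : Set G)) (blockCoeff f))
      (η : Subgroup.centralizer (R : Set G) → ℂ) - 1) := hbr η hη
  have hfinR : Fintype (Subgroup.centralizer (R : Set G)) := Fintype.ofFinite _
  have hfinH : Fintype (Subgroup.centralizer (Q : Set G)) := Fintype.ofFinite _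
  let F : G → ℂ := extFun (Subgroup.centralizer (Q : Set G)) (blockCoeff f)
  have hCRH : Subgroup.centralizer (R : Set G) ≤ Subgroup.centralizer (Q : Set G) :=
    Subgroup.centralizer_le hQR
  have hFC : InvUnder (Subgroup.centralizer (R : Set G) : Set G) F :=
    (invUnder_extFun_of_isClassFunction _ (blockCoeff_isClassFunction hf)).le hCRH
  obtain ⟨c, hc⟩ : ∃ c : Subgroup.centralizer (R : Set G), ¬ MemLocalIdeal M (F (c : G)) := by
    by_contra hcon
    have hall : ∀ c : Subgroup.centralizer (R : Set G), MemLocalIdeal M (F (c : G)) :=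
      fun c => by_contra (fun h => hcon ⟨c, h⟩)
    have h1 : MemLocalIdeal M (brauerOmega R F (η : Subgroup.centralizer (R : Set G) → ℂ)) := by
      rw [brauerOmega_eq_omega]
      exact omega_memLocalIdeal η (isClassFunction_resFun hFC) (fun c => hall c)
    have h2 := Helper16.memLocalIdeal_sub h1 hbrη
    rw [sub_sub_cancel] at h2
    exact Helper16.not_memLocalIdeal_one h2
  obtain ⟨ξ₀, hξ₀⟩ := Helper78.isPBlock_nonempty hMp hf
  have hfeq : f = blockOf M (ξ₀ : Subgroup.centralizer (Q : Set G) → ℂ) :=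
    Helper78.isPBlock_eq_blockOf_of_mem hMp hf hξ₀
  obtain ⟨D₀, hD₀⟩ : ∃ D₀ : Subgroup (Subgroup.centralizer (Q : Set G)),
      IsDefectGroup p M f D₀ := by
    rw [hfeq]
    exact Helper16.exists_defectGroup p ξ₀
  have hCPp : IsPGroup p (CP.subgroupOf (Subgroup.centralizer (Q : Set G))) :=
    (hPe.1.to_le inf_le_left).comap_subtype
  have hcH : (c : G) ∈ Subgroup.centralizer (Q : Set G) := hCRH c.2
  have hcval : ¬ MemLocalIdeal M (blockCoeff f ⟨(c : G), hcH⟩) := by
    intro h
    apply hc
    show MemLocalIdeal M (extFun (Subgroup.centralizer (Q : Set G)) (blockCoeff f) (c : G))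
    rw [extFun_of_mem _ _ hcH]
    exact h
  have hccent : (⟨(c : G), hcH⟩ : Subgroup.centralizer (Q : Set G)) ∈
      Subgroup.centralizer
        ((CP.subgroupOf (Subgroup.centralizer (Q : Set G)) : Subgroup _) : Set _) := by
    rw [Subgroup.mem_centralizer_iff]
    intro u hu
    have hu' : (u : G) ∈ R := hCPR (Subgroup.mem_subgroupOf.mp hu)
    have := c.2
    rw [Subgroup.mem_centralizer_iff] at this
    exact Subtype.ext (this (u : G) hu')
  obtain ⟨x, hx⟩ := (Cfsg.Agent.S0959.result p M hM f hf D₀ hD₀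
    (CP.subgroupOf (Subgroup.centralizer (Q : Set G))) hCPp).mp
    ⟨⟨(c : G), hcH⟩, blockCoeff_memLocalRing hf _, hcval, ⟨(c : G), hcH⟩, IsConj.refl _, hccent⟩
  refine ⟨D₀.map (MulAut.conj x⁻¹).toMonoidHom, ?_, ?_⟩
  · rw [hfeq] at hD₀ ⊢
    exact Helper78.isDefectGroup_map_conj ξ₀ hD₀ x⁻¹
  · intro u hu
    have h1 : x * u * x⁻¹ ∈ D₀ := hx ⟨u, hu, rfl⟩
    refine ⟨x * u * x⁻¹, h1, ?_⟩
    show x⁻¹ * (x * u * x⁻¹) * x⁻¹⁻¹ = u
    group

/-- **Conjugating a subpair of a maximal Brauer pair so that the centralizer in `P` becomes a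
defect group of the local block.** -/
theorem exists_conj_defectGroup [Fact p.Prime] (hM : IsPModular p M)
    (B : Set (IrrCharacter G)) (P Q : Subgroup G)
    (e : Set (IrrCharacter (Subgroup.centralizer (P : Set G))))
    (f : Set (IrrCharacter (Subgroup.centralizer (Q : Set G))))
    (hmax : IsMaximalBrauerPair p M B P e) (hQP : Q ≤ P) (hf : IsPBlock M f)
    (hle : SubpairLE p M Q f P e) :
    ∃ x : G, SubpairLE p M (Q.map (MulAut.conj x).toMonoidHom) (conjBlock Q x f) P e ∧
      IsDefectGroup p M (conjBlock Q x f)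
        ((P ⊓ Subgroup.centralizer ((Q.map (MulAut.conj x).toMonoidHom : Subgroup G) : Set G)).subgroupOf
          (Subgroup.centralizer ((Q.map (MulAut.conj x).toMonoidHom : Subgroup G) : Set G))) := by
  classical
  have hMp : M.IsPrime := isPrime_of_isPModular hM
  have hPe : IsBrauerPair p M P e := hmax.1.1
  have hQp : IsPGroup p Q := hPe.1.to_le hQP
  have hQf : IsBrauerPair p M Q f := ⟨hQp, hf⟩
  have hQfB : IsBrauerPairOf p M B Q f :=
    (isBrauerPairOf_iff_of_subpairLE hM P Q e f hPe hQf hle B).mp hmax.1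
  have hfinH : Fintype (Subgroup.centralizer (Q : Set G)) := Fintype.ofFinite _
  obtain ⟨ξ₀, hξ₀⟩ := Helper78.isPBlock_nonempty hMp hf
  have hfeq : f = blockOf M (ξ₀ : Subgroup.centralizer (Q : Set G) → ℂ) :=
    Helper78.isPBlock_eq_blockOf_of_mem hMp hf hξ₀
  obtain ⟨D, hD⟩ : ∃ D : Subgroup (Subgroup.centralizer (Q : Set G)),
      IsDefectGroup p M f D := by
    rw [hfeq]
    exact Helper16.exists_defectGroup p ξ₀
  obtain ⟨n₀, ⟨hn₀R, hn₀I, _⟩, hDle, hDcard⟩ := (Helper16.isDefectGroup_iff p f D).mp hD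
  have hDp : IsPGroup p D := IsPGroup.of_card hDcard
  let DG : Subgroup G := D.map (Subgroup.centralizer (Q : Set G)).subtype
  have hDGp : IsPGroup p DG := hDp.map _
  have hDGH : DG ≤ Subgroup.centralizer (Q : Set G) := Subgroup.map_subtype_le D
  let R₂ : Subgroup G := Q ⊔ DG
  have hQR₂ : Q ≤ R₂ := le_sup_left
  have hDGN : DG ≤ Subgroup.normalizer (Q : Set G) :=
    hDGH.trans (Subgroup.centralizer_le_normalizer _)
  have hR₂N : R₂ ≤ Subgroup.normalizer (Q : Set G) := sup_le Subgroup.le_normalizer hDGN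
  have hR₂p : IsPGroup p R₂ := IsPGroup.to_sup_of_normal_left' hQp hDGp hDGN
  have hstab : ∀ y ∈ R₂, StabilizesBlock (Subgroup.centralizer (Q : Set G)) f y := by
    have : R₂ ≤ stabSubgroup (Subgroup.centralizer (Q : Set G)) f :=
      sup_le (fun y hy => stabilizesBlock_of_mem_base Q f y hy)
        (fun y hy => stabilizesBlock_of_mem_self _ f y (hDGH hy))
    exact fun y hy => this hy
  have hn₀C : ((n₀ : Subgroup.centralizer (Q : Set G)) : G) ∈
      Subgroup.centralizer (R₂ : Set G) := by
    have h1 : R₂ ≤ Subgroup.centralizer ({((n₀ : Subgroup.centralizer (Q : Set G)) : G)} : Set G) := by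
      refine sup_le ?_ ?_
      · intro q hq
        rw [Subgroup.mem_centralizer_singleton_iff]
        have := n₀.2
        rw [Subgroup.mem_centralizer_iff] at this
        exact this q hq
      · rintro _ ⟨d, hd, rfl⟩
        have := hDle hd
        rw [Subgroup.mem_centralizer_singleton_iff] at this ⊢
        exact congrArg Subtype.val this
    rw [Subgroup.mem_centralizer_iff]
    intro y hy
    have := h1 hy
    rw [Subgroup.mem_centralizer_singleton_iff] at this
    exact this
  have hn₀val : ¬ MemLocalIdeal M (extFun (Subgroup.centralizer (Q : Set G)) (blockCoeff f)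
      ((n₀ : Subgroup.centralizer (Q : Set G)) : G)) := by
    rw [extFun_coe]
    exact hn₀I
  obtain ⟨g, hsub⟩ := exists_isNormalSubpair_of_stable hM Q R₂ hQp hR₂p hQR₂ hR₂N f hf hstab _
    hn₀C hn₀val
  have hR₂gB : IsBrauerPairOf p M B R₂ g :=
    (isBrauerPairOf_iff_of_subpairLE hM R₂ Q g f hsub.2.1 hsub.1
      (Relation.ReflTransGen.single hsub) B).mpr hQfB
  obtain ⟨x, hx⟩ := exists_conj_subpairLE hM B P R₂ e g hmax hR₂gB
  have hsubx := isNormalSubpair_conj (p := p) (M := M) Q R₂ x hsub
  have hlex : SubpairLE p M (Q.map (MulAut.conj x).toMonoidHom) (conjBlock Q x f) P e :=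
    Relation.ReflTransGen.head (show NormalSubpairRel p M ⟨_, conjBlock Q x f⟩
      ⟨_, conjBlock R₂ x g⟩ from hsubx) hx
  refine ⟨x, hlex, ?_⟩
  have hR₂xP : R₂.map (MulAut.conj x).toMonoidHom ≤ P := le_of_reflTransGen hx
  have hQxP : Q.map (MulAut.conj x).toMonoidHom ≤ P := (Subgroup.map_mono hQR₂).trans hR₂xP
  have hfx : IsPBlock M (conjBlock Q x f) := isPBlock_conjBlock Q x hf
  obtain ⟨D₂, hD₂, hD₂le⟩ := exists_defectGroup_ge_centralizer hM P
    (Q.map (MulAut.conj x).toMonoidHom) e (conjBlock Q x f) hPe hQxP hfx hlex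
  have hcard₂ : Nat.card D₂ = p ^ blockDefect p (conjBlock Q x f) :=
    card_defectGroup hM hfx D₂ hD₂
  have hcard₁ : Nat.card D = p ^ blockDefect p f := card_defectGroup hM hf D hD
  have hdef : blockDefect p (conjBlock Q x f) = blockDefect p f := by
    rw [conjBlock_eq_image]
    exact blockDefect_image_irrMap p _ _
  have hDGx : DG.map (MulAut.conj x).toMonoidHom ≤
      P ⊓ Subgroup.centralizer ((Q.map (MulAut.conj x).toMonoidHom : Subgroup G) : Set G) := by
    refine le_inf ((Subgroup.map_mono le_sup_right).trans hR₂xP) ?_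
    rintro _ ⟨d, hd, rfl⟩
    exact conj_mem_centralizer_map Q x d (hDGH hd)
  have hcardDG : Nat.card (DG.map (MulAut.conj x).toMonoidHom) = Nat.card D := by
    rw [Subgroup.card_map_of_injective (MulAut.conj x).injective,
      Subgroup.card_map_of_injective (Subgroup.centralizer (Q : Set G)).subtype_injective]
  have hcardCP : Nat.card ((P ⊓ Subgroup.centralizer
      ((Q.map (MulAut.conj x).toMonoidHom : Subgroup G) : Set G)).subgroupOf
      (Subgroup.centralizer ((Q.map (MulAut.conj x).toMonoidHom : Subgroup G) : Set G))) =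
      Nat.card (P ⊓ Subgroup.centralizer
        ((Q.map (MulAut.conj x).toMonoidHom : Subgroup G) : Set G) : Subgroup G) :=
    Nat.card_congr (Subgroup.subgroupOfEquivOfLe inf_le_right).toEquiv
  have heq : (P ⊓ Subgroup.centralizer
      ((Q.map (MulAut.conj x).toMonoidHom : Subgroup G) : Set G)).subgroupOf
      (Subgroup.centralizer ((Q.map (MulAut.conj x).toMonoidHom : Subgroup G) : Set G)) = D₂ := by
    apply Subgroup.eq_of_le_of_card_ge hD₂le
    rw [hcard₂, hdef, ← hcard₁, ← hcardDG, hcardCP]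
    exact Subgroup.card_le_of_le hDGx
  rw [heq]
  exact hD₂

end Cfsg.Agent.Helper77
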