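import Cfsg.Agent.Helper77.BlockSaturated

/-!
# Blocks with abelian defect groups: stabilizers of subpairs

(helper77, file 34.)
-/

set_option autoImplicit false
set_option linter.unusedSectionVars false

namespace Cfsg.Agent.Helper77

open Cfsg

variable {G : Type*} [Group G] [Fintype G] {M : Ideal AlgInt} {p : ℕ}

theorem mem_normalizer_of_map_conj_eq (P : Subgroup G) (y : G)
    (h : P.map (MulAut.conj y).toMonoidHom = P) : y ∈ Subgroup.normalizer (P : Set G) := by
  rw [Subgroup.mem_normalizer_iff]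
  intro z
  constructor
  · intro hz
    rw [← h]
    exact ⟨z, hz, rfl⟩
  · intro hz
    rw [← h] at hz
    have h1 := mem_map_conj_iff.mp hz
    have e : y⁻¹ * (y * z * y⁻¹) * y = z := by group
    rwa [e] at h1

/-- An element carrying `(P, e)` below `(P, e)` stabilizes `(P, e)`. -/
theorem mem_stabT_of_conjIdx_le [Fact p.Prime] (hM : IsPModular p M) (P : Subgroup G)
    (e : Set (IrrCharacter (Subgroup.centralizer (P : Set G)))) (hPe : IsBrauerPair p M P e)
    (y : G)
    (h : Relation.ReflTransGen (NormalSubpairRel p M) (conjIdx y ⟨P, e⟩) ⟨P, e⟩) :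
    y ∈ stabT P e := by
  have hle : P.map (MulAut.conj y).toMonoidHom ≤ P := le_of_reflTransGen h
  have heq : P.map (MulAut.conj y).toMonoidHom = P := by
    apply Subgroup.eq_of_le_of_card_ge hle
    rw [Subgroup.card_map_of_injective (MulAut.conj y).injective]
  have hfix := idx_eq_of_le_of_fst_eq hM P e hPe h Relation.ReflTransGen.refl heq
  have hyN := mem_normalizer_of_map_conj_eq P y heq
  exact (mem_stabT P e y).mpr ⟨hyN, (conjIdx_eq_self_iff P e y hyN).mp hfix⟩

/-- Elements of the stabilizer of `(P, e)` normalizing `Q` stabilize the pair `(Q, f) ≤ (P, e)`. -/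
theorem mem_stabT_of_mem_stabT_of_mem_normalizer [Fact p.Prime] (hM : IsPModular p M)
    (P Q : Subgroup G)
    (e : Set (IrrCharacter (Subgroup.centralizer (P : Set G))))
    (f : Set (IrrCharacter (Subgroup.centralizer (Q : Set G))))
    (hPe : IsBrauerPair p M P e) (hle : SubpairLE p M Q f P e) (y : G) (hy : y ∈ stabT P e)
    (hyN : y ∈ Subgroup.normalizer (Q : Set G)) : y ∈ stabT Q f := by
  obtain ⟨hyNP, hyS⟩ := (mem_stabT P e y).mp hy
  have hfixP : conjIdx y ⟨P, e⟩ = ⟨P, e⟩ := (conjIdx_eq_self_iff P e y hyNP).mpr hyS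
  have h1 := reflTransGen_conjIdx y hle
  rw [hfixP] at h1
  have hfix := idx_eq_of_le_of_fst_eq hM P e hPe h1 hle
    (map_conj_eq_self_of_mem_normalizer Q hyN)
  exact (mem_stabT Q f y).mpr ⟨hyN, (conjIdx_eq_self_iff Q f y hyN).mp hfix⟩

/-- For abelian `P`, the group `P` has the order of the defect groups of the block `f` of `C_G(Q)`
for every `(Q, f) ≤ (P, e)`. -/
theorem card_eq_pow_blockDefect_of_abelian [Fact p.Prime] (hM : IsPModular p M)
    (B : Set (IrrCharacter G)) (P : Subgroup G)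
    (e : Set (IrrCharacter (Subgroup.centralizer (P : Set G))))
    (hmax : IsMaximalBrauerPair p M B P e) (hab : ∀ x ∈ P, ∀ y ∈ P, x * y = y * x)
    (Q : Subgroup G) (f : Set (IrrCharacter (Subgroup.centralizer (Q : Set G)))) (hQP : Q ≤ P)
    (hf : IsPBlock M f) (hle : SubpairLE p M Q f P e) :
    Nat.card P = p ^ blockDefect p f := by
  classical
  have hPe : IsBrauerPair p M P e := hmax.1.1
  have hQp : IsPGroup p Q := hPe.1.to_le hQP
  have hQf : IsBrauerPair p M Q f := ⟨hQp, hf⟩
  have hQfB : IsBrauerPairOf p M B Q f :=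
    (isBrauerPairOf_iff_of_subpairLE hM P Q e f hPe hQf hle B).mp hmax.1
  have hPC : P ≤ Subgroup.centralizer (Q : Set G) := by
    intro u hu
    rw [Subgroup.mem_centralizer_iff]
    intro q hq
    exact hab q (hQP hq) u hu
  have hQC : Q ≤ Subgroup.centralizer (Q : Set G) := hQP.trans hPC
  have hFf : ∀ t : Subgroup.centralizer (Q : Set G), blockCoeff f t =
      extFun (Subgroup.centralizer (Q : Set G)) (blockCoeff f) (t : G) :=
    fun t => (extFun_of_mem _ _ t.2).symm
  obtain ⟨D, hD, hPD⟩ := exists_defectGroup_ge_of_subpair hM P Q P e f hPe hQP le_rfl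
    (hPC.trans (Subgroup.centralizer_le_normalizer _)) hf hle _ le_rfl f hf hFf
  have hcardD := card_defectGroup hM hf D hD
  have h1 : Nat.card P ≤ Nat.card D := by
    rw [← card_subgroupOf_of_le hPC]
    exact Subgroup.card_le_of_le hPD
  obtain ⟨hQD, g, hsubD⟩ := exists_isNormalSubpair_of_defectGroup_sub hM Q hQp f hf _ hQC
    (Subgroup.centralizer_le_normalizer _) (fun t ht => stabilizesBlock_of_mem_self _ f t ht)
    f hf hFf D hD
  have hDgB : IsBrauerPairOf p M B _ g :=
    (isBrauerPairOf_iff_of_subpairLE hM _ Q g f hsubD.2.1 hQf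
      (Relation.ReflTransGen.single hsubD) B).mpr hQfB
  obtain ⟨x, hx⟩ := exists_conj_subpairLE hM B P _ e g hmax hDgB
  have h2 : Nat.card D ≤ Nat.card P := by
    have h3 := Subgroup.card_le_of_le (le_of_reflTransGen hx)
    rwa [Subgroup.card_map_of_injective (MulAut.conj x).injective,
      Subgroup.card_map_of_injective (Subgroup.subtype_injective _)] at h3
  rw [← hcardD]
  exact le_antisymm h1 h2

/-- **Factorization of the stabilizer of a subpair** for abelian `P`:
`N_G(Q, f) = N_G(P, e)_Q C_G(Q)`. -/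
theorem exists_mul_of_mem_stabT_of_abelian [Fact p.Prime] (hM : IsPModular p M)
    (B : Set (IrrCharacter G)) (P : Subgroup G)
    (e : Set (IrrCharacter (Subgroup.centralizer (P : Set G))))
    (hmax : IsMaximalBrauerPair p M B P e) (hab : ∀ x ∈ P, ∀ y ∈ P, x * y = y * x)
    (Q : Subgroup G) (f : Set (IrrCharacter (Subgroup.centralizer (Q : Set G)))) (hQP : Q ≤ P)
    (hf : IsPBlock M f) (hle : SubpairLE p M Q f P e) (x : G) (hx : x ∈ stabT Q f) :
    ∃ y ∈ stabT P e, ∃ c ∈ Subgroup.centralizer (Q : Set G), x = y * c := by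
  classical
  have hPe : IsBrauerPair p M P e := hmax.1.1
  have hPC : P ≤ Subgroup.centralizer (Q : Set G) := by
    intro u hu
    rw [Subgroup.mem_centralizer_iff]
    intro q hq
    exact hab q (hQP hq) u hu
  obtain ⟨e', he', hsub', hle'⟩ := exists_isNormalSubpair_of_subpairLE hM P Q P e f hPe hQP le_rfl
    (hPC.trans (Subgroup.centralizer_le_normalizer _)) hle
  have hee : e' = e :=
    subpairLE_unique hM P e hPe _ P (le_refl _) e' e hle' Relation.ReflTransGen.refl
  rw [hee] at hsub'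
  have hcard := card_eq_pow_blockDefect_of_abelian hM B P e hmax hab Q f hQP hf hle
  have hxi : x⁻¹ ∈ stabT Q f := Subgroup.inv_mem _ hx
  obtain ⟨hxN, hxS⟩ := (mem_stabT Q f _).mp hxi
  have hfix : conjIdx x⁻¹ ⟨Q, f⟩ = ⟨Q, f⟩ := (conjIdx_eq_self_iff Q f _ hxN).mpr hxS
  have hsubx : NormalSubpairRel p M (conjIdx x⁻¹ ⟨Q, f⟩) (conjIdx x⁻¹ ⟨P, e⟩) :=
    normalSubpairRel_conjIdx x⁻¹ hsub'
  rw [hfix] at hsubx
  have hPxC : P.map (MulAut.conj x⁻¹).toMonoidHom ≤ Subgroup.centralizer (Q : Set G) := by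
    have hQPx : Q ≤ P.map (MulAut.conj x⁻¹).toMonoidHom := hsubx.2.2.1
    intro a ha
    rw [Subgroup.mem_centralizer_iff]
    intro q hq
    obtain ⟨a', ha', rfl⟩ := ha
    obtain ⟨q', hq', rfl⟩ := hQPx hq
    rw [← map_mul, ← map_mul, hab q' hq' a' ha']
  have hFf : ∀ t : Subgroup.centralizer (Q : Set G), blockCoeff f t =
      extFun (Subgroup.centralizer (Q : Set G)) (blockCoeff f) (t : G) :=
    fun t => (extFun_of_mem _ _ t.2).symm
  have hfinK : Fintype (Subgroup.centralizer (Q : Set G)) := Fintype.ofFinite _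
  obtain ⟨t, htC, hlet⟩ := exists_conj_subpairLE_over (Subgroup.centralizer (Q : Set G)) hM Q P
    (P.map (MulAut.conj x⁻¹).toMonoidHom) f e (conjBlock P x⁻¹ e) hsub' hsubx hPC hPxC le_rfl
    f hf hFf hcard
  have h1 : Relation.ReflTransGen (NormalSubpairRel p M) (conjIdx (t * x⁻¹) ⟨P, e⟩) ⟨P, e⟩ := by
    rw [conjIdx_mul]
    exact hlet
  have hy := mem_stabT_of_conjIdx_le hM P e hPe _ h1
  refine ⟨(t * x⁻¹)⁻¹, Subgroup.inv_mem _ hy, t, htC, ?_⟩
  group

/-- **The index formula** for abelian `P`. -/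
theorem index_centralizer_stabT_of_abelian [Fact p.Prime] (hM : IsPModular p M)
    (B : Set (IrrCharacter G)) (P : Subgroup G)
    (e : Set (IrrCharacter (Subgroup.centralizer (P : Set G))))
    (hmax : IsMaximalBrauerPair p M B P e) (hab : ∀ x ∈ P, ∀ y ∈ P, x * y = y * x)
    (Q : Subgroup G) (f : Set (IrrCharacter (Subgroup.centralizer (Q : Set G)))) (hQP : Q ≤ P)
    (hf : IsPBlock M f) (hle : SubpairLE p M Q f P e) :
    ((Subgroup.centralizer (Q : Set G)).subgroupOf (stabT Q f)).index =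
      ((stabT P e ⊓ Subgroup.centralizer (Q : Set G)).subgroupOf
        (stabT P e ⊓ Subgroup.normalizer (Q : Set G))).index := by
  classical
  have hPe : IsBrauerPair p M P e := hmax.1.1
  obtain ⟨hQT, hCT, hTN, hstabT⟩ := stab_basic Q f (stabT Q f) (mem_stabT Q f)
  have hHTQ : stabT P e ⊓ Subgroup.normalizer (Q : Set G) ≤ stabT Q f := fun y hy =>
    mem_stabT_of_mem_stabT_of_mem_normalizer hM P Q e f hPe hle y hy.1 hy.2
  have hnorm : ((Subgroup.centralizer (Q : Set G)).subgroupOf (stabT Q f)).Normal :=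
    (Subgroup.normal_subgroupOf_iff_le_normalizer hCT).mpr
      (hTN.trans (Helper78.normalizer_le_normalizer_centralizer Q))
  have htop : (stabT P e ⊓ Subgroup.normalizer (Q : Set G)).subgroupOf (stabT Q f) ⊔
      (Subgroup.centralizer (Q : Set G)).subgroupOf (stabT Q f) = ⊤ := by
    rw [eq_top_iff]
    rintro ⟨x, hx⟩ -
    obtain ⟨y, hy, c, hc, hxyc⟩ :=
      exists_mul_of_mem_stabT_of_abelian hM B P e hmax hab Q f hQP hf hle x hx
    have hyTQ : y ∈ stabT Q f := by
      have h5 : y = x * c⁻¹ := by rw [hxyc]; group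
      rw [h5]
      exact Subgroup.mul_mem _ hx (Subgroup.inv_mem _ (hCT hc))
    have hyN : y ∈ Subgroup.normalizer (Q : Set G) := ((mem_stabT Q f y).mp hyTQ).1
    have h6 : (⟨x, hx⟩ : stabT Q f) = ⟨y, hyTQ⟩ * ⟨c, hCT hc⟩ := Subtype.ext hxyc
    rw [h6]
    exact Subgroup.mul_mem _
      (Subgroup.mem_sup_left (Subgroup.mem_subgroupOf.mpr ⟨hy, hyN⟩))
      (Subgroup.mem_sup_right (Subgroup.mem_subgroupOf.mpr hc))
  have h1 : ((Subgroup.centralizer (Q : Set G)).subgroupOf (stabT Q f)).relIndex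
      ((stabT P e ⊓ Subgroup.normalizer (Q : Set G)).subgroupOf (stabT Q f) ⊔
        (Subgroup.centralizer (Q : Set G)).subgroupOf (stabT Q f)) =
      ((Subgroup.centralizer (Q : Set G)).subgroupOf (stabT Q f)).relIndex
        ((stabT P e ⊓ Subgroup.normalizer (Q : Set G)).subgroupOf (stabT Q f)) :=
    Subgroup.relIndex_sup_right _ _
  rw [htop, Subgroup.relIndex_top_right] at h1
  rw [h1, Subgroup.relIndex_subgroupOf hHTQ]
  have h2 : (stabT P e ⊓ Subgroup.centralizer (Q : Set G)).subgroupOf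
      (stabT P e ⊓ Subgroup.normalizer (Q : Set G)) =
      (Subgroup.centralizer (Q : Set G)).subgroupOf
        (stabT P e ⊓ Subgroup.normalizer (Q : Set G)) := by
    ext ⟨z, hz⟩
    simp only [Subgroup.mem_subgroupOf, Subgroup.mem_inf]
    exact ⟨fun h => h.2, fun h => ⟨hz.1, h⟩⟩
  rw [h2]
  rfl

end Cfsg.Agent.Helper77
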