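import Cfsg.Agent.Helper77.FullCent
import Cfsg.Prelude.Def_BlockFusion

/-!
# The fusion system of a block: fully centralized and centric subgroups

(helper77, file 27.)
-/

set_option autoImplicit false
set_option linter.unusedSectionVars false

namespace Cfsg.Agent.Helper77

open Cfsg
open Cfsg.Agent.Helper16 (omega conv classInd deltaOne)

variable {G : Type*} [Group G] [Fintype G] {M : Ideal AlgInt} {p : ℕ}

theorem range_eq_map_conj (Q : Subgroup G) (g : G) (φ : Q →* G)
    (hφ : ∀ u : Q, φ u = g * (u : G) * g⁻¹) :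
    φ.range = Q.map (MulAut.conj g).toMonoidHom := by
  ext y
  constructor
  · rintro ⟨u, rfl⟩
    exact ⟨(u : G), u.2, (hφ u).symm⟩
  · rintro ⟨u, hu, rfl⟩
    exact ⟨⟨u, hu⟩, hφ ⟨u, hu⟩⟩

theorem card_subgroupOf_of_le {H K : Subgroup G} (h : H ≤ K) :
    Nat.card (H.subgroupOf K) = Nat.card H :=
  Nat.card_congr (Subgroup.subgroupOfEquivOfLe h).toEquiv

theorem inf_centralizer_map_conj (Q : Subgroup G) (x : G) :
    Q.map (MulAut.conj x).toMonoidHom ⊓
      Subgroup.centralizer ((Q.map (MulAut.conj x).toMonoidHom : Subgroup G) : Set G) =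
      (Q ⊓ Subgroup.centralizer (Q : Set G)).map (MulAut.conj x).toMonoidHom := by
  ext y
  rw [Subgroup.mem_inf, mem_map_conj_iff, mem_centralizer_map_conj_iff, mem_map_conj_iff,
    Subgroup.mem_inf]

theorem blockDefect_conjBlock (Q : Subgroup G) (x : G)
    (f : Set (IrrCharacter (Subgroup.centralizer (Q : Set G)))) :
    blockDefect p (conjBlock Q x f) = blockDefect p f := by
  rw [conjBlock_eq_image]
  exact blockDefect_image_irrMap p _ _

/-- **Conjugacy in the fusion system of a block.** -/
theorem isConj_iff_of_isBlockFusionSystemOn [Fact p.Prime] (hM : IsPModular p M)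
    (B : Set (IrrCharacter G)) (P : Subgroup G)
    (e : Set (IrrCharacter (Subgroup.centralizer (P : Set G)))) (F : FusionSystem P)
    (hF : IsBlockFusionSystemOn p M B P e F) (Q : Subgroup G)
    (f : Set (IrrCharacter (Subgroup.centralizer (Q : Set G)))) (hQP : Q ≤ P)
    (hle : SubpairLE p M Q f P e) (Q' : Subgroup G) :
    F.IsConj Q Q' ↔ ∃ g : G, Q' = Q.map (MulAut.conj g).toMonoidHom ∧
      SubpairLE p M (Q.map (MulAut.conj g).toMonoidHom) (conjBlock Q g f) P e := by
  have hPe : IsBrauerPair p M P e := hF.1.1.1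
  constructor
  · rintro ⟨φ, hφ, hrange⟩
    obtain ⟨_, g, hφg, _, f₁, hle₁, hle₁g⟩ := (hF.2 Q φ).mp hφ
    have : f₁ = f := subpairLE_unique hM P e hPe _ Q (le_refl _) f₁ f hle₁ hle
    subst this
    exact ⟨g, by rw [← hrange, range_eq_map_conj Q g φ hφg], hle₁g⟩
  · rintro ⟨g, rfl, hleg⟩
    exact ⟨(MulAut.conj g).toMonoidHom.comp Q.subtype,
      (hF.2 Q _).mpr ⟨hQP, g, fun u => rfl, le_of_reflTransGen hleg, f, hle, hleg⟩,
      range_eq_map_conj Q g _ (fun u => rfl)⟩

/-- **`Q` is fully centralized in the fusion system of `B` iff `C_P(Q)` is a defect group of the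
local block.** -/
theorem isFullyCentralized_iff [Fact p.Prime] (hM : IsPModular p M)
    (B : Set (IrrCharacter G)) (P : Subgroup G)
    (e : Set (IrrCharacter (Subgroup.centralizer (P : Set G)))) (F : FusionSystem P)
    (hF : IsBlockFusionSystemOn p M B P e F) (Q : Subgroup G)
    (f : Set (IrrCharacter (Subgroup.centralizer (Q : Set G)))) (hQP : Q ≤ P)
    (hf : IsPBlock M f) (hle : SubpairLE p M Q f P e) :
    F.IsFullyCentralized Q ↔ IsDefectGroup p M f
      ((P ⊓ Subgroup.centralizer (Q : Set G)).subgroupOf (Subgroup.centralizer (Q : Set G))) := by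
  classical
  have hmax := hF.1
  have hPe : IsBrauerPair p M P e := hmax.1.1
  constructor
  · rintro ⟨_, hall⟩
    obtain ⟨x, hlex, hDx⟩ := exists_conj_defectGroup hM B P Q e f hmax hQP hf hle
    have hconj : F.IsConj Q (Q.map (MulAut.conj x).toMonoidHom) :=
      (isConj_iff_of_isBlockFusionSystemOn hM B P e F hF Q f hQP hle _).mpr ⟨x, rfl, hlex⟩
    have h1 : Nat.card (P ⊓ Subgroup.centralizer
        ((Q.map (MulAut.conj x).toMonoidHom : Subgroup G) : Set G) : Subgroup G) ≤
        Nat.card (P ⊓ Subgroup.centralizer (Q : Set G) : Subgroup G) := hall _ hconj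
    obtain ⟨D, hD, hDle⟩ := exists_defectGroup_ge_centralizer hM P Q e f hPe hQP hf hle
    have hcardD := card_defectGroup hM hf D hD
    have hcardx := card_defectGroup hM (isPBlock_conjBlock Q x hf) _ hDx
    have heq : (P ⊓ Subgroup.centralizer (Q : Set G)).subgroupOf
        (Subgroup.centralizer (Q : Set G)) = D := by
      apply Subgroup.eq_of_le_of_card_ge hDle
      rw [hcardD, ← blockDefect_conjBlock Q x f, ← hcardx, card_subgroupOf_of_le inf_le_right,
        card_subgroupOf_of_le inf_le_right]
      exact h1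
    rw [heq]
    exact hD
  · intro hD
    refine ⟨hQP, fun Q' hQ' => ?_⟩
    obtain ⟨g, rfl, hleg⟩ :=
      (isConj_iff_of_isBlockFusionSystemOn hM B P e F hF Q f hQP hle _).mp hQ'
    have hQgP : Q.map (MulAut.conj g).toMonoidHom ≤ P := le_of_reflTransGen hleg
    obtain ⟨D', hD', hD'le⟩ := exists_defectGroup_ge_centralizer hM P
      (Q.map (MulAut.conj g).toMonoidHom) e (conjBlock Q g f) hPe hQgP
      (isPBlock_conjBlock Q g hf) hleg
    have h1 := Subgroup.card_le_of_le hD'le
    rw [card_subgroupOf_of_le inf_le_right,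
      card_defectGroup hM (isPBlock_conjBlock Q g hf) D' hD', blockDefect_conjBlock Q g f,
      ← card_defectGroup hM hf _ hD, card_subgroupOf_of_le inf_le_right] at h1
    exact h1

/-- **`Q` is centric in the fusion system of `B` iff `Z(Q)` is a defect group of the local
block.** -/
theorem isCentric_iff [Fact p.Prime] (hM : IsPModular p M)
    (B : Set (IrrCharacter G)) (P : Subgroup G)
    (e : Set (IrrCharacter (Subgroup.centralizer (P : Set G)))) (F : FusionSystem P)
    (hF : IsBlockFusionSystemOn p M B P e F) (Q : Subgroup G)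
    (f : Set (IrrCharacter (Subgroup.centralizer (Q : Set G)))) (hQP : Q ≤ P)
    (hf : IsPBlock M f) (hle : SubpairLE p M Q f P e) :
    F.IsCentric Q ↔ IsDefectGroup p M f
      ((Q ⊓ Subgroup.centralizer (Q : Set G)).subgroupOf (Subgroup.centralizer (Q : Set G))) := by
  classical
  have hmax := hF.1
  have hPe : IsBrauerPair p M P e := hmax.1.1
  constructor
  · rintro ⟨_, hall⟩
    obtain ⟨x, hlex, hDx⟩ := exists_conj_defectGroup hM B P Q e f hmax hQP hf hle
    have hconj : F.IsConj Q (Q.map (MulAut.conj x).toMonoidHom) :=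
      (isConj_iff_of_isBlockFusionSystemOn hM B P e F hF Q f hQP hle _).mpr ⟨x, rfl, hlex⟩
    have h1 : P ⊓ Subgroup.centralizer
        ((Q.map (MulAut.conj x).toMonoidHom : Subgroup G) : Set G) ≤
        Q.map (MulAut.conj x).toMonoidHom := hall _ hconj
    have hQxP : Q.map (MulAut.conj x).toMonoidHom ≤ P := le_of_reflTransGen hlex
    have h2 : P ⊓ Subgroup.centralizer
        ((Q.map (MulAut.conj x).toMonoidHom : Subgroup G) : Set G) =
        (Q ⊓ Subgroup.centralizer (Q : Set G)).map (MulAut.conj x).toMonoidHom := by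
      rw [← inf_centralizer_map_conj]
      exact le_antisymm (le_inf h1 inf_le_right) (inf_le_inf_right _ hQxP)
    obtain ⟨D, hD, hDle⟩ := exists_defectGroup_ge_centralizer hM P Q e f hPe hQP hf hle
    have hcardD := card_defectGroup hM hf D hD
    have hcardx := card_defectGroup hM (isPBlock_conjBlock Q x hf) _ hDx
    have hZle : (Q ⊓ Subgroup.centralizer (Q : Set G)).subgroupOf
        (Subgroup.centralizer (Q : Set G)) ≤ D :=
      (Subgroup.comap_mono (inf_le_inf_right _ hQP)).trans hDle
    have heq : (Q ⊓ Subgroup.centralizer (Q : Set G)).subgroupOf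
        (Subgroup.centralizer (Q : Set G)) = D := by
      apply Subgroup.eq_of_le_of_card_ge hZle
      rw [hcardD, ← blockDefect_conjBlock Q x f, ← hcardx, card_subgroupOf_of_le inf_le_right,
        card_subgroupOf_of_le inf_le_right, h2,
        Subgroup.card_map_of_injective (MulAut.conj x).injective]
    rw [heq]
    exact hD
  · intro hD
    refine ⟨hQP, fun Q' hQ' => ?_⟩
    obtain ⟨g, rfl, hleg⟩ :=
      (isConj_iff_of_isBlockFusionSystemOn hM B P e F hF Q f hQP hle _).mp hQ'
    have hQgP : Q.map (MulAut.conj g).toMonoidHom ≤ P := le_of_reflTransGen hleg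
    obtain ⟨D', hD', hD'le⟩ := exists_defectGroup_ge_centralizer hM P
      (Q.map (MulAut.conj g).toMonoidHom) e (conjBlock Q g f) hPe hQgP
      (isPBlock_conjBlock Q g hf) hleg
    have h1 := Subgroup.card_le_of_le hD'le
    rw [card_subgroupOf_of_le inf_le_right,
      card_defectGroup hM (isPBlock_conjBlock Q g hf) D' hD', blockDefect_conjBlock Q g f,
      ← card_defectGroup hM hf _ hD, card_subgroupOf_of_le inf_le_right] at h1
    have hZ : Nat.card (Q.map (MulAut.conj g).toMonoidHom ⊓ Subgroup.centralizer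
        ((Q.map (MulAut.conj g).toMonoidHom : Subgroup G) : Set G) : Subgroup G) =
        Nat.card (Q ⊓ Subgroup.centralizer (Q : Set G) : Subgroup G) := by
      rw [inf_centralizer_map_conj, Subgroup.card_map_of_injective (MulAut.conj g).injective]
    rw [← hZ] at h1
    have heq : Q.map (MulAut.conj g).toMonoidHom ⊓ Subgroup.centralizer
        ((Q.map (MulAut.conj g).toMonoidHom : Subgroup G) : Set G) =
        P ⊓ Subgroup.centralizer
          ((Q.map (MulAut.conj g).toMonoidHom : Subgroup G) : Set G) :=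
      Subgroup.eq_of_le_of_card_ge (inf_le_inf_right _ hQgP) h1
    show P ⊓ Subgroup.centralizer
      ((Q.map (MulAut.conj g).toMonoidHom : Subgroup G) : Set G) ≤ _
    rw [← heq]
    exact inf_le_left

end Cfsg.Agent.Helper77
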