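import Cfsg.Agent.Helper77.PairTransport

/-!
# The fusion system of a block on a maximal Brauer pair: construction

(helper77, file 31.)
-/

set_option autoImplicit false
set_option linter.unusedSectionVars false

namespace Cfsg.Agent.Helper77

open Cfsg
open Cfsg.Agent.Helper16 (omega conv classInd deltaOne)

variable {G : Type*} [Group G] [Fintype G] {M : Ideal AlgInt} {p : ℕ}

section ConjIdx

theorem funSet_injective (Q : Subgroup G) :
    Function.Injective (funSet Q) := by
  intro f f' h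
  have := idx_ext (a := (⟨Q, f⟩ : BrauerPairIdx G)) (b := ⟨Q, f'⟩) rfl h
  exact eq_of_heq (Sigma.mk.inj this).2

theorem map_conj_mul (Q : Subgroup G) (x y : G) :
    Q.map (MulAut.conj (x * y)).toMonoidHom =
      (Q.map (MulAut.conj y).toMonoidHom).map (MulAut.conj x).toMonoidHom := by
  ext z
  rw [mem_map_conj_iff, mem_map_conj_iff, mem_map_conj_iff]
  have e : (x * y)⁻¹ * z * (x * y) = y⁻¹ * (x⁻¹ * z * x) * y := by group
  rw [e]

theorem map_conj_one (Q : Subgroup G) : Q.map (MulAut.conj (1 : G)).toMonoidHom = Q := by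
  ext z
  rw [mem_map_conj_iff]
  simp

theorem conjFun_one (φ : G → ℂ) : conjFun (1 : G) φ = φ := by
  funext g
  rw [conjFun_apply]
  simp

theorem conjIdx_mul (x y : G) (a : BrauerPairIdx G) :
    conjIdx (x * y) a = conjIdx x (conjIdx y a) := by
  apply idx_ext
  · exact map_conj_mul a.1 x y
  · rw [funSetIdx_conjIdx, funSetIdx_conjIdx, funSetIdx_conjIdx, conjFun_mul_image]

theorem conjIdx_one (a : BrauerPairIdx G) : conjIdx (1 : G) a = a := by
  apply idx_ext
  · exact map_conj_one a.1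
  · rw [funSetIdx_conjIdx]
    have : conjFun (1 : G) = id := funext conjFun_one
    rw [this, Set.image_id]

theorem conjIdx_inv_conjIdx (x : G) (a : BrauerPairIdx G) : conjIdx x⁻¹ (conjIdx x a) = a := by
  rw [← conjIdx_mul, inv_mul_cancel, conjIdx_one]

theorem map_conj_eq_self_of_mem_normalizer (Q : Subgroup G) {g : G}
    (hg : g ∈ Subgroup.normalizer (Q : Set G)) : Q.map (MulAut.conj g).toMonoidHom = Q := by
  ext z
  rw [mem_map_conj_iff]
  exact (Subgroup.mem_normalizer_iff''.mp hg z).symm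

/-- The conjugate of a pair by an element of its stabilizer is the pair itself. -/
theorem conjIdx_eq_self_iff (Q : Subgroup G)
    (f : Set (IrrCharacter (Subgroup.centralizer (Q : Set G)))) (g : G)
    (hg : g ∈ Subgroup.normalizer (Q : Set G)) :
    conjIdx g ⟨Q, f⟩ = ⟨Q, f⟩ ↔ StabilizesBlock (Subgroup.centralizer (Q : Set G)) f g := by
  have hNC := Helper78.normalizer_le_normalizer_centralizer Q
  have h1 : funSetIdx (conjIdx g ⟨Q, f⟩) =
      funSet Q (conjSet (Subgroup.normalizer (Q : Set G)) (Subgroup.centralizer (Q : Set G)) hNC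
        ⟨g, hg⟩ f) := by
    rw [funSetIdx_conjIdx, funSet_conjSet]
    rfl
  rw [stabilizesBlock_iff_image_eq (Subgroup.centralizer (Q : Set G))
    (Subgroup.normalizer (Q : Set G)) hNC f ⟨g, hg⟩]
  constructor
  · intro h
    have h2 : funSetIdx (conjIdx g ⟨Q, f⟩) = funSetIdx ⟨Q, f⟩ := by rw [h]
    rw [h1] at h2
    exact funSet_injective Q h2
  · intro h
    apply idx_ext
    · exact map_conj_eq_self_of_mem_normalizer Q hg
    · rw [h1]
      show funSet Q _ = funSet Q f
      congr 1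

/-- Elements of `P` fix the pair `(P, e)`. -/
theorem conjIdx_eq_self_of_mem (P : Subgroup G)
    (e : Set (IrrCharacter (Subgroup.centralizer (P : Set G)))) {g : G} (hg : g ∈ P) :
    conjIdx g ⟨P, e⟩ = ⟨P, e⟩ :=
  (conjIdx_eq_self_iff P e g (Subgroup.le_normalizer hg)).mpr (stabilizesBlock_of_mem_base P e g hg)

theorem isBrauerPair_of_reflTransGen {a b : BrauerPairIdx G}
    (hb : IsBrauerPair p M b.1 b.2)
    (h : Relation.ReflTransGen (NormalSubpairRel p M) a b) : IsBrauerPair p M a.1 a.2 := by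
  rcases Relation.ReflTransGen.cases_head h with h1 | ⟨c, hac, _⟩
  · rw [h1]
    exact hb
  · exact hac.1

end ConjIdx

section Construction

/-- The maps of the fusion system of a block on `(P, e)` with source `Q`. -/
def blockHom (p : ℕ) (M : Ideal AlgInt) (P : Subgroup G) (e : Set (IrrCharacter (Subgroup.centralizer (P : Set G))))
    (Q : Subgroup G) : Set (Q →* G) :=
  {φ | Q ≤ P ∧ ∃ g : G, (∀ u : Q, φ u = g * (u : G) * g⁻¹) ∧
    Q.map (MulAut.conj g).toMonoidHom ≤ P ∧
    ∃ f : Set (IrrCharacter (Subgroup.centralizer (Q : Set G))),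
      SubpairLE p M Q f P e ∧
        SubpairLE p M (Q.map (MulAut.conj g).toMonoidHom) (conjBlock Q g f) P e}

/-- **The fusion system of a block on a Brauer pair `(P, e)`.** -/
noncomputable def blockFusionSystem [Fact p.Prime] (hM : IsPModular p M) (P : Subgroup G)
    (e : Set (IrrCharacter (Subgroup.centralizer (P : Set G))))
    (hPe : IsBrauerPair p M P e) : FusionSystem P where
  Hom Q := blockHom p M P e Q
  le_of_mem := by
    rintro Q φ ⟨hQP, g, hφ, hQg, _⟩
    exact ⟨hQP, fun x => hQg ⟨(x : G), x.2, (hφ x).symm⟩⟩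
  injective_of_mem := by
    rintro Q φ ⟨-, g, hg, -⟩ a b hab
    have h : g * (a : G) * g⁻¹ = g * (b : G) * g⁻¹ := ((hg a).symm.trans hab).trans (hg b)
    exact Subtype.ext (mul_left_cancel (mul_right_cancel h))
  conj_mem := by
    intro Q g hQP hg
    obtain ⟨f, hf, hle⟩ := exists_subpairLE hM P e hPe _ Q hQP (le_refl _)
    have h1 := reflTransGen_conjIdx g hle
    rw [conjIdx_eq_self_of_mem P e hg] at h1
    exact ⟨hQP, g, fun u => rfl, le_of_reflTransGen h1, f, hle, h1⟩
  comp_mem := by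
    rintro Q R φ ψ ⟨hQP, g, hφ, hQg, f, hle, hleg⟩ ⟨hRP, k, hψ, hRk, fR, hleR, hleRk⟩ h
    have hQgR : Q.map (MulAut.conj g).toMonoidHom ≤ R := by
      rintro _ ⟨u, hu, rfl⟩
      have := h ⟨u, hu⟩
      rwa [hφ] at this
    have hRpair : IsBrauerPair p M R fR :=
      isBrauerPair_of_reflTransGen (a := ⟨R, fR⟩) (b := ⟨P, e⟩) hPe hleR
    obtain ⟨f', hf', hle'⟩ := exists_subpairLE hM R fR hRpair _
      (Q.map (MulAut.conj g).toMonoidHom) hQgR (le_refl _)
    have hff : f' = conjBlock Q g f :=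
      subpairLE_unique hM P e hPe _ _ (le_refl _) f' _ (Relation.ReflTransGen.trans hle' hleR) hleg
    rw [hff] at hle'
    have h2 := reflTransGen_conjIdx k hle'
    have h3 : Relation.ReflTransGen (NormalSubpairRel p M) (conjIdx (k * g) ⟨Q, f⟩) ⟨P, e⟩ := by
      rw [conjIdx_mul]
      exact Relation.ReflTransGen.trans h2 hleRk
    refine ⟨hQP, k * g, fun u => ?_, le_of_reflTransGen h3, f, hle, h3⟩
    show ψ (φ.codRestrict R h u) = k * g * (u : G) * (k * g)⁻¹
    rw [hψ]
    show k * φ u * k⁻¹ = _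
    rw [hφ, mul_inv_rev]
    simp only [mul_assoc]
  inv_mem := by
    rintro Q φ ⟨hQP, g, hφ, hQg, f, hle, hleg⟩
    have hrange := range_eq_map_conj Q g φ hφ
    have key : ∀ Q' : Subgroup G, Q' = Q.map (MulAut.conj g).toMonoidHom →
        Cfsg.conjHom Q' g⁻¹ ∈ blockHom p M P e Q' := by
      rintro _ rfl
      have h1 : conjIdx g⁻¹ (conjIdx g ⟨Q, f⟩) = ⟨Q, f⟩ := conjIdx_inv_conjIdx g _
      have h2 : Relation.ReflTransGen (NormalSubpairRel p M)
          (conjIdx g⁻¹ ⟨Q.map (MulAut.conj g).toMonoidHom, conjBlock Q g f⟩) ⟨P, e⟩ := by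
        show Relation.ReflTransGen (NormalSubpairRel p M) (conjIdx g⁻¹ (conjIdx g ⟨Q, f⟩)) ⟨P, e⟩
        rw [h1]
        exact hle
      exact ⟨hQg, g⁻¹, fun u => rfl, le_of_reflTransGen h2, conjBlock Q g f, hleg, h2⟩
    refine ⟨Cfsg.conjHom φ.range g⁻¹, key _ hrange, fun x => ?_⟩
    show g⁻¹ * φ x * g⁻¹⁻¹ = x
    rw [hφ, inv_inv]
    simp only [mul_assoc, inv_mul_cancel, mul_one, inv_mul_cancel_left]

theorem isBlockFusionSystemOn_blockFusionSystem [Fact p.Prime] (hM : IsPModular p M)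
    (B : Set (IrrCharacter G)) (P : Subgroup G)
    (e : Set (IrrCharacter (Subgroup.centralizer (P : Set G))))
    (hmax : IsMaximalBrauerPair p M B P e) :
    IsBlockFusionSystemOn p M B P e (blockFusionSystem hM P e hmax.1.1) :=
  ⟨hmax, fun _ _ => Iff.rfl⟩

end Construction

end Cfsg.Agent.Helper77
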