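import Cfsg.Agent.Helper77.BlockFusionSystem
import Cfsg.Agent.S4672
import Cfsg.Agent.Helper87.FusionExtend

/-!
# The fusion system of a block is saturated

(helper77, file 32.)
-/

set_option autoImplicit false
set_option linter.unusedSectionVars false

namespace Cfsg.Agent.Helper77

open Cfsg
open Cfsg.Agent.Helper16 (omega conv classInd deltaOne)

variable {G : Type*} [Group G] [Fintype G] {M : Ideal AlgInt} {p : ℕ}

/-- **A defect group of a block of `X` with the idempotent of the `X`-stable block `f` of `C_G(Q)`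
carries a Brauer pair containing `(Q, f)` normally.** -/
theorem exists_isNormalSubpair_of_defectGroup_sub [Fact p.Prime] (hM : IsPModular p M)
    (Q : Subgroup G) (hQp : IsPGroup p Q)
    (f : Set (IrrCharacter (Subgroup.centralizer (Q : Set G)))) (hf : IsPBlock M f)
    (X : Subgroup G) (hQX : Q ≤ X) (hXN : X ≤ Subgroup.normalizer (Q : Set G))
    (hstabX : ∀ t ∈ X, StabilizesBlock (Subgroup.centralizer (Q : Set G)) f t)
    (F : Set (IrrCharacter X)) (hF : IsPBlock M F)
    (hFf : ∀ t : X, blockCoeff F t =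
      extFun (Subgroup.centralizer (Q : Set G)) (blockCoeff f) (t : G))
    (D : Subgroup X) (hD : IsDefectGroup p M F D) :
    Q ≤ D.map X.subtype ∧
      ∃ g : Set (IrrCharacter (Subgroup.centralizer ((D.map X.subtype : Subgroup G) : Set G))),
        IsNormalSubpair p M Q f (D.map X.subtype) g := by
  classical
  have hMp : M.IsPrime := isPrime_of_isPModular hM
  obtain ⟨n₀, ⟨hn₀R, hn₀I, _⟩, hDle, hDcard⟩ := (Helper16.isDefectGroup_iff p F D).mp hD
  have hDp : IsPGroup p D := IsPGroup.of_card hDcard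
  have hn : (Q.subgroupOf X).Normal := (Subgroup.normal_subgroupOf_iff_le_normalizer hQX).mpr hXN
  have hQ' : IsPGroup p (Q.subgroupOf X) := hQp.comap_subtype
  have hQD : Q.subgroupOf X ≤ D :=
    (Cfsg.Agent.Lib.le_pCore hn hQ').trans (Cfsg.Agent.S0912.result p M hM F hF D hD)
  have hDGp : IsPGroup p (D.map X.subtype) := hDp.map _
  have hDGX : D.map X.subtype ≤ X := Subgroup.map_subtype_le D
  have hQDG : Q ≤ D.map X.subtype := fun q hq =>
    ⟨⟨q, hQX hq⟩, hQD (Subgroup.mem_subgroupOf.mpr hq), rfl⟩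
  have hDGN : D.map X.subtype ≤ Subgroup.normalizer (Q : Set G) := hDGX.trans hXN
  have hstab : ∀ y ∈ D.map X.subtype, StabilizesBlock (Subgroup.centralizer (Q : Set G)) f y :=
    fun y hy => hstabX y (hDGX hy)
  have hn₀val : ¬ MemLocalIdeal M
      (extFun (Subgroup.centralizer (Q : Set G)) (blockCoeff f) ((n₀ : X) : G)) := by
    rw [← hFf]
    exact hn₀I
  have hn₀C : ((n₀ : X) : G) ∈ Subgroup.centralizer ((D.map X.subtype : Subgroup G) : Set G) := by
    rw [Subgroup.mem_centralizer_iff]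
    rintro _ ⟨d, hd, rfl⟩
    have := hDle hd
    rw [Subgroup.mem_centralizer_singleton_iff] at this
    exact congrArg Subtype.val this
  exact ⟨hQDG, exists_isNormalSubpair_of_stable hM Q _ hQp hDGp hQDG hDGN f hf hstab _
    hn₀C hn₀val⟩

/-- **Lemma B**: for a good pair `(Q, f)` (the normalizer `N_P(Q)` is a defect group of the
stabilizer block), `N_P(Q)` is also a defect group of the block with the idempotent of `f` of every
subgroup `X` between `N_P(Q) C_G(Q)` and the stabilizer. -/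
theorem isDefectGroup_normalizerIn_of_good [Fact p.Prime] (hM : IsPModular p M)
    (P Q : Subgroup G)
    (e : Set (IrrCharacter (Subgroup.centralizer (P : Set G))))
    (f : Set (IrrCharacter (Subgroup.centralizer (Q : Set G))))
    (hPe : IsBrauerPair p M P e) (hQP : Q ≤ P) (hf : IsPBlock M f)
    (hle : SubpairLE p M Q f P e) (T : Subgroup G)
    (hT : ∀ y : G, y ∈ T ↔ y ∈ Subgroup.normalizer (Q : Set G) ∧
      StabilizesBlock (Subgroup.centralizer (Q : Set G)) f y)
    (FT : Set (IrrCharacter T)) (hFT : IsPBlock M FT)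
    (hFTf : ∀ t : T, blockCoeff FT t =
      extFun (Subgroup.centralizer (Q : Set G)) (blockCoeff f) (t : G))
    (hgood : IsDefectGroup p M FT ((P ⊓ Subgroup.normalizer (Q : Set G)).subgroupOf T))
    (X : Subgroup G) (hCX : Subgroup.centralizer (Q : Set G) ≤ X)
    (hNX : P ⊓ Subgroup.normalizer (Q : Set G) ≤ X) (hXT : X ≤ T)
    (FX : Set (IrrCharacter X)) (hFX : IsPBlock M FX)
    (hFXf : ∀ t : X, blockCoeff FX t =
      extFun (Subgroup.centralizer (Q : Set G)) (blockCoeff f) (t : G)) :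
    IsDefectGroup p M FX ((P ⊓ Subgroup.normalizer (Q : Set G)).subgroupOf X) := by
  classical
  have hMp : M.IsPrime := isPrime_of_isPModular hM
  have hQp : IsPGroup p Q := hPe.1.to_le hQP
  obtain ⟨hQT, hCT, hTN, hstabT⟩ := stab_basic Q f T hT
  have hNT : P ⊓ Subgroup.normalizer (Q : Set G) ≤ T := hNX.trans hXT
  have hQN : Q ≤ P ⊓ Subgroup.normalizer (Q : Set G) := le_inf hQP Subgroup.le_normalizer
  obtain ⟨fN, hfN, hsubN, hleN⟩ := exists_isNormalSubpair_of_subpairLE hM P Q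
    (P ⊓ Subgroup.normalizer (Q : Set G)) e f hPe hQN inf_le_left inf_le_right hle
  have hcardN : Nat.card (P ⊓ Subgroup.normalizer (Q : Set G) : Subgroup G) =
      p ^ blockDefect p FT := by
    rw [← card_defectGroup hM hFT _ hgood, card_subgroupOf_of_le hNT]
  obtain ⟨D, hD, hDle⟩ := exists_defectGroup_ge_of_subpair hM P Q
    (P ⊓ Subgroup.normalizer (Q : Set G)) e f hPe hQN inf_le_left inf_le_right hf hle X hCX FX hFX
    hFXf
  obtain ⟨hQDG, g, hsubD⟩ := exists_isNormalSubpair_of_defectGroup_sub hM Q hQp f hf X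
    (hQN.trans hNX) (hXT.trans hTN) (fun t ht => hstabT t (hXT ht)) FX hFX hFXf D hD
  have hfinT : Fintype T := Fintype.ofFinite _
  obtain ⟨t, htT, hlet⟩ := exists_conj_subpairLE_over T hM Q
    (P ⊓ Subgroup.normalizer (Q : Set G)) (D.map X.subtype) f fN g hsubN hsubD hNT
    ((Subgroup.map_subtype_le D).trans hXT) hCT FT hFT hFTf hcardN
  have hle1 : (D.map X.subtype).map (MulAut.conj t).toMonoidHom ≤
      P ⊓ Subgroup.normalizer (Q : Set G) := le_of_reflTransGen hlet
  have hcard1 : Nat.card D ≤ Nat.card (P ⊓ Subgroup.normalizer (Q : Set G) : Subgroup G) := by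
    have := Subgroup.card_le_of_le hle1
    rwa [Subgroup.card_map_of_injective (MulAut.conj t).injective,
      Subgroup.card_map_of_injective X.subtype_injective] at this
  have heq : (P ⊓ Subgroup.normalizer (Q : Set G)).subgroupOf X = D := by
    apply Subgroup.eq_of_le_of_card_ge hDle
    rw [card_subgroupOf_of_le hNX]
    exact hcard1
  rw [heq]
  exact hD

/-- **Transport of the theorem on stable blocks of normal subgroups of `p`-power index**: if `C ⊴ X`
has `p`-power index, the block `f` of `C` is `X`-stable, and `FX` is the block of `X` with the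
idempotent of `f`, then `X = C D` for every defect group `D` of `FX`. -/
theorem sup_eq_top_of_stable_ppower [Fact p.Prime] (hM : IsPModular p M) (C X : Subgroup G)
    (hCX : C ≤ X) (hXC : X ≤ Subgroup.normalizer (C : Set G))
    (hidx : ∃ k : ℕ, (C.subgroupOf X).index = p ^ k)
    (f : Set (IrrCharacter C)) (hf : IsPBlock M f) (hstab : ∀ t ∈ X, StabilizesBlock C f t)
    (FX : Set (IrrCharacter X)) (hFX : IsPBlock M FX)
    (hFXf : ∀ t : X, blockCoeff FX t = extFun C (blockCoeff f) (t : G))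
    (D : Subgroup X) (hD : IsDefectGroup p M FX D) :
    C.subgroupOf X ⊔ D = ⊤ := by
  classical
  have hfinX : Fintype X := Fintype.ofFinite _
  haveI hnorm : (C.subgroupOf X).Normal :=
    (Subgroup.normal_subgroupOf_iff_le_normalizer hCX).mpr hXC
  let ε : ↥(C.subgroupOf X) ≃* ↥C := Subgroup.subgroupOfEquivOfLe hCX
  have hε : ∀ k : ↥(C.subgroupOf X), ((ε k : C) : G) = ((k : X) : G) := fun _ => rfl
  let c : Set (IrrCharacter ↥(C.subgroupOf X)) := Helper78.irrMap ε.symm '' f
  have hc : IsPBlock M c := isPBlock_image_irrMap _ hf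
  have hst : ∀ x : X, StabilizesBlock (C.subgroupOf X) c x := by
    intro x
    refine ⟨?_, ?_⟩
    · rw [Subgroup.normalizer_eq_top]
      exact Subgroup.mem_top x
    · rintro _ ⟨θ, hθ, rfl⟩
      obtain ⟨θ', hθ', hconj⟩ := (hstab (x : G) x.2).2 θ hθ
      refine ⟨Helper78.irrMap ε.symm θ', Set.mem_image_of_mem _ hθ', ?_⟩
      intro k k' hkk'
      rw [Helper78.irrMap_apply, Helper78.irrMap_apply, MulEquiv.symm_symm]
      apply hconj
      rw [hε, hε, hkk']
      rfl
  have hBc : ∀ g : X, blockCoeff FX g = subgroupBlockCoeff (C.subgroupOf X) c g := by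
    intro g
    rw [hFXf, subgroupBlockCoeff_eq_extFun]
    by_cases hg : (g : G) ∈ C
    · have hg' : g ∈ C.subgroupOf X := Subgroup.mem_subgroupOf.mpr hg
      rw [extFun_of_mem C _ hg, extFun_of_mem _ _ hg', blockCoeff_image_irrMap',
        MulEquiv.symm_symm]
      rfl
    · have hg' : g ∉ C.subgroupOf X := fun h => hg (Subgroup.mem_subgroupOf.mp h)
      rw [extFun_of_not_mem C _ hg, extFun_of_not_mem _ _ hg']
  exact ((Cfsg.Agent.S4672.result p M hM (C.subgroupOf X) hidx c hc hst).2 FX hFX hBc D hD).1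

/-- **Claim A**: for a good pair `(Q, f)`, every Sylow `p`-subgroup of the stabilizer containing
`N_P(Q)` lies in `C_G(Q) N_P(Q)`. -/
theorem sylow_le_centralizer_mul_normalizerIn [Fact p.Prime] (hM : IsPModular p M)
    (P Q : Subgroup G)
    (e : Set (IrrCharacter (Subgroup.centralizer (P : Set G))))
    (f : Set (IrrCharacter (Subgroup.centralizer (Q : Set G))))
    (hPe : IsBrauerPair p M P e) (hQP : Q ≤ P) (hf : IsPBlock M f)
    (hle : SubpairLE p M Q f P e) (T : Subgroup G)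
    (hT : ∀ y : G, y ∈ T ↔ y ∈ Subgroup.normalizer (Q : Set G) ∧
      StabilizesBlock (Subgroup.centralizer (Q : Set G)) f y)
    (FT : Set (IrrCharacter T)) (hFT : IsPBlock M FT)
    (hFTf : ∀ t : T, blockCoeff FT t =
      extFun (Subgroup.centralizer (Q : Set G)) (blockCoeff f) (t : G))
    (hgood : IsDefectGroup p M FT ((P ⊓ Subgroup.normalizer (Q : Set G)).subgroupOf T))
    (S : Sylow p T) (hNS : (P ⊓ Subgroup.normalizer (Q : Set G)).subgroupOf T ≤ S)
    (s : T) (hs : s ∈ S) :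
    ∃ c ∈ Subgroup.centralizer (Q : Set G), ∃ n ∈ P ⊓ Subgroup.normalizer (Q : Set G),
      (s : G) = c * n := by
  classical
  have hMp : M.IsPrime := isPrime_of_isPModular hM
  have hQp : IsPGroup p Q := hPe.1.to_le hQP
  obtain ⟨hQT, hCT, hTN, hstabT⟩ := stab_basic Q f T hT
  have hNT : P ⊓ Subgroup.normalizer (Q : Set G) ≤ T :=
    normalizerIn_le_stab hM P Q e f hPe hQP hle T hT
  have hQN : Q ≤ P ⊓ Subgroup.normalizer (Q : Set G) := le_inf hQP Subgroup.le_normalizer
  let SG : Subgroup G := (S : Subgroup T).map T.subtype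
  let X : Subgroup G := SG ⊔ Subgroup.centralizer (Q : Set G)
  have hSGX : SG ≤ X := le_sup_left
  have hCX : Subgroup.centralizer (Q : Set G) ≤ X := le_sup_right
  have hXT : X ≤ T := sup_le (Subgroup.map_subtype_le _) hCT
  have hNSG : P ⊓ Subgroup.normalizer (Q : Set G) ≤ SG := fun n hn =>
    ⟨⟨n, hNT hn⟩, hNS (Subgroup.mem_subgroupOf.mpr hn), rfl⟩
  have hNX : P ⊓ Subgroup.normalizer (Q : Set G) ≤ X := hNSG.trans hSGX
  have hQX : Q ≤ X := hQN.trans hNX
  have hXN : X ≤ Subgroup.normalizer (Q : Set G) := hXT.trans hTN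
  have hXC : X ≤ Subgroup.normalizer
      ((Subgroup.centralizer (Q : Set G) : Subgroup G) : Set G) :=
    hXN.trans (Helper78.normalizer_le_normalizer_centralizer Q)
  have hstabX : ∀ t ∈ X, StabilizesBlock (Subgroup.centralizer (Q : Set G)) f t :=
    fun t ht => hstabT t (hXT ht)
  obtain ⟨FX, hFX, hFXf⟩ := exists_block_of_stabilizer X _ hCX f hf hstabX (fun E hE t ht =>
    blockCoeff_eq_zero_of_not_mem_centralizer_sub hM Q X hQp hQX hXN hE t ht)
  have hDX := isDefectGroup_normalizerIn_of_good hM P Q e f hPe hQP hf hle T hT FT hFT hFTf hgood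
    X hCX hNX hXT FX hFX hFXf
  -- the index of `C_G(Q)` in `X` is a power of `p`
  have hidx : ∃ k : ℕ, ((Subgroup.centralizer (Q : Set G)).subgroupOf X).index = p ^ k := by
    haveI hnorm : ((Subgroup.centralizer (Q : Set G)).subgroupOf X).Normal :=
      (Subgroup.normal_subgroupOf_iff_le_normalizer hCX).mpr hXC
    have htop : SG.subgroupOf X ⊔ (Subgroup.centralizer (Q : Set G)).subgroupOf X = ⊤ := by
      rw [← Subgroup.subgroupOf_sup hSGX hCX]
      exact Subgroup.subgroupOf_self X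
    have h1 : ((Subgroup.centralizer (Q : Set G)).subgroupOf X).relIndex
        (SG.subgroupOf X ⊔ (Subgroup.centralizer (Q : Set G)).subgroupOf X) =
        ((Subgroup.centralizer (Q : Set G)).subgroupOf X).relIndex (SG.subgroupOf X) :=
      Subgroup.relIndex_sup_right _ _
    rw [htop, Subgroup.relIndex_top_right] at h1
    rw [h1]
    have hSXp : IsPGroup p (SG.subgroupOf X) := (S.isPGroup'.map _).comap_subtype
    exact hSXp.index _
  have htop := sup_eq_top_of_stable_ppower hM _ X hCX hXC hidx f hf hstabX FX hFX hFXf _ hDX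
  haveI hnorm : ((Subgroup.centralizer (Q : Set G)).subgroupOf X).Normal :=
    (Subgroup.normal_subgroupOf_iff_le_normalizer hCX).mpr hXC
  have hsX : (s : G) ∈ X := hSGX ⟨s, hs, rfl⟩
  have hmem : (⟨(s : G), hsX⟩ : X) ∈ (Subgroup.centralizer (Q : Set G)).subgroupOf X ⊔
      (P ⊓ Subgroup.normalizer (Q : Set G)).subgroupOf X := by
    rw [htop]
    exact Subgroup.mem_top _
  obtain ⟨y, hy, z, hz, hyz⟩ := Subgroup.mem_sup_of_normal_left.mp hmem
  refine ⟨(y : G), Subgroup.mem_subgroupOf.mp hy, (z : G), Subgroup.mem_subgroupOf.mp hz, ?_⟩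
  exact (congrArg Subtype.val hyz).symm

theorem idx_eq_of_le_of_fst_eq [Fact p.Prime] (hM : IsPModular p M) (P : Subgroup G)
    (e : Set (IrrCharacter (Subgroup.centralizer (P : Set G)))) (hPe : IsBrauerPair p M P e)
    {a b : BrauerPairIdx G}
    (ha : Relation.ReflTransGen (NormalSubpairRel p M) a ⟨P, e⟩)
    (hb : Relation.ReflTransGen (NormalSubpairRel p M) b ⟨P, e⟩) (hab : a.1 = b.1) : a = b := by
  obtain ⟨A, α⟩ := a
  obtain ⟨A', α'⟩ := b
  simp only at hab
  subst hab
  have := subpairLE_unique hM P e hPe _ A (le_refl _) α α' ha hb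
  rw [this]

section Saturated

open Cfsg.FusionSystem Cfsg.Agent.Helper87

/-- The conjugation homomorphism from the stabilizer of `f` to `Aut(Q)`. -/
noncomputable def stabToAut (Q T : Subgroup G) (hTN : T ≤ Subgroup.normalizer (Q : Set G)) :
    T →* MulAut Q :=
  Q.normalizerMonoidHom.comp (Subgroup.inclusion hTN)

theorem stabToAut_apply (Q T : Subgroup G) (hTN : T ≤ Subgroup.normalizer (Q : Set G)) (t : T)
    (x : Q) : ((stabToAut Q T hTN t x : Q) : G) = (t : G) * (x : G) * (t : G)⁻¹ := rfl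

/-- **Fully automized**: for a good pair, `Aut_P(Q)` is a Sylow `p`-subgroup of `Aut_F(Q)`. -/
theorem isFullyAutomized_of_good [Fact p.Prime] (hM : IsPModular p M)
    (B : Set (IrrCharacter G)) (P : Subgroup G)
    (e : Set (IrrCharacter (Subgroup.centralizer (P : Set G)))) (F : FusionSystem P)
    (hF : IsBlockFusionSystemOn p M B P e F) (Q : Subgroup G)
    (f : Set (IrrCharacter (Subgroup.centralizer (Q : Set G)))) (hQP : Q ≤ P)
    (hf : IsPBlock M f) (hle : SubpairLE p M Q f P e) (T : Subgroup G)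
    (hT : ∀ y : G, y ∈ T ↔ y ∈ Subgroup.normalizer (Q : Set G) ∧
      StabilizesBlock (Subgroup.centralizer (Q : Set G)) f y)
    (FT : Set (IrrCharacter T)) (hFT : IsPBlock M FT)
    (hFTf : ∀ t : T, blockCoeff FT t =
      extFun (Subgroup.centralizer (Q : Set G)) (blockCoeff f) (t : G))
    (hgood : IsDefectGroup p M FT ((P ⊓ Subgroup.normalizer (Q : Set G)).subgroupOf T)) :
    F.IsFullyAutomized p Q := by
  classical
  have hmax := hF.1
  have hPe : IsBrauerPair p M P e := hmax.1.1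
  obtain ⟨hQT, hCT, hTN, hstabT⟩ := stab_basic Q f T hT
  have hNT : P ⊓ Subgroup.normalizer (Q : Set G) ≤ T :=
    normalizerIn_le_stab hM P Q e f hPe hQP hle T hT
  have hfinT : Fintype T := Fintype.ofFinite _
  -- the homomorphism to `Aut_F(Q)`
  have hθmem : ∀ t : T, stabToAut Q T hTN t ∈ F.autGroup Q := by
    intro t
    rw [mem_autGroup_iff F hQP]
    have hfix : conjIdx (t : G) ⟨Q, f⟩ = ⟨Q, f⟩ :=
      (conjIdx_eq_self_iff Q f (t : G) (hTN t.2)).mpr (hstabT t t.2)
    have hle' : Relation.ReflTransGen (NormalSubpairRel p M) (conjIdx (t : G) ⟨Q, f⟩) ⟨P, e⟩ := by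
      rw [hfix]
      exact hle
    exact (hF.2 Q _).mpr ⟨hQP, (t : G), fun u => rfl, le_of_reflTransGen hle', f, hle, hle'⟩
  let θ' : T →* F.autGroup Q := (stabToAut Q T hTN).codRestrict _ hθmem
  have hsurj : Function.Surjective θ' := by
    rintro ⟨α, hα⟩
    have h1 := (mem_autGroup_iff F hQP α).mp hα
    obtain ⟨_, g, hg, _, f₁, hle₁, hle₁g⟩ := (hF.2 Q _).mp h1
    have hff : f₁ = f := subpairLE_unique hM P e hPe _ Q (le_refl _) f₁ f hle₁ hle
    rw [hff] at hle₁g
    have hgN : g ∈ Subgroup.normalizer (Q : Set G) := mem_normalizer_of_conj_eq α g hg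
    have hfix : conjIdx g ⟨Q, f⟩ = ⟨Q, f⟩ :=
      idx_eq_of_le_of_fst_eq hM P e hPe hle₁g hle (map_conj_eq_self_of_mem_normalizer Q hgN)
    have hgT : g ∈ T := (hT g).mpr ⟨hgN, (conjIdx_eq_self_iff Q f g hgN).mp hfix⟩
    refine ⟨⟨g, hgT⟩, ?_⟩
    apply Subtype.ext
    apply MulEquiv.ext
    intro x
    apply Subtype.ext
    exact (hg x).symm
  have hNp : IsPGroup p ((P ⊓ Subgroup.normalizer (Q : Set G)).subgroupOf T) :=
    (hPe.1.to_le inf_le_left).comap_subtype
  obtain ⟨S, hNS⟩ := hNp.exists_le_sylow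
  refine ⟨hQP, S.mapSurjective hsurj, ?_⟩
  rw [Sylow.coe_mapSurjective]
  ext α
  rw [Subgroup.mem_subgroupOf, mem_autInducedBy_iff]
  constructor
  · rintro ⟨s, hs, rfl⟩
    obtain ⟨c, hc, n, hn, hsn⟩ := sylow_le_centralizer_mul_normalizerIn hM P Q e f hPe hQP hf hle T
      hT FT hFT hFTf hgood S hNS s hs
    refine ⟨n, hn.1, fun x => ?_⟩
    show (s : G) * (x : G) * (s : G)⁻¹ = n * (x : G) * n⁻¹
    have hnx : n * (x : G) * n⁻¹ ∈ Q := (Subgroup.mem_normalizer_iff.mp hn.2 (x : G)).mp x.2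
    have hcomm := hc _ hnx
    rw [hsn]
    calc c * n * (x : G) * (c * n)⁻¹ = c * (n * (x : G) * n⁻¹) * c⁻¹ := by
          rw [mul_inv_rev]; simp only [mul_assoc]
      _ = n * (x : G) * n⁻¹ * c * c⁻¹ := by rw [hcomm]
      _ = n * (x : G) * n⁻¹ := mul_inv_cancel_right _ _
  · rintro ⟨g, hgP, hg⟩
    have hgN : g ∈ Subgroup.normalizer (Q : Set G) :=
      mem_normalizer_of_conj_eq (α : MulAut Q) g hg
    have hgNP : g ∈ P ⊓ Subgroup.normalizer (Q : Set G) := ⟨hgP, hgN⟩
    refine ⟨⟨g, hNT hgNP⟩, hNS (Subgroup.mem_subgroupOf.mpr hgNP), ?_⟩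
    apply Subtype.ext
    apply MulEquiv.ext
    intro x
    apply Subtype.ext
    exact (hg x).symm

theorem exists_mul_of_mem_sup_of_le_normalizer {H C : Subgroup G}
    (hHC : H ≤ Subgroup.normalizer (C : Set G)) {t : G} (ht : t ∈ H ⊔ C) :
    ∃ n ∈ H, ∃ c ∈ C, t = n * c := by
  have hK : H ⊔ C ≤ Subgroup.normalizer (C : Set G) := sup_le hHC Subgroup.le_normalizer
  have hnorm : (C.subgroupOf (H ⊔ C)).Normal :=
    (Subgroup.normal_subgroupOf_iff_le_normalizer le_sup_right).mpr hK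
  have htop : H.subgroupOf (H ⊔ C) ⊔ C.subgroupOf (H ⊔ C) = ⊤ := by
    rw [← Subgroup.subgroupOf_sup le_sup_left le_sup_right]
    exact Subgroup.subgroupOf_self _
  have hmem : (⟨t, ht⟩ : (H ⊔ C : Subgroup G)) ∈
      H.subgroupOf (H ⊔ C) ⊔ C.subgroupOf (H ⊔ C) := by
    rw [htop]
    exact Subgroup.mem_top _
  obtain ⟨y, hy, z, hz, hyz⟩ := Subgroup.mem_sup_of_normal_right.mp hmem
  exact ⟨y, Subgroup.mem_subgroupOf.mp hy, z, Subgroup.mem_subgroupOf.mp hz,
    (congrArg Subtype.val hyz).symm⟩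

/-- **Receptive**: a good pair `(Q, f)` gives a receptive subgroup `Q`. -/
theorem isReceptive_of_good [Fact p.Prime] (hM : IsPModular p M)
    (B : Set (IrrCharacter G)) (P : Subgroup G)
    (e : Set (IrrCharacter (Subgroup.centralizer (P : Set G)))) (F : FusionSystem P)
    (hF : IsBlockFusionSystemOn p M B P e F) (Q : Subgroup G)
    (f : Set (IrrCharacter (Subgroup.centralizer (Q : Set G)))) (hQP : Q ≤ P)
    (hf : IsPBlock M f) (hle : SubpairLE p M Q f P e) (T : Subgroup G)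
    (hT : ∀ y : G, y ∈ T ↔ y ∈ Subgroup.normalizer (Q : Set G) ∧
      StabilizesBlock (Subgroup.centralizer (Q : Set G)) f y)
    (FT : Set (IrrCharacter T)) (hFT : IsPBlock M FT)
    (hFTf : ∀ t : T, blockCoeff FT t =
      extFun (Subgroup.centralizer (Q : Set G)) (blockCoeff f) (t : G))
    (hgood : IsDefectGroup p M FT ((P ⊓ Subgroup.normalizer (Q : Set G)).subgroupOf T)) :
    F.IsReceptive Q := by
  classical
  have hmax := hF.1
  have hPe : IsBrauerPair p M P e := hmax.1.1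
  have hQp : IsPGroup p Q := hPe.1.to_le hQP
  have hMp : M.IsPrime := isPrime_of_isPModular hM
  obtain ⟨hQT, hCT, hTN, hstabT⟩ := stab_basic Q f T hT
  have hNT : P ⊓ Subgroup.normalizer (Q : Set G) ≤ T :=
    normalizerIn_le_stab hM P Q e f hPe hQP hle T hT
  have hQN : Q ≤ P ⊓ Subgroup.normalizer (Q : Set G) := le_inf hQP Subgroup.le_normalizer
  refine ⟨hQP, ?_⟩
  intro R φ hφ hrange
  obtain ⟨hRP, g, hg, hRgP, fR, hleR, hleRg⟩ := (hF.2 R φ).mp hφ
  have hRg : R.map (MulAut.conj g).toMonoidHom = Q := by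
    rw [← hrange]
    exact (range_eq_map_conj R g φ hg).symm
  have hidx : conjIdx g ⟨R, fR⟩ = ⟨Q, f⟩ :=
    idx_eq_of_le_of_fst_eq hM P e hPe hleRg hle hRg
  have hEP : extender P R φ ≤ P := fun x hx => ((mem_extender_iff P R φ x).mp hx).1
  have hEN : extender P R φ ≤ Subgroup.normalizer (R : Set G) :=
    fun x hx => ((mem_extender_iff P R φ x).mp hx).2.1
  have hRE : R ≤ extender P R φ := by
    intro x hx
    rw [mem_extender_iff]
    refine ⟨hRP hx, Subgroup.le_normalizer hx, φ ⟨x, hx⟩, (F.le_of_mem hφ).2 _, ?_⟩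
    intro u hu
    have : (⟨x * (u : G) * x⁻¹, hu⟩ : R) = ⟨x, hx⟩ * u * ⟨x, hx⟩⁻¹ := Subtype.ext rfl
    rw [this, map_mul, map_mul, map_inv]
  obtain ⟨fE, hfE, hsubE, hleE⟩ := exists_isNormalSubpair_of_subpairLE hM P R (extender P R φ)
    e fR hPe hRE hEP hEN hleR
  have hsubEg : NormalSubpairRel p M (conjIdx g ⟨R, fR⟩) (conjIdx g ⟨extender P R φ, fE⟩) :=
    normalSubpairRel_conjIdx g hsubE
  rw [hidx] at hsubEg
  have hCK : Subgroup.centralizer (Q : Set G) ≤
      (P ⊓ Subgroup.normalizer (Q : Set G)) ⊔ Subgroup.centralizer (Q : Set G) := le_sup_right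
  have hNK : P ⊓ Subgroup.normalizer (Q : Set G) ≤
      (P ⊓ Subgroup.normalizer (Q : Set G)) ⊔ Subgroup.centralizer (Q : Set G) := le_sup_left
  have hKT : (P ⊓ Subgroup.normalizer (Q : Set G)) ⊔ Subgroup.centralizer (Q : Set G) ≤ T :=
    sup_le hNT hCT
  have hQK := hQN.trans hNK
  have hKN := hKT.trans hTN
  have hstabK : ∀ t ∈ (P ⊓ Subgroup.normalizer (Q : Set G)) ⊔ Subgroup.centralizer (Q : Set G),
      StabilizesBlock (Subgroup.centralizer (Q : Set G)) f t := fun t ht => hstabT t (hKT ht)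
  obtain ⟨FK, hFK, hFKf⟩ := exists_block_of_stabilizer _ _ hCK f hf hstabK (fun E' hE' t ht =>
    blockCoeff_eq_zero_of_not_mem_centralizer_sub hM Q _ hQp hQK hKN hE' t ht)
  have hDK := isDefectGroup_normalizerIn_of_good hM P Q e f hPe hQP hf hle T hT FT hFT hFTf hgood
    _ hCK hNK hKT FK hFK hFKf
  have hcardN : Nat.card (P ⊓ Subgroup.normalizer (Q : Set G) : Subgroup G) =
      p ^ blockDefect p FK := by
    rw [← card_defectGroup hM hFK _ hDK, card_subgroupOf_of_le hNK]
  obtain ⟨fN, hfN, hsubN, hleN⟩ := exists_isNormalSubpair_of_subpairLE hM P Q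
    (P ⊓ Subgroup.normalizer (Q : Set G)) e f hPe hQN inf_le_left inf_le_right hle
  have hEgK : (extender P R φ).map (MulAut.conj g).toMonoidHom ≤
      (P ⊓ Subgroup.normalizer (Q : Set G)) ⊔ Subgroup.centralizer (Q : Set G) := by
    rintro _ ⟨x, hx, rfl⟩
    obtain ⟨hxP, hxN, h, hhP, hh⟩ := (mem_extender_iff P R φ x).mp hx
    have hc : h⁻¹ * (g * x * g⁻¹) ∈ Subgroup.centralizer (Q : Set G) := by
      rw [Subgroup.mem_centralizer_iff]
      intro q hq
      rw [← hRg] at hq
      obtain ⟨u, hu, rfl⟩ := hq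
      have hxu : x * u * x⁻¹ ∈ R := (Subgroup.mem_normalizer_iff.mp hxN u).mp hu
      have h5 := hh ⟨u, hu⟩ hxu
      rw [hg, hg] at h5
      show g * u * g⁻¹ * (h⁻¹ * (g * x * g⁻¹)) = h⁻¹ * (g * x * g⁻¹) * (g * u * g⁻¹)
      have e1 : h⁻¹ * (g * x * g⁻¹) * (g * u * g⁻¹) =
          h⁻¹ * (g * (x * u * x⁻¹) * g⁻¹) * (g * x * g⁻¹) := by group
      rw [e1, h5]
      group
    have hgx : g * x * g⁻¹ ∈ Subgroup.normalizer (Q : Set G) := by
      have h6 := (mem_normalizer_map_conj_iff R g x).mpr hxN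
      rwa [hRg] at h6
    have hhN : h ∈ Subgroup.normalizer (Q : Set G) := by
      have h2 : h = (g * x * g⁻¹) * (h⁻¹ * (g * x * g⁻¹))⁻¹ := by group
      rw [h2]
      exact Subgroup.mul_mem _ hgx (Subgroup.inv_mem _ (Subgroup.centralizer_le_normalizer _ hc))
    have h3 : (MulAut.conj g).toMonoidHom x = h * (h⁻¹ * (g * x * g⁻¹)) := by
      show g * x * g⁻¹ = _
      group
    rw [h3]
    exact Subgroup.mul_mem _ (hNK ⟨hhP, hhN⟩) (hCK hc)
  have hfinK : Fintype ((P ⊓ Subgroup.normalizer (Q : Set G)) ⊔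
    Subgroup.centralizer (Q : Set G) : Subgroup G) := Fintype.ofFinite _
  obtain ⟨t, htK, hlet⟩ := exists_conj_subpairLE_over _ hM Q
    (P ⊓ Subgroup.normalizer (Q : Set G)) ((extender P R φ).map (MulAut.conj g).toMonoidHom)
    f fN (conjBlock (extender P R φ) g fE) hsubN hsubEg hNK hEgK hCK FK hFK hFKf hcardN
  have hNC : P ⊓ Subgroup.normalizer (Q : Set G) ≤ Subgroup.normalizer
      ((Subgroup.centralizer (Q : Set G) : Subgroup G) : Set G) :=
    inf_le_right.trans (Helper78.normalizer_le_normalizer_centralizer Q)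
  obtain ⟨n, hn, c, hc, rfl⟩ := exists_mul_of_mem_sup_of_le_normalizer hNC htK
  have h1 : Relation.ReflTransGen (NormalSubpairRel p M)
      (conjIdx (n * c) (conjIdx g ⟨extender P R φ, fE⟩))
      ⟨P ⊓ Subgroup.normalizer (Q : Set G), fN⟩ := hlet
  have h2 := reflTransGen_conjIdx n⁻¹ h1
  rw [conjIdx_mul, conjIdx_inv_conjIdx,
    conjIdx_eq_self_of_mem _ fN (Subgroup.inv_mem _ hn), ← conjIdx_mul] at h2
  have h3 : Relation.ReflTransGen (NormalSubpairRel p M)
      (conjIdx (c * g) ⟨extender P R φ, fE⟩) ⟨P, e⟩ := h2.trans hleN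
  refine ⟨Cfsg.conjHom (extender P R φ) (c * g), (hF.2 _ _).mpr
    ⟨hEP, c * g, fun u => rfl, le_of_reflTransGen h3, fE, hleE, h3⟩, ?_⟩
  intro x hxR hxE
  show (c * g) * x * (c * g)⁻¹ = φ ⟨x, hxR⟩
  rw [hg]
  have hq : g * x * g⁻¹ ∈ Q := by
    rw [← hRg]
    exact ⟨x, hxR, rfl⟩
  have hcomm := hc _ hq
  show c * g * x * (c * g)⁻¹ = g * x * g⁻¹
  calc c * g * x * (c * g)⁻¹ = c * (g * x * g⁻¹) * c⁻¹ := by
        rw [mul_inv_rev]; simp only [mul_assoc]
    _ = g * x * g⁻¹ * c * c⁻¹ := by rw [hcomm]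
    _ = g * x * g⁻¹ := mul_inv_cancel_right _ _

/-- **The fusion system of a block on a maximal Brauer pair is saturated.** -/
theorem isSaturated_of_isBlockFusionSystemOn [Fact p.Prime] (hM : IsPModular p M)
    (B : Set (IrrCharacter G)) (P : Subgroup G)
    (e : Set (IrrCharacter (Subgroup.centralizer (P : Set G)))) (F : FusionSystem P)
    (hF : IsBlockFusionSystemOn p M B P e F) : F.IsSaturated p := by
  classical
  have hmax := hF.1
  have hPe : IsBrauerPair p M P e := hmax.1.1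
  intro Q hQP
  obtain ⟨f, hf, hle⟩ := exists_subpairLE hM P e hPe _ Q hQP (le_refl _)
  have hQp : IsPGroup p Q := hPe.1.to_le hQP
  obtain ⟨FT, hFT, hFTf⟩ := exists_stabilizer_block hM Q hQp f hf (stabT Q f) (mem_stabT Q f)
  obtain ⟨x, hlex, hx⟩ := exists_conj_normalizer_defectGroup hM B P Q e f hmax hQP hf hle
    (stabT Q f) (mem_stabT Q f) FT hFT hFTf
  obtain ⟨h1, h2⟩ := stab_conj_mem Q x f (stabT Q f)
    (stabT (Q.map (MulAut.conj x).toMonoidHom) (conjBlock Q x f)) (mem_stabT Q f)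
    (mem_stabT _ _)
  have hgood := hx _ (mem_stabT _ _) h1 h2
  have hQ'P : Q.map (MulAut.conj x).toMonoidHom ≤ P := le_of_reflTransGen hlex
  have hf' : IsPBlock M (conjBlock Q x f) := isPBlock_conjBlock Q x hf
  have hFT' : IsPBlock M (Helper78.irrMap (Helper78.conjEquiv x h1 h2) '' FT) :=
    isPBlock_image_irrMap _ hFT
  have hFT'f := blockCoeff_image_conjEquiv_stab Q x f (stabT Q f) _ h1 h2 FT hFTf
  refine ⟨Q.map (MulAut.conj x).toMonoidHom, ?_, ?_, ?_⟩
  · exact (isConj_iff_of_isBlockFusionSystemOn hM B P e F hF Q f hQP hle _).mpr ⟨x, rfl, hlex⟩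
  · exact isFullyAutomized_of_good hM B P e F hF _ _ hQ'P hf' hlex _ (mem_stabT _ _) _ hFT'
      hFT'f hgood
  · exact isReceptive_of_good hM B P e F hF _ _ hQ'P hf' hlex _ (mem_stabT _ _) _ hFT'
      hFT'f hgood

end Saturated

end Cfsg.Agent.Helper77
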