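import Cfsg.Agent.Helper77.BlockOrth
import Cfsg.Agent.Helper78.BlockBasic
import Cfsg.Prelude.Def_BrauerPairs

/-!
# The Brauer map in the language of ordinary characters

(helper77, file 13.)  For a `p`-subgroup `P` of `G` with centralizer `C`, the truncation
`β ↦ β|_C` is multiplicative modulo the local ideal on `P`-invariant functions with values in the
local ring.  Consequently `β ↦ brauerOmega P β ξ` is an algebra homomorphism modulo the local ideal
for every irreducible character `ξ` of `C`.
-/

set_option autoImplicit false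
set_option linter.unusedSectionVars false

namespace Cfsg.Agent.Helper77

open Cfsg
open Cfsg.Agent.Helper16 (omega conv classInd deltaOne)

variable {G : Type*} [Group G] [Fintype G] {M : Ideal AlgInt} {p : ℕ}

/-- `β` is invariant under conjugation by the elements of `S`. -/
def InvUnder (S : Set G) (β : G → ℂ) : Prop := ∀ u ∈ S, ∀ x : G, β (u * x * u⁻¹) = β x

theorem invUnder_of_isClassFunction {β : G → ℂ} (h : IsClassFunction G β) (S : Set G) :
    InvUnder S β := fun u _ x => h x u

theorem InvUnder.mono {S T : Set G} {β : G → ℂ} (h : InvUnder T β) (hST : S ⊆ T) :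
    InvUnder S β := fun u hu x => h u (hST hu) x

theorem invUnder_conv {S : Set G} {β γ : G → ℂ} (hβ : InvUnder S β) (hγ : InvUnder S γ) :
    InvUnder S (conv β γ) := by
  intro u hu g
  unfold conv
  rw [← Equiv.sum_comp (MulAut.conj u).toEquiv]
  refine Finset.sum_congr rfl (fun x _ => ?_)
  have h1 : β ((MulAut.conj u).toEquiv x) = β x := hβ u hu x
  have h2 : γ (((MulAut.conj u).toEquiv x)⁻¹ * (u * g * u⁻¹)) = γ (x⁻¹ * g) := by
    show γ ((u * x * u⁻¹)⁻¹ * (u * g * u⁻¹)) = γ (x⁻¹ * g)
    have : (u * x * u⁻¹)⁻¹ * (u * g * u⁻¹) = u * (x⁻¹ * g) * u⁻¹ := by group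
    rw [this]
    exact hγ u hu _
  rw [h1, h2]

theorem invUnder_sub {S : Set G} {β γ : G → ℂ} (hβ : InvUnder S β) (hγ : InvUnder S γ) :
    InvUnder S (β - γ) := by
  intro u hu x
  rw [Pi.sub_apply, Pi.sub_apply, hβ u hu, hγ u hu]

theorem invUnder_smul {S : Set G} (c : ℂ) {β : G → ℂ} (hβ : InvUnder S β) :
    InvUnder S (c • β) := by
  intro u hu x
  rw [Pi.smul_apply, Pi.smul_apply, hβ u hu]

/-- Restriction of a function on `G` to a subgroup. -/
def resFun (H : Subgroup G) (β : G → ℂ) : H → ℂ := fun h => β (h : G)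

theorem resFun_apply (H : Subgroup G) (β : G → ℂ) (h : H) : resFun H β h = β (h : G) := rfl

theorem isClassFunction_resFun {H : Subgroup G} {β : G → ℂ} (hβ : InvUnder (H : Set G) β) :
    IsClassFunction H (resFun H β) := by
  intro g h
  show β ((h * g * h⁻¹ : H) : G) = β (g : G)
  rw [Subgroup.coe_mul, Subgroup.coe_mul, Subgroup.coe_inv]
  exact hβ (h : G) h.2 (g : G)

theorem resFun_conv_res (H : Subgroup G) [Fintype H] (β γ : G → ℂ) (c : H) :
    conv (resFun H β) (resFun H γ) c = ∑ x : H, β (x : G) * γ ((x : G)⁻¹ * (c : G)) := by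
  rw [Helper16.conv_apply]
  refine Finset.sum_congr rfl (fun x _ => ?_)
  rfl

theorem brauerOmega_eq_omega (P : Subgroup G) [Fintype (Subgroup.centralizer (P : Set G))]
    (β : G → ℂ) (ξ : Subgroup.centralizer (P : Set G) → ℂ) :
    brauerOmega P β ξ = omega ξ (resFun (Subgroup.centralizer (P : Set G)) β) := by
  unfold brauerOmega omega
  rw [finsum_eq_sum_of_fintype, Finset.sum_div]
  rfl

/-- **Multiplicativity of the Brauer map modulo the local ideal.** -/
theorem conv_sub_conv_res_memLocalIdeal [Fact p.Prime] (hM : IsPModular p M) (P : Subgroup G)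
    (hP : IsPGroup p P) (C : Subgroup G) (hC : C = Subgroup.centralizer (P : Set G)) [Fintype C]
    (β γ : G → ℂ)
    (hβR : ∀ x, MemLocalRing M (β x)) (hγR : ∀ x, MemLocalRing M (γ x))
    (hβP : InvUnder (P : Set G) β) (hγP : InvUnder (P : Set G) γ)
    (c : C) :
    MemLocalIdeal M (conv β γ (c : G) - conv (resFun C β) (resFun C γ) c) := by
  classical
  have hMp : M.IsPrime := isPrime_of_isPModular hM
  let _ : MulAction P G := Helper16.conjActionOn P
  have hsm : ∀ (u : P) (x : G), u • x = (u : G) * x * (u : G)⁻¹ := fun _ _ => rfl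
  -- the function vanishing on `C`
  let f : G → ℂ := fun x => if x ∈ C then 0 else β x * γ (x⁻¹ * (c : G))
  have hfix_iff : ∀ x : G, (∀ u : P, u • x = x) ↔ x ∈ C := by
    intro x
    rw [hC, Subgroup.mem_centralizer_iff]
    constructor
    · intro h u hu
      have h1 : u * x * u⁻¹ = x := h ⟨u, hu⟩
      calc u * x = u * x * u⁻¹ * u := by group
        _ = x * u := by rw [h1]
    · intro h u
      rw [hsm]
      have := h (u : G) u.2
      calc (u : G) * x * (u : G)⁻¹ = x * (u : G) * (u : G)⁻¹ := by rw [this]
        _ = x := by group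
  have hmemC : ∀ (u : P) (x : G), (u : G) * x * (u : G)⁻¹ ∈ C ↔ x ∈ C := by
    intro u x
    rw [← hfix_iff, ← hfix_iff]
    constructor
    · intro h v
      have := h (u * v * u⁻¹)
      simp only [hsm, Subgroup.coe_mul, Subgroup.coe_inv] at this ⊢
      have h2 : (v : G) * x * (v : G)⁻¹ =
          (u : G)⁻¹ * ((u : G) * (v : G) * (u : G)⁻¹ * ((u : G) * x * (u : G)⁻¹) *
            ((u : G) * (v : G) * (u : G)⁻¹)⁻¹) * (u : G) := by group
      rw [h2, this]
      group
    · intro h v
      have := h (u⁻¹ * v * u)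
      simp only [hsm, Subgroup.coe_mul, Subgroup.coe_inv] at this ⊢
      have h2 : (v : G) * ((u : G) * x * (u : G)⁻¹) * (v : G)⁻¹ =
          (u : G) * ((u : G)⁻¹ * (v : G) * (u : G) * x * ((u : G)⁻¹ * (v : G) * (u : G))⁻¹) *
            (u : G)⁻¹ := by group
      rw [h2, this]
  have hfsum : MemLocalIdeal M (∑ x : G, f x) := by
    refine Helper16.memLocalIdeal_sum_of_pgroup_action (M := M) hM.2.2 (Γ := P) hP f ?_ ?_ ?_
    · intro x
      simp only [f]
      split_ifs
      · exact Helper16.memLocalRing_zero
      · exact Helper16.memLocalRing_mul (hβR x) (hγR _)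
    · intro u x
      simp only [f, hsm]
      by_cases hx : x ∈ C
      · rw [if_pos hx, if_pos ((hmemC u x).mpr hx)]
      · rw [if_neg hx, if_neg (fun h => hx ((hmemC u x).mp h))]
        rw [hβP (u : G) u.2 x]
        congr 1
        have hcu : (u : G) * (c : G) = (c : G) * (u : G) :=
          Subgroup.mem_centralizer_iff.mp (hC ▸ c.2) (u : G) u.2
        have : ((u : G) * x * (u : G)⁻¹)⁻¹ * (c : G) = (u : G) * (x⁻¹ * (c : G)) * (u : G)⁻¹ := by
          have hc' : (c : G) = (u : G) * (c : G) * (u : G)⁻¹ := by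
            rw [hcu]; group
          conv_lhs => rw [hc']
          group
        rw [this]
        exact hγP (u : G) u.2 _
    · intro x hx
      simp only [f]
      rw [if_pos ((hfix_iff x).mp hx)]
      exact Helper16.memLocalIdeal_zero
  have hsplit : conv β γ (c : G) - conv (resFun C β) (resFun C γ) c = ∑ x : G, f x := by
    rw [resFun_conv_res, Helper16.conv_apply]
    simp only [f]
    rw [Finset.sum_ite, Finset.sum_const_zero, zero_add]
    rw [← Finset.sum_subtype (Finset.univ.filter (fun x => x ∈ C)) (p := fun x => x ∈ C)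
      (by intro x; simp) (fun x => β x * γ (x⁻¹ * (c : G)))]
    rw [sub_eq_iff_eq_add, add_comm, Finset.sum_filter_add_sum_filter_not]
  rw [hsplit]
  exact hfsum

variable {H : Type*} [Group H] [Fintype H]

/-- `omega` of a class function with values in the local ideal lies in the local ideal. -/
theorem omega_memLocalIdeal [M.IsPrime] (ξ : IrrCharacter H) {s : H → ℂ}
    (hs : IsClassFunction H s) (hsI : ∀ h, MemLocalIdeal M (s h)) :
    MemLocalIdeal M (omega (ξ : H → ℂ) s) := by
  classical
  rw [Helper16.omega_eq_sum_classes _ _ (Helper16.irr_isClassFunction ξ) hs]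
  exact Helper16.memLocalIdeal_sum _ _ (fun C _ => Helper16.memLocalIdeal_mul_right (hsI _)
    (Helper16.memLocalRing_of_isIntegral (Helper16.irr_isIntegral_centralChar ξ _)))


section BrauerOmega

variable {G : Type*} [Group G] [Fintype G] {M : Ideal AlgInt} {p : ℕ}

theorem brauerOmega_eq_omega' (P : Subgroup G) [Fintype (Subgroup.centralizer (P : Set G))]
    (β : G → ℂ) (ξ : Subgroup.centralizer (P : Set G) → ℂ) :
    brauerOmega P β ξ = omega ξ (resFun (Subgroup.centralizer (P : Set G)) β) :=
  brauerOmega_eq_omega P β ξ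

/-- `β ↦ brauerOmega P β ξ` is multiplicative modulo the local ideal on functions with values in
the local ring that are invariant under conjugation by `P` and by `C_G(P)`. -/
theorem brauerOmega_conv_sub_memLocalIdeal [Fact p.Prime] (hM : IsPModular p M) (P : Subgroup G)
    (hP : IsPGroup p P) (β γ : G → ℂ)
    (hβR : ∀ x, MemLocalRing M (β x)) (hγR : ∀ x, MemLocalRing M (γ x))
    (hβP : InvUnder (P : Set G) β) (hγP : InvUnder (P : Set G) γ)
    (hβC : InvUnder (Subgroup.centralizer (P : Set G) : Set G) β)
    (hγC : InvUnder (Subgroup.centralizer (P : Set G) : Set G) γ)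
    (ξ : IrrCharacter (Subgroup.centralizer (P : Set G))) :
    MemLocalIdeal M (brauerOmega P (conv β γ) (ξ : Subgroup.centralizer (P : Set G) → ℂ) -
      brauerOmega P β (ξ : Subgroup.centralizer (P : Set G) → ℂ) *
        brauerOmega P γ (ξ : Subgroup.centralizer (P : Set G) → ℂ)) := by
  classical
  have hMp : M.IsPrime := isPrime_of_isPModular hM
  have hfin : Fintype (Subgroup.centralizer (P : Set G)) := Fintype.ofFinite _
  rw [brauerOmega_eq_omega, brauerOmega_eq_omega, brauerOmega_eq_omega]
  have hβcl := isClassFunction_resFun hβC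
  have hγcl := isClassFunction_resFun hγC
  have hconvcl := isClassFunction_resFun (invUnder_conv hβC hγC)
  rw [← Helper16.irr_omega_conv ξ hβcl hγcl, ← Helper16.omega_sub]
  refine omega_memLocalIdeal ξ (Helper16.isClassFunction_sub hconvcl
    (Helper16.isClassFunction_conv hβcl hγcl)) (fun c => ?_)
  exact conv_sub_conv_res_memLocalIdeal hM P hP _ rfl β γ hβR hγR hβP hγP c

theorem brauerOmega_sub (P : Subgroup G) (β γ : G → ℂ)
    (ξ : Subgroup.centralizer (P : Set G) → ℂ) :
    brauerOmega P (β - γ) ξ = brauerOmega P β ξ - brauerOmega P γ ξ := by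
  classical
  have hfin : Fintype (Subgroup.centralizer (P : Set G)) := Fintype.ofFinite _
  rw [brauerOmega_eq_omega, brauerOmega_eq_omega, brauerOmega_eq_omega, ← Helper16.omega_sub]
  rfl

theorem brauerOmega_finset_sum {ι : Type*} (I : Finset ι) (P : Subgroup G) (β : ι → G → ℂ)
    (ξ : Subgroup.centralizer (P : Set G) → ℂ) :
    brauerOmega P (∑ i ∈ I, β i) ξ = ∑ i ∈ I, brauerOmega P (β i) ξ := by
  classical
  have hfin : Fintype (Subgroup.centralizer (P : Set G)) := Fintype.ofFinite _
  simp only [brauerOmega_eq_omega]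
  rw [← Helper16.omega_sum]
  congr 1
  funext c
  simp only [resFun_apply, Finset.sum_apply]

theorem brauerOmega_deltaOne (P : Subgroup G) (ξ : IrrCharacter (Subgroup.centralizer (P : Set G))) :
    brauerOmega P (deltaOne : G → ℂ) (ξ : Subgroup.centralizer (P : Set G) → ℂ) = 1 := by
  classical
  have hfin : Fintype (Subgroup.centralizer (P : Set G)) := Fintype.ofFinite _
  rw [brauerOmega_eq_omega]
  have h1 : resFun (Subgroup.centralizer (P : Set G)) (deltaOne : G → ℂ) =
      (deltaOne : Subgroup.centralizer (P : Set G) → ℂ) := by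
    funext c
    unfold resFun deltaOne
    by_cases h : c = 1
    · simp [h]
    · have : (c : G) ≠ 1 := fun h' => h (Subtype.ext h')
      simp [h, this]
  rw [h1, Helper16.omega_deltaOne _ (Helper16.irr_one_ne_zero ξ)]

/-- If `β` has values in the local ideal (and is invariant under `C_G(P)`), so has its Brauer
value. -/
theorem brauerOmega_memLocalIdeal [M.IsPrime] (P : Subgroup G) (β : G → ℂ)
    (hβI : ∀ x, MemLocalIdeal M (β x))
    (hβC : InvUnder (Subgroup.centralizer (P : Set G) : Set G) β)
    (ξ : IrrCharacter (Subgroup.centralizer (P : Set G))) :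
    MemLocalIdeal M (brauerOmega P β (ξ : Subgroup.centralizer (P : Set G) → ℂ)) := by
  classical
  have hfin : Fintype (Subgroup.centralizer (P : Set G)) := Fintype.ofFinite _
  rw [brauerOmega_eq_omega]
  exact omega_memLocalIdeal ξ (isClassFunction_resFun hβC) (fun c => hβI _)

/-- If `β` has values in the local ring (and is invariant under `C_G(P)`), so has its Brauer
value. -/
theorem brauerOmega_memLocalRing [M.IsPrime] (P : Subgroup G) (β : G → ℂ)
    (hβR : ∀ x, MemLocalRing M (β x))
    (hβC : InvUnder (Subgroup.centralizer (P : Set G) : Set G) β)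
    (ξ : IrrCharacter (Subgroup.centralizer (P : Set G))) :
    MemLocalRing M (brauerOmega P β (ξ : Subgroup.centralizer (P : Set G) → ℂ)) := by
  classical
  have hfin : Fintype (Subgroup.centralizer (P : Set G)) := Fintype.ofFinite _
  rw [brauerOmega_eq_omega]
  exact Helper16.omega_memLocalRing ξ (isClassFunction_resFun hβC) (fun c => hβR _)

/-- Characters in the same block of `C_G(P)` have congruent Brauer values. -/
theorem brauerOmega_sub_memLocalIdeal_of_sameBlock [M.IsPrime] (P : Subgroup G) (β : G → ℂ)
    (hβR : ∀ x, MemLocalRing M (β x))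
    (hβC : InvUnder (Subgroup.centralizer (P : Set G) : Set G) β)
    {ξ ξ' : IrrCharacter (Subgroup.centralizer (P : Set G))}
    (h : SameBlock M (ξ : Subgroup.centralizer (P : Set G) → ℂ)
      (ξ' : Subgroup.centralizer (P : Set G) → ℂ)) :
    MemLocalIdeal M (brauerOmega P β (ξ : Subgroup.centralizer (P : Set G) → ℂ) -
      brauerOmega P β (ξ' : Subgroup.centralizer (P : Set G) → ℂ)) := by
  classical
  have hfin : Fintype (Subgroup.centralizer (P : Set G)) := Fintype.ofFinite _
  rw [brauerOmega_eq_omega, brauerOmega_eq_omega]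
  exact Helper16.omega_sub_memLocalIdeal h (isClassFunction_resFun hβC) (fun c => hβR _)

end BrauerOmega

end Cfsg.Agent.Helper77
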