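import Cfsg.Agent.Helper77.LocalNilpotent

/-!
# Centric Brauer pairs stabilized by the whole group

(helper77, file 38.)
-/

set_option autoImplicit false
set_option linter.unusedSectionVars false

namespace Cfsg.Agent.Helper77

open Cfsg Cfsg.FusionSystem Cfsg.Agent.Helper87
open Cfsg.Agent.Helper16 (omega conv classInd deltaOne)

variable {G : Type*} [Group G] [Fintype G] {M : Ideal AlgInt} {p : ℕ}

/-- Every Brauer pair is normal in itself. -/
theorem isNormalSubpair_self [hMp : M.IsPrime] (Q : Subgroup G)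
    (f : Set (IrrCharacter (Subgroup.centralizer (Q : Set G)))) (hQf : IsBrauerPair p M Q f) :
    IsNormalSubpair p M Q f Q f := by
  classical
  have hfin : Fintype (Subgroup.centralizer (Q : Set G)) := Fintype.ofFinite _
  refine ⟨hQf, hQf, le_rfl, Subgroup.le_normalizer,
    fun x hx => stabilizesBlock_of_mem_base Q f x hx, ?_⟩
  intro ξ hξ
  rw [subgroupBlockCoeff_eq_extFun, brauerOmega_eq_omega, resFun_extFun,
    Helper16.omega_blockCoeff, if_pos hξ, sub_self]
  exact memLocalIdeal_zero M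

/-- **If the whole group stabilizes the Brauer pair `(Q, f)` of `B`, the idempotent of `B` is that
of `f`.** -/
theorem blockCoeff_eq_extFun_of_stable [Fact p.Prime] (hM : IsPModular p M)
    (B : Set (IrrCharacter G)) (Q : Subgroup G)
    (f : Set (IrrCharacter (Subgroup.centralizer (Q : Set G))))
    (hQfB : IsBrauerPairOf p M B Q f)
    (hG : ∀ x : G, x ∈ Subgroup.normalizer (Q : Set G) ∧
      StabilizesBlock (Subgroup.centralizer (Q : Set G)) f x) (g : G) :
    blockCoeff B g = extFun (Subgroup.centralizer (Q : Set G)) (blockCoeff f) g := by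
  classical
  have hMp : M.IsPrime := isPrime_of_isPModular hM
  have hfin : Fintype (Subgroup.centralizer (Q : Set G)) := Fintype.ofFinite _
  obtain ⟨F, hF, hFf⟩ := exists_stabilizer_block hM Q hQfB.1.1 f hQfB.1.2 ⊤
    (fun y => ⟨fun _ => hG y, fun _ => Subgroup.mem_top y⟩)
  have hB₁ : IsPBlock M (Helper78.irrMap (Subgroup.topEquiv : ↥(⊤ : Subgroup G) ≃* G) '' F) :=
    isPBlock_image_irrMap _ hF
  have hcoeff : blockCoeff (Helper78.irrMap (Subgroup.topEquiv : ↥(⊤ : Subgroup G) ≃* G) '' F) =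
      extFun (Subgroup.centralizer (Q : Set G)) (blockCoeff f) := by
    funext y
    rw [blockCoeff_image_irrMap', hFf]
    rfl
  have hpair : IsBrauerPairOf p M
      (Helper78.irrMap (Subgroup.topEquiv : ↥(⊤ : Subgroup G) ≃* G) '' F) Q f := by
    refine ⟨hQfB.1, hB₁, ?_⟩
    intro ξ hξ
    rw [hcoeff, brauerOmega_eq_omega, resFun_extFun, Helper16.omega_blockCoeff, if_pos hξ,
      sub_self]
    exact memLocalIdeal_zero M
  have heq := (existsUnique_isBrauerPairOf hM Q f hQfB.1).unique hpair hQfB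
  rw [← heq, hcoeff]

/-- **The block of `Q C_G(Q)` over the block `f` of a centric Brauer pair `(Q, f)` is
nilpotent.** -/
theorem isNilpotentBlock_sup_centralizer_of_isCentric [Fact p.Prime] (hM : IsPModular p M)
    (B : Set (IrrCharacter G)) (P : Subgroup G)
    (e : Set (IrrCharacter (Subgroup.centralizer (P : Set G)))) (F : FusionSystem P)
    (hF : IsBlockFusionSystemOn p M B P e F) (Q : Subgroup G)
    (f : Set (IrrCharacter (Subgroup.centralizer (Q : Set G)))) (hQP : Q ≤ P)
    (hf : IsPBlock M f) (hle : SubpairLE p M Q f P e) (hcen : F.IsCentric Q)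
    (F' : Set (IrrCharacter ↥(Q ⊔ Subgroup.centralizer (Q : Set G)))) (hF' : IsPBlock M F')
    (hF'f : ∀ t : ↥(Q ⊔ Subgroup.centralizer (Q : Set G)), blockCoeff F' t =
      extFun (Subgroup.centralizer (Q : Set G)) (blockCoeff f) (t : G)) :
    IsNilpotentBlock p M F' := by
  classical
  have hMp : M.IsPrime := isPrime_of_isPModular hM
  have hmax := hF.1
  have hPe : IsBrauerPair p M P e := hmax.1.1
  have hQp : IsPGroup p Q := hPe.1.to_le hQP
  have hQf : IsBrauerPair p M Q f := ⟨hQp, hf⟩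
  have hQfB : IsBrauerPairOf p M B Q f :=
    (isBrauerPairOf_iff_of_subpairLE hM P Q e f hPe hQf hle B).mp hmax.1
  have hQL : Q ≤ Q ⊔ Subgroup.centralizer (Q : Set G) := le_sup_left
  have hCL : Subgroup.centralizer (Q : Set G) ≤ Q ⊔ Subgroup.centralizer (Q : Set G) :=
    le_sup_right
  have hLN : Q ⊔ Subgroup.centralizer (Q : Set G) ≤ Subgroup.normalizer (Q : Set G) :=
    sup_le Subgroup.le_normalizer (Subgroup.centralizer_le_normalizer _)
  have hQNC : Q ≤ Subgroup.normalizer
      ((Subgroup.centralizer (Q : Set G) : Subgroup G) : Set G) :=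
    Subgroup.le_normalizer.trans (Helper78.normalizer_le_normalizer_centralizer Q)
  have hstabL : ∀ t ∈ Q ⊔ Subgroup.centralizer (Q : Set G),
      StabilizesBlock (Subgroup.centralizer (Q : Set G)) f t :=
    fun t ht => stabilizesBlock_of_mem_sup Q f t ht
  have hfinL : Fintype ↥(Q ⊔ Subgroup.centralizer (Q : Set G)) := Fintype.ofFinite _
  -- the pair `(Q, f)` inside `L`
  have hsub := isNormalSubpair_self Q f hQf
  have hpair := isBrauerPairOf_down (Q ⊔ Subgroup.centralizer (Q : Set G)) Q Q f f hsub hQL hCL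
    F' hF' hF'f
  -- the order of the defect groups of `F'`
  obtain ⟨χ₀, hχ₀⟩ := Helper78.isPBlock_nonempty hMp hF'
  have hF'eq : F' = blockOf M (χ₀ : ↥(Q ⊔ Subgroup.centralizer (Q : Set G)) → ℂ) :=
    Helper78.isPBlock_eq_blockOf_of_mem hMp hF' hχ₀
  obtain ⟨D, hD⟩ : ∃ D : Subgroup ↥(Q ⊔ Subgroup.centralizer (Q : Set G)),
      IsDefectGroup p M F' D := by
    rw [hF'eq]
    exact Helper16.exists_defectGroup p χ₀
  obtain ⟨hQD, g, hsubD⟩ := exists_isNormalSubpair_of_defectGroup_sub hM Q hQp f hf _ hQL hLN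
    hstabL F' hF' hF'f D hD
  have hDgB : IsBrauerPairOf p M B _ g :=
    (isBrauerPairOf_iff_of_subpairLE hM _ Q g f hsubD.2.1 hQf
      (Relation.ReflTransGen.single hsubD) B).mpr hQfB
  obtain ⟨x, hx⟩ := exists_conj_subpairLE hM B P _ e g hmax hDgB
  have hsubx : NormalSubpairRel p M (conjIdx x ⟨Q, f⟩) (conjIdx x ⟨D.map (Subgroup.subtype _), g⟩) :=
    normalSubpairRel_conjIdx x hsubD
  have hlex : SubpairLE p M (Q.map (MulAut.conj x).toMonoidHom) (conjBlock Q x f) P e :=
    Relation.ReflTransGen.head hsubx hx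
  have hconj : F.IsConj Q (Q.map (MulAut.conj x).toMonoidHom) :=
    (isConj_iff_of_isBlockFusionSystemOn hM B P e F hF Q f hQP hle _).mpr ⟨x, rfl, hlex⟩
  have hcx := hcen.2 _ hconj
  have hDxP : (D.map (Subgroup.subtype _)).map (MulAut.conj x).toMonoidHom ≤ P :=
    le_of_reflTransGen hx
  have hQxP : Q.map (MulAut.conj x).toMonoidHom ≤ P := le_of_reflTransGen hlex
  have hDxQx : (D.map (Subgroup.subtype _)).map (MulAut.conj x).toMonoidHom ≤
      Q.map (MulAut.conj x).toMonoidHom := by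
    rintro _ ⟨d, hd, rfl⟩
    have hdL : d ∈ Q ⊔ Subgroup.centralizer (Q : Set G) := Subgroup.map_subtype_le D hd
    obtain ⟨q, hq, c, hc, rfl⟩ := exists_mul_of_mem_sup_of_le_normalizer hQNC hdL
    have h1 : x * q * x⁻¹ ∈ Q.map (MulAut.conj x).toMonoidHom := ⟨q, hq, rfl⟩
    have h2 : x * c * x⁻¹ ∈ Subgroup.centralizer
        ((Q.map (MulAut.conj x).toMonoidHom : Subgroup G) : Set G) := by
      rw [mem_centralizer_map_conj_iff]
      have e1 : x⁻¹ * (x * c * x⁻¹) * x = c := by group
      rw [e1]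
      exact hc
    have h3 : x * c * x⁻¹ ∈ P := by
      have e2 : x * c * x⁻¹ = (x * q * x⁻¹)⁻¹ * (x * (q * c) * x⁻¹) := by group
      rw [e2]
      exact P.mul_mem (P.inv_mem (hQxP h1)) (hDxP ⟨q * c, hd, rfl⟩)
    have h4 : x * c * x⁻¹ ∈ Q.map (MulAut.conj x).toMonoidHom := hcx ⟨h3, h2⟩
    have e3 : (MulAut.conj x).toMonoidHom (q * c) = (x * q * x⁻¹) * (x * c * x⁻¹) := by
      show x * (q * c) * x⁻¹ = _
      group
    rw [e3]
    exact Subgroup.mul_mem _ h1 h4
  have hcardDQ : Nat.card D = Nat.card Q := by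
    apply le_antisymm
    · have h5 := Subgroup.card_le_of_le hDxQx
      rwa [Subgroup.card_map_of_injective (MulAut.conj x).injective,
        Subgroup.card_map_of_injective (Subgroup.subtype_injective _),
        Subgroup.card_map_of_injective (MulAut.conj x).injective] at h5
    · have h6 := Subgroup.card_le_of_le hQD
      rwa [Subgroup.card_map_of_injective (Subgroup.subtype_injective _)] at h6
  have hcard : Nat.card (Q.subgroupOf (Q ⊔ Subgroup.centralizer (Q : Set G))) =
      p ^ blockDefect p F' := by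
    rw [card_subgroupOf_of_le hQL, ← hcardDQ]
    exact card_defectGroup hM hF' D hD
  have hmaxL := isMaximalBrauerPair_of_card hM F' _ _ hpair hcard
  have hFL := isBlockFusionSystemOn_blockFusionSystem hM F' _ _ hmaxL
  apply isNilpotentBlock_of_inner hM F' _ _ _ hFL
  intro R
  apply Set.Subset.antisymm
  · intro φ hφ
    obtain ⟨hRP, k, hk, _⟩ := (hFL.2 R φ).mp hφ
    obtain ⟨q, hq, c, hc, hkqc⟩ := exists_mul_of_mem_sup_of_le_normalizer hQNC k.2
    refine ⟨hRP, ⟨q, hQL hq⟩, Subgroup.mem_subgroupOf.mpr hq, fun u => ?_⟩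
    rw [hk]
    apply Subtype.ext
    show (k : G) * ((u : ↥(Q ⊔ Subgroup.centralizer (Q : Set G))) : G) * (k : G)⁻¹ =
      q * ((u : ↥(Q ⊔ Subgroup.centralizer (Q : Set G))) : G) * q⁻¹
    have huQ : ((u : ↥(Q ⊔ Subgroup.centralizer (Q : Set G))) : G) ∈ Q :=
      Subgroup.mem_subgroupOf.mp (hRP u.2)
    have hcomm := hc _ huQ
    rw [hkqc]
    calc q * c * ((u : ↥(Q ⊔ Subgroup.centralizer (Q : Set G))) : G) * (q * c)⁻¹ =
        q * (c * ((u : ↥(Q ⊔ Subgroup.centralizer (Q : Set G))) : G) * c⁻¹) * q⁻¹ := by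
          rw [mul_inv_rev]; simp only [mul_assoc]
      _ = q * ((u : ↥(Q ⊔ Subgroup.centralizer (Q : Set G))) : G) * q⁻¹ := by
          rw [← hcomm, mul_inv_cancel_right]
  · exact inner_hom_subset _ R

end Cfsg.Agent.Helper77
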