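import Cfsg.Agent.Helper18.LongWord

/-!
Helper77: reflections act linearly on coroot coordinates (table check for the seven tabulated types), and the
consequence for words: if `w` sends the fundamental roots `p_i`, `i ∈ K`, to negative roots then it sends every positive
root of `Φ_K` to a negative root.
-/

set_option autoImplicit false

namespace Cfsg.Agent.Helper77.ChevLin

open Cfsg Cfsg.Lie Cfsg.Agent.Helper18

/-- coefficient of the coroot of `r` at the `j`-th fundamental coroot -/
def cv (D : ChevalleyDatum) (r j : ℕ) : ℤ := (D.coroot.getD r #[]).getD j 0

/-- the certificate: coroot rows have length `rank`, and the reflections are linear on coroot coordinates -/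
def linOK (D : ChevalleyDatum) (tabs : List ℕ) : Bool :=
  (List.range D.nroots).all fun r => decide ((D.coroot.getD r #[]).size = D.rank) &&
    (List.range D.rank).all fun i => (List.range D.rank).all fun j =>
      decide (cv D (getB 256 (tabs.getD i 0) r) j =
        ((List.range D.rank).map fun k => cv D r k * cv D (getB 256 (tabs.getD i 0) (D.simple k)) j).sum)

set_option maxRecDepth 100000 in
theorem linOK_G2 : linOK chevG2 reflTabsG2 = true := by decide +kernel
set_option maxRecDepth 100000 in
theorem linOK_B2 : linOK chevB2 reflTabsB2 = true := by decide +kernel
set_option maxRecDepth 100000 in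
theorem linOK_D4 : linOK chevD4 reflTabsD4 = true := by decide +kernel
set_option maxRecDepth 100000 in
theorem linOK_F4 : linOK chevF4 reflTabsF4 = true := by decide +kernel
set_option maxRecDepth 100000 in
theorem linOK_E6 : linOK chevE6 reflTabsE6 = true := by decide +kernel
set_option maxRecDepth 100000 in
theorem linOK_E7 : linOK chevE7 reflTabsE7 = true := by decide +kernel
set_option maxRecDepth 100000 in
theorem linOK_E8 : linOK chevE8 reflTabsE8 = true := by decide +kernel

end Cfsg.Agent.Helper77.ChevLin
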