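import Cfsg.Agent.Helper77.NormalP
import Mathlib.Algebra.MonoidAlgebra.Basic
import Mathlib.Algebra.CharP.Basic

/-!
# Nilpotency of class sums in the group algebra over a field of characteristic `p`

(helper77, file 10.)  If `P` is a normal `p`-subgroup of the finite group `G` and `k₀ ∉ C_G(P)`,
the class sum of `k₀` is nilpotent in `F[G]` for every field (indeed every ring) `F` of
characteristic `p`.
-/

set_option autoImplicit false
set_option linter.unusedSectionVars false

namespace Cfsg.Agent.Helper77

open Cfsg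

variable {G : Type*} [Group G] [Fintype G]

/-- Some power of the class sum of `k₀` has all coefficients divisible by `p`. -/
theorem exists_forall_dvd_classPowCoeff (p : ℕ) [Fact p.Prime] (P : Subgroup G) [P.Normal]
    (hP : IsPGroup p P) (k₀ : G) (hk₀ : k₀ ∉ Subgroup.centralizer (P : Set G)) :
    ∃ n : ℕ, ∀ g : G, (p : ℤ) ∣ classPowCoeff k₀ n g := by
  classical
  obtain ⟨n, hn⟩ := classOp_nilpotent p P hP k₀ hk₀
  refine ⟨n, fun g => ?_⟩
  have h1 := classOp_pow_apply p k₀ n g
  rw [hn] at h1
  rw [← ZMod.intCast_zmod_eq_zero_iff_dvd]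
  rw [← h1]
  rfl

open Classical in
/-- The coefficients of the powers of the class sum in any group algebra. -/
theorem coeff_classSum_pow {F : Type*} [Ring F] (k₀ : G) (n : ℕ) (g : G) :
    ((∑ k ∈ Finset.univ.filter (fun k => IsConj k₀ k),
      MonoidAlgebra.single k (1 : F) : MonoidAlgebra F G) ^ n).coeff g =
      ((classPowCoeff k₀ n g : ℤ) : F) := by
  induction n generalizing g with
  | zero =>
    rw [pow_zero, MonoidAlgebra.one_def, MonoidAlgebra.coeff_single, Finsupp.single_apply]
    simp only [classPowCoeff]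
    by_cases h : g = 1
    · rw [if_pos h, if_pos h.symm]; simp
    · rw [if_neg h, if_neg (Ne.symm h)]; simp
  | succ n ih =>
    rw [pow_succ', Finset.sum_mul, MonoidAlgebra.coeff_sum, Finsupp.finsetSum_apply]
    simp only [classPowCoeff, Int.cast_sum]
    refine Finset.sum_congr rfl (fun k _ => ?_)
    rw [MonoidAlgebra.coeff_single_mul_apply, one_mul, ih]

open Classical in
/-- The class sum of `k₀ ∉ C_G(P)` is nilpotent in `F[G]`, `F` of characteristic `p`. -/
theorem classSum_isNilpotent (p : ℕ) [Fact p.Prime] {F : Type*} [Ring F] [CharP F p]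
    (P : Subgroup G) [P.Normal] (hP : IsPGroup p P) (k₀ : G)
    (hk₀ : k₀ ∉ Subgroup.centralizer (P : Set G)) :
    IsNilpotent (∑ k ∈ Finset.univ.filter (fun k => IsConj k₀ k),
      MonoidAlgebra.single k (1 : F) : MonoidAlgebra F G) := by
  obtain ⟨n, hn⟩ := exists_forall_dvd_classPowCoeff p P hP k₀ hk₀
  refine ⟨n, ?_⟩
  rw [← MonoidAlgebra.coeff_inj]
  ext g
  rw [coeff_classSum_pow, MonoidAlgebra.coeff_zero, Finsupp.zero_apply]
  exact (CharP.intCast_eq_zero_iff F p _).mpr (hn g)

end Cfsg.Agent.Helper77
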