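import Cfsg.Agent.Helper77.MaxPair

/-!
# Conjugation of Brauer pairs

(helper77, file 23.)
-/

set_option autoImplicit false
set_option linter.unusedSectionVars false

namespace Cfsg.Agent.Helper77

open Cfsg
open Cfsg.Agent.Helper16 (omega conv classInd deltaOne)

variable {G : Type*} [Group G] [Fintype G] {M : Ideal AlgInt} {p : ℕ}

theorem mem_map_conj_iff {Q : Subgroup G} {x y : G} :
    y ∈ Q.map (MulAut.conj x).toMonoidHom ↔ x⁻¹ * y * x ∈ Q := by
  constructor
  · rintro ⟨q, hq, rfl⟩
    have : x⁻¹ * ((MulAut.conj x).toMonoidHom q) * x = q := by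
      show x⁻¹ * (x * q * x⁻¹) * x = q
      group
    rw [this]
    exact hq
  · intro h
    refine ⟨x⁻¹ * y * x, h, ?_⟩
    show x * (x⁻¹ * y * x) * x⁻¹ = y
    group

theorem conj_mem_centralizer_map (Q : Subgroup G) (x : G) :
    ∀ k ∈ Subgroup.centralizer (Q : Set G), x * k * x⁻¹ ∈
      Subgroup.centralizer ((Q.map (MulAut.conj x).toMonoidHom : Subgroup G) : Set G) := by
  rintro k hk _ ⟨q, hq, rfl⟩
  have := hk q hq
  show (MulAut.conj x) q * (x * k * x⁻¹) = x * k * x⁻¹ * (MulAut.conj x) q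
  rw [MulAut.conj_apply]
  calc x * q * x⁻¹ * (x * k * x⁻¹) = x * (q * k) * x⁻¹ := by group
    _ = x * (k * q) * x⁻¹ := by rw [this]
    _ = _ := by group

theorem conj_inv_mem_centralizer (Q : Subgroup G) (x : G) :
    ∀ k ∈ Subgroup.centralizer ((Q.map (MulAut.conj x).toMonoidHom : Subgroup G) : Set G),
      x⁻¹ * k * x ∈ Subgroup.centralizer (Q : Set G) := by
  intro k hk q hq
  have := hk (x * q * x⁻¹) ⟨q, hq, by simp [MulAut.conj_apply]⟩
  calc q * (x⁻¹ * k * x) = x⁻¹ * ((x * q * x⁻¹) * k) * x := by group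
    _ = x⁻¹ * (k * (x * q * x⁻¹)) * x := by rw [this]
    _ = _ := by group

/-- Conjugation by `x` as an isomorphism `C_G(Q) ≃ C_G(xQx⁻¹)`. -/
def centConj (Q : Subgroup G) (x : G) : Subgroup.centralizer (Q : Set G) ≃*
    Subgroup.centralizer ((Q.map (MulAut.conj x).toMonoidHom : Subgroup G) : Set G) :=
  Helper78.conjEquiv x (conj_mem_centralizer_map Q x) (conj_inv_mem_centralizer Q x)

theorem coe_centConj_apply (Q : Subgroup G) (x : G) (c : Subgroup.centralizer (Q : Set G)) :
    ((centConj Q x c : _) : G) = x * (c : G) * x⁻¹ := rfl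

theorem coe_centConj_symm_apply (Q : Subgroup G) (x : G)
    (c : Subgroup.centralizer ((Q.map (MulAut.conj x).toMonoidHom : Subgroup G) : Set G)) :
    (((centConj Q x).symm c : _) : G) = x⁻¹ * (c : G) * x := rfl

theorem conjBlock_eq_image (Q : Subgroup G) (x : G)
    (f : Set (IrrCharacter (Subgroup.centralizer (Q : Set G)))) :
    conjBlock Q x f = Helper78.irrMap (centConj Q x) '' f := by
  ext ξ'
  constructor
  · rintro ⟨ξ, hξ, hrel⟩
    refine ⟨ξ, hξ, ?_⟩
    apply Subtype.ext
    funext c'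
    rw [Helper78.irrMap_apply]
    symm
    apply hrel
    rw [coe_centConj_symm_apply]
    group
  · rintro ⟨ξ, hξ, rfl⟩
    refine ⟨ξ, hξ, ?_⟩
    intro c c' hcc'
    have : c' = centConj Q x c := Subtype.ext hcc'
    rw [this, Helper78.irrMap_apply_apply]

/-- The conjugate of a function on `G`. -/
def conjFun (x : G) (φ : G → ℂ) : G → ℂ := fun g => φ (x⁻¹ * g * x)

theorem conjFun_apply (x : G) (φ : G → ℂ) (g : G) : conjFun x φ g = φ (x⁻¹ * g * x) := rfl

theorem conjFun_mul (x y : G) (φ : G → ℂ) : conjFun (x * y) φ = conjFun x (conjFun y φ) := by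
  funext g
  simp only [conjFun_apply]
  congr 1
  group

theorem conjFun_of_isClassFunction (x : G) {φ : G → ℂ} (hφ : IsClassFunction G φ) :
    conjFun x φ = φ := by
  funext g
  rw [conjFun_apply]
  have := hφ g x⁻¹
  rwa [inv_inv] at this

theorem mem_centralizer_map_conj_iff (Q : Subgroup G) (x g : G) :
    g ∈ Subgroup.centralizer ((Q.map (MulAut.conj x).toMonoidHom : Subgroup G) : Set G) ↔
      x⁻¹ * g * x ∈ Subgroup.centralizer (Q : Set G) := by
  constructor
  · exact conj_inv_mem_centralizer Q x g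
  · intro h
    have := conj_mem_centralizer_map Q x _ h
    have e : x * (x⁻¹ * g * x) * x⁻¹ = g := by group
    rwa [e] at this

/-- Extension by zero commutes with conjugation. -/
theorem extFun_comp_centConj_symm (Q : Subgroup G) (x : G)
    (s : Subgroup.centralizer (Q : Set G) → ℂ) :
    extFun (Subgroup.centralizer ((Q.map (MulAut.conj x).toMonoidHom : Subgroup G) : Set G))
      (fun c' => s ((centConj Q x).symm c')) =
    conjFun x (extFun (Subgroup.centralizer (Q : Set G)) s) := by
  funext g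
  rw [conjFun_apply]
  by_cases hg : g ∈ Subgroup.centralizer
      ((Q.map (MulAut.conj x).toMonoidHom : Subgroup G) : Set G)
  · have hg' := (mem_centralizer_map_conj_iff Q x g).mp hg
    rw [extFun_of_mem _ _ hg, extFun_of_mem _ _ hg']
    congr 1
  · have hg' : x⁻¹ * g * x ∉ Subgroup.centralizer (Q : Set G) :=
      fun h => hg ((mem_centralizer_map_conj_iff Q x g).mpr h)
    rw [extFun_of_not_mem _ _ hg, extFun_of_not_mem _ _ hg']

theorem blockCoeff_image_irrMap' {H H' : Type*} [Group H] [Group H'] (σ : H ≃* H')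
    (S : Set (IrrCharacter H)) (h' : H') :
    blockCoeff (Helper78.irrMap σ '' S) h' = blockCoeff S (σ.symm h') :=
  Helper78.blockCoeff_of_bijOn σ
    ⟨Set.mapsTo_image _ _, (Helper78.irrMap_injective σ).injOn, Set.surjOn_image _ _⟩ h'

theorem extFun_blockCoeff_conjBlock (Q : Subgroup G) (x : G)
    (f : Set (IrrCharacter (Subgroup.centralizer (Q : Set G)))) :
    extFun (Subgroup.centralizer ((Q.map (MulAut.conj x).toMonoidHom : Subgroup G) : Set G))
      (blockCoeff (conjBlock Q x f)) =
    conjFun x (extFun (Subgroup.centralizer (Q : Set G)) (blockCoeff f)) := by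
  rw [← extFun_comp_centConj_symm, conjBlock_eq_image]
  congr 1
  funext c'
  exact blockCoeff_image_irrMap' (centConj Q x) f c'

theorem brauerOmega_map_conj (Q : Subgroup G) (x : G) (β : G → ℂ)
    (η : IrrCharacter (Subgroup.centralizer (Q : Set G))) :
    brauerOmega (Q.map (MulAut.conj x).toMonoidHom) (conjFun x β)
      (Helper78.irrMap (centConj Q x) η :
        Subgroup.centralizer ((Q.map (MulAut.conj x).toMonoidHom : Subgroup G) : Set G) → ℂ) =
    brauerOmega Q β (η : Subgroup.centralizer (Q : Set G) → ℂ) := by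
  classical
  have : Fintype (Subgroup.centralizer (Q : Set G)) := Fintype.ofFinite _
  have : Fintype (Subgroup.centralizer
    ((Q.map (MulAut.conj x).toMonoidHom : Subgroup G) : Set G)) := Fintype.ofFinite _
  rw [brauerOmega_eq_omega, brauerOmega_eq_omega, omega_irrMap]
  congr 1
  funext c
  show β (x⁻¹ * ((centConj Q x c : _) : G) * x) = β (c : G)
  rw [coe_centConj_apply]
  congr 1
  group

theorem isPBlock_conjBlock (Q : Subgroup G) (x : G)
    {f : Set (IrrCharacter (Subgroup.centralizer (Q : Set G)))} (hf : IsPBlock M f) :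
    IsPBlock M (conjBlock Q x f) := by
  rw [conjBlock_eq_image]
  exact isPBlock_image_irrMap _ hf

theorem isBrauerPair_conj (Q : Subgroup G) (x : G)
    {f : Set (IrrCharacter (Subgroup.centralizer (Q : Set G)))} (h : IsBrauerPair p M Q f) :
    IsBrauerPair p M (Q.map (MulAut.conj x).toMonoidHom) (conjBlock Q x f) :=
  ⟨h.1.map _, isPBlock_conjBlock Q x h.2⟩

/-- Conjugates of Brauer pairs of `B` are Brauer pairs of `B`. -/
theorem isBrauerPairOf_conj [M.IsPrime] (B : Set (IrrCharacter G)) (Q : Subgroup G) (x : G)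
    {f : Set (IrrCharacter (Subgroup.centralizer (Q : Set G)))}
    (h : IsBrauerPairOf p M B Q f) :
    IsBrauerPairOf p M B (Q.map (MulAut.conj x).toMonoidHom) (conjBlock Q x f) := by
  obtain ⟨hQf, hB, hbr⟩ := h
  refine ⟨isBrauerPair_conj Q x hQf, hB, ?_⟩
  intro ξ' hξ'
  rw [conjBlock_eq_image] at hξ'
  obtain ⟨ξ, hξ, rfl⟩ := hξ'
  have h1 := brauerOmega_map_conj Q x (blockCoeff B) ξ
  rw [conjFun_of_isClassFunction x (blockCoeff_isClassFunction hB)] at h1
  rw [h1]
  exact hbr ξ hξ

/-- Conjugates of normal inclusions are normal inclusions. -/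
theorem isNormalSubpair_conj (Q R : Subgroup G) (x : G)
    {f : Set (IrrCharacter (Subgroup.centralizer (Q : Set G)))}
    {g : Set (IrrCharacter (Subgroup.centralizer (R : Set G)))}
    (h : IsNormalSubpair p M Q f R g) :
    IsNormalSubpair p M (Q.map (MulAut.conj x).toMonoidHom) (conjBlock Q x f)
      (R.map (MulAut.conj x).toMonoidHom) (conjBlock R x g) := by
  obtain ⟨hQf, hRg, hQR, hRN, hstab, hbr⟩ := h
  have hRN' : R.map (MulAut.conj x).toMonoidHom ≤
      Subgroup.normalizer ((Q.map (MulAut.conj x).toMonoidHom : Subgroup G) : Set G) := by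
    rw [← Subgroup.map_equiv_normalizer_eq Q (MulAut.conj x)]
    exact Subgroup.map_mono hRN
  refine ⟨isBrauerPair_conj Q x hQf, isBrauerPair_conj R x hRg, Subgroup.map_mono hQR, hRN',
    ?_, ?_⟩
  · intro y hy
    have hr : x⁻¹ * y * x ∈ R := mem_map_conj_iff.mp hy
    obtain ⟨_, hst⟩ := hstab _ hr
    refine ⟨Helper78.normalizer_le_normalizer_centralizer _ (hRN' hy), ?_⟩
    intro χ' hχ'
    rw [conjBlock_eq_image] at hχ'
    obtain ⟨χ, hχ, rfl⟩ := hχ'
    obtain ⟨χ₂, hχ₂, hconj⟩ := hst χ hχ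
    refine ⟨Helper78.irrMap (centConj Q x) χ₂, ?_, ?_⟩
    · rw [conjBlock_eq_image]
      exact Set.mem_image_of_mem _ hχ₂
    · intro k k' hkk'
      rw [Helper78.irrMap_apply, Helper78.irrMap_apply]
      apply hconj
      rw [coe_centConj_symm_apply, coe_centConj_symm_apply, hkk']
      group
  · intro γ' hγ'
    rw [conjBlock_eq_image] at hγ'
    obtain ⟨γ, hγ, rfl⟩ := hγ'
    rw [subgroupBlockCoeff_eq_extFun, extFun_blockCoeff_conjBlock, brauerOmega_map_conj]
    exact hbr γ hγ

/-- Conjugation on the index type of Brauer pairs. -/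
def conjIdx (x : G) (a : BrauerPairIdx G) : BrauerPairIdx G :=
  ⟨a.1.map (MulAut.conj x).toMonoidHom, conjBlock a.1 x a.2⟩

theorem normalSubpairRel_conjIdx (x : G) {a b : BrauerPairIdx G}
    (h : NormalSubpairRel p M a b) : NormalSubpairRel p M (conjIdx x a) (conjIdx x b) :=
  isNormalSubpair_conj a.1 b.1 x h

theorem reflTransGen_conjIdx (x : G) {a b : BrauerPairIdx G}
    (h : Relation.ReflTransGen (NormalSubpairRel p M) a b) :
    Relation.ReflTransGen (NormalSubpairRel p M) (conjIdx x a) (conjIdx x b) :=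
  Relation.ReflTransGen.lift (conjIdx x) (fun _ _ h => normalSubpairRel_conjIdx x h) _ _ h

end Cfsg.Agent.Helper77
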