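import Cfsg.Agent.Helper16.Contribution5
import Cfsg.Agent.Helper78.InducedTrans

/-!
# Conjugation invariance of the contributions of subsections

(helper77, file 51.)
-/

set_option autoImplicit false
set_option linter.unusedSectionVars false
set_option linter.unusedVariables false

namespace Cfsg.Agent.Helper77

open Cfsg
open scoped ComplexConjugate
open Cfsg.Agent.S4426 (cut)
open Cfsg.Agent.Helper16 (contribE)

section Iso

variable {H H' : Type*} [Group H] [Group H'] [Fintype H] [Fintype H']

/-- Inner products transported along an isomorphism. -/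
theorem classInner_comp_mulEquiv (σ : H ≃* H') (f g : H' → ℂ) :
    classInner (fun h => f (σ h)) (fun h => g (σ h)) = classInner f g := by
  unfold classInner
  rw [Nat.card_congr σ.toEquiv]
  congr 1
  exact Fintype.sum_equiv σ.toEquiv _ _ (fun h => rfl)

theorem cut_comp_mulEquiv (p : ℕ) (c : ℂ) (σ : H ≃* H') (f : H' → ℂ) :
    (fun h => cut p c f (σ h)) = cut p c (fun h => f (σ h)) := by
  funext h
  unfold cut
  rw [MulEquiv.orderOf_eq]

end Iso

section Conj

variable {G : Type*} [Group G] [Fintype G] {p : ℕ}

/-- **Conjugation invariance of the contributions.** -/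
theorem contribE_conj (H H' : Subgroup G) [Fintype H] [Fintype H'] (σ : H ≃* H') (g : G)
    (hσ : ∀ h : H, ((σ h : H') : G) = g * (h : G) * g⁻¹) (x : G) (b : Set (IrrCharacter H))
    {χ ψ : G → ℂ} (hχ : IsClassFunction G χ) (hψ : IsClassFunction G ψ) :
    contribE p H' (g * x * g⁻¹) (Helper78.irrMap σ '' b) χ ψ = contribE p H x b χ ψ := by
  classical
  unfold contribE
  let E : IrrCharacter H ≃ IrrCharacter H' :=
    Equiv.ofBijective (Helper78.irrMap σ) ⟨Helper78.irrMap_injective σ, Helper78.irrMap_surjective σ⟩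
  have hE : ∀ θ, E θ = Helper78.irrMap σ θ := fun θ => rfl
  have hshift : ∀ (φ : G → ℂ), IsClassFunction G φ → ∀ ξ : IrrCharacter H,
      classInner (fun c : H' => φ (g * x * g⁻¹ * (c : G))) (Helper78.irrMap σ ξ : H' → ℂ) =
      classInner (fun c : H => φ (x * (c : G))) (ξ : H → ℂ) := by
    intro φ hφ ξ
    rw [← classInner_comp_mulEquiv σ]
    congr 1
    · funext c
      rw [hσ c]
      have : g * x * g⁻¹ * (g * (c : G) * g⁻¹) = g * (x * (c : G)) * g⁻¹ := by group
      rw [this]
      exact hφ _ g
    · funext c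
      rw [Helper78.irrMap_apply_apply]
  have hcut : ∀ θ θ' : IrrCharacter H,
      classInner (cut p 1 (Helper78.irrMap σ θ : H' → ℂ)) (Helper78.irrMap σ θ' : H' → ℂ) =
      classInner (cut p 1 (θ : H → ℂ)) (θ' : H → ℂ) := by
    intro θ θ'
    rw [← classInner_comp_mulEquiv σ, cut_comp_mulEquiv]
    congr 1
    · congr 1
      funext c
      rw [Helper78.irrMap_apply_apply]
    · funext c
      rw [Helper78.irrMap_apply_apply]
  symm
  refine Fintype.sum_equiv E _ _ (fun θ => ?_)
  refine Fintype.sum_equiv E _ _ (fun θ' => ?_)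
  have hmem : (Helper78.irrMap σ θ ∈ Helper78.irrMap σ '' b) ↔ θ ∈ b :=
    (Helper78.irrMap_injective σ).mem_set_image
  rw [hE θ, hE θ', hshift χ hχ θ, hshift ψ hψ θ', hcut θ θ']
  by_cases hθ : θ ∈ b
  · rw [if_pos hθ, if_pos (hmem.mpr hθ)]
  · rw [if_neg hθ, if_neg (fun h => hθ (hmem.mp h))]

end Conj

section Zpowers

variable {G : Type*} [Group G]

/-- The centralizer of a cyclic subgroup is the centralizer of its generator. -/
theorem centralizer_zpowers_eq (y : G) :
    Subgroup.centralizer ((Subgroup.zpowers y : Subgroup G) : Set G) =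
      Subgroup.centralizer ({y} : Set G) := by
  ext g
  rw [Subgroup.mem_centralizer_iff, Subgroup.mem_centralizer_singleton_iff]
  constructor
  · intro h
    exact (h y (Subgroup.mem_zpowers y)).symm
  · rintro h _ ⟨k, rfl⟩
    show y ^ k * g = g * y ^ k
    exact ((Commute.zpow_right (show Commute g y from h) k).eq).symm

end Zpowers

end Cfsg.Agent.Helper77
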