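import Cfsg.Agent.Helper77.SubpairUnique

/-!
# The block of `H` covering a block of a subgroup `C` normalized by `H`

(helper77, file 21.)  For subgroups `C ≤ H` of `G` with `H` normalizing `C`, such that the block
idempotents of `H` are supported on `C`, the sum of the `H`-conjugates of a block idempotent of
`C` is a block idempotent of `H`.
-/

set_option autoImplicit false
set_option linter.unusedSectionVars false

namespace Cfsg.Agent.Helper77

open Cfsg
open Cfsg.Agent.Helper16 (omega conv classInd deltaOne)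

variable {G : Type*} [Group G] [Fintype G] {M : Ideal AlgInt} {p : ℕ}

/-- The transport of a set of irreducible characters of `C` along conjugation by `x ∈ H`. -/
noncomputable def conjSet (H C : Subgroup G) (hHC : H ≤ Subgroup.normalizer (C : Set G)) (x : H)
    (S : Set (IrrCharacter C)) : Set (IrrCharacter C) :=
  Helper78.irrMap (conjHom C H hHC x) '' S

theorem conjSet_one (H C : Subgroup G) (hHC : H ≤ Subgroup.normalizer (C : Set G))
    (S : Set (IrrCharacter C)) : conjSet H C hHC 1 S = S := by
  unfold conjSet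
  rw [map_one]
  have : Helper78.irrMap (1 : MulAut C) = id := by
    funext χ
    apply Subtype.ext
    rfl
  rw [this, Set.image_id]

theorem conjSet_mul (H C : Subgroup G) (hHC : H ≤ Subgroup.normalizer (C : Set G)) (x y : H)
    (S : Set (IrrCharacter C)) :
    conjSet H C hHC (x * y) S = conjSet H C hHC x (conjSet H C hHC y S) := by
  unfold conjSet
  rw [map_mul, Set.image_image]
  rfl

theorem isPBlock_conjSet (H C : Subgroup G) (hHC : H ≤ Subgroup.normalizer (C : Set G)) (x : H)
    {S : Set (IrrCharacter C)} (hS : IsPBlock M S) : IsPBlock M (conjSet H C hHC x S) :=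
  isPBlock_image_irrMap _ hS

theorem extFun_blockCoeff_conjSet (H C : Subgroup G) (hHC : H ≤ Subgroup.normalizer (C : Set G))
    (x : H) (S : Set (IrrCharacter C)) (g : G) :
    extFun C (blockCoeff (conjSet H C hHC x S)) g =
      extFun C (blockCoeff S) ((x : G)⁻¹ * g * (x : G)) :=
  extFun_blockCoeff_image_conj C H hHC S x g

/-- The `H`-orbit of a set of irreducible characters of `C`. -/
noncomputable def orbitFinset (H C : Subgroup G) [Fintype H]
    (hHC : H ≤ Subgroup.normalizer (C : Set G)) (e : Set (IrrCharacter C)) :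
    Finset (Set (IrrCharacter C)) := by
  classical
  exact (Finset.univ : Finset H).image (fun x : H => conjSet H C hHC x e)

theorem mem_orbitFinset (H C : Subgroup G) [Fintype H]
    (hHC : H ≤ Subgroup.normalizer (C : Set G)) (e b : Set (IrrCharacter C)) :
    b ∈ orbitFinset H C hHC e ↔ ∃ x : H, conjSet H C hHC x e = b := by
  classical
  unfold orbitFinset
  rw [Finset.mem_image]
  constructor
  · rintro ⟨x, _, hx⟩
    exact ⟨x, hx⟩
  · rintro ⟨x, hx⟩
    exact ⟨x, Finset.mem_univ _, hx⟩

theorem self_mem_orbitFinset (H C : Subgroup G) [Fintype H]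
    (hHC : H ≤ Subgroup.normalizer (C : Set G)) (e : Set (IrrCharacter C)) :
    e ∈ orbitFinset H C hHC e :=
  (mem_orbitFinset H C hHC e e).mpr ⟨1, conjSet_one H C hHC e⟩

theorem conjSet_mem_orbitFinset (H C : Subgroup G) [Fintype H]
    (hHC : H ≤ Subgroup.normalizer (C : Set G)) (e : Set (IrrCharacter C)) (x : H)
    {b : Set (IrrCharacter C)} (hb : b ∈ orbitFinset H C hHC e) :
    conjSet H C hHC x b ∈ orbitFinset H C hHC e := by
  obtain ⟨y, rfl⟩ := (mem_orbitFinset H C hHC e b).mp hb
  exact (mem_orbitFinset H C hHC e _).mpr ⟨x * y, conjSet_mul H C hHC x y e⟩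

theorem isPBlock_of_mem_orbitFinset (H C : Subgroup G) [Fintype H]
    (hHC : H ≤ Subgroup.normalizer (C : Set G)) {e : Set (IrrCharacter C)} (he : IsPBlock M e)
    {b : Set (IrrCharacter C)} (hb : b ∈ orbitFinset H C hHC e) : IsPBlock M b := by
  obtain ⟨y, rfl⟩ := (mem_orbitFinset H C hHC e b).mp hb
  exact isPBlock_conjSet H C hHC y he

/-- The sum of the idempotents of the blocks in the orbit. -/
noncomputable def orbitSum (H C : Subgroup G) [Fintype H]
    (hHC : H ≤ Subgroup.normalizer (C : Set G)) (e : Set (IrrCharacter C)) : G → ℂ :=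
  ∑ b ∈ orbitFinset H C hHC e, extFun C (blockCoeff b)

theorem orbitSum_apply (H C : Subgroup G) [Fintype H]
    (hHC : H ≤ Subgroup.normalizer (C : Set G)) (e : Set (IrrCharacter C)) (g : G) :
    orbitSum H C hHC e g = ∑ b ∈ orbitFinset H C hHC e, extFun C (blockCoeff b) g := by
  unfold orbitSum
  rw [Finset.sum_apply]

theorem orbitSum_of_not_mem (H C : Subgroup G) [Fintype H]
    (hHC : H ≤ Subgroup.normalizer (C : Set G)) (e : Set (IrrCharacter C)) {g : G} (hg : g ∉ C) :
    orbitSum H C hHC e g = 0 := by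
  rw [orbitSum_apply]
  exact Finset.sum_eq_zero (fun b _ => extFun_of_not_mem C _ hg)

theorem orbitSum_memLocalRing [M.IsPrime] (H C : Subgroup G) [Fintype H] [Fintype C]
    (hHC : H ≤ Subgroup.normalizer (C : Set G)) {e : Set (IrrCharacter C)} (he : IsPBlock M e)
    (g : G) : MemLocalRing M (orbitSum H C hHC e g) := by
  rw [orbitSum_apply]
  exact Helper16.memLocalRing_sum _ _ (fun b hb => extFun_memLocalRing C
    (blockCoeff_memLocalRing (isPBlock_of_mem_orbitFinset H C hHC he hb)) g)

/-- The orbit sum is invariant under conjugation by `H`. -/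
theorem invUnder_orbitSum (H C : Subgroup G) [Fintype H]
    (hHC : H ≤ Subgroup.normalizer (C : Set G)) (e : Set (IrrCharacter C)) :
    InvUnder (H : Set G) (orbitSum H C hHC e) := by
  intro h hh g
  rw [orbitSum_apply, orbitSum_apply]
  let hi : H := ⟨h, hh⟩
  refine Finset.sum_nbij' (fun b => conjSet H C hHC hi⁻¹ b) (fun b => conjSet H C hHC hi b)
    (fun b hb => conjSet_mem_orbitFinset H C hHC e _ hb)
    (fun b hb => conjSet_mem_orbitFinset H C hHC e _ hb) ?_ ?_ ?_
  · intro b _
    rw [← conjSet_mul, mul_inv_cancel, conjSet_one]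
  · intro b _
    rw [← conjSet_mul, inv_mul_cancel, conjSet_one]
  · intro b _
    rw [extFun_blockCoeff_conjSet]
    congr 1
    simp [hi]

theorem conv_extFun_blockCoeff_orbit [M.IsPrime] (H C : Subgroup G) [Fintype H] [Fintype C]
    (hHC : H ≤ Subgroup.normalizer (C : Set G)) {e : Set (IrrCharacter C)} (he : IsPBlock M e)
    {b b' : Set (IrrCharacter C)} (hb : b ∈ orbitFinset H C hHC e)
    (hb' : b' ∈ orbitFinset H C hHC e) :
    conv (extFun C (blockCoeff b)) (extFun C (blockCoeff b')) =
      if b = b' then extFun C (blockCoeff b) else 0 := by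
  have hb1 := isPBlock_of_mem_orbitFinset H C hHC he hb
  have hb1' := isPBlock_of_mem_orbitFinset H C hHC he hb'
  rw [extFun_conv]
  by_cases h : b = b'
  · rw [if_pos h, ← h, blockCoeff_conv_self hb1]
  · rw [if_neg h, blockCoeff_conv_of_ne hb1 hb1' h, extFun_zero]

theorem orbitSum_conv_self [M.IsPrime] (H C : Subgroup G) [Fintype H] [Fintype C]
    (hHC : H ≤ Subgroup.normalizer (C : Set G)) {e : Set (IrrCharacter C)} (he : IsPBlock M e) :
    conv (orbitSum H C hHC e) (orbitSum H C hHC e) = orbitSum H C hHC e := by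
  classical
  unfold orbitSum
  rw [conv_finset_sum_left]
  refine Finset.sum_congr rfl (fun b hb => ?_)
  rw [conv_finset_sum_right,
    Finset.sum_congr rfl (fun b' hb' => conv_extFun_blockCoeff_orbit H C hHC he hb hb'),
    Finset.sum_ite_eq, if_pos hb]

theorem orbitSum_conv_extFun [M.IsPrime] (H C : Subgroup G) [Fintype H] [Fintype C]
    (hHC : H ≤ Subgroup.normalizer (C : Set G)) {e : Set (IrrCharacter C)} (he : IsPBlock M e)
    {b : Set (IrrCharacter C)} (hb : b ∈ orbitFinset H C hHC e) :
    conv (orbitSum H C hHC e) (extFun C (blockCoeff b)) = extFun C (blockCoeff b) := by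
  classical
  unfold orbitSum
  rw [conv_finset_sum_left,
    Finset.sum_congr rfl (fun b' hb' => conv_extFun_blockCoeff_orbit H C hHC he hb' hb),
    Finset.sum_ite_eq', if_pos hb]

theorem orbitSum_ne_zero [M.IsPrime] (H C : Subgroup G) [Fintype H] [Fintype C]
    (hHC : H ≤ Subgroup.normalizer (C : Set G)) {e : Set (IrrCharacter C)} (he : IsPBlock M e) :
    orbitSum H C hHC e ≠ 0 := by
  intro h0
  have h1 := orbitSum_conv_extFun H C hHC he (self_mem_orbitFinset H C hHC e)
  rw [h0, conv_zero_left] at h1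
  have h2 : blockCoeff e = 0 := by
    rw [← resFun_extFun C (blockCoeff e), ← h1]
    rfl
  exact blockCoeff_ne_zero he h2

/-- Central character values of `H`-invariant functions are constant on `H`-orbits of irreducible
characters of `C`. -/
theorem omega_conj_of_invUnder (H C : Subgroup G) [Fintype C]
    (hHC : H ≤ Subgroup.normalizer (C : Set G)) (x : H) (θ : IrrCharacter C) (t : G → ℂ)
    (ht : InvUnder (H : Set G) t) :
    omega (Helper78.irrMap (conjHom C H hHC x) θ : C → ℂ) (resFun C t) =
      omega (θ : C → ℂ) (resFun C t) := by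
  rw [omega_irrMap]
  congr 1
  funext c
  show t ((conjHom C H hHC x c : C) : G) = t (c : G)
  rw [coe_conjHom_apply]
  exact ht x x.2 c

/-- **The covering block.**  If `C ≤ H`, `H` normalizes `C` and the block idempotents of `H` are
supported on `C`, then the sum of the `H`-conjugates of the idempotent of a block `e` of `C` is a
block idempotent of `H`. -/
theorem exists_covering_block [M.IsPrime] (H C : Subgroup G) [Fintype H] (hCH : C ≤ H)
    (hHC : H ≤ Subgroup.normalizer (C : Set G)) (e : Set (IrrCharacter C)) (he : IsPBlock M e)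
    (hsupp : ∀ E : Set (IrrCharacter H), IsPBlock M E →
      ∀ t : H, (t : G) ∉ C → blockCoeff E t = 0) :
    ∃ E : Set (IrrCharacter H), IsPBlock M E ∧
      ∀ t : H, blockCoeff E t = orbitSum H C hHC e (t : G) := by
  classical
  have hMp : M.IsPrime := inferInstance
  have hfinC : Fintype C := Fintype.ofFinite _
  let s : G → ℂ := orbitSum H C hHC e
  let φ : H → ℂ := resFun H s
  have hsφ : extFun H φ = s := extFun_resFun_of_support H s
    (fun g hg => orbitSum_of_not_mem H C hHC e (fun h => hg (hCH h)))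
  have hss : conv s s = s := orbitSum_conv_self H C hHC he
  have hsH : InvUnder (H : Set G) s := invUnder_orbitSum H C hHC e
  have hsR : ∀ g, MemLocalRing M (s g) := orbitSum_memLocalRing H C hHC he
  have hφcl : IsClassFunction H φ := isClassFunction_resFun hsH
  have hφR : ∀ t, MemLocalRing M (φ t) := fun t => hsR _
  have hφφ : conv φ φ = φ := by
    apply extFun_injective H
    rw [← extFun_conv, hsφ, hss]
  have hφ0 : φ ≠ 0 := by
    intro h
    apply orbitSum_ne_zero H C hHC he
    show s = 0
    rw [← hsφ, h, extFun_zero]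
  obtain ⟨χ, hχ⟩ : ∃ χ : IrrCharacter H, omega (χ : H → ℂ) φ ≠ 0 := by
    by_contra hcon0
    have hcon : ∀ χ : IrrCharacter H, omega (χ : H → ℂ) φ = 0 :=
      fun χ => by_contra (fun h => hcon0 ⟨χ, h⟩)
    apply hφ0
    apply Helper16.classFunction_ext_omega hφcl Helper16.isClassFunction_zero
    intro χ
    rw [hcon χ, Helper16.omega_zero]
  let E : Set (IrrCharacter H) := blockOf M (χ : H → ℂ)
  have hE : IsPBlock M E := ⟨χ, rfl⟩
  have hχE : χ ∈ E := Helper78.mem_blockOf_self hMp χ
  have hEcl := blockCoeff_isClassFunction hE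
  have hER := blockCoeff_memLocalRing hE
  have hEE := blockCoeff_conv_self hE
  have hε'0 : conv φ (blockCoeff E) ≠ 0 := by
    intro h
    have := Helper16.irr_omega_conv χ hφcl hEcl
    rw [h, Helper16.omega_zero, omega_blockCoeff hE χ, if_pos hχE, mul_one] at this
    exact hχ this.symm
  let Et : G → ℂ := extFun H (blockCoeff E)
  have hEtsupp : ∀ g, g ∉ C → Et g = 0 := by
    intro g hg
    by_cases hgT : g ∈ H
    · rw [show Et g = blockCoeff E ⟨g, hgT⟩ from extFun_of_mem H _ hgT]
      exact hsupp E hE ⟨g, hgT⟩ hg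
    · exact extFun_of_not_mem H _ hgT
  let ε₀ : C → ℂ := resFun C Et
  have hEtε₀ : extFun C ε₀ = Et := extFun_resFun_of_support C Et hEtsupp
  have hEtH : InvUnder (H : Set G) Et := invUnder_extFun_of_isClassFunction H hEcl
  have hε₀cl : IsClassFunction C ε₀ := isClassFunction_resFun (hEtH.le hCH)
  have hε₀R : ∀ c, MemLocalRing M (ε₀ c) := fun c => extFun_memLocalRing H hER _
  have hε₀ε₀ : conv ε₀ ε₀ = ε₀ := by
    apply extFun_injective C
    rw [← extFun_conv, hEtε₀]
    show conv (extFun H (blockCoeff E)) (extFun H (blockCoeff E)) = extFun H (blockCoeff E)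
    rw [extFun_conv, hEE]
  let σ₀ : C → ℂ := resFun C s
  have hsσ₀ : extFun C σ₀ = s :=
    extFun_resFun_of_support C s (fun g hg => orbitSum_of_not_mem H C hHC e hg)
  have hσ₀cl : IsClassFunction C σ₀ := isClassFunction_resFun (hsH.le hCH)
  have hσ₀σ₀ : conv σ₀ σ₀ = σ₀ := by
    apply extFun_injective C
    rw [← extFun_conv, hsσ₀, hss]
  have key : extFun H (conv φ (blockCoeff E)) = extFun C (conv σ₀ ε₀) := by
    rw [← extFun_conv, ← extFun_conv, hsφ, hsσ₀, hEtε₀]
  obtain ⟨ξ₀, hξ₀⟩ := Helper78.isPBlock_nonempty hMp he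
  have hωε₀ : ∀ θ : IrrCharacter C, omega (θ : C → ℂ) σ₀ ≠ 0 →
      omega (θ : C → ℂ) ε₀ = omega (ξ₀ : C → ℂ) ε₀ := by
    intro θ hθ
    have h1 : omega (θ : C → ℂ) σ₀ =
        ∑ b ∈ orbitFinset H C hHC e, omega (θ : C → ℂ) (blockCoeff b) := by
      have : σ₀ = ∑ b ∈ orbitFinset H C hHC e, blockCoeff b := by
        funext c
        show orbitSum H C hHC e (c : G) = _
        rw [orbitSum_apply, Finset.sum_apply]
        exact Finset.sum_congr rfl (fun b _ => extFun_coe C _ c)
      rw [this, Helper16.omega_sum]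
    rw [h1] at hθ
    obtain ⟨b, hb, hbne⟩ := Finset.exists_ne_zero_of_sum_ne_zero hθ
    rw [omega_blockCoeff (isPBlock_of_mem_orbitFinset H C hHC he hb) θ] at hbne
    have hθb : θ ∈ b := by
      by_contra h
      exact hbne (if_neg h)
    obtain ⟨x, rfl⟩ := (mem_orbitFinset H C hHC e b).mp hb
    obtain ⟨θ₀, hθ₀, rfl⟩ := hθb
    rw [show ε₀ = resFun C Et from rfl, omega_conj_of_invUnder H C hHC x θ₀ Et hEtH]
    exact Helper16.omega_idempotent_eq_of_sameBlock
      (Helper78.sameBlock_of_mem_of_mem hMp he hθ₀ hξ₀) hε₀cl hε₀R hε₀ε₀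
  have hεcases : conv σ₀ ε₀ = 0 ∨ conv σ₀ ε₀ = σ₀ := by
    rcases Helper16.omega_idempotent ξ₀ hε₀cl hε₀ε₀ with h0 | h1
    · left
      apply Helper16.classFunction_ext_omega (Helper16.isClassFunction_conv hσ₀cl hε₀cl)
        Helper16.isClassFunction_zero
      intro θ
      rw [Helper16.irr_omega_conv θ hσ₀cl hε₀cl, Helper16.omega_zero]
      by_cases hθ : omega (θ : C → ℂ) σ₀ = 0
      · rw [hθ, zero_mul]
      · rw [hωε₀ θ hθ, h0, mul_zero]
    · right
      apply Helper16.classFunction_ext_omega (Helper16.isClassFunction_conv hσ₀cl hε₀cl) hσ₀cl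
      intro θ
      rw [Helper16.irr_omega_conv θ hσ₀cl hε₀cl]
      by_cases hθ : omega (θ : C → ℂ) σ₀ = 0
      · rw [hθ, zero_mul]
      · rw [hωε₀ θ hθ, h1, mul_one]
  rcases hεcases with h0 | h1
  · exfalso
    apply hε'0
    apply extFun_injective H
    rw [key, h0, extFun_zero, extFun_zero]
  · have hφE : conv φ (blockCoeff E) = φ := by
      apply extFun_injective H
      rw [key, h1, hsσ₀, hsφ]
    rcases eq_zero_or_eq_blockCoeff_of_idempotent hE hφcl hφR hφφ hφE with h | h
    · exact absurd h hφ0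
    · exact ⟨E, hE, fun t => by rw [← h]; rfl⟩

end Cfsg.Agent.Helper77
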