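import Cfsg.Agent.Helper77.BlockAction
import Cfsg.Agent.Helper77.SupportOn
import Cfsg.Agent.Helper16.Idempotent

/-!
# Blocks covering a block of a normal subgroup

(helper77, file 19.)  Primitivity of block idempotents, the block of the stabilizer with the same
idempotent, and the idempotent of the covering block as the sum of the distinct conjugates.
-/

set_option autoImplicit false
set_option linter.unusedSectionVars false

namespace Cfsg.Agent.Helper77

open Cfsg
open Cfsg.Agent.Helper16 (omega conv classInd deltaOne)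

section General

variable {K : Type*} [Group K] [Fintype K] {M : Ideal AlgInt}

theorem conv_zero_left (t : K → ℂ) : conv (0 : K → ℂ) t = 0 := by
  funext k
  simp [Helper16.conv_apply]

theorem conv_zero_right (s : K → ℂ) : conv s (0 : K → ℂ) = 0 := by
  funext k
  simp [Helper16.conv_apply]

theorem conv_finset_sum_left {ι : Type*} (I : Finset ι) (s : ι → K → ℂ) (t : K → ℂ) :
    conv (∑ i ∈ I, s i) t = ∑ i ∈ I, conv (s i) t := by
  funext k
  simp only [Helper16.conv_apply, Finset.sum_apply, Finset.sum_mul]
  exact Finset.sum_comm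

theorem conv_finset_sum_right {ι : Type*} (I : Finset ι) (s : K → ℂ) (t : ι → K → ℂ) :
    conv s (∑ i ∈ I, t i) = ∑ i ∈ I, conv s (t i) := by
  funext k
  simp only [Helper16.conv_apply, Finset.sum_apply, Finset.mul_sum]
  exact Finset.sum_comm

theorem conv_smul_left (c : ℂ) (s t : K → ℂ) : conv (c • s) t = c • conv s t := by
  funext k
  simp only [Helper16.conv_apply, Pi.smul_apply, smul_eq_mul, Finset.mul_sum, mul_assoc]

/-- **Primitivity of block idempotents**: a central idempotent of the local group ring lying below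
a block idempotent is zero or the block idempotent. -/
theorem eq_zero_or_eq_blockCoeff_of_idempotent [M.IsPrime] {B : Set (IrrCharacter K)}
    (hB : IsPBlock M B) {s : K → ℂ} (hs : IsClassFunction K s)
    (hsR : ∀ k, MemLocalRing M (s k)) (hss : conv s s = s)
    (hsB : conv s (blockCoeff B) = s) : s = 0 ∨ s = blockCoeff B := by
  have hMp : M.IsPrime := inferInstance
  obtain ⟨χ₀, hχ₀⟩ := Helper78.isPBlock_nonempty hMp hB
  have hBcl := blockCoeff_isClassFunction hB
  have hout : ∀ χ : IrrCharacter K, χ ∉ B → omega (χ : K → ℂ) s = 0 := by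
    intro χ hχ
    have := Helper16.irr_omega_conv χ hs hBcl
    rw [hsB, omega_blockCoeff hB χ, if_neg hχ, mul_zero] at this
    exact this
  have hin : ∀ χ : IrrCharacter K, χ ∈ B → omega (χ : K → ℂ) s = omega (χ₀ : K → ℂ) s :=
    fun χ hχ => Helper16.omega_idempotent_eq_of_sameBlock
      (Helper78.sameBlock_of_mem_of_mem hMp hB hχ hχ₀) hs hsR hss
  rcases Helper16.omega_idempotent χ₀ hs hss with h0 | h1
  · left
    apply Helper16.classFunction_ext_omega hs Helper16.isClassFunction_zero
    intro χ
    rw [Helper16.omega_zero]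
    by_cases hχ : χ ∈ B
    · rw [hin χ hχ, h0]
    · exact hout χ hχ
  · right
    apply Helper16.classFunction_ext_omega hs hBcl
    intro χ
    rw [omega_blockCoeff hB χ]
    by_cases hχ : χ ∈ B
    · rw [hin χ hχ, h1, if_pos hχ]
    · rw [hout χ hχ, if_neg hχ]

/-- A block idempotent is not zero. -/
theorem blockCoeff_ne_zero [M.IsPrime] {B : Set (IrrCharacter K)} (hB : IsPBlock M B) :
    blockCoeff B ≠ 0 := by
  have hMp : M.IsPrime := inferInstance
  obtain ⟨χ₀, hχ₀⟩ := Helper78.isPBlock_nonempty hMp hB
  intro h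
  have := omega_blockCoeff hB χ₀
  rw [h, Helper16.omega_zero, if_pos hχ₀] at this
  exact zero_ne_one this

/-- The product of two commuting central idempotents is an idempotent. -/
theorem conv_conv_self_of_idempotent {s t : K → ℂ} (hs : IsClassFunction K s)
    (ht : IsClassFunction K t) (hss : conv s s = s) (htt : conv t t = t) :
    conv (conv s t) (conv s t) = conv s t := by
  have hst := Helper16.isClassFunction_conv hs ht
  apply Helper16.classFunction_ext_omega (Helper16.isClassFunction_conv hst hst) hst
  intro χ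
  rw [Helper16.irr_omega_conv χ hst hst, Helper16.irr_omega_conv χ hs ht]
  rcases Helper16.omega_idempotent χ hs hss with h | h <;>
    rcases Helper16.omega_idempotent χ ht htt with h' | h' <;> rw [h, h'] <;> ring

theorem conv_conv_left_of_idempotent {s t : K → ℂ} (hs : IsClassFunction K s)
    (ht : IsClassFunction K t) (hss : conv s s = s) :
    conv (conv s t) s = conv s t := by
  have hst := Helper16.isClassFunction_conv hs ht
  apply Helper16.classFunction_ext_omega (Helper16.isClassFunction_conv hst hs) hst
  intro χ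
  rw [Helper16.irr_omega_conv χ hst hs, Helper16.irr_omega_conv χ hs ht]
  rcases Helper16.omega_idempotent χ hs hss with h | h <;> rw [h] <;> ring

end General

section Stabilizer

variable {G : Type*} [Group G] [Fintype G] {M : Ideal AlgInt} {p : ℕ}

theorem extFun_injective (H : Subgroup G) :
    Function.Injective (extFun H : (H → ℂ) → G → ℂ) := by
  intro a b h
  rw [← resFun_extFun H a, ← resFun_extFun H b, h]

/-- A function vanishing off `H` is the extension by zero of its restriction. -/
theorem extFun_resFun_of_support (H : Subgroup G) (β : G → ℂ) (h : ∀ g, g ∉ H → β g = 0) :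
    extFun H (resFun H β) = β := by
  funext g
  by_cases hg : g ∈ H
  · rw [extFun_of_mem H _ hg]
    rfl
  · rw [extFun_of_not_mem H _ hg, h g hg]

/-- If `T ≥ C` stabilizes the block `e` of `C` and the block idempotents of `T` are supported on
`C`, then the idempotent of `e` is a block idempotent of `T`. -/
theorem exists_block_of_stabilizer [M.IsPrime] (T C : Subgroup G) (hCT : C ≤ T)
    (e : Set (IrrCharacter C)) (he : IsPBlock M e)
    (hstab : ∀ t ∈ T, StabilizesBlock C e t)
    (hsupp : ∀ E : Set (IrrCharacter T), IsPBlock M E →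
      ∀ t : T, (t : G) ∉ C → blockCoeff E t = 0) :
    ∃ E : Set (IrrCharacter T), IsPBlock M E ∧
      ∀ t : T, blockCoeff E t = extFun C (blockCoeff e) (t : G) := by
  classical
  have hMp : M.IsPrime := inferInstance
  have : Fintype T := Fintype.ofFinite _
  have : Fintype C := Fintype.ofFinite _
  let F : G → ℂ := extFun C (blockCoeff e)
  let φ : T → ℂ := resFun T F
  have hecl := blockCoeff_isClassFunction he
  have heR := blockCoeff_memLocalRing he
  have hFφ : extFun T φ = F :=
    extFun_resFun_of_support T F (fun g hg => extFun_of_not_mem C _ (fun h => hg (hCT h)))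
  have hFF : conv F F = F := by
    simp only [F]
    rw [extFun_conv, blockCoeff_conv_self he]
  have hφcl : IsClassFunction T φ :=
    isClassFunction_resFun (invUnder_extFun_blockCoeff_of_stabilizes C T e hstab)
  have hφR : ∀ t, MemLocalRing M (φ t) := fun t => extFun_memLocalRing C heR _
  have hφφ : conv φ φ = φ := by
    apply extFun_injective T
    rw [← extFun_conv, hFφ, hFF]
  have hφ0 : φ ≠ 0 := by
    intro h
    have h1 : F = 0 := by rw [← hFφ, h, extFun_zero]
    have h2 : blockCoeff e = 0 := by
      rw [← resFun_extFun C (blockCoeff e)]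
      show resFun C F = 0
      rw [h1]
      rfl
    exact blockCoeff_ne_zero he h2
  -- a character `χ` of `T` with `ω_χ(φ) ≠ 0`
  obtain ⟨χ, hχ⟩ : ∃ χ : IrrCharacter T, omega (χ : T → ℂ) φ ≠ 0 := by
    by_contra hcon0
    have hcon : ∀ χ : IrrCharacter T, omega (χ : T → ℂ) φ = 0 :=
      fun χ => by_contra (fun h => hcon0 ⟨χ, h⟩)
    apply hφ0
    apply Helper16.classFunction_ext_omega hφcl Helper16.isClassFunction_zero
    intro χ
    rw [hcon χ, Helper16.omega_zero]
  let E : Set (IrrCharacter T) := blockOf M (χ : T → ℂ)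
  have hE : IsPBlock M E := ⟨χ, rfl⟩
  have hχE : χ ∈ E := Helper78.mem_blockOf_self hMp χ
  have hEcl := blockCoeff_isClassFunction hE
  have hER := blockCoeff_memLocalRing hE
  have hEE := blockCoeff_conv_self hE
  have hε'0 : conv φ (blockCoeff E) ≠ 0 := by
    intro h
    have := Helper16.irr_omega_conv χ hφcl hEcl
    rw [h, Helper16.omega_zero, omega_blockCoeff hE χ, if_pos hχE, mul_one] at this
    exact hχ this.symm
  -- transfer to `C`
  let Et : G → ℂ := extFun T (blockCoeff E)
  have hEtsupp : ∀ g, g ∉ C → Et g = 0 := by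
    intro g hg
    by_cases hgT : g ∈ T
    · rw [show Et g = blockCoeff E ⟨g, hgT⟩ from extFun_of_mem T _ hgT]
      exact hsupp E hE ⟨g, hgT⟩ hg
    · exact extFun_of_not_mem T _ hgT
  let ε₀ : C → ℂ := resFun C Et
  have hEtε₀ : extFun C ε₀ = Et := extFun_resFun_of_support C Et hEtsupp
  have hε₀cl : IsClassFunction C ε₀ :=
    isClassFunction_resFun ((invUnder_extFun_of_isClassFunction T hEcl).le hCT)
  have hε₀R : ∀ c, MemLocalRing M (ε₀ c) := fun c => extFun_memLocalRing T hER _
  have hε₀ε₀ : conv ε₀ ε₀ = ε₀ := by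
    apply extFun_injective C
    rw [← extFun_conv, hEtε₀]
    show conv (extFun T (blockCoeff E)) (extFun T (blockCoeff E)) = extFun T (blockCoeff E)
    rw [extFun_conv, hEE]
  have key : extFun T (conv φ (blockCoeff E)) = extFun C (conv (blockCoeff e) ε₀) := by
    rw [← extFun_conv, ← extFun_conv, hFφ, hEtε₀]
  have hε := eq_zero_or_eq_blockCoeff_of_idempotent he (s := conv (blockCoeff e) ε₀)
    (Helper16.isClassFunction_conv hecl hε₀cl) (memLocalRing_conv heR hε₀R)
    (conv_conv_self_of_idempotent hecl hε₀cl (blockCoeff_conv_self he) hε₀ε₀)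
    (conv_conv_left_of_idempotent hecl hε₀cl (blockCoeff_conv_self he))
  rcases hε with h0 | h1
  · exfalso
    apply hε'0
    apply extFun_injective T
    rw [key, h0, extFun_zero, extFun_zero]
  · have hφE : conv φ (blockCoeff E) = φ := by
      apply extFun_injective T
      rw [key, h1, hFφ]
    rcases eq_zero_or_eq_blockCoeff_of_idempotent hE hφcl hφR hφφ hφE with h | h
    · exact absurd h hφ0
    · exact ⟨E, hE, fun t => by rw [← h]; rfl⟩

end Stabilizer

section Orbit

variable {G : Type*} [Group G] [Fintype G] {M : Ideal AlgInt} {p : ℕ}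

/-- Transport of central characters along an isomorphism. -/
theorem omega_irrMap {H H' : Type*} [Group H] [Fintype H] [Group H'] [Fintype H']
    (σ : H ≃* H') (ξ : IrrCharacter H) (s : H' → ℂ) :
    omega (Helper78.irrMap σ ξ : H' → ℂ) s = omega (ξ : H → ℂ) (fun h => s (σ h)) := by
  unfold omega
  rw [Helper78.irrMap_apply, map_one]
  congr 1
  rw [← Equiv.sum_comp σ.toEquiv]
  refine Finset.sum_congr rfl (fun h _ => ?_)
  rw [Helper78.irrMap_apply]
  simp

/-- **The idempotent of a block covering the block `e` of the normal subgroup `C` is the sum of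
the distinct conjugates of the idempotent of `e`**, provided it is supported on `C`. -/
theorem blockCoeff_eq_sum_conj [M.IsPrime] (C : Subgroup G) [hCn : C.Normal] [Fintype C]
    (B : Set (IrrCharacter G)) (hB : IsPBlock M B)
    (hsupp : ∀ g, g ∉ C → blockCoeff B g = 0)
    (e : Set (IrrCharacter C)) (he : IsPBlock M e)
    (hBe : ∀ ξ ∈ e, MemLocalIdeal M (omega (ξ : C → ℂ) (resFun C (blockCoeff B)) - 1))
    (T : Subgroup G) (hT : ∀ x : G, x ∈ T ↔ StabilizesBlock C e x) (g : G) :
    blockCoeff B g =
      (Nat.card T : ℂ)⁻¹ * ∑ x : G, extFun C (blockCoeff e) (x⁻¹ * g * x) := by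
  classical
  have hMp : M.IsPrime := inferInstance
  let act0 : MulAction (MulAut C) (IrrCharacter C) := irrAutAction C
  let act1 : MulAction G (IrrCharacter C) :=
    MulAction.compHom (IrrCharacter C) (MulAut.conjNormal : G →* MulAut C)
  let act2 : MulAction G (Set (IrrCharacter C)) := Set.mulActionSet
  have hsmul : ∀ (x : G) (S : Set (IrrCharacter C)),
      x • S = Helper78.irrMap (MulAut.conjNormal x : MulAut C) '' S := fun x S => rfl
  let F : Set (IrrCharacter C) → G → ℂ := fun S => extFun C (blockCoeff S)
  have hB1 : ∀ (x : G) (S : Set (IrrCharacter C)) (g : G), F (x • S) g = F S (x⁻¹ * g * x) := by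
    intro x S g
    simp only [F]
    rw [hsmul]
    by_cases hg : g ∈ C
    · have hg' : x⁻¹ * g * x ∈ C := by
        have := hCn.conj_mem g hg x⁻¹
        rwa [inv_inv] at this
      rw [extFun_of_mem C _ hg, extFun_of_mem C _ hg', blockCoeff_image_irrMap]
      congr 1
      apply Subtype.ext
      exact MulAut.conjNormal_symm_apply x ⟨g, hg⟩
    · have hg' : x⁻¹ * g * x ∉ C := by
        intro h
        apply hg
        have := hCn.conj_mem _ h x
        have e : x * (x⁻¹ * g * x) * x⁻¹ = g := by group
        rwa [e] at this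
      rw [extFun_of_not_mem C _ hg, extFun_of_not_mem C _ hg']
  have hB2 : ∀ (x : G) (S : Set (IrrCharacter C)), IsPBlock M S → IsPBlock M (x • S) :=
    fun x S hS => by rw [hsmul]; exact isPBlock_image_irrMap _ hS
  have hB3 : ∀ x : G, x ∈ T ↔ x • e = e := by
    intro x
    rw [hT x, hsmul]
    constructor
    · rintro ⟨hxN, hstab⟩
      have hmaps : Set.MapsTo (Helper78.irrMap (MulAut.conjNormal x : MulAut C)) e e := by
        intro χ hχ
        obtain ⟨χ', hχ', hconj⟩ := hstab χ hχ
        have : Helper78.irrMap (MulAut.conjNormal x : MulAut C) χ = χ' := by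
          apply Subtype.ext
          funext k'
          rw [Helper78.irrMap_apply]
          refine (hconj ((MulAut.conjNormal x : MulAut C).symm k') k' ?_).symm
          rw [MulAut.conjNormal_symm_apply]
          group
        rw [this]
        exact hχ'
      have hbij := ((Set.toFinite e).injOn_iff_bijOn_of_mapsTo hmaps).mp
        (Helper78.irrMap_injective _).injOn
      exact hbij.image_eq
    · intro h
      refine ⟨by rw [Subgroup.normalizer_eq_top]; exact Subgroup.mem_top x, fun χ hχ =>
        ⟨Helper78.irrMap (MulAut.conjNormal x : MulAut C) χ, ?_, ?_⟩⟩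
      · have := Set.mem_image_of_mem (Helper78.irrMap (MulAut.conjNormal x : MulAut C)) hχ
        rwa [h] at this
      · intro k k' hkk'
        have : k' = (MulAut.conjNormal x : MulAut C) k :=
          Subtype.ext (by rw [hkk', MulAut.conjNormal_apply])
        rw [this, Helper78.irrMap_apply_apply]
  -- the orbit
  let 𝒪 : Finset (Set (IrrCharacter C)) := Finset.univ.image (fun x : G => x • e)
  have h𝒪blk : ∀ b ∈ 𝒪, IsPBlock M b := by
    intro b hb
    obtain ⟨x, _, rfl⟩ := Finset.mem_image.mp hb
    exact hB2 x e he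
  have he𝒪 : e ∈ 𝒪 := Finset.mem_image.mpr ⟨1, Finset.mem_univ _, one_smul G e⟩
  let s : G → ℂ := ∑ b ∈ 𝒪, F b
  have hfiber : ∀ x : G,
      (Finset.univ.filter (fun y : G => y • e = x • e)).card = Nat.card T := by
    intro x
    have h1 : Finset.univ.filter (fun y : G => y • e = x • e) =
        (Finset.univ.filter (fun t : G => t ∈ T)).image (fun t => x * t) := by
      ext y
      simp only [Finset.mem_filter, Finset.mem_univ, true_and, Finset.mem_image]
      constructor
      · intro hy
        refine ⟨x⁻¹ * y, ?_, by group⟩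
        rw [hB3, mul_smul, hy, ← mul_smul, inv_mul_cancel, one_smul]
      · rintro ⟨t, ht, rfl⟩
        rw [mul_smul, (hB3 t).mp ht]
    rw [h1, Finset.card_image_of_injective _ (mul_right_injective x)]
    exact (Nat.subtype_card _ (fun t => by simp)).symm
  have hsum : ∀ g, ∑ x : G, F e (x⁻¹ * g * x) = (Nat.card T : ℂ) * s g := by
    intro g
    have h1 : ∑ x : G, F e (x⁻¹ * g * x) = ∑ x : G, F (x • e) g :=
      Finset.sum_congr rfl (fun x _ => (hB1 x e g).symm)
    rw [h1, Finset.sum_comp (fun b => F b g) (fun x : G => x • e)]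
    simp only [s, Finset.sum_apply, Finset.mul_sum]
    refine Finset.sum_congr rfl (fun b hb => ?_)
    obtain ⟨x, _, rfl⟩ := Finset.mem_image.mp hb
    rw [hfiber x, nsmul_eq_mul]
  have hTne : (Nat.card T : ℂ) ≠ 0 := by
    have : Nat.card T ≠ 0 := Nat.card_pos.ne'
    exact_mod_cast this
  have hFR : ∀ b ∈ 𝒪, ∀ g, MemLocalRing M (F b g) :=
    fun b hb => extFun_memLocalRing C (blockCoeff_memLocalRing (h𝒪blk b hb))
  have hFconv : ∀ b ∈ 𝒪, ∀ b' ∈ 𝒪, conv (F b) (F b') = if b = b' then F b else 0 := by
    intro b hb b' hb'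
    simp only [F]
    rw [extFun_conv]
    by_cases h : b = b'
    · rw [if_pos h, ← h, blockCoeff_conv_self (h𝒪blk b hb)]
    · rw [if_neg h, blockCoeff_conv_of_ne (h𝒪blk b hb) (h𝒪blk b' hb') h, extFun_zero]
  -- `s` is a central idempotent of the local group ring
  have hscl : IsClassFunction G s := by
    intro g y
    apply mul_left_cancel₀ hTne
    rw [← hsum, ← hsum]
    refine Fintype.sum_equiv (Equiv.mulLeft y⁻¹) _ _ (fun x => ?_)
    congr 1
    simp only [Equiv.coe_mulLeft]
    group
  have hsR : ∀ g, MemLocalRing M (s g) := by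
    intro g
    simp only [s, Finset.sum_apply]
    exact Helper16.memLocalRing_sum _ _ (fun b hb => hFR b hb g)
  have hss : conv s s = s := by
    simp only [s]
    rw [conv_finset_sum_left]
    refine Finset.sum_congr rfl (fun b hb => ?_)
    rw [conv_finset_sum_right, Finset.sum_congr rfl (fun b' hb' => hFconv b hb b' hb'),
      Finset.sum_ite_eq, if_pos hb]
  -- `s e_B = s`
  let εB : C → ℂ := resFun C (blockCoeff B)
  have hBcl := blockCoeff_isClassFunction hB
  have hεBext : extFun C εB = blockCoeff B := extFun_resFun_of_support C _ hsupp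
  have hεBcl : IsClassFunction C εB := isClassFunction_resFun (invUnder_of_isClassFunction hBcl _)
  have hεBR : ∀ c, MemLocalRing M (εB c) := fun c => blockCoeff_memLocalRing hB _
  have hεBεB : conv εB εB = εB := by
    apply extFun_injective C
    rw [← extFun_conv, hεBext, blockCoeff_conv_self hB]
  have hωe : ∀ ξ ∈ e, omega (ξ : C → ℂ) εB = 1 := by
    intro ξ hξ
    rcases Helper16.omega_idempotent ξ hεBcl hεBεB with h | h
    · have := hBe ξ hξ
      rw [show omega (ξ : C → ℂ) (resFun C (blockCoeff B)) = 0 from h, zero_sub] at this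
      have h2 := Helper16.memLocalIdeal_neg this
      rw [neg_neg] at h2
      exact absurd h2 Helper16.not_memLocalIdeal_one
    · exact h
  have hω𝒪 : ∀ b ∈ 𝒪, ∀ ξ ∈ b, omega (ξ : C → ℂ) εB = 1 := by
    intro b hb ξ hξ
    obtain ⟨x, _, rfl⟩ := Finset.mem_image.mp hb
    rw [hsmul] at hξ
    obtain ⟨ξ₀, hξ₀, rfl⟩ := hξ
    rw [omega_irrMap]
    have : (fun h : C => εB ((MulAut.conjNormal x : MulAut C) h)) = εB := by
      funext h
      show blockCoeff B (((MulAut.conjNormal x : MulAut C) h : C) : G) = blockCoeff B (h : G)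
      rw [MulAut.conjNormal_apply]
      exact hBcl _ _
    rw [this]
    exact hωe ξ₀ hξ₀
  have hFB : ∀ b ∈ 𝒪, conv (F b) (blockCoeff B) = F b := by
    intro b hb
    have hbcl := blockCoeff_isClassFunction (h𝒪blk b hb)
    have h1 : conv (blockCoeff b) εB = blockCoeff b := by
      apply Helper16.classFunction_ext_omega (Helper16.isClassFunction_conv hbcl hεBcl) hbcl
      intro ξ
      rw [Helper16.irr_omega_conv ξ hbcl hεBcl, omega_blockCoeff (h𝒪blk b hb) ξ]
      by_cases hξ : ξ ∈ b
      · rw [if_pos hξ, hω𝒪 b hb ξ hξ, mul_one]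
      · rw [if_neg hξ, zero_mul]
    simp only [F]
    rw [← hεBext, extFun_conv, h1]
  have hsB : conv s (blockCoeff B) = s := by
    simp only [s]
    rw [conv_finset_sum_left]
    exact Finset.sum_congr rfl (fun b hb => hFB b hb)
  have hs0 : s ≠ 0 := by
    intro h0
    have h1 : conv s (F e) = F e := by
      simp only [s]
      rw [conv_finset_sum_left, Finset.sum_congr rfl (fun b hb => hFconv b hb e he𝒪),
        Finset.sum_ite_eq' , if_pos he𝒪]
    rw [h0, conv_zero_left] at h1
    have h2 : blockCoeff e = 0 := by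
      rw [← resFun_extFun C (blockCoeff e)]
      show resFun C (F e) = 0
      rw [← h1]
      rfl
    exact blockCoeff_ne_zero he h2
  rcases eq_zero_or_eq_blockCoeff_of_idempotent hB hscl hsR hss hsB with h | h
  · exact absurd h hs0
  · rw [← h]
    have := hsum g
    show s g = (Nat.card T : ℂ)⁻¹ * ∑ x : G, F e (x⁻¹ * g * x)
    rw [this, inv_mul_cancel_left₀ hTne]

end Orbit

section NormalP

variable {G : Type*} [Group G] [Fintype G] {M : Ideal AlgInt} {p : ℕ}

/-- **Blocks of a group with a normal `p`-subgroup `P` and blocks of `C_G(P)`.** -/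
theorem covering_normal_pgroup [Fact p.Prime] (hM : IsPModular p M) (P : Subgroup G) [P.Normal]
    (hP : IsPGroup p P) (B : Set (IrrCharacter G))
    (e : Set (IrrCharacter (Subgroup.centralizer (P : Set G))))
    (hBe : IsBrauerPairOf p M B P e) (T : Subgroup G)
    (hT : ∀ x : G, x ∈ T ↔ StabilizesBlock (Subgroup.centralizer (P : Set G)) e x) :
    (∃ E : Set (IrrCharacter T), IsPBlock M E ∧ ∀ t : T,
        blockCoeff E t = subgroupBlockCoeff (Subgroup.centralizer (P : Set G)) e (t : G)) ∧
      ∀ g : G, blockCoeff B g = (Nat.card T : ℂ)⁻¹ *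
        ∑ x : G, subgroupBlockCoeff (Subgroup.centralizer (P : Set G)) e (x⁻¹ * g * x) := by
  classical
  have hMp : M.IsPrime := isPrime_of_isPModular hM
  obtain ⟨⟨_, he⟩, hB, hbr⟩ := hBe
  have hfinC : Fintype (Subgroup.centralizer (P : Set G)) := Fintype.ofFinite _
  have hfinT : Fintype T := Fintype.ofFinite _
  have hNtop : ∀ x : G, x ∈ Subgroup.normalizer
      ((Subgroup.centralizer (P : Set G) : Subgroup G) : Set G) := by
    intro x
    rw [Subgroup.normalizer_eq_top]
    exact Subgroup.mem_top x
  have hPT : P ≤ T := by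
    intro u hu
    rw [hT]
    refine ⟨hNtop u, fun χ hχ => ⟨χ, hχ, ?_⟩⟩
    intro k k' hkk'
    have hk := Subgroup.mem_centralizer_iff.mp k.2 u hu
    have : k' = k := Subtype.ext (by rw [hkk', hk]; group)
    rw [this]
  have hCT : Subgroup.centralizer (P : Set G) ≤ T := by
    intro c hc
    rw [hT]
    refine ⟨hNtop c, fun χ hχ => ⟨χ, hχ, ?_⟩⟩
    intro k k' hkk'
    have : k' = (⟨c, hc⟩ : Subgroup.centralizer (P : Set G)) * k *
        (⟨c, hc⟩ : Subgroup.centralizer (P : Set G))⁻¹ := Subtype.ext (by simp [hkk'])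
    rw [this]
    exact Helper16.irr_isClassFunction χ k ⟨c, hc⟩
  refine ⟨?_, fun g => ?_⟩
  · refine exists_block_of_stabilizer T (Subgroup.centralizer (P : Set G)) hCT e he
      (fun t ht => (hT t).mp ht) ?_
    intro E hE t ht
    have hP' : IsPGroup p (P.subgroupOf T) := hP.comap_subtype
    refine blockCoeff_eq_zero_of_not_mem_centralizer hM (P.subgroupOf T) hP' hE t ?_
    intro h
    apply ht
    rw [Subgroup.mem_centralizer_iff]
    intro u hu
    have h1 := Subgroup.mem_centralizer_iff.mp h (⟨u, hPT hu⟩ : T)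
      (Subgroup.mem_subgroupOf.mpr hu)
    exact congrArg Subtype.val h1
  · exact blockCoeff_eq_sum_conj (Subgroup.centralizer (P : Set G)) B hB
      (fun g hg => blockCoeff_eq_zero_of_not_mem_centralizer hM P hP hB g hg) e he
      (fun ξ hξ => by rw [← brauerOmega_eq_omega]; exact hbr ξ hξ) T hT g

end NormalP

end Cfsg.Agent.Helper77
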