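import Mathlib

/-!
# `p'`-groups of automorphisms of cyclic `p`-groups

(helper77, file 39.)
-/

set_option autoImplicit false

namespace Cfsg.Agent.Helper77

variable {P : Type*} [Group P] {p : ℕ}

/-- A `p'`-automorphism of a commutative `p`-group which is trivial on the elements of order
dividing `p` is trivial. -/
theorem mulAut_eq_one_of_trivial_on_omega [Fact p.Prime] (hcomm : ∀ x y : P, x * y = y * x)
    (hP : IsPGroup p P) (α : MulAut P) (hα : ¬ p ∣ orderOf α)
    (h : ∀ y : P, y ^ p = 1 → α y = y) : α = 1 := by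
  have key : ∀ i : ℕ, ∀ y : P, y ^ p ^ (i + 1) = 1 → α y = y := by
    intro i
    induction i with
    | zero =>
      intro y hy
      exact h y (by simpa using hy)
    | succ i ih =>
      intro y hy
      have h1 : α (y ^ p) = y ^ p := ih (y ^ p) (by rw [← pow_mul, ← pow_succ']; exact hy)
      have hzp : (α y * y⁻¹) ^ p = 1 := by
        rw [(show Commute (α y) y⁻¹ from hcomm _ _).mul_pow, ← map_pow, h1, inv_pow,
          mul_inv_cancel]
      have hαz : α (α y * y⁻¹) = α y * y⁻¹ := h _ hzp
      have hαy : α y = (α y * y⁻¹) * y := by rw [inv_mul_cancel_right]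
      have hpow : ∀ j : ℕ, (α ^ j) y = (α y * y⁻¹) ^ j * y := by
        intro j
        induction j with
        | zero => simp
        | succ j ihj =>
          rw [pow_succ', MulAut.mul_apply, ihj, map_mul, map_pow, hαz, pow_succ, mul_assoc,
            ← hαy]
      have h2 := hpow (orderOf α)
      rw [pow_orderOf_eq_one, MulAut.one_apply] at h2
      have h3 : (α y * y⁻¹) ^ orderOf α = 1 := by
        apply mul_right_cancel (b := y)
        rw [one_mul]
        exact h2.symm
      have h4 : orderOf (α y * y⁻¹) ∣ p := orderOf_dvd_of_pow_eq_one hzp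
      have h5 : orderOf (α y * y⁻¹) ∣ orderOf α := orderOf_dvd_of_pow_eq_one h3
      have h6 : orderOf (α y * y⁻¹) = 1 := by
        rcases (Nat.dvd_prime Fact.out).mp h4 with h | h
        · exact h
        · exfalso
          apply hα
          rw [← h]
          exact h5
      rw [orderOf_eq_one_iff] at h6
      rw [hαy, h6, one_mul]
  ext y
  obtain ⟨k, hk⟩ := hP y
  rcases k with _ | k
  · rw [pow_zero, pow_one] at hk
    rw [hk]
    simp
  · exact key k y hk

/-- The elements of order dividing `p` of a cyclic group containing an element `z` of order `p`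
are the powers of `z`. -/
theorem mem_zpowers_of_pow_eq_one [Finite P] [IsCyclic P] [Fact p.Prime] (z : P)
    (hz : orderOf z = p) (y : P) (hy : y ^ p = 1) : y ∈ Subgroup.zpowers z := by
  classical
  have hfin : Fintype P := Fintype.ofFinite P
  have hp : 0 < p := (Fact.out : p.Prime).pos
  have h1 : (Finset.univ.filter (fun a : P => a ^ p = 1)).card ≤ p :=
    IsCyclic.card_pow_eq_one_le hp
  have hsub : (Subgroup.zpowers z : Set P).toFinset ⊆ Finset.univ.filter (fun a : P => a ^ p = 1) := by
    intro a ha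
    rw [Set.mem_toFinset] at ha
    obtain ⟨i, rfl⟩ := ha
    rw [Finset.mem_filter]
    refine ⟨Finset.mem_univ _, ?_⟩
    rw [← zpow_natCast, ← zpow_mul, mul_comm, zpow_mul, zpow_natCast, ← hz, pow_orderOf_eq_one,
      one_zpow]
  have hcard : (Subgroup.zpowers z : Set P).toFinset.card = p := by
    rw [Set.toFinset_card, ← Nat.card_eq_fintype_card]
    exact (Nat.card_zpowers z).trans hz
  have heq := Finset.eq_of_subset_of_card_le hsub (by rw [hcard]; exact h1)
  have hy' : y ∈ Finset.univ.filter (fun a : P => a ^ p = 1) := by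
    rw [Finset.mem_filter]
    exact ⟨Finset.mem_univ _, hy⟩
  rw [← heq, Set.mem_toFinset] at hy'
  exact hy'

/-- A nontrivial element of a `p`-group has a power of order `p`. -/
theorem exists_pow_orderOf_eq_prime [Fact p.Prime] (hP : IsPGroup p P) (x : P) (hx : x ≠ 1) :
    ∃ m : ℕ, orderOf (x ^ m) = p := by
  obtain ⟨k, hk⟩ := IsPGroup.iff_orderOf.mp hP x
  rcases k with _ | k
  · rw [pow_zero, orderOf_eq_one_iff] at hk
    exact absurd hk hx
  · refine ⟨p ^ k, orderOf_eq_prime ?_ ?_⟩
    · rw [← pow_mul, ← pow_succ, ← hk, pow_orderOf_eq_one]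
    · intro h1
      have h2 : orderOf x ∣ p ^ k := orderOf_dvd_of_pow_eq_one h1
      rw [hk] at h2
      have h3 := (Nat.pow_dvd_pow_iff_le_right (Fact.out : p.Prime).one_lt).mp h2
      omega

/-- In a cyclic `p`-group, an automorphism fixing a nontrivial element fixes all elements of
order dividing `p`. -/
theorem fixes_omega_of_fixes [Finite P] [IsCyclic P] [Fact p.Prime] (hP : IsPGroup p P)
    (α : MulAut P) (x : P) (hx1 : x ≠ 1) (hx : α x = x) (y : P) (hy : y ^ p = 1) : α y = y := by
  obtain ⟨m, hm⟩ := exists_pow_orderOf_eq_prime hP x hx1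
  have hz : α (x ^ m) = x ^ m := by rw [map_pow, hx]
  obtain ⟨i, rfl⟩ := mem_zpowers_of_pow_eq_one (x ^ m) hm y hy
  rw [map_zpow, hz]

/-- Restriction of automorphisms to a characteristic subgroup. -/
def resAut (Ω : Subgroup P) (hΩ : ∀ (α : MulAut P) (y : P), y ∈ Ω → α y ∈ Ω) :
    MulAut P →* MulAut Ω where
  toFun α :=
    { toFun := fun y => ⟨α y, hΩ α y y.2⟩
      invFun := fun y => ⟨α⁻¹ y, hΩ α⁻¹ y y.2⟩
      left_inv := fun y => Subtype.ext (by simp)
      right_inv := fun y => Subtype.ext (by simp)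
      map_mul' := fun a b => Subtype.ext (map_mul α _ _) }
  map_one' := by
    ext y
    rfl
  map_mul' := by
    intro a b
    ext y
    rfl

theorem resAut_apply (Ω : Subgroup P) (hΩ : ∀ (α : MulAut P) (y : P), y ∈ Ω → α y ∈ Ω)
    (α : MulAut P) (y : Ω) : ((resAut Ω hΩ α y : Ω) : P) = α y := rfl

/-- **`p'`-groups of automorphisms of a nontrivial cyclic `p`-group** are cyclic of order dividing
`p - 1` and act freely on the non-identity elements. -/
theorem cyclic_pgroup_aut_pprime [Finite P] [IsCyclic P] [Fact p.Prime] (hP : IsPGroup p P)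
    (x₀ : P) (hx₀ : x₀ ≠ 1) (A : Subgroup (MulAut P)) (hA : ¬ p ∣ Nat.card A) :
    IsCyclic A ∧ Nat.card A ∣ p - 1 ∧ ∀ α ∈ A, ∀ x : P, x ≠ 1 → α x = x → α = 1 := by
  classical
  have hp : p.Prime := Fact.out
  have hcomm : ∀ x y : P, x * y = y * x := fun x y => (IsCyclic.commGroup (α := P)).mul_comm x y
  have hfinA : Finite (MulAut P) := by
    have : Fintype P := Fintype.ofFinite P
    exact Finite.of_injective (fun α : MulAut P => (α : P → P)) (fun a b h => by ext y; exact congrFun h y)
  have hord : ∀ α ∈ A, ¬ p ∣ orderOf α := by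
    intro α hα hdvd
    apply hA
    have h1 : orderOf (⟨α, hα⟩ : A) ∣ Nat.card A := orderOf_dvd_natCard _
    rw [← Subgroup.orderOf_coe] at h1
    exact hdvd.trans h1
  have hfree : ∀ α ∈ A, ∀ x : P, x ≠ 1 → α x = x → α = 1 := by
    intro α hα x hx1 hx
    exact mulAut_eq_one_of_trivial_on_omega hcomm hP α (hord α hα)
      (fun y hy => fixes_omega_of_fixes hP α x hx1 hx y hy)
  obtain ⟨m, hm⟩ := exists_pow_orderOf_eq_prime hP x₀ hx₀
  have hΩ : ∀ (α : MulAut P) (y : P), y ∈ Subgroup.zpowers (x₀ ^ m) →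
      α y ∈ Subgroup.zpowers (x₀ ^ m) := by
    intro α y hy
    apply mem_zpowers_of_pow_eq_one (x₀ ^ m) hm
    obtain ⟨i, rfl⟩ := hy
    rw [← map_pow, ← zpow_natCast, ← zpow_mul, mul_comm, zpow_mul, zpow_natCast, ← hm,
      pow_orderOf_eq_one, one_zpow, map_one]
  have hinj : Function.Injective ((resAut _ hΩ).comp A.subtype) := by
    rw [injective_iff_map_eq_one]
    intro α hα
    apply Subtype.ext
    apply mulAut_eq_one_of_trivial_on_omega hcomm hP (α : MulAut P) (hord α α.2)
    intro y hy
    have hyΩ := mem_zpowers_of_pow_eq_one (x₀ ^ m) hm y hy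
    have h1 := congrArg (fun β : MulAut (Subgroup.zpowers (x₀ ^ m)) => ((β ⟨y, hyΩ⟩ : _) : P)) hα
    exact h1
  have hcardΩ : Nat.card (Subgroup.zpowers (x₀ ^ m)) = p := (Nat.card_zpowers _).trans hm
  haveI : Fact (Nat.card (Subgroup.zpowers (x₀ ^ m))).Prime := ⟨by rw [hcardΩ]; exact hp⟩
  haveI hcycΩ : IsCyclic (MulAut (Subgroup.zpowers (x₀ ^ m))) :=
    isCyclic_of_injective (IsCyclic.mulAutMulEquiv (Subgroup.zpowers (x₀ ^ m))).toMonoidHom
      (IsCyclic.mulAutMulEquiv (Subgroup.zpowers (x₀ ^ m))).injective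
  refine ⟨isCyclic_of_injective _ hinj, ?_, hfree⟩
  have h1 := Subgroup.card_dvd_of_injective _ hinj
  rwa [IsCyclic.card_mulAut, hcardΩ, Nat.totient_prime hp] at h1

end Cfsg.Agent.Helper77
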