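import Cfsg.Agent.Helper77.BlockOrth
import Cfsg.Agent.Helper78.Burnside
import Cfsg.Agent.Helper78.IrrBasic
import Mathlib.RingTheory.RootsOfUnity.Complex
import Mathlib.FieldTheory.IntermediateField.Adjoin.Defs

/-!
# Block idempotents have coefficients in the `p'`-cyclotomic field

(helper77, file 12.)
-/

set_option autoImplicit false
set_option linter.unusedSectionVars false

namespace Cfsg.Agent.Helper77

open Cfsg
open scoped ComplexConjugate

/-- The trace of an endomorphism `T` with `T ^ m = 1` lies in `ℚ(exp(2πi/m))`. -/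
theorem trace_mem_adjoin_of_pow_eq_one {V : Type*} [AddCommGroup V] [Module ℂ V]
    [FiniteDimensional ℂ V] (T : Module.End ℂ V) {m : ℕ} (hm : m ≠ 0) (hT : T ^ m = 1) :
    LinearMap.trace ℂ V T ∈ IntermediateField.adjoin ℚ
      ({Complex.exp (2 * Real.pi * Complex.I / (m : ℂ))} : Set ℂ) := by
  have : NeZero m := ⟨hm⟩
  rw [Helper78.trace_eq_sum_roots' T]
  refine multiset_sum_mem _ (fun r hr => ?_)
  have h1 := Helper78.root_charpoly_pow_eq_one' T hT hr
  obtain ⟨i, _, hi⟩ := (Complex.isPrimitiveRoot_exp m hm).eq_pow_of_pow_eq_one h1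
  rw [← hi]
  exact pow_mem (IntermediateField.subset_adjoin ℚ _ (Set.mem_singleton _)) i

variable {G : Type*} [Group G] [Fintype G] {M : Ideal AlgInt} {p : ℕ}

/-- **Block idempotent coefficients lie in the `p'`-cyclotomic field.** -/
theorem blockCoeff_mem_adjoin [Fact p.Prime] (hM : IsPModular p M) {B : Set (IrrCharacter G)}
    (hB : IsPBlock M B) (g : G) :
    blockCoeff B g ∈ IntermediateField.adjoin ℚ
      ({Complex.exp (2 * Real.pi * Complex.I /
        ((Nat.card G / p ^ (Nat.card G).factorization p : ℕ) : ℂ))} : Set ℂ) := by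
  classical
  have hp : p.Prime := hM.1
  set m : ℕ := Nat.card G / p ^ (Nat.card G).factorization p with hmdef
  set K := IntermediateField.adjoin ℚ
      ({Complex.exp (2 * Real.pi * Complex.I / (m : ℂ))} : Set ℂ) with hK
  by_cases hpg : p ∣ orderOf g
  · rw [blockCoeff_eq_zero_of_dvd_orderOf hM hB g hpg]
    exact zero_mem K
  -- `orderOf g ∣ m`
  have hcardG : Nat.card G = p ^ (Nat.card G).factorization p * m := by
    rw [hmdef, Nat.mul_div_cancel' (Nat.ordProj_dvd _ _)]
  have hm0 : m ≠ 0 := by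
    intro h0
    rw [h0, mul_zero] at hcardG
    exact Nat.card_pos.ne' hcardG
  have hdvd : orderOf g ∣ m := by
    have h1 : orderOf g ∣ p ^ (Nat.card G).factorization p * m := by
      rw [← hcardG]; exact orderOf_dvd_natCard g
    have hcop : (orderOf g).Coprime (p ^ (Nat.card G).factorization p) :=
      Nat.Coprime.pow_right _ (Nat.Coprime.symm ((Nat.Prime.coprime_iff_not_dvd hp).2 hpg))
    exact hcop.dvd_of_dvd_mul_left h1
  have hgm : g⁻¹ ^ m = 1 := by
    rw [inv_pow, inv_eq_one]
    exact orderOf_dvd_iff_pow_eq_one.mp hdvd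
  rw [Helper16.blockCoeff_eq_sum]
  refine mul_mem (inv_mem (natCast_mem K _)) (sum_mem (fun χ _ => ?_))
  refine mul_mem (mul_mem ?_ ?_) ?_
  · split_ifs
    · exact one_mem K
    · exact zero_mem K
  · rw [Helper78.irrChar_one_eq_charDegree χ.2]
    exact natCast_mem K _
  · obtain ⟨χ, n, ρ, hirr, rfl⟩ := χ
    show conj (ρ.character g) ∈ K
    rw [← Helper79.char_inv]
    refine trace_mem_adjoin_of_pow_eq_one (ρ g⁻¹) hm0 ?_
    rw [← map_pow, hgm, map_one]

end Cfsg.Agent.Helper77
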