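import Cfsg.Agent.Helper77.DefOneBlocks
import Cfsg.Agent.Helper16.DefOne.Main
import Cfsg.Agent.Helper24.DefOneMZ2b
import Cfsg.Agent.Helper82.DefOne.Chain
import Cfsg.Agent.Helper77.DefectOrder
import Cfsg.Agent.Helper77.BlockFusion

/-!
# Blocks of defect one: the count and the degrees of a block of full defect (S4442)
-/

set_option autoImplicit false

namespace Cfsg.Agent.Helper77.DefOne

open Cfsg Cfsg.Agent.Helper16 Cfsg.Agent.Helper16.DefOne Cfsg.Agent.Helper82.DefOne
open Cfsg.Agent.Helper77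

universe u

variable {G : Type u} [Group G] [Fintype G] {p : ℕ} [Fact p.Prime] (M : Ideal AlgInt)
  (P : Sylow p G)

/-- (T1) a block with defect group `P` has a member of `p'`-degree -/
theorem exists_not_dvd_of_isDefectGroup (hM : IsPModular p M) (hP : Nat.card P = p)
    (B : Set (IrrCharacter G)) (hB : IsPBlock M B)
    (hBP : IsDefectGroup p M B (P : Subgroup G)) :
    ∃ χ ∈ B, ¬ p ∣ charDegree (χ : G → ℂ) := by
  have hp : p.Prime := Fact.out
  have hMp : M.IsPrime := IsPModular.isPrime hM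
  have hcard := card_defectGroup hM hB (P : Subgroup G) hBP
  have hP' : Nat.card (P : Subgroup G) = p := hP
  rw [hP'] at hcard
  have hd : blockDefect p B = 1 := by
    have h2 : p ^ 1 = p ^ blockDefect p B := by rw [pow_one]; exact hcard
    exact (Nat.pow_right_injective hp.two_le h2).symm
  unfold blockDefect at hd
  rw [factorization_card_eq_one P hP] at hd
  set S := (fun χ : IrrCharacter G => (charDegree (χ : G → ℂ)).factorization p) '' B with hS
  have hSne : S.Nonempty := (Helper78.isPBlock_nonempty hMp hB).image _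
  have h0 : sInf S = 0 := by omega
  have hmem : sInf S ∈ S := Nat.sInf_mem hSne
  rw [h0] at hmem
  obtain ⟨χ, hχ, hfac⟩ := hmem
  refine ⟨χ, hχ, ?_⟩
  intro hdvd
  have hpos := Helper74.charDegree_pos' χ
  rcases (Nat.factorization_eq_zero_iff _ _).mp hfac with h | h | h
  · exact h hp
  · exact h hdvd
  · omega

/-- (T2) the stabilizer in the statement of S4442 has index `inertia P θ` over `C_G(P)` -/
theorem relIndex_eq_inertia (hP : Nat.card P = p) (θ : IrrCharacter (cen P)) (T : Subgroup G)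
    (hT : ∀ g : G, g ∈ T ↔ (g ∈ Subgroup.normalizer ((P : Subgroup G) : Set G) ∧
      ∀ c c' : cen P, (c' : G) = g * c * g⁻¹ → (θ : cen P → ℂ) c' = (θ : cen P → ℂ) c)) :
    (cen P).relIndex T = inertia P θ := by
  classical
  have hnor := nor_eq_normalizer P hP
  have hTN : T ≤ nor P := by
    intro g hg
    rw [hnor]
    exact ((hT g).mp hg).1
  -- membership in the stabilizer
  have hstab : ∀ n : nor P, n ∈ MulAction.stabilizer (nor P) θ ↔ (n : G) ∈ T := by
    intro n
    rw [MulAction.mem_stabilizer_iff, hT]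
    constructor
    · intro h
      refine ⟨by rw [← hnor]; exact n.2, ?_⟩
      intro c c' hcc'
      have h1 : ((n • θ : IrrCharacter (cen P)) : cen P → ℂ) c' = (θ : cen P → ℂ) c' := by
        rw [h]
      rw [← h1, smul_irr_apply]
      have hcc : (normConj (cen P) n).symm c' = c := by
        apply Subtype.ext
        rw [coe_normConj_symm, hcc']
        group
      rw [hcc]
    · rintro ⟨_, h⟩
      apply Subtype.ext
      funext c
      rw [smul_irr_apply]
      exact (h ((normConj (cen P) n).symm c) c (by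
        rw [coe_normConj_symm]; group)).symm
  have hCT : cen P ≤ T := by
    intro c hc
    have hcn : c ∈ nor P := Subgroup.le_normalizer hc
    have := (hstab ⟨c, hcn⟩).mp (by
      rw [MulAction.mem_stabilizer_iff]
      exact smul_eq_of_mem_cen P ⟨c, hcn⟩ θ hc)
    exact this
  have hcardT : Nat.card T = Nat.card (MulAction.stabilizer (nor P) θ) := by
    refine Nat.card_congr ⟨fun t => ⟨⟨(t : G), hTN t.2⟩, (hstab _).mpr t.2⟩,
      fun s => ⟨((s : nor P) : G), (hstab _).mp s.2⟩, fun t => rfl, fun s => rfl⟩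
  have h1 : Nat.card ((cen P).subgroupOf T) * (cen P).relIndex T = Nat.card T := by
    unfold Subgroup.relIndex
    exact Subgroup.card_mul_index _
  rw [card_subgroupOf_of_le hCT, hcardT, card_stabilizer P hP θ, mul_comm] at h1
  have hpos : 0 < Nat.card (cen P) := Nat.card_pos
  exact Nat.eq_of_mul_eq_mul_right hpos h1


/-- the module count (helper16's module side, assembled by helper24) -/
theorem modCount (hM : IsPModular p M) (hP : Nat.card P = p)
    [((P : Subgroup G).subgroupOf (nor P)).Normal] : ModCount p P :=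
  Cfsg.Agent.Helper24.DefOneMZ2.module_count M hM P hP (nor_eq_normalizer P hP)

/-- the count `|R_θ| = e + (p-1)/e` -/
theorem card_Rset (hP : Nat.card P = p)
    [((P : Subgroup G).subgroupOf (nor P)).Normal] (hmod : ModCount p P)
    (θ : IrrCharacter (cen P)) (hθ : IsCanon P θ) :
    inertia P θ ∣ p - 1 ∧ Nat.card (Rset P θ) = inertia P θ + (p - 1) / inertia P θ := by
  have hdvd : inertia P θ ∣ p - 1 :=
    (inertia_dvd P hP θ).trans (relIndex_cen_nor_dvd P hP)
  refine ⟨hdvd, ?_⟩
  have hpos := inertia_pos P hP θ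
  have heq := inertia_mul_card_Rset_eq P hP hmod θ hθ
  obtain ⟨k, hk⟩ := hdvd
  rw [hk, Nat.mul_div_cancel_left k hpos]
  rw [hk] at heq
  have : inertia P θ * Nat.card (Rset P θ) = inertia P θ * (inertia P θ + k) := by
    rw [heq]; ring
  exact Nat.eq_of_mul_eq_mul_left hpos this

/-- **Blocks of full defect of a group with a Sylow `p`-subgroup of order `p`** (S4442) -/
theorem full_defect_block_count (hM : IsPModular p M) (hP : Nat.card P = p)
    (B : Set (IrrCharacter G)) (hB : IsPBlock M B)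
    (hBP : IsDefectGroup p M B (P : Subgroup G))
    (b : Set (IrrCharacter (cen P))) (hind : IsInducedBlock M (cen P) b B)
    (θ : IrrCharacter (cen P)) (hθ : θ ∈ b) (hθP : IsCanon P θ) (T : Subgroup G)
    (hT : ∀ g : G, g ∈ T ↔ (g ∈ Subgroup.normalizer ((P : Subgroup G) : Set G) ∧
      ∀ c c' : cen P, (c' : G) = g * c * g⁻¹ → (θ : cen P → ℂ) c' = (θ : cen P → ℂ) c))
    (e f : ℕ) (he : (cen P).relIndex T = e)
    (hf : (cen P).relIndex (Subgroup.normalizer ((P : Subgroup G) : Set G)) = f) :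
    e ∣ p - 1 ∧ Nat.card B = e + (p - 1) / e ∧ ∃ X Y : Set (IrrCharacter G),
      B = X ∪ Y ∧ Disjoint X Y ∧ Nat.card X = e ∧ Nat.card Y = (p - 1) / e ∧
      (∀ χ ∈ X, (charDegree (χ : G → ℂ) : ℤ) ≡
          ((f / e * charDegree (θ : cen P → ℂ) : ℕ) : ℤ) [ZMOD p] ∨
        (charDegree (χ : G → ℂ) : ℤ) ≡
          -((f / e * charDegree (θ : cen P → ℂ) : ℕ) : ℤ) [ZMOD p]) ∧
      (∃ ε : ℤ, (ε = 1 ∨ ε = -1) ∧ ∀ ψ ∈ Y, (charDegree (ψ : G → ℂ) : ℤ) ≡
          ε * ((f * charDegree (θ : cen P → ℂ) : ℕ) : ℤ) [ZMOD p]) ∧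
      ∀ ψ ∈ Y, ∀ ψ' ∈ Y, ∀ g : G, ¬ p ∣ orderOf g → (ψ : G → ℂ) g = (ψ' : G → ℂ) g := by
  classical
  have hMp : M.IsPrime := IsPModular.isPrime hM
  have hnor := nor_eq_normalizer P hP
  have hnorm : ((P : Subgroup G).subgroupOf (nor P)).Normal := by
    rw [hnor]
    exact Subgroup.normal_in_normalizer
  have hmod : ModCount p P := modCount M P hM hP
  have hfull := exists_not_dvd_of_isDefectGroup M P hM hP B hB hBP
  have hb : b = blockOf M (θ : cen P → ℂ) := Helper78.isPBlock_eq_blockOf_of_mem hMp hind.1 hθ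
  rw [hb] at hind
  have hBR : B = Rset P θ := block_eq_Rset M P hM hP B hB hfull θ hθP hind
  have heI : e = inertia P θ := by
    rw [← he]
    exact relIndex_eq_inertia P hP θ T hT
  have hfI : f = (cen P).relIndex (nor P) := by
    rw [← hf, hnor]
  obtain ⟨hdvd, hcard⟩ := card_Rset P hP hmod θ hθP
  obtain ⟨X, Y, ε, δ, hXY, hdisj, hcX, hcY, hε, hδ, -, hdegX, hdegY, hrel, -, -⟩ :=
    Rset_main P hP hmod θ hθP
  rw [heI, hfI, hBR]
  refine ⟨hdvd, hcard, X, Y, hXY, hdisj, hcX, hcY, ?_, ⟨δ, hδ, hdegY⟩, ?_⟩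
  · intro χ hχ
    have h := hdegX χ hχ
    rcases hε χ with h1 | h1
    · left
      rw [h1] at h
      simpa using h
    · right
      rw [h1] at h
      simpa using h
  · intro ψ hψ ψ' hψ' g hg
    have h1 := hrel ψ hψ g hg
    have h2 := hrel ψ' hψ' g hg
    have hδ0 : (δ : ℂ) ≠ 0 := by
      rcases hδ with h | h <;> rw [h] <;> norm_num
    exact mul_left_cancel₀ hδ0 (h1.trans h2.symm)

end Cfsg.Agent.Helper77.DefOne
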