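import Cfsg.Agent.Helper77.DefOneCount
import Cfsg.Agent.Helper33.DefOneGAL4
import Cfsg.Agent.Helper24.DefOneGAL8
import Cfsg.Agent.Helper97.DefOneGAL7
import Cfsg.Agent.Helper76.PConjugate
import Cfsg.Agent.Helper79.ClassMult

/-!
# Blocks of defect one: Galois action (for S4507)
-/

set_option autoImplicit false

namespace Cfsg.Agent.Helper77.DefOne

open Cfsg Cfsg.Agent.Helper16 Cfsg.Agent.Helper16.DefOne Cfsg.Agent.Helper82.DefOne
open Cfsg.Agent.Helper77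
open scoped ComplexConjugate

universe u

variable {G : Type u} [Group G] [Fintype G] {p : ℕ} [Fact p.Prime] (P : Sylow p G)

/-- (GAL-3) every `p`-singular element is conjugate to a `p`-singular element of `C_G(P)` -/
theorem exists_conj_mem_cen (hP : Nat.card P = p) (g : G) (hg : p ∣ orderOf g) :
    ∃ (x : G) (c : cen P), p ∣ orderOf c ∧ x * g * x⁻¹ = (c : G) := by
  have hp : p.Prime := Fact.out
  set k := orderOf g / p with hk
  have huo : orderOf (g ^ k) = p := Helper82.McKayP.orderOf_pow_div p g hg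
  have hpg : IsPGroup p (Subgroup.zpowers (g ^ k)) := by
    apply IsPGroup.of_card (n := 1)
    rw [Nat.card_zpowers, huo, pow_one]
  obtain ⟨Q, hQ⟩ := hpg.exists_le_sylow
  obtain ⟨x, hx⟩ := MulAction.exists_smul_eq G Q P
  have hxu : x * g ^ k * x⁻¹ ∈ (P : Subgroup G) := by
    rw [← hx, Sylow.coe_subgroup_smul]
    have hmem : g ^ k ∈ (Q : Subgroup G) := hQ (Subgroup.mem_zpowers _)
    have := Subgroup.smul_mem_pointwise_smul (g ^ k) (MulAut.conj x) (Q : Subgroup G) hmem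
    simpa [MulAut.smul_def] using this
  have hpow : x * g ^ k * x⁻¹ = (x * g * x⁻¹) ^ k := (conj_pow (a := x) (b := g) (i := k)).symm
  have huo' : orderOf (x * g ^ k * x⁻¹) = p := by
    rw [Helper82.McKayP.orderOf_conj_eq]
    exact huo
  have hzp := Helper82.McKayP.zpowers_eq_sylow p P hP (x * g ^ k * x⁻¹) hxu huo'
  have hc : x * g * x⁻¹ ∈ cen P := by
    rw [Subgroup.mem_centralizer_iff]
    intro y hy
    have hy' : y ∈ Subgroup.zpowers (x * g ^ k * x⁻¹) := by rw [hzp]; exact hy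
    rw [hpow] at hy'
    obtain ⟨j, rfl⟩ := Subgroup.mem_zpowers_iff.mp hy'
    have h1 : Commute ((x * g * x⁻¹) ^ k) (x * g * x⁻¹) := (Commute.refl _).pow_left k
    exact (h1.zpow_left j).eq
  refine ⟨x, ⟨x * g * x⁻¹, hc⟩, ?_, rfl⟩
  rw [← Subgroup.orderOf_coe]
  show p ∣ orderOf (x * g * x⁻¹)
  rw [Helper82.McKayP.orderOf_conj_eq]
  exact hg

/-- two irreducible characters agreeing on the `p`-regular elements and on the `p`-singular
elements of `C_G(P)` are equal -/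
theorem irr_ext_of_regular_of_singular (hP : Nat.card P = p) (ψ ψ' : IrrCharacter G)
    (hreg : ∀ g : G, ¬ p ∣ orderOf g → (ψ : G → ℂ) g = (ψ' : G → ℂ) g)
    (hsing : ∀ c : cen P, p ∣ orderOf c → (ψ : G → ℂ) (c : G) = (ψ' : G → ℂ) (c : G)) :
    ψ = ψ' := by
  apply Subtype.ext
  funext g
  by_cases hg : p ∣ orderOf g
  · obtain ⟨x, c, hc, hxc⟩ := exists_conj_mem_cen P hP g hg
    have h1 := Helper74.irr_isClassFunction ψ g x
    have h2 := Helper74.irr_isClassFunction ψ' g x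
    rw [← h1, ← h2, hxc]
    exact hsing c hc
  · exact hreg g hg

theorem pow_card_div_eq_one (hP : Nat.card P = p) (g : G) (hg : ¬ p ∣ orderOf g) :
    g ^ (Nat.card G / p) = 1 := by
  have hp : p.Prime := Fact.out
  have h := Helper76.pow_ordCompl_eq_one_of_pRegular p hp g hg
  rw [factorization_card_eq_one P hP, pow_one] at h
  exact h

theorem card_div_pos (hP : Nat.card P = p) : 0 < Nat.card G / p := by
  have hp : p.Prime := Fact.out
  have hdvd : p ∣ Nat.card G := by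
    rw [← hP]
    exact Subgroup.card_subgroup_dvd_card _
  exact Nat.div_pos (Nat.le_of_dvd Nat.card_pos hdvd) hp.pos

/-- automorphisms fixing the `p'`-roots of unity fix character values at `p`-regular elements -/
theorem sigma_apply_regular (hP : Nat.card P = p) (σ : ℂ ≃+* ℂ)
    (hσ : ∀ μ : ℂ, μ ^ (Nat.card G / p) = 1 → σ μ = μ) (χ : IrrCharacter G) (g : G)
    (hg : ¬ p ∣ orderOf g) : σ ((χ : G → ℂ) g) = (χ : G → ℂ) g := by
  have hN := card_div_pos P hP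
  have hζ : IsPrimitiveRoot (Complex.exp (2 * Real.pi * Complex.I / ((Nat.card G / p : ℕ) : ℂ)))
      (Nat.card G / p) := Complex.isPrimitiveRoot_exp _ hN.ne'
  exact Helper76.ringEquiv_character_eq_of_pow_eq_one σ _ hN _ hζ (hσ _ hζ.pow_eq_one)
    (χ : G → ℂ) (Helper74.irr_isCharacter χ) g (pow_card_div_eq_one P hP g hg)

/-- Galois conjugation preserves the multiplicities -/
theorem mult_sig (σ : ℂ ≃+* ℂ) (χ : IrrCharacter G) (φ : IrrCharacter (cen P)) :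
    mult P (sig σ χ) (sig σ φ) = mult P χ φ := by
  classical
  have : Fintype (cen P) := Fintype.ofFinite _
  apply Int.cast_injective (α := ℂ)
  rw [mult_cast, mult_cast]
  have h1 : classInner (fun c : cen P => (sig σ χ : G → ℂ) (c : G)) (sig σ φ : cen P → ℂ) =
      σ (classInner (fun c : cen P => (χ : G → ℂ) (c : G)) (φ : cen P → ℂ)) := by
    rw [Helper74.classInner_def, Helper74.classInner_def, map_mul, map_inv₀, map_natCast, map_sum]
    congr 1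
    apply Finset.sum_congr rfl
    intro c _
    rw [map_mul, sig_apply]
    congr 1
    rw [← Helper79.irr_inv (sig σ φ) c, ← Helper79.irr_inv φ c, sig_apply]
  rw [h1, ← mult_cast, map_intCast]

theorem sig_canon (hP : Nat.card P = p) (σ : ℂ ≃+* ℂ)
    (hσ : ∀ μ : ℂ, μ ^ (Nat.card G / p) = 1 → σ μ = μ) (θ : IrrCharacter (cen P))
    (hθ : IsCanon P θ) : sig σ θ = θ :=
  Subtype.ext (funext fun c => Helper33.DefOne.sigma_canon_apply P hP σ hσ θ hθ c)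

/-- Galois conjugation preserves the rows -/
theorem rowZ_sig (hP : Nat.card P = p) (σ : ℂ ≃+* ℂ)
    (hσ : ∀ μ : ℂ, μ ^ (Nat.card G / p) = 1 → σ μ = μ) (χ : IrrCharacter G)
    (φ : IrrCharacter (cen P)) : rowZ P (sig σ χ) (sig σ φ) = rowZ P χ φ := by
  unfold rowZ
  rw [mult_sig, Helper33.DefOne.can_sig P hP σ hσ φ]
  have h := mult_sig P σ χ (can P φ)
  rw [sig_canon P hP σ hσ (can P φ) (isCanon_can P hP φ)] at h
  rw [h]


theorem sig_injective {X : Type u} [Group X] [Finite X] (σ : ℂ ≃+* ℂ) :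
    Function.Injective (sig (X := X) σ) := by
  intro φ φ' h
  apply Subtype.ext
  funext g
  have := congrFun (congrArg Subtype.val h) g
  exact σ.injective this

theorem sig_symm_sig {X : Type u} [Group X] [Finite X] (σ : ℂ ≃+* ℂ) (φ : IrrCharacter X) :
    sig σ.symm (sig σ φ) = φ := by
  apply Subtype.ext
  funext g
  show σ.symm (σ ((φ : X → ℂ) g)) = (φ : X → ℂ) g
  exact σ.symm_apply_apply _

theorem fix_symm (σ : ℂ ≃+* ℂ) (m : ℕ) (hσ : ∀ μ : ℂ, μ ^ m = 1 → σ μ = μ) :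
    ∀ μ : ℂ, μ ^ m = 1 → σ.symm μ = μ := by
  intro μ hμ
  have := hσ μ hμ
  rw [RingEquiv.symm_apply_eq]
  exact this.symm

/-- a character whose values on the `p`-singular elements of `C_G(P)` are `ε ∑_{θ' ∈ orbit} θ'`
is fixed by the automorphisms fixing the `p'`-roots of unity -/
theorem sig_eq_of_values (hP : Nat.card P = p) (σ : ℂ ≃+* ℂ)
    (hσ : ∀ μ : ℂ, μ ^ (Nat.card G / p) = 1 → σ μ = μ) (θ : IrrCharacter (cen P))
    (hθ : IsCanon P θ) (χ : IrrCharacter G) (ε : ℤ)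
    (hval : ∀ c : cen P, p ∣ orderOf c → (χ : G → ℂ) (c : G) =
      (ε : ℂ) * ∑ᶠ θ' ∈ MulAction.orbit (nor P) θ, (θ' : cen P → ℂ) c) :
    sig σ χ = χ := by
  have : Finite (IrrCharacter (cen P)) := Helper79.irr_finite'
  apply irr_ext_of_regular_of_singular P hP
  · intro g hg
    rw [sig_apply]
    exact sigma_apply_regular P hP σ hσ χ g hg
  · intro c hc
    rw [sig_apply, hval c hc, map_mul, map_intCast]
    congr 1
    have hfin : (MulAction.orbit (nor P) θ).Finite := Set.toFinite _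
    have h1 := (σ : ℂ →+* ℂ).toAddMonoidHom.map_finsum_mem
      (fun θ' : IrrCharacter (cen P) => (θ' : cen P → ℂ) c) hfin
    have h2 : σ (∑ᶠ θ' ∈ MulAction.orbit (nor P) θ, (θ' : cen P → ℂ) c) =
        ∑ᶠ θ' ∈ MulAction.orbit (nor P) θ, σ ((θ' : cen P → ℂ) c) := h1
    rw [h2]
    apply finsum_mem_congr rfl
    intro θ' hθ'
    obtain ⟨n, rfl⟩ := hθ'
    exact Helper33.DefOne.sigma_canon_apply P hP σ hσ _ (isCanon_smul P hP n θ hθ) c

theorem image_sig_orbit (σ : ℂ ≃+* ℂ) (φ : IrrCharacter (cen P)) :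
    sig σ '' MulAction.orbit (nor P) φ = MulAction.orbit (nor P) (sig σ φ) := by
  ext φ'
  constructor
  · rintro ⟨_, ⟨n, rfl⟩, rfl⟩
    exact ⟨n, (Helper33.DefOne.sig_smul P σ n φ).symm⟩
  · rintro ⟨n, rfl⟩
    exact ⟨n • φ, ⟨n, rfl⟩, Helper33.DefOne.sig_smul P σ n φ⟩


variable (M : Ideal AlgInt)

open Classical in
/-- **The exceptional family is one `p`-conjugacy class** (automorphism form). -/
theorem galois_structure (hM : IsPModular p M) (hP : Nat.card P = p)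
    (B : Set (IrrCharacter G)) (hB : IsPBlock M B)
    (hfull : ∃ χ ∈ B, ¬ p ∣ charDegree (χ : G → ℂ)) :
    ∃ (Y : Set (IrrCharacter G)) (δ' : IrrCharacter G → ℤ), Y ⊆ B ∧ Y.Nonempty ∧
      (∀ θ₁ ∈ Y, ∀ σ : ℂ ≃+* ℂ, (∀ μ : ℂ, μ ^ (Nat.card G / p) = 1 → σ μ = μ) →
        sig σ θ₁ ∈ Y) ∧
      (∀ θ₁ ∈ Y, ∀ ψ ∈ Y, ∃ σ : ℂ ≃+* ℂ, (∀ μ : ℂ, μ ^ (Nat.card G / p) = 1 → σ μ = μ) ∧
        sig σ θ₁ = ψ) ∧
      (∀ χ ∈ B, χ ∉ Y → ∀ σ : ℂ ≃+* ℂ, (∀ μ : ℂ, μ ^ (Nat.card G / p) = 1 → σ μ = μ) →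
        sig σ χ = χ) ∧
      Nat.card Y ∣ p - 1 ∧ Nat.card B = Nat.card Y + (p - 1) / Nat.card Y ∧
      (∀ χ ∈ B, δ' χ = 1 ∨ δ' χ = -1) ∧
      ∀ x : G, ¬ p ∣ orderOf x → ∀ θ₁ ∈ Y,
        (∑ᶠ χ ∈ B \ Y, (δ' χ : ℂ) * (χ : G → ℂ) x) + (δ' θ₁ : ℂ) * (θ₁ : G → ℂ) x = 0 := by
  have hp : p.Prime := Fact.out
  have : Finite (IrrCharacter (cen P)) := Helper79.irr_finite'
  have hnor := nor_eq_normalizer P hP
  have hnorm : ((P : Subgroup G).subgroupOf (nor P)).Normal := by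
    rw [hnor]
    exact Subgroup.normal_in_normalizer
  have hmod : ModCount p P := modCount M P hM hP
  obtain ⟨θ, hθ, -, hBR⟩ := exists_canon_block_eq_Rset M P hM hP B hB hfull
  obtain ⟨hdvd, hcard⟩ := card_Rset P hP hmod θ hθ
  obtain ⟨X, Y, ε, δ, hXY, hdisj, hcX, hcY, hε, hδ, hvalX, -, -, hrel, -, hrowY⟩ :=
    Rset_main P hP hmod θ hθ
  have hepos := inertia_pos P hP θ
  have hδ0 : (δ : ℂ) ≠ 0 := by
    rcases hδ with h | h <;> rw [h] <;> norm_num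
  have hδZ : δ ≠ 0 := by
    rcases hδ with h | h <;> rw [h] <;> norm_num
  have hYR : Y ⊆ Rset P θ := by
    rw [hXY]; exact Set.subset_union_right
  have hXR : X ⊆ Rset P θ := by
    rw [hXY]; exact Set.subset_union_left
  -- values of the members of Y on the singular elements
  have hvalY : ∀ ψ ∈ Y, ∀ φ₀ : IrrCharacter (cen P), can P φ₀ = θ → ¬ IsCanon P φ₀ →
      (∀ φ : IrrCharacter (cen P), can P φ = θ → ¬ IsCanon P φ →
        rowZ P ψ φ = if ∃ n : nor P, n • φ = φ₀ then δ else 0) →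
      ∀ c : cen P, p ∣ orderOf c → (ψ : G → ℂ) (c : G) =
        (δ : ℂ) * ∑ᶠ φ ∈ MulAction.orbit (nor P) φ₀, (φ : cen P → ℂ) c := by
    intro ψ hψ φ₀ h1 h2 h3 c hc
    exact Helper24.DefOneGAL8.apply_singular_of_orbit_rows P hP hmod θ hθ ψ (hYR hψ) φ₀ h1 h2 δ
      h3 c hc
  -- agreement on regular elements
  have hagree : ∀ ψ ∈ Y, ∀ ψ' ∈ Y, ∀ g : G, ¬ p ∣ orderOf g →
      (ψ : G → ℂ) g = (ψ' : G → ℂ) g := by
    intro ψ hψ ψ' hψ' g hg
    exact mul_left_cancel₀ hδ0 ((hrel ψ hψ g hg).trans (hrel ψ' hψ' g hg).symm)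
  -- key: transport along σ
  have key : ∀ ψ₁ ∈ Y, ∀ ψ₂ ∈ Y, ∀ φ₁ φ₂ : IrrCharacter (cen P),
      can P φ₁ = θ → ¬ IsCanon P φ₁ →
      (∀ φ : IrrCharacter (cen P), can P φ = θ → ¬ IsCanon P φ →
        rowZ P ψ₁ φ = if ∃ n : nor P, n • φ = φ₁ then δ else 0) →
      can P φ₂ = θ → ¬ IsCanon P φ₂ →
      (∀ φ : IrrCharacter (cen P), can P φ = θ → ¬ IsCanon P φ →
        rowZ P ψ₂ φ = if ∃ n : nor P, n • φ = φ₂ then δ else 0) →
      ∀ σ : ℂ ≃+* ℂ, (∀ μ : ℂ, μ ^ (Nat.card G / p) = 1 → σ μ = μ) →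
      sig σ φ₁ ∈ MulAction.orbit (nor P) φ₂ → sig σ ψ₁ = ψ₂ := by
    intro ψ₁ hψ₁ ψ₂ hψ₂ φ₁ φ₂ a1 a2 a3 b1 b2 b3 σ hσ horb
    apply irr_ext_of_regular_of_singular P hP
    · intro g hg
      rw [sig_apply, sigma_apply_regular P hP σ hσ ψ₁ g hg]
      exact hagree ψ₁ hψ₁ ψ₂ hψ₂ g hg
    · intro c hc
      rw [sig_apply, hvalY ψ₁ hψ₁ φ₁ a1 a2 a3 c hc, hvalY ψ₂ hψ₂ φ₂ b1 b2 b3 c hc, map_mul,
        map_intCast]
      congr 1
      have hfin : (MulAction.orbit (nor P) φ₁).Finite := Set.toFinite _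
      have h1 : σ (∑ᶠ φ ∈ MulAction.orbit (nor P) φ₁, (φ : cen P → ℂ) c) =
          ∑ᶠ φ ∈ MulAction.orbit (nor P) φ₁, σ ((φ : cen P → ℂ) c) :=
        (σ : ℂ →+* ℂ).toAddMonoidHom.map_finsum_mem
          (fun φ : IrrCharacter (cen P) => (φ : cen P → ℂ) c) hfin
      rw [h1]
      have h2 : MulAction.orbit (nor P) φ₂ = sig σ '' MulAction.orbit (nor P) φ₁ := by
        rw [image_sig_orbit]
        exact (MulAction.orbit_eq_iff.mpr horb).symm
      rw [h2, finsum_mem_image (fun a _ b _ hab => sig_injective σ hab)]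
      rfl
  -- Y is closed
  have hclosed : ∀ θ₁ ∈ Y, ∀ σ : ℂ ≃+* ℂ, (∀ μ : ℂ, μ ^ (Nat.card G / p) = 1 → σ μ = μ) →
      sig σ θ₁ ∈ Y := by
    intro θ₁ hθ₁ σ hσ
    obtain ⟨φ₁, a1, a2, a3⟩ := hrowY θ₁ hθ₁
    have hrow1 : rowZ P θ₁ φ₁ = δ := by
      rw [a3 φ₁ a1 a2, if_pos ⟨1, one_smul _ _⟩]
    have hrow2 : rowZ P (sig σ θ₁) (sig σ φ₁) = δ := by
      rw [rowZ_sig P hP σ hσ, hrow1]
    have hmemR : sig σ θ₁ ∈ Rset P θ := by
      refine ⟨sig σ φ₁, ?_, ?_⟩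
      · rw [Helper33.DefOne.can_sig P hP σ hσ φ₁, a1]
      · rw [hrow2]; exact hδZ
    rw [hXY] at hmemR
    rcases hmemR with hX | hY
    · exfalso
      have hfix := sig_eq_of_values P hP σ.symm (fix_symm σ _ hσ) θ hθ (sig σ θ₁) (ε (sig σ θ₁))
        (hvalX _ hX)
      rw [sig_symm_sig] at hfix
      rw [← hfix] at hX
      exact Set.disjoint_left.mp hdisj hX hθ₁
    · exact hY
  -- Y is one orbit
  have htrans : ∀ θ₁ ∈ Y, ∀ ψ ∈ Y, ∃ σ : ℂ ≃+* ℂ,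
      (∀ μ : ℂ, μ ^ (Nat.card G / p) = 1 → σ μ = μ) ∧ sig σ θ₁ = ψ := by
    intro θ₁ hθ₁ ψ hψ
    obtain ⟨φ₁, a1, a2, a3⟩ := hrowY θ₁ hθ₁
    obtain ⟨φ₂, b1, b2, b3⟩ := hrowY ψ hψ
    obtain ⟨σ, hσ, hσφ⟩ :=
      Helper97.DefOneGAL7.exists_sigma_map P hP θ hθ φ₁ φ₂ a1 b1 a2 b2
    refine ⟨σ, hσ, key θ₁ hθ₁ ψ hψ φ₁ φ₂ a1 a2 a3 b1 b2 b3 σ hσ ?_⟩
    rw [hσφ]
    exact MulAction.mem_orbit_self _
  -- counting
  obtain ⟨t, ht⟩ := hdvd
  have hcY' : Nat.card Y = t := by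
    rw [hcY, ht, Nat.mul_div_cancel_left t hepos]
  have htpos : 0 < t := by
    rcases Nat.eq_zero_or_pos t with h0 | h0
    · rw [h0, mul_zero] at ht
      have := hp.two_le
      omega
    · exact h0
  have hYne : Y.Nonempty := by
    have : 0 < Nat.card Y := by rw [hcY']; exact htpos
    have hne : Nonempty Y := (Nat.card_pos_iff.mp this).1
    obtain ⟨⟨ψ, hψ⟩⟩ := hne
    exact ⟨ψ, hψ⟩
  refine ⟨Y, fun χ => if χ ∈ Y then δ else -ε χ, ?_, hYne, hclosed, htrans, ?_, ?_, ?_, ?_, ?_⟩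
  · rw [hBR]; exact hYR
  · intro χ hχ hχY σ hσ
    rw [hBR, hXY] at hχ
    rcases hχ with hX | hY
    · exact sig_eq_of_values P hP σ hσ θ hθ χ (ε χ) (hvalX χ hX)
    · exact absurd hY hχY
  · rw [hcY', ht]
    exact Dvd.intro_left _ rfl
  · rw [hBR, hcard, hcY', ht, Nat.mul_div_cancel_left t hepos,
      Nat.mul_div_cancel (inertia P θ) htpos, add_comm]
  · intro χ _
    dsimp only
    by_cases hχY : χ ∈ Y
    · rw [if_pos hχY]; exact hδ
    · rw [if_neg hχY]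
      rcases hε χ with h | h
      · right; rw [h]
      · left; rw [h]; norm_num
  · intro x hx θ₁ hθ₁
    have hBY : B \ Y = X := by
      rw [hBR, hXY]
      ext χ
      constructor
      · rintro ⟨h1 | h1, h2⟩
        · exact h1
        · exact absurd h1 h2
      · intro h1
        exact ⟨Or.inl h1, fun h2 => Set.disjoint_left.mp hdisj h1 h2⟩
    dsimp only
    rw [hBY, if_pos hθ₁]
    have h1 : ∑ᶠ χ ∈ X, (((if χ ∈ Y then δ else -ε χ : ℤ) : ℂ)) * (χ : G → ℂ) x =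
        ∑ᶠ χ ∈ X, -((ε χ : ℂ) * (χ : G → ℂ) x) := by
      apply finsum_mem_congr rfl
      intro χ hχ
      have hχY : χ ∉ Y := fun h2 => Set.disjoint_left.mp hdisj hχ h2
      rw [if_neg hχY]
      push_cast
      ring
    have hXfin : X.Finite := by
      have : Finite (IrrCharacter G) := Helper79.irr_finite'
      exact Set.toFinite _
    have h2 : ∑ᶠ χ ∈ X, -((ε χ : ℂ) * (χ : G → ℂ) x) =
        -∑ᶠ χ ∈ X, (ε χ : ℂ) * (χ : G → ℂ) x :=
      finsum_mem_neg_distrib (f := fun χ : IrrCharacter G => (ε χ : ℂ) * (χ : G → ℂ) x) hXfin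
    rw [h1, h2, ← hrel θ₁ hθ₁ x hx]
    ring


/-- a block of positive defect has a member of `p'`-degree (when `p ∥ |G|`) -/
theorem exists_not_dvd_of_blockDefect_pos (hP : Nat.card P = p) (B : Set (IrrCharacter G))
    (hBne : B.Nonempty) (hd : 0 < blockDefect p B) :
    ∃ χ ∈ B, ¬ p ∣ charDegree (χ : G → ℂ) := by
  have hp : p.Prime := Fact.out
  unfold blockDefect at hd
  rw [factorization_card_eq_one P hP] at hd
  set S := (fun χ : IrrCharacter G => (charDegree (χ : G → ℂ)).factorization p) '' B with hS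
  have hSne : S.Nonempty := hBne.image _
  have h0 : sInf S = 0 := by omega
  have hmem : sInf S ∈ S := Nat.sInf_mem hSne
  rw [h0] at hmem
  obtain ⟨χ, hχ, hfac⟩ := hmem
  refine ⟨χ, hχ, ?_⟩
  intro hdvd
  have hpos := Helper74.charDegree_pos' χ
  rcases (Nat.factorization_eq_zero_iff _ _).mp hfac with h | h | h
  · exact h hp
  · exact h hdvd
  · omega

/-- **S4507** for a `Fintype` group with a Sylow `p`-subgroup of order `p`. -/
theorem full_defect_families (hM : IsPModular p M) (hP : Nat.card P = p)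
    (B : Set (IrrCharacter G)) (hB : IsPBlock M B) (hd : 0 < blockDefect p B) (ω : ℂ)
    (hω : IsPrimitiveRoot ω (Nat.card G / p)) :
    ∃ Y : Set (IrrCharacter G), Y ⊆ B ∧ Y.Nonempty ∧
      (∀ θ ∈ Y, ∀ ψ : IrrCharacter G, (∃ σ : ℂ ≃+* ℂ, σ ω = ω ∧
        (ψ : G → ℂ) = fun g => σ ((θ : G → ℂ) g)) ↔ ψ ∈ Y) ∧
      (∀ χ ∈ B, χ ∉ Y → ∀ ψ : IrrCharacter G, (∃ σ : ℂ ≃+* ℂ, σ ω = ω ∧
        (ψ : G → ℂ) = fun g => σ ((χ : G → ℂ) g)) → ψ = χ) ∧
      Nat.card Y ∣ p - 1 ∧ Nat.card B = Nat.card Y + (p - 1) / Nat.card Y ∧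
      ∃ δ : IrrCharacter G → ℤ, (∀ χ ∈ B, δ χ = 1 ∨ δ χ = -1) ∧
        ∀ x : G, ¬ p ∣ orderOf x → ∀ θ ∈ Y,
          (∑ᶠ χ ∈ B \ Y, (δ χ : ℂ) * (χ : G → ℂ) x) + (δ θ : ℂ) * (θ : G → ℂ) x = 0 := by
  have hMp : M.IsPrime := IsPModular.isPrime hM
  have hfull := exists_not_dvd_of_blockDefect_pos P hP B (Helper78.isPBlock_nonempty hMp hB) hd
  obtain ⟨Y, δ', hYB, hYne, hclosed, htrans, hfix, hdvd, hcard, hδ', hrel⟩ :=
    galois_structure P M hM hP B hB hfull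
  -- the two forms of the Galois condition
  have hform : ∀ σ : ℂ ≃+* ℂ, σ ω = ω ↔ ∀ μ : ℂ, μ ^ (Nat.card G / p) = 1 → σ μ = μ := by
    intro σ
    constructor
    · intro h μ hμ
      have : NeZero (Nat.card G / p) := ⟨(card_div_pos P hP).ne'⟩
      obtain ⟨j, -, rfl⟩ := hω.eq_pow_of_pow_eq_one hμ
      rw [map_pow, h]
    · intro h
      exact h ω hω.pow_eq_one
  refine ⟨Y, hYB, hYne, ?_, ?_, hdvd, hcard, δ', hδ', hrel⟩
  · intro θ₁ hθ₁ ψ
    constructor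
    · rintro ⟨σ, hσ, hψ⟩
      have : ψ = sig σ θ₁ := Subtype.ext hψ
      rw [this]
      exact hclosed θ₁ hθ₁ σ ((hform σ).mp hσ)
    · intro hψ
      obtain ⟨σ, hσ, hσψ⟩ := htrans θ₁ hθ₁ ψ hψ
      refine ⟨σ, (hform σ).mpr hσ, ?_⟩
      rw [← hσψ]
      rfl
  · rintro χ hχ hχY ψ ⟨σ, hσ, hψ⟩
    have : ψ = sig σ χ := Subtype.ext hψ
    rw [this]
    exact hfix χ hχ hχY σ ((hform σ).mp hσ)

end Cfsg.Agent.Helper77.DefOne
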