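import Mathlib
import Cfsg.Prelude.Def_Blocks
import Cfsg.Agent.Helper78.LocalRing
import Cfsg.Agent.Helper3.CharVal

/-!
# Eigenvalue multiplicities of a `p`-regular element whose character values are congruent to the
degree (helper77)

If `μ : Fin n → ℂ` is a family of `c`-th roots of unity (`c` prime to `p`, `n < 2p`) whose power
sums `S_j` satisfy `S_j / n ≡ 1` modulo the local ideal at `M`, and whose product is `1`, then all
`μ i` are `1`.  This is the arithmetic heart of the classical argument "a faithful character of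
degree `< 2p` in the principal block of a perfect group forces `C_G(P)` to be a `p`-group".
-/

set_option autoImplicit false

namespace Cfsg.Agent.Helper77

open Cfsg Module

/-- The determinant of an endomorphism in terms of an eigenbasis. -/
theorem det_eq_prod_of_eigenbasis {V : Type*} [AddCommGroup V] [Module ℂ V]
    {ι : Type*} [Fintype ι] [DecidableEq ι] (b : Basis ι ℂ V) (f : Module.End ℂ V) (μ : ι → ℂ)
    (h : ∀ i, f (b i) = μ i • b i) : LinearMap.det f = ∏ i, μ i := by
  rw [← LinearMap.det_toMatrix b f]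
  have : LinearMap.toMatrix b b f = Matrix.diagonal μ := by
    ext i j
    rw [LinearMap.toMatrix_apply, h j]
    by_cases hij : i = j
    · subst hij; simp
    · simp [Matrix.diagonal_apply_ne _ hij, Ne.symm hij]
  rw [this, Matrix.det_diagonal]

/-- In a perfect group every representation has determinant one. -/
theorem det_rep_eq_one_of_perfect {G : Type*} [Group G] (hperf : commutator G = ⊤)
    {V : Type*} [AddCommGroup V] [Module ℂ V] (ρ : Representation ℂ G V) (g : G) :
    LinearMap.det (ρ g) = 1 := by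
  let φ : G →* ℂ := (LinearMap.det : (V →ₗ[ℂ] V) →* ℂ).comp ρ
  have h1 : commutator G ≤ φ.toHomUnits.ker := Abelianization.commutator_subset_ker _
  have h2 : g ∈ φ.toHomUnits.ker := h1 (by rw [hperf]; trivial)
  have h3 : φ.toHomUnits g = 1 := h2
  have h4 : ((φ.toHomUnits g : ℂˣ) : ℂ) = 1 := by rw [h3]; rfl
  rw [MonoidHom.coe_toHomUnits] at h4
  exact h4

/-- Geometric sum of a `c`-th root of unity. -/
theorem sum_pow_root {c : ℕ} (w : ℂ) (hw : w ^ c = 1) :
    ∑ j ∈ Finset.range c, w ^ j = if w = 1 then (c : ℂ) else 0 := by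
  split_ifs with h
  · subst h; simp
  · rw [geom_sum_eq h, hw, sub_self, zero_div]

/-- Counting the eigenvalues equal to `ζ` by the orthogonality relations. -/
theorem sum_inv_pow_mul_powerSum {n c : ℕ} (hc0 : 0 < c) (μ : Fin n → ℂ) (hμ : ∀ i, μ i ^ c = 1)
    (ζ : ℂ) (hζ : ζ ^ c = 1) :
    ∑ j ∈ Finset.range c, (ζ⁻¹) ^ j * ∑ i, μ i ^ j =
      (c : ℂ) * ((Finset.univ.filter (fun i => μ i = ζ)).card : ℂ) := by
  have hζ0 : ζ ≠ 0 := by
    intro h0; rw [h0, zero_pow hc0.ne'] at hζ; exact zero_ne_one hζ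
  calc ∑ j ∈ Finset.range c, (ζ⁻¹) ^ j * ∑ i, μ i ^ j
      = ∑ i, ∑ j ∈ Finset.range c, (μ i * ζ⁻¹) ^ j := by
        rw [Finset.sum_comm]
        refine Finset.sum_congr rfl fun j _ => ?_
        rw [Finset.mul_sum]
        refine Finset.sum_congr rfl fun i _ => ?_
        rw [mul_pow, mul_comm]
    _ = ∑ i, (if μ i = ζ then (c : ℂ) else 0) := by
        refine Finset.sum_congr rfl fun i _ => ?_
        rw [sum_pow_root (μ i * ζ⁻¹) (by rw [mul_pow, hμ i, inv_pow, hζ, inv_one, mul_one])]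
        have : (μ i * ζ⁻¹ = 1) ↔ μ i = ζ := by
          constructor
          · intro h
            have := congrArg (· * ζ) h
            simpa [mul_assoc, inv_mul_cancel₀ hζ0] using this
          · intro h; rw [h, mul_inv_cancel₀ hζ0]
        simp only [this]
    _ = (c : ℂ) * ((Finset.univ.filter (fun i => μ i = ζ)).card : ℂ) := by
        rw [← Finset.sum_filter, Finset.sum_const, nsmul_eq_mul, mul_comm]

variable {p : ℕ} {M : Ideal AlgInt}

/-- The multiplicity of a non-trivial eigenvalue, divided by the degree, lies in the local ideal. -/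
theorem count_div_memLocalIdeal (hM : IsPModular p M) {n c : ℕ} (hc : c.Coprime p) (hc0 : 0 < c)
    (μ : Fin n → ℂ) (hμ : ∀ i, μ i ^ c = 1)
    (hJ : ∀ j, MemLocalIdeal M (1 - (∑ i, μ i ^ j) / (n : ℂ))) (ζ : ℂ) (hζ : ζ ^ c = 1)
    (hζ1 : ζ ≠ 1) :
    MemLocalIdeal M (((Finset.univ.filter (fun i => μ i = ζ)).card : ℂ) / (n : ℂ)) := by
  have hMp : M.IsPrime := Helper78.isPrime_of_isPModular hM
  have hζ0 : ζ ≠ 0 := by
    intro h0; rw [h0, zero_pow hc0.ne'] at hζ; exact zero_ne_one hζ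
  have hinv : (ζ⁻¹) ^ c = 1 := by rw [inv_pow, hζ, inv_one]
  have hinv1 : ζ⁻¹ ≠ 1 := fun h => hζ1 (by rw [← inv_inv ζ, h, inv_one])
  have hint : ∀ j : ℕ, MemLocalRing M ((ζ⁻¹) ^ j) := by
    intro j
    refine Helper78.memLocalRing_pow hMp (Helper78.memLocalRing_of_isIntegral hMp ?_) j
    refine IsIntegral.of_pow hc0 ?_
    rw [hinv]; exact isIntegral_one
  have hsum0 : ∑ j ∈ Finset.range c, (ζ⁻¹) ^ j = 0 := by
    rw [sum_pow_root _ hinv, if_neg hinv1]
  have h1 := sum_inv_pow_mul_powerSum hc0 μ hμ ζ hζ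
  -- `c * a / n = - ∑_j ζ⁻ʲ (1 - S_j / n)`
  have h2 : (c : ℂ) * ((Finset.univ.filter (fun i => μ i = ζ)).card : ℂ) / (n : ℂ) =
      - ∑ j ∈ Finset.range c, (ζ⁻¹) ^ j * (1 - (∑ i, μ i ^ j) / (n : ℂ)) := by
    rw [← h1, Finset.sum_div]
    have : ∑ j ∈ Finset.range c, (ζ⁻¹) ^ j * (1 - (∑ i, μ i ^ j) / (n : ℂ)) =
        ∑ j ∈ Finset.range c, (ζ⁻¹) ^ j - ∑ j ∈ Finset.range c, (ζ⁻¹) ^ j * (∑ i, μ i ^ j) / (n : ℂ) := by
      rw [← Finset.sum_sub_distrib]
      refine Finset.sum_congr rfl fun j _ => ?_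
      ring
    rw [this, hsum0, zero_sub, neg_neg]
  have h3 : MemLocalIdeal M ((c : ℂ) * ((Finset.univ.filter (fun i => μ i = ζ)).card : ℂ) / (n : ℂ)) := by
    rw [h2]
    refine Helper78.memLocalIdeal_neg ?_
    refine Helper78.memLocalIdeal_sum hMp _ _ fun j _ => ?_
    exact Helper78.memLocalIdeal_mul_left hMp (hint j) (hJ j)
  have hcne : (c : ℂ) ≠ 0 := by exact_mod_cast hc0.ne'
  have h4 := Helper78.memLocalIdeal_mul_left hMp (Helper78.memLocalRing_inv_natCast hM hc) h3
  have h5 : (c : ℂ)⁻¹ * ((c : ℂ) * ((Finset.univ.filter (fun i => μ i = ζ)).card : ℂ) / (n : ℂ)) =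
      ((Finset.univ.filter (fun i => μ i = ζ)).card : ℂ) / (n : ℂ) := by
    field_simp
  rwa [h5] at h4

/-- If `a / n` lies in the local ideal and `n < 2p`, then `a = 0` or `p ≤ a` with `p ∣ a`; more
precisely: `p ∣ a`, and `p ^ 2 ∣ a` if `p ∣ n`. -/
theorem dvd_of_div_memLocalIdeal (hM : IsPModular p M) {a n : ℕ} (hn0 : 0 < n)
    (h : MemLocalIdeal M ((a : ℂ) / (n : ℂ))) : p ∣ a ∧ (p ∣ n → p ^ 2 ∣ a) := by
  have hMp : M.IsPrime := Helper78.isPrime_of_isPModular hM
  have hnne : (n : ℂ) ≠ 0 := by exact_mod_cast hn0.ne'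
  have hpa : p ∣ a := by
    have h1 := Helper78.memLocalIdeal_mul_left hMp (Helper78.memLocalRing_natCast hMp n) h
    rw [mul_div_cancel₀ _ hnne] at h1
    exact (Helper78.memLocalIdeal_natCast_iff hM).1 h1
  refine ⟨hpa, fun hpn => ?_⟩
  obtain ⟨n', rfl⟩ := hpn
  obtain ⟨a', rfl⟩ := hpa
  have hp0 : (p : ℂ) ≠ 0 := by exact_mod_cast hM.1.ne_zero
  have hn'0 : 0 < n' := Nat.pos_of_ne_zero (fun h0 => by rw [h0, mul_zero] at hn0; exact lt_irrefl _ hn0)
  have hn'ne : (n' : ℂ) ≠ 0 := by exact_mod_cast hn'0.ne'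
  have h2 : MemLocalIdeal M ((a' : ℂ) / (n' : ℂ)) := by
    have : ((p * a' : ℕ) : ℂ) / ((p * n' : ℕ) : ℂ) = (a' : ℂ) / (n' : ℂ) := by
      push_cast; rw [mul_div_mul_left _ _ hp0]
    rwa [this] at h
  have h3 := Helper78.memLocalIdeal_mul_left hMp (Helper78.memLocalRing_natCast hMp n') h2
  rw [mul_div_cancel₀ _ hn'ne] at h3
  have hpa' : p ∣ a' := (Helper78.memLocalIdeal_natCast_iff hM).1 h3
  rw [pow_two]
  exact Nat.mul_dvd_mul_left p hpa'

/-- **Arithmetic core.**  Roots of unity of order prime to `p`, fewer than `2p` of them, whose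
power sums are congruent to their number (relative to that number) and whose product is one, are
all equal to one. -/
theorem all_eq_one_of_congr (hM : IsPModular p M) {n c : ℕ} (hn : n < 2 * p) (hc : c.Coprime p)
    (hc0 : 0 < c) (μ : Fin n → ℂ) (hμ : ∀ i, μ i ^ c = 1)
    (hJ : ∀ j, MemLocalIdeal M (1 - (∑ i, μ i ^ j) / (n : ℂ))) (hdet : ∏ i, μ i = 1) :
    ∀ i, μ i = 1 := by
  classical
  have hp : p.Prime := hM.1
  by_contra hcon
  push Not at hcon
  obtain ⟨i₀, hi₀⟩ := hcon
  have hn0 : 0 < n := Fin.pos i₀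
  -- multiplicities of non-trivial eigenvalues
  have key : ∀ i : Fin n, μ i ≠ 1 →
      p ∣ (Finset.univ.filter (fun i' => μ i' = μ i)).card ∧
      (p ∣ n → p ^ 2 ∣ (Finset.univ.filter (fun i' => μ i' = μ i)).card) ∧
      0 < (Finset.univ.filter (fun i' => μ i' = μ i)).card := by
    intro i hi
    have h1 := count_div_memLocalIdeal hM hc hc0 μ hμ hJ (μ i) (hμ i) hi
    have h2 := dvd_of_div_memLocalIdeal hM hn0 h1
    refine ⟨h2.1, h2.2, Finset.card_pos.mpr ⟨i, by simp⟩⟩
  set A := Finset.univ.filter (fun i' => μ i' = μ i₀) with hA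
  obtain ⟨hpA, hp2A, hA0⟩ := key i₀ hi₀
  have hAle : A.card ≤ n := by
    have := Finset.card_le_univ A
    simpa using this
  -- `A.card = p`
  have hAp : A.card = p := by
    obtain ⟨t, ht⟩ := hpA
    have ht0 : 0 < t := Nat.pos_of_ne_zero (fun h0 => by rw [ht, h0, mul_zero] at hA0; exact lt_irrefl _ hA0)
    have : p * t < 2 * p := by rw [← ht]; exact lt_of_le_of_lt hAle hn
    have ht2 : t < 2 := by
      by_contra hge
      push Not at hge
      have : 2 * p ≤ p * t := by rw [mul_comm]; exact Nat.mul_le_mul_left p hge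
      omega
    have : t = 1 := by omega
    rw [ht, this, mul_one]
  -- all eigenvalues are `1` or `μ i₀`
  have hall : ∀ i, μ i = 1 ∨ μ i = μ i₀ := by
    intro i
    by_contra hni
    push Not at hni
    obtain ⟨hpA', -, hA'0⟩ := key i hni.1
    set A' := Finset.univ.filter (fun i' => μ i' = μ i) with hA'
    have hA'p : p ≤ A'.card := Nat.le_of_dvd hA'0 hpA'
    have hdisj : Disjoint A A' := by
      rw [Finset.disjoint_left]
      intro x hx hx'
      rw [hA, Finset.mem_filter] at hx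
      rw [hA', Finset.mem_filter] at hx'
      exact hni.2 (hx'.2.symm.trans hx.2)
    have : (A ∪ A').card ≤ n := by
      have := Finset.card_le_univ (A ∪ A')
      simpa using this
    rw [Finset.card_union_of_disjoint hdisj, hAp] at this
    omega
  -- the product
  have hprod : ∏ i, μ i = μ i₀ ^ p := by
    rw [← Finset.prod_filter_mul_prod_filter_not Finset.univ (fun i' => μ i' = μ i₀)]
    have h1 : ∏ i ∈ Finset.univ.filter (fun i' => μ i' = μ i₀), μ i = μ i₀ ^ A.card := by
      rw [Finset.prod_eq_pow_card (b := μ i₀)]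
      intro i hi
      exact (Finset.mem_filter.mp hi).2
    have h2 : ∏ i ∈ Finset.univ.filter (fun i' => ¬ μ i' = μ i₀), μ i = 1 := by
      refine Finset.prod_eq_one fun i hi => ?_
      have := (Finset.mem_filter.mp hi).2
      rcases hall i with h | h
      · exact h
      · exact absurd h this
    rw [h1, h2, mul_one, hAp]
  rw [hdet] at hprod
  have hg : μ i₀ ^ Nat.gcd p c = 1 := pow_gcd_eq_one.mpr ⟨hprod.symm, hμ i₀⟩
  have hgcd : Nat.gcd p c = 1 := by
    have := hc.symm
    exact this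
  rw [hgcd, pow_one] at hg
  exact hi₀ hg

end Cfsg.Agent.Helper77
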