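import Cfsg.Agent.Helper25.FSwan.Defs
import Cfsg.Agent.Helper15.CliffordCorr
import Cfsg.Agent.S0921
import Cfsg.Agent.Helper29.FS_S2b
import Cfsg.Agent.Helper65.FS_CON

/-!
helper77 for helper25's Fong–Swan farm (#15059, S4440), leaf (S2h), CORE: the `θ`-part of an
irreducible Brauer character of `T` is itself or `0`, with the leaves (BLK) and (S2a) as explicit
hypotheses (`thetaProj_IBr_of`); the final leaf `thetaProj_IBr` (file `FS_S2h.lean`) plugs them in.
-/

set_option autoImplicit false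
set_option linter.unusedSectionVars false
set_option linter.unusedVariables false
set_option linter.style.haveILetI false

namespace Cfsg.Agent.Helper77.FS

open Cfsg Cfsg.Agent.Helper16 Cfsg.Agent.Helper16.DT Cfsg.Agent.Helper25.FS

universe u

variable {p : ℕ} [Fact p.Prime] {M : Ideal AlgInt} [M.IsMaximal] {G : Type u} [Group G]

section ST2

variable [Fintype G] (N : Subgroup G) [hN : N.Normal] [Fintype N]

omit [Fintype G] hN [M.IsMaximal] in
/-- the `θ`-part of a finite sum -/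
theorem S2h_thetaProj_sum (T : Subgroup G) (hNT : N ≤ T) (θ : N → ℂ) {ι : Type*} (s : Finset ι)
    (f : ι → T → ℂ) :
    thetaProj N T hNT θ (∑ i ∈ s, f i) = ∑ i ∈ s, thetaProj N T hNT θ (f i) := by
  classical
  induction s using Finset.induction_on with
  | empty =>
    simp only [Finset.sum_empty]
    funext t
    simp [thetaProj]
  | insert a s ha ih =>
    rw [Finset.sum_insert ha, Finset.sum_insert ha, Helper29.FS.thetaProj_add, ih]

/-- (S2h), core: the `θ`-part of an irreducible Brauer character of `T` is itself or `0`, given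
(BLK) for `T` and (S2a). -/
theorem thetaProj_IBr_of (hM : IsPModular p M) (hNp : ¬ p ∣ Nat.card N) (T : Subgroup G) [Fintype T]
    (hNT : N ≤ T) (θ : IrrCharacter N)
    (hBLK : ∀ {φ : T → ℂ} {χ : IrrCharacter T}, BrConst p M φ (χ : T → ℂ) →
      ∃ a : IrrCharacter T → ℤ,
        φ = ∑ᶠ χ' ∈ blockOf M (χ : T → ℂ), (a χ' : ℂ) • pRegularPart p (χ' : T → ℂ))
    (hS2a : ∀ ψ : IrrCharacter T,
      (classInner (Helper15.resTo N T hNT (ψ : T → ℂ)) (θ : N → ℂ) ≠ 0 →
        thetaProj N T hNT (θ : N → ℂ) (ψ : T → ℂ) = (ψ : T → ℂ)) ∧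
      (classInner (Helper15.resTo N T hNT (ψ : T → ℂ)) (θ : N → ℂ) = 0 →
        thetaProj N T hNT (θ : N → ℂ) (ψ : T → ℂ) = 0)) {φ' : T → ℂ}
    (hφ' : φ' ∈ IBr p M T) :
    thetaProj N T hNT (θ : N → ℂ) φ' = φ' ∨ thetaProj N T hNT (θ : N → ℂ) φ' = 0 := by
  classical
  have hpM : (p : AlgInt) ∈ M := hM.2.2
  obtain ⟨ψ, hψ⟩ := Helper65.FS.exists_brConst (p := p) (M := M) hpM hφ'
  obtain ⟨a, ha⟩ := hBLK hψ
  -- the normal subgroup `N.subgroupOf T` of `T` and the transported character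
  have : (N.subgroupOf T).Normal := Subgroup.normal_subgroupOf
  haveI : Fintype (N.subgroupOf T) := Fintype.ofFinite _
  have hNp' : ¬ p ∣ Nat.card (N.subgroupOf T) := by
    rw [Nat.card_congr (Subgroup.subgroupOfEquivOfLe hNT).toEquiv]
    exact hNp
  let θ' : IrrCharacter (N.subgroupOf T) :=
    ⟨Helper15.toSub N T hNT (θ : N → ℂ), Helper15.isIrrCharacter_toSub N T hNT θ.2⟩
  have hinner : ∀ ψ' : IrrCharacter T,
      classInner (fun n : N.subgroupOf T => (ψ' : T → ℂ) n) (θ' : N.subgroupOf T → ℂ)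
        = classInner (Helper15.resTo N T hNT (ψ' : T → ℂ)) (θ : N → ℂ) := by
    intro ψ'
    rw [Helper15.restrict_subgroupOf N T hNT (ψ' : T → ℂ)]
    exact Helper15.classInner_toSub N T hNT _ _
  have hblock : ∀ ψ' ∈ blockOf M (ψ : T → ℂ),
      (classInner (Helper15.resTo N T hNT (ψ : T → ℂ)) (θ : N → ℂ) ≠ 0 ↔
        classInner (Helper15.resTo N T hNT (ψ' : T → ℂ)) (θ : N → ℂ) ≠ 0) := by
    intro ψ' hψ'
    have := Cfsg.Agent.S0921.main p M hM (N.subgroupOf T) hNp' ψ ψ' hψ' θ'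
    rw [hinner ψ, hinner ψ'] at this
    exact this
  letI : Fintype (IrrCharacter T) := Helper74.irrFintype T
  have hfin : (blockOf M (ψ : T → ℂ)).Finite := Set.toFinite _
  rw [finsum_mem_eq_finite_toFinset_sum _ hfin] at ha
  have key : thetaProj N T hNT (θ : N → ℂ) φ'
      = ∑ ψ' ∈ hfin.toFinset, (a ψ' : ℂ) •
          pRegularPart p (thetaProj N T hNT (θ : N → ℂ) (ψ' : T → ℂ)) := by
    conv_lhs => rw [ha]
    rw [S2h_thetaProj_sum]
    refine Finset.sum_congr rfl (fun ψ' _ => ?_)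
    rw [Helper29.FS.thetaProj_smul, Helper29.FS.thetaProj_pRegularPart N hNp]
  by_cases hψθ : classInner (Helper15.resTo N T hNT (ψ : T → ℂ)) (θ : N → ℂ) ≠ 0
  · left
    rw [key]
    conv_rhs => rw [ha]
    refine Finset.sum_congr rfl (fun ψ' hψ' => ?_)
    have hmem : ψ' ∈ blockOf M (ψ : T → ℂ) := hfin.mem_toFinset.mp hψ'
    rw [(hS2a ψ').1 ((hblock ψ' hmem).mp hψθ)]
  · right
    rw [key]
    refine Finset.sum_eq_zero (fun ψ' hψ' => ?_)
    have hmem : ψ' ∈ blockOf M (ψ : T → ℂ) := hfin.mem_toFinset.mp hψ'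
    have h0 : classInner (Helper15.resTo N T hNT (ψ' : T → ℂ)) (θ : N → ℂ) = 0 := by
      by_contra hne
      exact hψθ ((hblock ψ' hmem).mpr hne)
    rw [(hS2a ψ').2 h0]
    have : pRegularPart p (0 : T → ℂ) = 0 := by
      funext t
      simp [pRegularPart]
    rw [this, smul_zero]

end ST2

end Cfsg.Agent.Helper77.FS
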