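import Cfsg.Agent.Helper77.BlockFusion

/-!
# Normalizers in the subgroup of a maximal Brauer pair and defect groups of stabilizer blocks

(helper77, file 28.)
-/

set_option autoImplicit false
set_option linter.unusedSectionVars false

namespace Cfsg.Agent.Helper77

open Cfsg
open Cfsg.Agent.Helper16 (omega conv classInd deltaOne)

variable {G : Type*} [Group G] [Fintype G] {M : Ideal AlgInt} {p : ℕ}

/-- A block is determined by its idempotent. -/
theorem isPBlock_eq_of_blockCoeff_eq [M.IsPrime] {F F' : Set (IrrCharacter G)}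
    (hF : IsPBlock M F) (hF' : IsPBlock M F') (h : ∀ t, blockCoeff F t = blockCoeff F' t) :
    F = F' := by
  have hfun : blockCoeff F = blockCoeff F' := funext h
  ext χ
  have h1 := omega_blockCoeff hF χ
  have h2 := omega_blockCoeff hF' χ
  rw [hfun, h2] at h1
  by_cases hχ : χ ∈ F
  · by_cases hχ' : χ ∈ F'
    · exact ⟨fun _ => hχ', fun _ => hχ⟩
    · rw [if_neg hχ', if_pos hχ] at h1
      exact absurd h1 zero_ne_one
  · by_cases hχ' : χ ∈ F'
    · rw [if_pos hχ', if_neg hχ] at h1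
      exact absurd h1 one_ne_zero
    · exact ⟨fun h => absurd h hχ, fun h => absurd h hχ'⟩

section Transport

theorem mem_normalizer_conj_iff (K K' : Subgroup G) (x : G)
    (h1 : ∀ k ∈ K, x * k * x⁻¹ ∈ K') (h2 : ∀ k ∈ K', x⁻¹ * k * x ∈ K) (y : G) :
    x * y * x⁻¹ ∈ Subgroup.normalizer (K' : Set G) ↔ y ∈ Subgroup.normalizer (K : Set G) := by
  have hiff : ∀ k, k ∈ K' ↔ x⁻¹ * k * x ∈ K := fun k =>
    ⟨h2 k, fun h => by
      have := h1 _ h
      have e : x * (x⁻¹ * k * x) * x⁻¹ = k := by group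
      rwa [e] at this⟩
  constructor
  · intro h
    rw [Subgroup.mem_normalizer_iff]
    intro k
    have h3 := (Subgroup.mem_normalizer_iff.mp h) (x * k * x⁻¹)
    have e1 : x⁻¹ * (x * k * x⁻¹) * x = k := by group
    have e2 : x⁻¹ * (x * y * x⁻¹ * (x * k * x⁻¹) * (x * y * x⁻¹)⁻¹) * x = y * k * y⁻¹ := by group
    have h4 : x * k * x⁻¹ ∈ K' ↔ x * y * x⁻¹ * (x * k * x⁻¹) * (x * y * x⁻¹)⁻¹ ∈ K' := h3
    rw [hiff, hiff, e1, e2] at h4
    exact h4
  · intro h
    rw [Subgroup.mem_normalizer_iff]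
    intro k
    have h3 : x⁻¹ * k * x ∈ K ↔ y * (x⁻¹ * k * x) * y⁻¹ ∈ K :=
      (Subgroup.mem_normalizer_iff.mp h) (x⁻¹ * k * x)
    have e2 : x⁻¹ * (x * y * x⁻¹ * k * (x * y * x⁻¹)⁻¹) * x = y * (x⁻¹ * k * x) * y⁻¹ := by group
    show k ∈ K' ↔ x * y * x⁻¹ * k * (x * y * x⁻¹)⁻¹ ∈ K'
    rw [hiff, hiff (x * y * x⁻¹ * k * (x * y * x⁻¹)⁻¹), e2]
    exact h3

theorem isConjCharOf_conjEquiv_iff {K K' : Subgroup G} (x : G)
    (h1 : ∀ k ∈ K, x * k * x⁻¹ ∈ K') (h2 : ∀ k ∈ K', x⁻¹ * k * x ∈ K) (y : G)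
    (χ χ₂ : IrrCharacter K) :
    IsConjCharOf K' (x * y * x⁻¹) (Helper78.irrMap (Helper78.conjEquiv x h1 h2) χ : K' → ℂ)
      (Helper78.irrMap (Helper78.conjEquiv x h1 h2) χ₂ : K' → ℂ) ↔
      IsConjCharOf K y (χ : K → ℂ) (χ₂ : K → ℂ) := by
  constructor
  · intro h k k' hkk'
    have := h (Helper78.conjEquiv x h1 h2 k) (Helper78.conjEquiv x h1 h2 k') (by
      rw [Helper78.coe_conjEquiv, Helper78.coe_conjEquiv, hkk']
      group)
    rwa [Helper78.irrMap_apply_apply, Helper78.irrMap_apply_apply] at this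
  · intro h c c' hcc'
    rw [Helper78.irrMap_apply, Helper78.irrMap_apply]
    apply h
    show x⁻¹ * (c' : G) * x = y * (x⁻¹ * (c : G) * x) * y⁻¹
    rw [hcc']
    group

theorem stabilizesBlock_conjEquiv_iff {K K' : Subgroup G} (x : G)
    (h1 : ∀ k ∈ K, x * k * x⁻¹ ∈ K') (h2 : ∀ k ∈ K', x⁻¹ * k * x ∈ K) (y : G)
    (f : Set (IrrCharacter K)) :
    StabilizesBlock K' (Helper78.irrMap (Helper78.conjEquiv x h1 h2) '' f) (x * y * x⁻¹) ↔
      StabilizesBlock K f y := by
  unfold StabilizesBlock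
  rw [mem_normalizer_conj_iff K K' x h1 h2 y]
  constructor
  · rintro ⟨hN, hst⟩
    refine ⟨hN, fun χ hχ => ?_⟩
    obtain ⟨χ', ⟨χ₂, hχ₂, rfl⟩, hc⟩ := hst _ (Set.mem_image_of_mem _ hχ)
    exact ⟨χ₂, hχ₂, (isConjCharOf_conjEquiv_iff x h1 h2 y χ χ₂).mp hc⟩
  · rintro ⟨hN, hst⟩
    refine ⟨hN, ?_⟩
    rintro _ ⟨χ, hχ, rfl⟩
    obtain ⟨χ₂, hχ₂, hc⟩ := hst χ hχ
    exact ⟨_, Set.mem_image_of_mem _ hχ₂, (isConjCharOf_conjEquiv_iff x h1 h2 y χ χ₂).mpr hc⟩

theorem stabilizesBlock_conjBlock_iff (Q : Subgroup G) (x y : G)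
    (f : Set (IrrCharacter (Subgroup.centralizer (Q : Set G)))) :
    StabilizesBlock (Subgroup.centralizer ((Q.map (MulAut.conj x).toMonoidHom : Subgroup G) : Set G))
      (conjBlock Q x f) (x * y * x⁻¹) ↔
      StabilizesBlock (Subgroup.centralizer (Q : Set G)) f y := by
  rw [conjBlock_eq_image]
  exact stabilizesBlock_conjEquiv_iff x _ _ y f

theorem mem_normalizer_map_conj_iff (Q : Subgroup G) (x y : G) :
    x * y * x⁻¹ ∈ Subgroup.normalizer ((Q.map (MulAut.conj x).toMonoidHom : Subgroup G) : Set G) ↔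
      y ∈ Subgroup.normalizer (Q : Set G) :=
  mem_normalizer_conj_iff Q (Q.map (MulAut.conj x).toMonoidHom) x
    (fun k hk => Subgroup.mem_map.mpr ⟨k, hk, rfl⟩) (fun k hk => mem_map_conj_iff.mp hk) y

/-- The stabilizer of the conjugate block is the conjugate of the stabilizer. -/
theorem stab_conj_mem (Q : Subgroup G) (x : G)
    (f : Set (IrrCharacter (Subgroup.centralizer (Q : Set G)))) (T T' : Subgroup G)
    (hT : ∀ y : G, y ∈ T ↔ y ∈ Subgroup.normalizer (Q : Set G) ∧
      StabilizesBlock (Subgroup.centralizer (Q : Set G)) f y)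
    (hT' : ∀ y : G, y ∈ T' ↔
      y ∈ Subgroup.normalizer ((Q.map (MulAut.conj x).toMonoidHom : Subgroup G) : Set G) ∧
      StabilizesBlock (Subgroup.centralizer
        ((Q.map (MulAut.conj x).toMonoidHom : Subgroup G) : Set G)) (conjBlock Q x f) y) :
    (∀ k ∈ T, x * k * x⁻¹ ∈ T') ∧ (∀ k ∈ T', x⁻¹ * k * x ∈ T) := by
  constructor
  · intro k hk
    obtain ⟨hkN, hkS⟩ := (hT k).mp hk
    exact (hT' _).mpr ⟨(mem_normalizer_map_conj_iff Q x k).mpr hkN,
      (stabilizesBlock_conjBlock_iff Q x k f).mpr hkS⟩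
  · intro k hk
    obtain ⟨hkN, hkS⟩ := (hT' k).mp hk
    have e : x * (x⁻¹ * k * x) * x⁻¹ = k := by group
    rw [← e] at hkN hkS
    exact (hT _).mpr ⟨(mem_normalizer_map_conj_iff Q x _).mp hkN,
      (stabilizesBlock_conjBlock_iff Q x _ f).mp hkS⟩

/-- Transport of the stabilizer block along conjugation. -/
theorem blockCoeff_image_conjEquiv_stab (Q : Subgroup G) (x : G)
    (f : Set (IrrCharacter (Subgroup.centralizer (Q : Set G)))) (T T' : Subgroup G)
    (h1 : ∀ k ∈ T, x * k * x⁻¹ ∈ T') (h2 : ∀ k ∈ T', x⁻¹ * k * x ∈ T)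
    (F : Set (IrrCharacter T))
    (hFf : ∀ t : T, blockCoeff F t =
      extFun (Subgroup.centralizer (Q : Set G)) (blockCoeff f) (t : G)) (t' : T') :
    blockCoeff (Helper78.irrMap (Helper78.conjEquiv x h1 h2) '' F) t' =
      extFun (Subgroup.centralizer ((Q.map (MulAut.conj x).toMonoidHom : Subgroup G) : Set G))
        (blockCoeff (conjBlock Q x f)) (t' : G) := by
  rw [blockCoeff_image_irrMap', hFf, extFun_blockCoeff_conjBlock, conjFun_apply]
  rfl

end Transport

section Stab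

theorem stab_basic (Q : Subgroup G) (f : Set (IrrCharacter (Subgroup.centralizer (Q : Set G))))
    (T : Subgroup G)
    (hT : ∀ y : G, y ∈ T ↔ y ∈ Subgroup.normalizer (Q : Set G) ∧
      StabilizesBlock (Subgroup.centralizer (Q : Set G)) f y) :
    Q ≤ T ∧ Subgroup.centralizer (Q : Set G) ≤ T ∧ T ≤ Subgroup.normalizer (Q : Set G) ∧
      ∀ t ∈ T, StabilizesBlock (Subgroup.centralizer (Q : Set G)) f t :=
  ⟨fun y hy => (hT y).mpr ⟨Subgroup.le_normalizer hy, stabilizesBlock_of_mem_base Q f y hy⟩,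
   fun y hy => (hT y).mpr ⟨Subgroup.centralizer_le_normalizer _ hy,
    stabilizesBlock_of_mem_self _ f y hy⟩,
   fun y hy => ((hT y).mp hy).1, fun y hy => ((hT y).mp hy).2⟩

/-- The idempotent of `f` is a block idempotent of the stabilizer of `f` in `N_G(Q)`. -/
theorem exists_stabilizer_block [Fact p.Prime] (hM : IsPModular p M) (Q : Subgroup G)
    (hQ : IsPGroup p Q) (f : Set (IrrCharacter (Subgroup.centralizer (Q : Set G))))
    (hf : IsPBlock M f) (T : Subgroup G)
    (hT : ∀ y : G, y ∈ T ↔ y ∈ Subgroup.normalizer (Q : Set G) ∧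
      StabilizesBlock (Subgroup.centralizer (Q : Set G)) f y) :
    ∃ F : Set (IrrCharacter T), IsPBlock M F ∧ ∀ t : T, blockCoeff F t =
      extFun (Subgroup.centralizer (Q : Set G)) (blockCoeff f) (t : G) := by
  have hMp : M.IsPrime := isPrime_of_isPModular hM
  obtain ⟨hQT, hCT, hTN, hstab⟩ := stab_basic Q f T hT
  exact exists_block_of_stabilizer T _ hCT f hf hstab (fun E hE t ht =>
    blockCoeff_eq_zero_of_not_mem_centralizer_sub hM Q T hQ hQT hTN hE t ht)

/-- Below `(P, e)`, the pair on `Q` is normal in the pair on any `R ≤ P` normalizing `Q`. -/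
theorem exists_isNormalSubpair_of_subpairLE [Fact p.Prime] (hM : IsPModular p M)
    (P Q R : Subgroup G)
    (e : Set (IrrCharacter (Subgroup.centralizer (P : Set G))))
    (f : Set (IrrCharacter (Subgroup.centralizer (Q : Set G))))
    (hPe : IsBrauerPair p M P e) (hQR : Q ≤ R) (hRP : R ≤ P)
    (hRN : R ≤ Subgroup.normalizer (Q : Set G)) (hle : SubpairLE p M Q f P e) :
    ∃ fR : Set (IrrCharacter (Subgroup.centralizer (R : Set G))), IsPBlock M fR ∧
      IsNormalSubpair p M Q f R fR ∧ SubpairLE p M R fR P e := by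
  obtain ⟨fR, hfR, hRle⟩ := exists_subpairLE hM P e hPe _ R hRP (le_refl _)
  have hRp : IsBrauerPair p M R fR := ⟨hPe.1.to_le hRP, hfR⟩
  obtain ⟨f'', hf'', _⟩ := existsUnique_isNormalSubpair hM R Q fR hRp hQR hRN
  have hle'' : SubpairLE p M Q f'' P e :=
    Relation.ReflTransGen.head (show NormalSubpairRel p M ⟨Q, f''⟩ ⟨R, fR⟩ from hf'') hRle
  have hff : f'' = f := subpairLE_unique hM P e hPe _ Q (le_refl _) f'' f hle'' hle
  rw [hff] at hf''
  exact ⟨fR, hfR, hf'', hRle⟩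

/-- `N_P(Q)` stabilizes the block `f` with `(Q, f) ≤ (P, e)`. -/
theorem normalizerIn_le_stab [Fact p.Prime] (hM : IsPModular p M)
    (P Q : Subgroup G)
    (e : Set (IrrCharacter (Subgroup.centralizer (P : Set G))))
    (f : Set (IrrCharacter (Subgroup.centralizer (Q : Set G))))
    (hPe : IsBrauerPair p M P e) (hQP : Q ≤ P) (hle : SubpairLE p M Q f P e) (T : Subgroup G)
    (hT : ∀ y : G, y ∈ T ↔ y ∈ Subgroup.normalizer (Q : Set G) ∧
      StabilizesBlock (Subgroup.centralizer (Q : Set G)) f y) :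
    P ⊓ Subgroup.normalizer (Q : Set G) ≤ T := by
  obtain ⟨fR, _, hsub, _⟩ := exists_isNormalSubpair_of_subpairLE hM P Q
    (P ⊓ Subgroup.normalizer (Q : Set G)) e f hPe (le_inf hQP Subgroup.le_normalizer)
    inf_le_left inf_le_right hle
  intro y hy
  exact (hT y).mpr ⟨hy.2, hsub.2.2.2.2.1 y hy⟩

/-- **A subgroup of `P` containing `Q` and normalizing it lies, inside any `T ≥ C_G(Q)` having
the idempotent of `f` as a block idempotent, in a defect group of that block.** -/
theorem exists_defectGroup_ge_of_subpair [Fact p.Prime] (hM : IsPModular p M)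
    (P Q R : Subgroup G)
    (e : Set (IrrCharacter (Subgroup.centralizer (P : Set G))))
    (f : Set (IrrCharacter (Subgroup.centralizer (Q : Set G))))
    (hPe : IsBrauerPair p M P e) (hQR : Q ≤ R) (hRP : R ≤ P)
    (hRN : R ≤ Subgroup.normalizer (Q : Set G)) (hf : IsPBlock M f)
    (hle : SubpairLE p M Q f P e)
    (T : Subgroup G) (hCT : Subgroup.centralizer (Q : Set G) ≤ T)
    (F : Set (IrrCharacter T)) (hF : IsPBlock M F)
    (hFf : ∀ t : T, blockCoeff F t =
      extFun (Subgroup.centralizer (Q : Set G)) (blockCoeff f) (t : G)) :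
    ∃ D : Subgroup T, IsDefectGroup p M F D ∧ R.subgroupOf T ≤ D := by
  classical
  have hMp : M.IsPrime := isPrime_of_isPModular hM
  obtain ⟨fR, hfR, hsub, _⟩ := exists_isNormalSubpair_of_subpairLE hM P Q R e f hPe hQR hRP hRN hle
  obtain ⟨_, _, _, _, _, hbr⟩ := hsub
  obtain ⟨η, hη⟩ := Helper78.isPBlock_nonempty hMp hfR
  have hbrη : MemLocalIdeal M (brauerOmega R
      (extFun (Subgroup.centralizer (Q : Set G)) (blockCoeff f))
      (η : Subgroup.centralizer (R : Set G) → ℂ) - 1) := hbr η hη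
  let Ff : G → ℂ := extFun (Subgroup.centralizer (Q : Set G)) (blockCoeff f)
  have hCRH : Subgroup.centralizer (R : Set G) ≤ Subgroup.centralizer (Q : Set G) :=
    Subgroup.centralizer_le hQR
  have hFC : InvUnder (Subgroup.centralizer (R : Set G) : Set G) Ff :=
    (invUnder_extFun_of_isClassFunction _ (blockCoeff_isClassFunction hf)).le hCRH
  obtain ⟨c, hc⟩ : ∃ c : Subgroup.centralizer (R : Set G), ¬ MemLocalIdeal M (Ff (c : G)) := by
    by_contra hcon
    have hall : ∀ c : Subgroup.centralizer (R : Set G), MemLocalIdeal M (Ff (c : G)) :=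
      fun c => by_contra (fun h => hcon ⟨c, h⟩)
    have h1 : MemLocalIdeal M (brauerOmega R Ff (η : Subgroup.centralizer (R : Set G) → ℂ)) := by
      rw [brauerOmega_eq_omega]
      exact omega_memLocalIdeal η (isClassFunction_resFun hFC) (fun c => hall c)
    have h2 := Helper16.memLocalIdeal_sub h1 hbrη
    rw [sub_sub_cancel] at h2
    exact Helper16.not_memLocalIdeal_one h2
  obtain ⟨ξ₀, hξ₀⟩ := Helper78.isPBlock_nonempty hMp hF
  have hFeq : F = blockOf M (ξ₀ : T → ℂ) := Helper78.isPBlock_eq_blockOf_of_mem hMp hF hξ₀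
  obtain ⟨D₀, hD₀⟩ : ∃ D₀ : Subgroup T, IsDefectGroup p M F D₀ := by
    rw [hFeq]
    exact Helper16.exists_defectGroup p ξ₀
  have hRp : IsPGroup p (R.subgroupOf T) := (hPe.1.to_le hRP).comap_subtype
  have hcT : (c : G) ∈ T := hCT (hCRH c.2)
  have hcval : ¬ MemLocalIdeal M (blockCoeff F ⟨(c : G), hcT⟩) := by
    rw [hFf]
    exact hc
  have hcR : MemLocalRing M (blockCoeff F ⟨(c : G), hcT⟩) := blockCoeff_memLocalRing hF _
  have hccent : (⟨(c : G), hcT⟩ : T) ∈
      Subgroup.centralizer ((R.subgroupOf T : Subgroup T) : Set T) := by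
    rw [Subgroup.mem_centralizer_iff]
    intro u hu
    have hu' : (u : G) ∈ R := Subgroup.mem_subgroupOf.mp hu
    have := c.2
    rw [Subgroup.mem_centralizer_iff] at this
    exact Subtype.ext (this (u : G) hu')
  obtain ⟨x, hx⟩ := (Cfsg.Agent.S0959.result p M hM F hF D₀ hD₀ (R.subgroupOf T) hRp).mp
    ⟨⟨(c : G), hcT⟩, hcR, hcval, ⟨(c : G), hcT⟩, IsConj.refl _, hccent⟩
  refine ⟨D₀.map (MulAut.conj x⁻¹).toMonoidHom, ?_, ?_⟩
  · rw [hFeq] at hD₀ ⊢
    exact Helper78.isDefectGroup_map_conj ξ₀ hD₀ x⁻¹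
  · intro u hu
    have h1 : x * u * x⁻¹ ∈ D₀ := hx ⟨u, hu, rfl⟩
    refine ⟨x * u * x⁻¹, h1, ?_⟩
    show x⁻¹ * (x * u * x⁻¹) * x⁻¹⁻¹ = u
    group

/-- The stabilizer of `f` in `N_G(Q)` as a subgroup. -/
def stabT (Q : Subgroup G) (f : Set (IrrCharacter (Subgroup.centralizer (Q : Set G)))) :
    Subgroup G :=
  Subgroup.normalizer (Q : Set G) ⊓ stabSubgroup (Subgroup.centralizer (Q : Set G)) f

theorem mem_stabT (Q : Subgroup G) (f : Set (IrrCharacter (Subgroup.centralizer (Q : Set G))))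
    (y : G) : y ∈ stabT Q f ↔ y ∈ Subgroup.normalizer (Q : Set G) ∧
      StabilizesBlock (Subgroup.centralizer (Q : Set G)) f y := Iff.rfl

/-- **Conjugating a subpair of a maximal Brauer pair so that the normalizer in `P` becomes a
defect group of the stabilizer block.** -/
theorem exists_conj_normalizer_defectGroup [Fact p.Prime] (hM : IsPModular p M)
    (B : Set (IrrCharacter G)) (P Q : Subgroup G)
    (e : Set (IrrCharacter (Subgroup.centralizer (P : Set G))))
    (f : Set (IrrCharacter (Subgroup.centralizer (Q : Set G))))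
    (hmax : IsMaximalBrauerPair p M B P e) (hQP : Q ≤ P) (hf : IsPBlock M f)
    (hle : SubpairLE p M Q f P e) (T : Subgroup G)
    (hT : ∀ y : G, y ∈ T ↔ y ∈ Subgroup.normalizer (Q : Set G) ∧
      StabilizesBlock (Subgroup.centralizer (Q : Set G)) f y)
    (F : Set (IrrCharacter T)) (hF : IsPBlock M F)
    (hFf : ∀ t : T, blockCoeff F t =
      extFun (Subgroup.centralizer (Q : Set G)) (blockCoeff f) (t : G)) :
    ∃ x : G, SubpairLE p M (Q.map (MulAut.conj x).toMonoidHom) (conjBlock Q x f) P e ∧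
      ∀ (T' : Subgroup G), (∀ y : G, y ∈ T' ↔
        y ∈ Subgroup.normalizer ((Q.map (MulAut.conj x).toMonoidHom : Subgroup G) : Set G) ∧
        StabilizesBlock (Subgroup.centralizer
          ((Q.map (MulAut.conj x).toMonoidHom : Subgroup G) : Set G)) (conjBlock Q x f) y) →
        ∀ (h1 : ∀ k ∈ T, x * k * x⁻¹ ∈ T') (h2 : ∀ k ∈ T', x⁻¹ * k * x ∈ T),
          IsDefectGroup p M (Helper78.irrMap (Helper78.conjEquiv x h1 h2) '' F)
            ((P ⊓ Subgroup.normalizer
              ((Q.map (MulAut.conj x).toMonoidHom : Subgroup G) : Set G)).subgroupOf T') := by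
  classical
  have hMp : M.IsPrime := isPrime_of_isPModular hM
  have hPe : IsBrauerPair p M P e := hmax.1.1
  have hQp : IsPGroup p Q := hPe.1.to_le hQP
  have hQf : IsBrauerPair p M Q f := ⟨hQp, hf⟩
  have hQfB : IsBrauerPairOf p M B Q f :=
    (isBrauerPairOf_iff_of_subpairLE hM P Q e f hPe hQf hle B).mp hmax.1
  obtain ⟨hQT, hCT, hTN, hstabT⟩ := stab_basic Q f T hT
  obtain ⟨ξ₀, hξ₀⟩ := Helper78.isPBlock_nonempty hMp hF
  have hFeq : F = blockOf M (ξ₀ : T → ℂ) := Helper78.isPBlock_eq_blockOf_of_mem hMp hF hξ₀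
  obtain ⟨D, hD⟩ : ∃ D : Subgroup T, IsDefectGroup p M F D := by
    rw [hFeq]
    exact Helper16.exists_defectGroup p ξ₀
  obtain ⟨n₀, ⟨hn₀R, hn₀I, _⟩, hDle, hDcard⟩ := (Helper16.isDefectGroup_iff p F D).mp hD
  have hDp : IsPGroup p D := IsPGroup.of_card hDcard
  have hn : (Q.subgroupOf T).Normal := (Subgroup.normal_subgroupOf_iff_le_normalizer hQT).mpr hTN
  have hQ' : IsPGroup p (Q.subgroupOf T) := hQp.comap_subtype
  have hQD : Q.subgroupOf T ≤ D :=
    (Cfsg.Agent.Lib.le_pCore hn hQ').trans (Cfsg.Agent.S0912.result p M hM F hF D hD)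
  let DG : Subgroup G := D.map T.subtype
  have hDGp : IsPGroup p DG := hDp.map _
  have hDGT : DG ≤ T := Subgroup.map_subtype_le D
  have hQDG : Q ≤ DG := fun q hq =>
    ⟨⟨q, hQT hq⟩, hQD (Subgroup.mem_subgroupOf.mpr hq), rfl⟩
  have hDGN : DG ≤ Subgroup.normalizer (Q : Set G) := hDGT.trans hTN
  have hstab : ∀ y ∈ DG, StabilizesBlock (Subgroup.centralizer (Q : Set G)) f y :=
    fun y hy => hstabT y (hDGT hy)
  have hn₀val : ¬ MemLocalIdeal M
      (extFun (Subgroup.centralizer (Q : Set G)) (blockCoeff f) ((n₀ : T) : G)) := by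
    rw [← hFf]
    exact hn₀I
  have hn₀C : ((n₀ : T) : G) ∈ Subgroup.centralizer (DG : Set G) := by
    rw [Subgroup.mem_centralizer_iff]
    rintro _ ⟨d, hd, rfl⟩
    have := hDle hd
    rw [Subgroup.mem_centralizer_singleton_iff] at this
    exact congrArg Subtype.val this
  obtain ⟨g, hsub⟩ := exists_isNormalSubpair_of_stable hM Q DG hQp hDGp hQDG hDGN f hf hstab _
    hn₀C hn₀val
  have hDGgB : IsBrauerPairOf p M B DG g :=
    (isBrauerPairOf_iff_of_subpairLE hM DG Q g f hsub.2.1 hsub.1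
      (Relation.ReflTransGen.single hsub) B).mpr hQfB
  obtain ⟨x, hx⟩ := exists_conj_subpairLE hM B P DG e g hmax hDGgB
  have hsubx := isNormalSubpair_conj (p := p) (M := M) Q DG x hsub
  have hlex : SubpairLE p M (Q.map (MulAut.conj x).toMonoidHom) (conjBlock Q x f) P e :=
    Relation.ReflTransGen.head (show NormalSubpairRel p M ⟨_, conjBlock Q x f⟩
      ⟨_, conjBlock DG x g⟩ from hsubx) hx
  refine ⟨x, hlex, ?_⟩
  intro T' hT' h1 h2
  have hDGxP : DG.map (MulAut.conj x).toMonoidHom ≤ P := le_of_reflTransGen hx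
  have hQxP : Q.map (MulAut.conj x).toMonoidHom ≤ P := (Subgroup.map_mono hQDG).trans hDGxP
  have hfx : IsPBlock M (conjBlock Q x f) := isPBlock_conjBlock Q x hf
  obtain ⟨hQT', hCT', hTN', _⟩ := stab_basic _ (conjBlock Q x f) T' hT'
  have hF' : IsPBlock M (Helper78.irrMap (Helper78.conjEquiv x h1 h2) '' F) :=
    isPBlock_image_irrMap _ hF
  have hF'f := blockCoeff_image_conjEquiv_stab Q x f T T' h1 h2 F hFf
  obtain ⟨D₂, hD₂, hD₂le⟩ := exists_defectGroup_ge_of_subpair hM P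
    (Q.map (MulAut.conj x).toMonoidHom)
    (P ⊓ Subgroup.normalizer ((Q.map (MulAut.conj x).toMonoidHom : Subgroup G) : Set G))
    e (conjBlock Q x f) hPe (le_inf hQxP Subgroup.le_normalizer) inf_le_left inf_le_right hfx hlex
    T' hCT' _ hF' hF'f
  have hcard₂ := card_defectGroup hM hF' D₂ hD₂
  have hcard₁ := card_defectGroup hM hF D hD
  have hdef : blockDefect p (Helper78.irrMap (Helper78.conjEquiv x h1 h2) '' F) =
      blockDefect p F := blockDefect_image_irrMap p _ _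
  have hDGxT' : DG.map (MulAut.conj x).toMonoidHom ≤ T' := by
    rintro _ ⟨d, hd, rfl⟩
    exact h1 d (hDGT hd)
  have hDGxN : DG.map (MulAut.conj x).toMonoidHom ≤
      P ⊓ Subgroup.normalizer ((Q.map (MulAut.conj x).toMonoidHom : Subgroup G) : Set G) := by
    refine le_inf hDGxP ?_
    rintro _ ⟨d, hd, rfl⟩
    exact (mem_normalizer_map_conj_iff Q x d).mpr (hDGN hd)
  have hle₃ : (DG.map (MulAut.conj x).toMonoidHom).subgroupOf T' ≤
      (P ⊓ Subgroup.normalizer
        ((Q.map (MulAut.conj x).toMonoidHom : Subgroup G) : Set G)).subgroupOf T' :=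
    Subgroup.comap_mono hDGxN
  have hcard₃ : Nat.card ((DG.map (MulAut.conj x).toMonoidHom).subgroupOf T') = Nat.card D := by
    rw [card_subgroupOf_of_le hDGxT',
      Subgroup.card_map_of_injective (MulAut.conj x).injective,
      Subgroup.card_map_of_injective T.subtype_injective]
  have heq₃ : (DG.map (MulAut.conj x).toMonoidHom).subgroupOf T' = D₂ := by
    apply Subgroup.eq_of_le_of_card_ge (hle₃.trans hD₂le)
    rw [hcard₂, hdef, ← hcard₁, hcard₃]
  have heq : (P ⊓ Subgroup.normalizer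
      ((Q.map (MulAut.conj x).toMonoidHom : Subgroup G) : Set G)).subgroupOf T' = D₂ := by
    apply le_antisymm hD₂le
    rw [← heq₃]
    exact hle₃
  rw [heq]
  exact hD₂

/-- **`Q` is fully normalized in the fusion system of `B` iff `N_P(Q)` is a defect group of the
stabilizer block.** -/
theorem isFullyNormalized_iff [Fact p.Prime] (hM : IsPModular p M)
    (B : Set (IrrCharacter G)) (P : Subgroup G)
    (e : Set (IrrCharacter (Subgroup.centralizer (P : Set G)))) (F : FusionSystem P)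
    (hF : IsBlockFusionSystemOn p M B P e F) (Q : Subgroup G)
    (f : Set (IrrCharacter (Subgroup.centralizer (Q : Set G)))) (hQP : Q ≤ P)
    (hf : IsPBlock M f) (hle : SubpairLE p M Q f P e) (T : Subgroup G)
    (hT : ∀ y : G, y ∈ T ↔ y ∈ Subgroup.normalizer (Q : Set G) ∧
      StabilizesBlock (Subgroup.centralizer (Q : Set G)) f y) :
    F.IsFullyNormalized Q ↔ ∃ F' : Set (IrrCharacter T), IsPBlock M F' ∧
      (∀ t : T, blockCoeff F' t =
        subgroupBlockCoeff (Subgroup.centralizer (Q : Set G)) f (t : G)) ∧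
      IsDefectGroup p M F' ((P ⊓ Subgroup.normalizer (Q : Set G)).subgroupOf T) := by
  classical
  have hMp : M.IsPrime := isPrime_of_isPModular hM
  have hmax := hF.1
  have hPe : IsBrauerPair p M P e := hmax.1.1
  have hQp : IsPGroup p Q := hPe.1.to_le hQP
  obtain ⟨hQT, hCT, hTN, hstabT⟩ := stab_basic Q f T hT
  have hNT : P ⊓ Subgroup.normalizer (Q : Set G) ≤ T :=
    normalizerIn_le_stab hM P Q e f hPe hQP hle T hT
  constructor
  · rintro ⟨_, hall⟩
    obtain ⟨F₀, hF₀, hF₀f⟩ := exists_stabilizer_block hM Q hQp f hf T hT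
    obtain ⟨x, hlex, hx⟩ := exists_conj_normalizer_defectGroup hM B P Q e f hmax hQP hf hle T hT
      F₀ hF₀ hF₀f
    have hT' := mem_stabT (Q.map (MulAut.conj x).toMonoidHom) (conjBlock Q x f)
    obtain ⟨h1, h2⟩ := stab_conj_mem Q x f T _ hT hT'
    have hDx := hx _ hT' h1 h2
    have hconj : F.IsConj Q (Q.map (MulAut.conj x).toMonoidHom) :=
      (isConj_iff_of_isBlockFusionSystemOn hM B P e F hF Q f hQP hle _).mpr ⟨x, rfl, hlex⟩
    have h3 : Nat.card (P ⊓ Subgroup.normalizer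
        ((Q.map (MulAut.conj x).toMonoidHom : Subgroup G) : Set G) : Subgroup G) ≤
        Nat.card (P ⊓ Subgroup.normalizer (Q : Set G) : Subgroup G) := hall _ hconj
    have hQxP : Q.map (MulAut.conj x).toMonoidHom ≤ P := le_of_reflTransGen hlex
    have hNT' := normalizerIn_le_stab hM P _ e _ hPe hQxP hlex _ hT'
    obtain ⟨D, hD, hDle⟩ := exists_defectGroup_ge_of_subpair hM P Q
      (P ⊓ Subgroup.normalizer (Q : Set G)) e f hPe (le_inf hQP Subgroup.le_normalizer)
      inf_le_left inf_le_right hf hle T hCT F₀ hF₀ hF₀f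
    have hcardD := card_defectGroup hM hF₀ D hD
    have hcardx := card_defectGroup hM (isPBlock_image_irrMap _ hF₀) _ hDx
    rw [blockDefect_image_irrMap, card_subgroupOf_of_le hNT'] at hcardx
    have heq : (P ⊓ Subgroup.normalizer (Q : Set G)).subgroupOf T = D := by
      apply Subgroup.eq_of_le_of_card_ge hDle
      rw [hcardD, ← hcardx, card_subgroupOf_of_le hNT]
      exact h3
    refine ⟨F₀, hF₀, hF₀f, ?_⟩
    rw [heq]
    exact hD
  · rintro ⟨F', hF', hF'f, hD⟩
    refine ⟨hQP, fun Q' hQ' => ?_⟩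
    obtain ⟨g, rfl, hleg⟩ :=
      (isConj_iff_of_isBlockFusionSystemOn hM B P e F hF Q f hQP hle _).mp hQ'
    have hQgP : Q.map (MulAut.conj g).toMonoidHom ≤ P := le_of_reflTransGen hleg
    have hT' := mem_stabT (Q.map (MulAut.conj g).toMonoidHom) (conjBlock Q g f)
    obtain ⟨h1, h2⟩ := stab_conj_mem Q g f T _ hT hT'
    obtain ⟨_, hCT', _, _⟩ := stab_basic _ (conjBlock Q g f) _ hT'
    have hNT' := normalizerIn_le_stab hM P _ e _ hPe hQgP hleg _ hT'
    have hFg : IsPBlock M (Helper78.irrMap (Helper78.conjEquiv g h1 h2) '' F') :=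
      isPBlock_image_irrMap _ hF'
    have hFgf := blockCoeff_image_conjEquiv_stab Q g f T _ h1 h2 F' hF'f
    obtain ⟨D₂, hD₂, hD₂le⟩ := exists_defectGroup_ge_of_subpair hM P
      (Q.map (MulAut.conj g).toMonoidHom)
      (P ⊓ Subgroup.normalizer ((Q.map (MulAut.conj g).toMonoidHom : Subgroup G) : Set G))
      e (conjBlock Q g f) hPe (le_inf hQgP Subgroup.le_normalizer) inf_le_left inf_le_right
      (isPBlock_conjBlock Q g hf) hleg _ hCT' _ hFg hFgf
    have h3 := Subgroup.card_le_of_le hD₂le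
    rw [card_subgroupOf_of_le hNT', card_defectGroup hM hFg D₂ hD₂, blockDefect_image_irrMap,
      ← card_defectGroup hM hF' _ hD, card_subgroupOf_of_le hNT] at h3
    exact h3

end Stab

end Cfsg.Agent.Helper77
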