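import Cfsg.Agent.Helper77.LocalRing
import Mathlib.LinearAlgebra.Matrix.Trace
import Mathlib.LinearAlgebra.Matrix.NonsingularInverse
import Mathlib.LinearAlgebra.Matrix.Determinant.Basic

/-!
# Idempotent matrices over the local ring that are congruent modulo the local ideal have equal trace

(helper77's layer (15a), file 2.)  If `P`, `P'` are idempotent complex matrices with entries in the
local ring at `M`, congruent entrywise modulo the local ideal, then `Q = P P' + (1-P)(1-P')` is
congruent to `1`, hence invertible, and `P Q = Q P'`; so `P` and `P'` are conjugate and have the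
same trace.
-/

set_option autoImplicit false

namespace Cfsg.Agent.Helper77

open Cfsg Matrix

variable {M : Ideal AlgInt} [hMp : M.IsPrime]

theorem trace_eq_of_idem_congr {n : Type*} [Fintype n] [DecidableEq n]
    (P P' : Matrix n n ℂ) (hP : P * P = P) (hP' : P' * P' = P')
    (hR : ∀ i j, MemLocalRing M (P i j)) (hR' : ∀ i j, MemLocalRing M (P' i j))
    (hJ : ∀ i j, MemLocalIdeal M (P i j - P' i j)) : P.trace = P'.trace := by
  classical
  -- lift to the local ring
  let R := localRing M
  let J := localIdeal M
  let PR : Matrix n n R := fun i j => ⟨P i j, hR i j⟩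
  let PR' : Matrix n n R := fun i j => ⟨P' i j, hR' i j⟩
  have hPR : PR.map R.subtype = P := by ext i j; rfl
  have hPR' : PR'.map R.subtype = P' := by ext i j; rfl
  have hinj : Function.Injective (fun A : Matrix n n R => A.map R.subtype) := by
    intro A B h
    ext i j
    have := congrFun (congrFun h i) j
    simpa using this
  have hidem : PR * PR = PR := by
    apply hinj
    show (PR * PR).map R.subtype = PR.map R.subtype
    rw [Matrix.map_mul, hPR, hP]
  have hidem' : PR' * PR' = PR' := by
    apply hinj
    show (PR' * PR').map R.subtype = PR'.map R.subtype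
    rw [Matrix.map_mul, hPR', hP']
  let π : R →+* R ⧸ J := Ideal.Quotient.mk J
  have hcong : PR.map π = PR'.map π := by
    ext i j
    simp only [Matrix.map_apply]
    rw [Ideal.Quotient.eq]
    exact hJ i j
  let QR : Matrix n n R := PR * PR' + (1 - PR) * (1 - PR')
  have hQbar : QR.map π = 1 := by
    have e1 : (PR * PR').map π = PR.map π * PR'.map π := Matrix.map_mul
    have e2 : ((1 - PR) * (1 - PR')).map π = (1 - PR.map π) * (1 - PR'.map π) := by
      rw [Matrix.map_mul, Matrix.map_sub (hf := map_sub π), Matrix.map_sub (hf := map_sub π),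
        Matrix.map_one _ (map_zero π) (map_one π)]
    have hb : PR.map π * PR.map π = PR.map π := by
      rw [← Matrix.map_mul, hidem]
    show (PR * PR' + (1 - PR) * (1 - PR')).map π = 1
    rw [Matrix.map_add (hf := map_add π), e1, e2, ← hcong]
    have hz : (1 - PR.map π) * (1 - PR.map π) = 1 - PR.map π := by
      rw [mul_sub, mul_one, sub_mul, one_mul, hb, sub_self, sub_zero]
    rw [hb, hz]
    abel
  have hdet : π QR.det = 1 := by
    rw [RingHom.map_det, RingHom.mapMatrix_apply, hQbar, det_one]
  have hJtop : J ≠ ⊤ := localIdeal_ne_top M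
  have hdet0 : QR.det ≠ 0 := by
    intro h0
    rw [h0, map_zero] at hdet
    have : (1 : R ⧸ J) = 0 := hdet.symm
    rw [← map_one π, Ideal.Quotient.eq_zero_iff_mem] at this
    exact hJtop ((Ideal.eq_top_iff_one J).mpr this)
  -- pass to ℂ
  let Q : Matrix n n ℂ := P * P' + (1 - P) * (1 - P')
  have hQ : QR.map R.subtype = Q := by
    show (PR * PR' + (1 - PR) * (1 - PR')).map R.subtype = Q
    rw [Matrix.map_add (hf := map_add R.subtype), Matrix.map_mul, Matrix.map_mul,
      Matrix.map_sub (hf := map_sub R.subtype), Matrix.map_sub (hf := map_sub R.subtype),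
      Matrix.map_one _ (map_zero R.subtype) (map_one R.subtype), hPR, hPR']
  have hQdet : Q.det ≠ 0 := by
    rw [← hQ]
    have : (QR.map R.subtype).det = R.subtype QR.det := by
      rw [RingHom.map_det, RingHom.mapMatrix_apply]
    rw [this]
    intro h
    apply hdet0
    exact Subtype.ext h
  have hunit : IsUnit Q.det := isUnit_iff_ne_zero.mpr hQdet
  have h1 : P * Q = Q * P' := by
    show P * (P * P' + (1 - P) * (1 - P')) = (P * P' + (1 - P) * (1 - P')) * P'
    have hz : P * (1 - P) = 0 := by rw [mul_sub, mul_one, hP, sub_self]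
    have hz' : (1 - P') * P' = 0 := by rw [sub_mul, one_mul, hP', sub_self]
    have a1 : P * (P * P' + (1 - P) * (1 - P')) = P * P' := by
      rw [mul_add, ← mul_assoc, hP, ← mul_assoc, hz, zero_mul, add_zero]
    have a2 : (P * P' + (1 - P) * (1 - P')) * P' = P * P' := by
      rw [add_mul, mul_assoc, hP', mul_assoc, hz', mul_zero, add_zero]
    rw [a1, a2]
  have h2 : P' = Q⁻¹ * (P * Q) := by
    rw [h1, ← mul_assoc, Matrix.nonsing_inv_mul _ hunit, one_mul]
  rw [h2, Matrix.trace_mul_comm, mul_assoc, Matrix.mul_nonsing_inv _ hunit, mul_one]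

end Cfsg.Agent.Helper77
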