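import Cfsg.Agent.Helper77.ExtFirstMain
import Cfsg.Agent.Helper77.ConjMax
import Cfsg.Agent.Helper77.MaxPair
import Cfsg.Agent.Helper78.InducedTrans
import Cfsg.Agent.Helper78.BlockTransport
import Cfsg.Agent.Helper16.QuotientDefect2

/-!
# Block induction from a subgroup containing the centralizer of a defect group

(helper77, file 49.)  If `b` is a block of `H ≤ G` with defect group `D` and `C_G(D) ≤ H`, then
`b^G` is defined and has a defect group `Δ` with `Z(Δ) ≤ Z(D) ≤ D ≤ Δ`.
-/

set_option autoImplicit false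
set_option linter.unusedSectionVars false
set_option linter.unusedVariables false

namespace Cfsg.Agent.Helper77

open Cfsg
open Cfsg.Agent.Helper16 (omega conv classInd deltaOne)
open Cfsg.Agent.Helper78 (irrMap)

section Trans

variable {G : Type*} [Group G] [Finite G] {M : Ideal AlgInt}

/-- Transitivity of block induction along an isomorphism onto a subgroup of `G`. -/
theorem isInducedBlock_trans_equiv [hMp : M.IsPrime] (K : Subgroup G) (X : Subgroup ↥K)
    (X' : Subgroup G) (e : ↥X ≃* ↥X') (he : ∀ x : X, ((e x : X') : G) = ((x : K) : G))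
    {b' : Set (IrrCharacter ↥X)} {B₀ : Set (IrrCharacter ↥K)} {B : Set (IrrCharacter G)}
    (h1 : IsInducedBlock M X b' B₀) (h2 : IsInducedBlock M K B₀ B) :
    IsInducedBlock M X' (irrMap e '' b') B := by
  classical
  have : Fintype G := Fintype.ofFinite G
  have : Fintype K := Fintype.ofFinite K
  have : Fintype X := Fintype.ofFinite X
  have : Fintype X' := Fintype.ofFinite _
  refine ⟨isPBlock_image_irrMap e h1.1, h2.2.1, ?_⟩
  rintro _ ⟨ξ, hξ, rfl⟩ χ hχ g
  obtain ⟨χ₀, hχ₀⟩ := Helper78.isPBlock_nonempty hMp h1.2.1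
  have a1 := Helper16.omega_restrict_sub_memLocalIdeal (M := M) X h1 hξ hχ₀
    (S := Helper16.classIndRes K g) (Helper16.isClassFunction_classIndRes K g)
    (Helper16.classIndRes_memLocalRing K g)
  have a2 := h2.2.2 χ₀ hχ₀ χ hχ g
  rw [Helper16.inducedCentralChar_eq_omega] at a2
  have a3 : inducedCentralChar X' (irrMap e ξ : _ → ℂ) g =
      Helper16.omega (ξ : X → ℂ) (fun x : X => Helper16.classIndRes K g (x : K)) := by
    rw [Helper16.inducedCentralChar_eq_omega, Helper78.omega_irrMap]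
    congr 1
    funext x
    show classInd g ((e x : X') : G) = classInd g ((x : K) : G)
    rw [he]
  rw [a3]
  have := Helper16.memLocalIdeal_add a1 a2
  rwa [sub_add_sub_cancel] at this

/-- Converse transitivity: if `b'^K = B₀` and (the transport of) `b'` induces `B` in `G`, then
`B₀^G = B`. -/
theorem isInducedBlock_of_trans_equiv [hMp : M.IsPrime] (K : Subgroup G) (X : Subgroup ↥K)
    (X' : Subgroup G) (e : ↥X ≃* ↥X') (he : ∀ x : X, ((e x : X') : G) = ((x : K) : G))
    {b' : Set (IrrCharacter ↥X)} {B₀ : Set (IrrCharacter ↥K)} {B : Set (IrrCharacter G)}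
    (h1 : IsInducedBlock M X b' B₀) (h3 : IsInducedBlock M X' (irrMap e '' b') B) :
    IsInducedBlock M K B₀ B := by
  classical
  have : Fintype G := Fintype.ofFinite G
  have : Fintype K := Fintype.ofFinite K
  have : Fintype X := Fintype.ofFinite X
  have : Fintype X' := Fintype.ofFinite _
  refine ⟨h1.2.1, h3.2.1, ?_⟩
  intro ξ₀ hξ₀ χ hχ g
  obtain ⟨ξ, hξ⟩ := Helper78.isPBlock_nonempty hMp h1.1
  have a1 := Helper16.omega_restrict_sub_memLocalIdeal (M := M) X h1 hξ hξ₀
    (S := Helper16.classIndRes K g) (Helper16.isClassFunction_classIndRes K g)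
    (Helper16.classIndRes_memLocalRing K g)
  have a2 := h3.2.2 (irrMap e ξ) (Set.mem_image_of_mem _ hξ) χ hχ g
  have a3 : inducedCentralChar X' (irrMap e ξ : _ → ℂ) g =
      Helper16.omega (ξ : X → ℂ) (fun x : X => Helper16.classIndRes K g (x : K)) := by
    rw [Helper16.inducedCentralChar_eq_omega, Helper78.omega_irrMap]
    congr 1
    funext x
    show classInd g ((e x : X') : G) = classInd g ((x : K) : G)
    rw [he]
  rw [a3] at a2
  rw [Helper16.inducedCentralChar_eq_omega]
  have := Helper16.memLocalIdeal_sub a2 a1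
  rwa [sub_sub_sub_cancel_left] at this

end Trans

section Pair

variable {G : Type*} [Group G] [Fintype G] {M : Ideal AlgInt} {p : ℕ}

/-- A block of `P C_G(P)` inducing `B` has the idempotent of a block `e` of `C_G(P)`, and `(P, e)`
is a Brauer pair of `B`. -/
theorem exists_isBrauerPairOf_of_induced_sup [Fact p.Prime] (hM : IsPModular p M) (P : Subgroup G)
    (hP : IsPGroup p P) (B : Set (IrrCharacter G))
    (β : Set (IrrCharacter ↥(P ⊔ Subgroup.centralizer (P : Set G))))
    (hind : IsInducedBlock M (P ⊔ Subgroup.centralizer (P : Set G)) β B) :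
    ∃ e : Set (IrrCharacter (Subgroup.centralizer (P : Set G))), IsPBlock M e ∧
      (∀ t : ↥(P ⊔ Subgroup.centralizer (P : Set G)), blockCoeff β t =
        extFun (Subgroup.centralizer (P : Set G)) (blockCoeff e) (t : G)) ∧
      IsBrauerPairOf p M B P e := by
  classical
  have hMp : M.IsPrime := isPrime_of_isPModular hM
  have hPL := le_sup_centralizer_left P
  have hCL : Subgroup.centralizer (P : Set G) ≤ P ⊔ Subgroup.centralizer (P : Set G) :=
    le_sup_right
  have hLN := sup_centralizer_le_normalizer P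
  have hNC := Helper78.normalizer_le_normalizer_centralizer P
  have hLC := hLN.trans hNC
  have hsupp : ∀ E : Set (IrrCharacter ↥(P ⊔ Subgroup.centralizer (P : Set G))), IsPBlock M E →
      ∀ t : ↥(P ⊔ Subgroup.centralizer (P : Set G)),
        (t : G) ∉ Subgroup.centralizer (P : Set G) → blockCoeff E t = 0 :=
    fun E hE t ht => blockCoeff_eq_zero_of_not_mem_centralizer_sub hM P _ hP hPL hLN hE t ht
  have hstab : ∀ e : Set (IrrCharacter (Subgroup.centralizer (P : Set G))), IsPBlock M e →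
      ∀ t ∈ P ⊔ Subgroup.centralizer (P : Set G),
        StabilizesBlock (Subgroup.centralizer (P : Set G)) e t :=
    fun e _ t ht => stabilizesBlock_of_mem_sup P e t ht
  obtain ⟨e, he, hbe⟩ := exists_block_eq_extFun _ _ hCL hstab hsupp β hind.1
  exact ⟨e, he, hbe,
    isBrauerPairOf_of_isInducedBlock hM P _ hP hPL hCL hLN hLC B e he (hstab e he) β hind.1 hbe
      hind⟩

/-- If the block `β` of `P C_G(P)` has defect group `P` and induces `B`, then `B` has a defect
group `Δ ≥ P` with `C_Δ(P) ≤ P`. -/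
theorem exists_defectGroup_ge_of_induced_sup [Fact p.Prime] (hM : IsPModular p M) (P : Subgroup G)
    (B : Set (IrrCharacter G))
    (β : Set (IrrCharacter ↥(P ⊔ Subgroup.centralizer (P : Set G))))
    (hβD : IsDefectGroup p M β (P.subgroupOf (P ⊔ Subgroup.centralizer (P : Set G))))
    (hind : IsInducedBlock M (P ⊔ Subgroup.centralizer (P : Set G)) β B) :
    ∃ Δ : Subgroup G, IsDefectGroup p M B Δ ∧ P ≤ Δ ∧
      Δ ⊓ Subgroup.centralizer (P : Set G) ≤ P := by
  classical
  have hMp : M.IsPrime := isPrime_of_isPModular hM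
  have hPL := le_sup_centralizer_left P
  have hCL : Subgroup.centralizer (P : Set G) ≤ P ⊔ Subgroup.centralizer (P : Set G) :=
    le_sup_right
  have hLN := sup_centralizer_le_normalizer P
  have hfinL : Fintype ↥(P ⊔ Subgroup.centralizer (P : Set G)) := Fintype.ofFinite _
  have hP : IsPGroup p P := by
    have h1 := card_defectGroup hM hind.1 _ hβD
    rw [card_subgroupOf_of_le hPL] at h1
    exact IsPGroup.of_card h1
  have hnorm : (P.subgroupOf (P ⊔ Subgroup.centralizer (P : Set G))).Normal :=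
    (Subgroup.normal_subgroupOf_iff_le_normalizer hPL).mpr hLN
  obtain ⟨e, he, hβe, hPe⟩ := exists_isBrauerPairOf_of_induced_sup hM P hP B β hind
  obtain ⟨c, hc1, hc2⟩ := exists_isMaximalBrauerPair_above (p := p) (M := M) B
    (Nat.card G - Nat.card P) ⟨P, e⟩ hPe le_rfl
  rcases c with ⟨Δ, eΔ⟩
  have hΔ : IsDefectGroup p M B Δ := isDefectGroup_of_isMaximalBrauerPair hM B Δ eΔ hc2
  have hPΔ : P ≤ Δ := le_of_reflTransGen hc1
  refine ⟨Δ, hΔ, hPΔ, ?_⟩
  obtain ⟨D', hD', hRD'⟩ := exists_defectGroup_ge_of_subpair hM Δ P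
    (P ⊔ (Δ ⊓ Subgroup.centralizer (P : Set G))) eΔ e hc2.1.1 le_sup_left
    (sup_le hPΔ inf_le_left)
    (sup_le Subgroup.le_normalizer (inf_le_right.trans (Subgroup.centralizer_le_normalizer _)))
    he hc1 (P ⊔ Subgroup.centralizer (P : Set G)) hCL β hind.1 hβe
  obtain ⟨g, hg⟩ := Helper16.exists_conj_eq_of_isDefectGroup hM hind.1 hβD hD'
  have hD'le : D' ≤ P.subgroupOf (P ⊔ Subgroup.centralizer (P : Set G)) := by
    rw [hg]
    rintro _ ⟨z, hz, rfl⟩
    exact hnorm.conj_mem z hz g
  intro r hr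
  have hrL : r ∈ P ⊔ Subgroup.centralizer (P : Set G) := hCL hr.2
  have h1 : (⟨r, hrL⟩ : ↥(P ⊔ Subgroup.centralizer (P : Set G))) ∈
      (P ⊔ (Δ ⊓ Subgroup.centralizer (P : Set G))).subgroupOf
        (P ⊔ Subgroup.centralizer (P : Set G)) := by
    rw [Subgroup.mem_subgroupOf]
    exact (le_sup_right : Δ ⊓ Subgroup.centralizer (P : Set G) ≤ _) hr
  have h2 := hD'le (hRD' h1)
  rw [Subgroup.mem_subgroupOf] at h2
  exact h2

end Pair

section Main

variable {G : Type*} [Group G] [Finite G] {M : Ideal AlgInt} {p : ℕ}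

theorem centralizer_map_subtype_of_le (H : Subgroup G) (D₀ : Subgroup ↥H)
    (hC : Subgroup.centralizer ((D₀.map H.subtype : Subgroup G) : Set G) ≤ H) :
    (Subgroup.centralizer (D₀ : Set ↥H)).map H.subtype =
      Subgroup.centralizer ((D₀.map H.subtype : Subgroup G) : Set G) := by
  ext x
  constructor
  · rintro ⟨h, hh, rfl⟩
    rw [Subgroup.mem_centralizer_iff]
    rintro _ ⟨d, hd, rfl⟩
    have := Subgroup.mem_centralizer_iff.mp hh d hd
    exact congrArg Subtype.val this
  · intro hx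
    refine ⟨⟨x, hC hx⟩, ?_, rfl⟩
    show (⟨x, hC hx⟩ : ↥H) ∈ Subgroup.centralizer (D₀ : Set ↥H)
    rw [Subgroup.mem_centralizer_iff]
    intro d hd
    apply Subtype.ext
    exact Subgroup.mem_centralizer_iff.mp hx (d : G) ⟨d, hd, rfl⟩

/-- **Block induction from a subgroup containing the centralizer of a defect group.** -/
theorem induced_nested [Fact p.Prime] (hM : IsPModular p M) (H : Subgroup G)
    (b : Set (IrrCharacter ↥H)) (hb : IsPBlock M b) (D₀ : Subgroup ↥H)
    (hD₀ : IsDefectGroup p M b D₀)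
    (hC : Subgroup.centralizer ((D₀.map H.subtype : Subgroup G) : Set G) ≤ H) :
    InducedBlockDefined M H b ∧ ∀ B : Set (IrrCharacter G), IsInducedBlock M H b B →
      ∃ Δ : Subgroup G, IsDefectGroup p M B Δ ∧ D₀.map H.subtype ≤ Δ ∧
        Δ ⊓ Subgroup.centralizer ((D₀.map H.subtype : Subgroup G) : Set G) ≤
          D₀.map H.subtype := by
  classical
  have hfinG : Fintype G := Fintype.ofFinite G
  have hfinH : Fintype ↥H := Fintype.ofFinite _
  have hMp : M.IsPrime := isPrime_of_isPModular hM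
  have hLeq0 := centralizer_map_subtype_of_le H D₀ hC
  obtain ⟨D, hDdef⟩ : ∃ D : Subgroup G, D = D₀.map H.subtype := ⟨_, rfl⟩
  rw [← hDdef] at hC hLeq0 ⊢
  have hDmem : ∀ z : G, z ∈ D ↔ ∃ h ∈ D₀, ((h : ↥H) : G) = z := fun z => by
    rw [hDdef]
    exact Subgroup.mem_map
  obtain ⟨b₁, hb₁D, hb₁⟩ := exists_block_sup_centralizer (G := ↥H) D₀ hM b hb hD₀
  have hLeq : (D₀ ⊔ Subgroup.centralizer (D₀ : Set ↥H)).map H.subtype =
      D ⊔ Subgroup.centralizer (D : Set G) := by
    rw [Subgroup.map_sup, hLeq0, hDdef]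
  let φ : ↥(D₀ ⊔ Subgroup.centralizer (D₀ : Set ↥H)) ≃*
      ↥(D ⊔ Subgroup.centralizer (D : Set G)) :=
    ((D₀ ⊔ Subgroup.centralizer (D₀ : Set ↥H)).equivMapOfInjective H.subtype
      H.subtype_injective).trans (MulEquiv.subgroupCongr hLeq)
  have hφ : ∀ x : ↥(D₀ ⊔ Subgroup.centralizer (D₀ : Set ↥H)),
      ((φ x : ↥(D ⊔ Subgroup.centralizer (D : Set G))) : G) = ((x : ↥H) : G) := fun x => rfl
  have hP₀ : IsPGroup p D₀ := IsPGroup.of_card (card_defectGroup hM hb D₀ hD₀)
  have hP : IsPGroup p D := by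
    rw [hDdef]
    exact hP₀.map _
  have hPL := le_sup_centralizer_left D
  have hCL : Subgroup.centralizer (D : Set G) ≤ D ⊔ Subgroup.centralizer (D : Set G) :=
    le_sup_right
  have hLN := sup_centralizer_le_normalizer D
  have hβ : IsPBlock M (irrMap φ '' b₁) := isPBlock_image_irrMap φ hb₁.1
  have hβD : IsDefectGroup p M (irrMap φ '' b₁)
      (D.subgroupOf (D ⊔ Subgroup.centralizer (D : Set G))) := by
    have h1 := Helper78.isDefectGroup_image_irrMap p φ hb₁D
    have h2 : (D₀.subgroupOf (D₀ ⊔ Subgroup.centralizer (D₀ : Set ↥H))).map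
        (φ : ↥(D₀ ⊔ Subgroup.centralizer (D₀ : Set ↥H)) →*
          ↥(D ⊔ Subgroup.centralizer (D : Set G))) =
        D.subgroupOf (D ⊔ Subgroup.centralizer (D : Set G)) := by
      ext x
      constructor
      · rintro ⟨y, hy, rfl⟩
        rw [Subgroup.mem_subgroupOf]
        exact (hDmem _).mpr ⟨(y : ↥H), hy, rfl⟩
      · intro hx
        rw [Subgroup.mem_subgroupOf] at hx
        obtain ⟨h, hh, hhx⟩ := (hDmem _).mp hx
        exact ⟨⟨h, (le_sup_left : D₀ ≤ D₀ ⊔ Subgroup.centralizer (D₀ : Set ↥H)) hh⟩, hh,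
          Subtype.ext hhx⟩
    rw [h2] at h1
    exact h1
  refine ⟨?_, fun B hB => ?_⟩
  · obtain ⟨B₁, hB₁⟩ := Helper78.inducedBlockDefined_of_le_normalizer hM hP hPL hCL hLN
      (irrMap φ '' b₁) hβ
    exact ⟨B₁, isInducedBlock_of_trans_equiv H _ _ φ hφ hb₁ hB₁⟩
  · have hind : IsInducedBlock M (D ⊔ Subgroup.centralizer (D : Set G)) (irrMap φ '' b₁) B :=
      isInducedBlock_trans_equiv H _ _ φ hφ hb₁ hB
    exact exists_defectGroup_ge_of_induced_sup hM D B _ hβD hind

end Main

end Cfsg.Agent.Helper77
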