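import Cfsg.Agent.Helper77.CyclicDefect

/-!
# The inertial quotient of a block with a Klein four defect group

(helper77, file 56.)
-/

set_option autoImplicit false
set_option linter.unusedSectionVars false
set_option linter.unusedVariables false

namespace Cfsg.Agent.Helper77

open Cfsg Cfsg.FusionSystem Cfsg.Agent.Helper87

section Aut

/-- an automorphism of odd order of a Klein four group fixing a non-identity element is trivial -/
theorem kleinFour_aut_eq_one {V : Type*} [Group V] [IsKleinFour V] (α : MulAut V) (k : ℕ)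
    (hk : Odd k) (hαk : α ^ k = 1) (a : V) (ha : a ≠ 1) (hfix : α a = a) : α = 1 := by
  ext y
  rw [MulAut.one_apply]
  by_contra hne
  have hy1 : y ≠ 1 := by
    rintro rfl
    exact hne (map_one α)
  have hya : y ≠ a := by
    rintro rfl
    exact hne hfix
  have hαy1 : α y ≠ 1 := by
    intro h
    apply hy1
    have : α y = α 1 := by rw [h, map_one]
    exact α.injective this
  have hαya : α y ≠ a := by
    intro h
    apply hya
    have : α y = α a := by rw [h, hfix]
    exact α.injective this
  have hαy : α y = a * y := IsKleinFour.eq_mul_of_ne_all ha hy1 (Ne.symm hya) hαy1 hαya hne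
  have hay : α (a * y) = y := by
    rw [map_mul, hfix, hαy, ← mul_assoc, IsKleinFour.mul_self, one_mul]
  -- `α ^ (2 j)` fixes `y`
  have h2 : ∀ j : ℕ, (α ^ (2 * j)) y = y := by
    intro j
    induction j with
    | zero => simp
    | succ j ih =>
      have : 2 * (j + 1) = 2 * j + 1 + 1 := by ring
      rw [this, pow_succ, pow_succ, MulAut.mul_apply, MulAut.mul_apply, hαy, hay, ih]
  obtain ⟨j, rfl⟩ := hk
  have h3 : (α ^ (2 * j + 1)) y = y := by rw [hαk, MulAut.one_apply]
  rw [pow_succ', MulAut.mul_apply, h2 j] at h3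
  exact hne h3

end Aut

section Action

variable {G : Type*} [Group G] [Fintype G]

/-- **The stabilizer quotient acts freely on the involutions of a Klein four group**, has order
`1` or `3`, and in the latter case is transitive on the involutions. -/
theorem kleinFour_stab_action (P T : Subgroup G) (hV : IsKleinFour P)
    (hCT : Subgroup.centralizer (P : Set G) ≤ T) (hTN : T ≤ Subgroup.normalizer (P : Set G))
    (hodd : ¬ 2 ∣ (Subgroup.centralizer (P : Set G)).relIndex T) :
    (∀ t ∈ T, ∀ a ∈ P, a ≠ 1 → t * a * t⁻¹ = a → t ∈ Subgroup.centralizer (P : Set G)) ∧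
    ((Subgroup.centralizer (P : Set G)).relIndex T = 1 ∨
      (Subgroup.centralizer (P : Set G)).relIndex T = 3) ∧
    ((Subgroup.centralizer (P : Set G)).relIndex T = 3 → ∀ a ∈ P, a ≠ 1 → ∀ a' ∈ P, a' ≠ 1 →
      ∃ t ∈ T, t * a * t⁻¹ = a') := by
  classical
  have hn : ((Subgroup.centralizer (P : Set G)).subgroupOf T).Normal :=
    (Subgroup.normal_subgroupOf_iff_le_normalizer hCT).mpr
      (hTN.trans (Helper78.normalizer_le_normalizer_centralizer P))
  set k := (Subgroup.centralizer (P : Set G)).relIndex T with hk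
  have hkodd : Odd k := by
    rcases Nat.even_or_odd k with h | h
    · exact absurd (even_iff_two_dvd.mp h) hodd
    · exact h
  have hmemC : ∀ t : T, stabToAut P T hTN t = 1 → (t : G) ∈ Subgroup.centralizer (P : Set G) := by
    intro t h
    rw [Subgroup.mem_centralizer_iff]
    intro y hy
    have h2 : ((stabToAut P T hTN t ⟨y, hy⟩ : P) : G) = y := by
      rw [h]
      rfl
    rw [stabToAut_apply] at h2
    calc y * (t : G) = (t : G) * y * (t : G)⁻¹ * (t : G) := by rw [h2]
      _ = (t : G) * y := by group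
  have hCone : ∀ t : T, (t : G) ∈ Subgroup.centralizer (P : Set G) → stabToAut P T hTN t = 1 := by
    intro t h
    ext y
    rw [stabToAut_apply, MulAut.one_apply, ← Subgroup.mem_centralizer_iff.mp h (y : G) y.2]
    exact mul_inv_cancel_right _ _
  have hfree : ∀ t ∈ T, ∀ a ∈ P, a ≠ 1 → t * a * t⁻¹ = a →
      t ∈ Subgroup.centralizer (P : Set G) := by
    intro t ht a ha ha1 hta
    have hpow : (⟨t, ht⟩ : T) ^ k ∈ (Subgroup.centralizer (P : Set G)).subgroupOf T :=
      Subgroup.pow_index_mem _ _
    have h1 : (stabToAut P T hTN ⟨t, ht⟩) ^ k = 1 := by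
      rw [← map_pow]
      exact hCone _ (Subgroup.mem_subgroupOf.mp hpow)
    have h2 : stabToAut P T hTN ⟨t, ht⟩ ⟨a, ha⟩ = ⟨a, ha⟩ := Subtype.ext hta
    have h3 := kleinFour_aut_eq_one (stabToAut P T hTN ⟨t, ht⟩) k hkodd h1 ⟨a, ha⟩
      (fun h => ha1 (congrArg Subtype.val h)) h2
    exact hmemC ⟨t, ht⟩ h3
  -- the orbit map
  obtain ⟨a₀, ha₀⟩ : ∃ a₀ : P, a₀ ≠ 1 := by
    by_contra hcon
    push Not at hcon
    have : Nat.card P ≤ 1 := by
      rw [Nat.card_eq_fintype_card (α := P)]
      · exact Fintype.card_le_one_iff.mpr (fun x y => by rw [hcon x, hcon y])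
    rw [hV.card_four] at this
    omega
  have hconjP : ∀ t : T, ∀ a : P, (t : G) * (a : G) * (t : G)⁻¹ ∈ P := fun t a =>
    (stabToAut P T hTN t a).2
  have horb : ∀ a : P, a ≠ 1 → ∃ F : T ⧸ (Subgroup.centralizer (P : Set G)).subgroupOf T →
      {x : P // x ≠ 1}, Function.Injective F ∧
        ∀ q, ∃ t : T, ((F q : P) : G) = (t : G) * (a : G) * (t : G)⁻¹ := by
    intro a ha
    let F₀ : T → {x : P // x ≠ 1} := fun t => ⟨stabToAut P T hTN t a, by
      intro h
      apply ha
      have : stabToAut P T hTN t a = stabToAut P T hTN t 1 := by rw [h, map_one]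
      exact (stabToAut P T hTN t).injective this⟩
    have hF₀ : ∀ s t : T, QuotientGroup.leftRel
        ((Subgroup.centralizer (P : Set G)).subgroupOf T) s t → F₀ s = F₀ t := by
      intro s t hst
      rw [QuotientGroup.leftRel_apply] at hst
      have h1 : stabToAut P T hTN (s⁻¹ * t) = 1 := hCone _ (Subgroup.mem_subgroupOf.mp hst)
      apply Subtype.ext
      show stabToAut P T hTN s a = stabToAut P T hTN t a
      have : t = s * (s⁻¹ * t) := by group
      rw [this, map_mul, MulAut.mul_apply, h1, MulAut.one_apply]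
    refine ⟨fun q => Quotient.liftOn' q F₀ hF₀, ?_, ?_⟩
    · intro q q' hqq'
      induction q using Quotient.inductionOn' with
      | h s =>
      induction q' using Quotient.inductionOn' with
      | h t =>
      have h0 : F₀ s = F₀ t := hqq'
      apply Quotient.sound'
      rw [QuotientGroup.leftRel_apply, Subgroup.mem_subgroupOf]
      have h1 : stabToAut P T hTN s a = stabToAut P T hTN t a := congrArg Subtype.val h0
      have h2 : stabToAut P T hTN (s⁻¹ * t) a = a := by
        rw [map_mul, MulAut.mul_apply, ← h1, ← MulAut.mul_apply, ← map_mul, inv_mul_cancel,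
          map_one, MulAut.one_apply]
      have h3 : ((s⁻¹ * t : T) : G) * (a : G) * ((s⁻¹ * t : T) : G)⁻¹ = (a : G) := by
        have := congrArg Subtype.val h2
        rwa [stabToAut_apply] at this
      exact hfree _ (s⁻¹ * t).2 (a : G) a.2 (fun h => ha (Subtype.ext h)) h3
    · intro q
      induction q using Quotient.inductionOn' with
      | h s => exact ⟨s, rfl⟩
  have hcard3 : Nat.card {x : P // x ≠ 1} = 3 := by
    have : Fintype P := Fintype.ofFinite P
    rw [Nat.card_eq_fintype_card, Fintype.card_subtype_compl, Fintype.card_subtype_eq,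
      ← Nat.card_eq_fintype_card, hV.card_four]
  have hkcard : k = Nat.card (T ⧸ (Subgroup.centralizer (P : Set G)).subgroupOf T) :=
    Subgroup.index_eq_card _
  have hk13 : k = 1 ∨ k = 3 := by
    obtain ⟨F, hF, -⟩ := horb a₀ ha₀
    have hle : k ≤ 3 := by
      rw [hkcard, ← hcard3]
      exact Nat.card_le_card_of_injective F hF
    have hk0 : k ≠ 0 := by
      rw [hkcard]
      exact Nat.card_pos.ne'
    obtain ⟨j, hj⟩ := hkodd
    omega
  refine ⟨hfree, hk13, ?_⟩
  intro hk3 a ha ha1 a' ha' ha'1
  obtain ⟨F, hF, hFt⟩ := horb ⟨a, ha⟩ (fun h => ha1 (congrArg Subtype.val h))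
  have hsurj : Function.Surjective F := by
    apply (Function.Injective.bijective_of_nat_card_le hF ?_).2
    rw [hcard3, ← hkcard, hk3]
  obtain ⟨q, hq⟩ := hsurj ⟨⟨a', ha'⟩, fun h => ha'1 (congrArg Subtype.val h)⟩
  obtain ⟨t, ht⟩ := hFt q
  refine ⟨(t : G), t.2, ?_⟩
  rw [← ht, hq]

end Action

section Odd

variable {G : Type*} [Group G] [Fintype G] {M : Ideal AlgInt} {p : ℕ}

/-- **The inertial index of a block with an abelian defect group is prime to `p`.** -/
theorem not_dvd_relIndex_of_abelian [Fact p.Prime] (hM : IsPModular p M)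
    (B : Set (IrrCharacter G)) (hB : IsPBlock M B) (P : Subgroup G)
    (hPD : IsDefectGroup p M B P) (hab : ∀ x ∈ P, ∀ y ∈ P, x * y = y * x)
    (c : Set (IrrCharacter (Subgroup.centralizer (P : Set G))))
    (hc : IsInducedBlock M (Subgroup.centralizer (P : Set G)) c B) (T : Subgroup G)
    (hT : ∀ g : G, g ∈ T ↔ (g ∈ Subgroup.normalizer (P : Set G) ∧
      StabilizesBlock (Subgroup.centralizer (P : Set G)) c g)) :
    ¬ p ∣ (Subgroup.centralizer (P : Set G)).relIndex T := by
  classical
  have hmax := isMaximalBrauerPair_of_isInducedBlock_of_abelian hM B hB P hPD hab c hc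
  have hPe : IsBrauerPair p M P c := hmax.1.1
  have hPp : IsPGroup p P := hPe.1
  have hF := isBlockFusionSystemOn_blockFusionSystem hM B P c hmax
  have hsat := isSaturated_of_isBlockFusionSystemOn hM B P c _ hF
  obtain ⟨P', ⟨φ, hφ, hrange⟩, hauto, _⟩ := hsat P le_rfl
  have hP' : P' = P := by
    apply Subgroup.eq_of_le_of_card_ge
    · rw [← hrange]
      rintro _ ⟨x, rfl⟩
      exact ((blockFusionSystem hM P c hPe).le_of_mem hφ).2 x
    · rw [← hrange]
      exact (Nat.card_congr (MonoidHom.ofInjective
        ((blockFusionSystem hM P c hPe).injective_of_mem hφ)).toEquiv).le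
  rw [hP'] at hauto
  obtain ⟨_, R, hR⟩ := hauto
  have hbot : autInducedBy P P = ⊥ := by
    rw [eq_bot_iff]
    intro α hα
    obtain ⟨g, hg, hgx⟩ := (mem_autInducedBy_iff P P α).mp hα
    rw [Subgroup.mem_bot]
    ext x
    rw [hgx x, MulAut.one_apply, hab g hg x x.2]
    exact mul_inv_cancel_right _ _
  have hfinAut : Finite (MulAut P) := finite_mulAut_of_le (S := P) (le_refl P)
  have hA : ¬ p ∣ Nat.card ((blockFusionSystem hM P c hPe).autGroup P) := by
    intro hdvd
    have h1 := R.dvd_card_of_dvd_card hdvd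
    have hRbot : (R : Subgroup ((blockFusionSystem hM P c hPe).autGroup P)) = ⊥ := by
      rw [hR, hbot]
      ext α
      rw [Subgroup.mem_subgroupOf, Subgroup.mem_bot, Subgroup.mem_bot]
      exact ⟨fun h => Subtype.ext h, fun h => congrArg Subtype.val h⟩
    have h2 : Nat.card R = 1 := by
      show Nat.card (R : Subgroup ((blockFusionSystem hM P c hPe).autGroup P)) = 1
      rw [hRbot]
      exact Subgroup.card_bot
    rw [h2] at h1
    exact (Fact.out : p.Prime).one_lt.ne' (Nat.dvd_one.mp h1)
  obtain ⟨hPT, hCT, hTN, hstabT⟩ := stab_basic P c T hT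
  have hn : ((Subgroup.centralizer (P : Set G)).subgroupOf T).Normal :=
    (Subgroup.normal_subgroupOf_iff_le_normalizer hCT).mpr
      (hTN.trans (Helper78.normalizer_le_normalizer_centralizer P))
  have hθmem : ∀ t : T, stabToAut P T hTN t ∈ (blockFusionSystem hM P c hPe).autGroup P := by
    intro t
    rw [mem_autGroup_iff _ (le_refl P)]
    have hfix : conjIdx (t : G) ⟨P, c⟩ = ⟨P, c⟩ :=
      (conjIdx_eq_self_iff P c (t : G) (hTN t.2)).mpr (hstabT t t.2)
    have hle' : Relation.ReflTransGen (NormalSubpairRel p M) (conjIdx (t : G) ⟨P, c⟩) ⟨P, c⟩ := by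
      rw [hfix]
    exact (hF.2 P _).mpr ⟨le_refl P, (t : G), fun u => rfl, le_of_reflTransGen hle', c,
      Relation.ReflTransGen.refl, hle'⟩
  let θ : T →* (blockFusionSystem hM P c hPe).autGroup P :=
    (stabToAut P T hTN).codRestrict _ hθmem
  have hθker : ∀ t : T, θ t = 1 ↔ t ∈ (Subgroup.centralizer (P : Set G)).subgroupOf T := by
    intro t
    rw [Subgroup.mem_subgroupOf]
    constructor
    · intro h
      rw [Subgroup.mem_centralizer_iff]
      intro y hy
      have h2 : ((stabToAut P T hTN t ⟨y, hy⟩ : P) : G) = y := by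
        have h3 : stabToAut P T hTN t = 1 := congrArg Subtype.val h
        rw [h3]
        rfl
      rw [stabToAut_apply] at h2
      calc y * (t : G) = (t : G) * y * (t : G)⁻¹ * (t : G) := by rw [h2]
        _ = (t : G) * y := by group
    · intro h
      apply Subtype.ext
      show stabToAut P T hTN t = 1
      ext y
      rw [stabToAut_apply, MulAut.one_apply, ← h (y : G) y.2]
      exact mul_inv_cancel_right _ _
  let ψ : T ⧸ (Subgroup.centralizer (P : Set G)).subgroupOf T →*
      (blockFusionSystem hM P c hPe).autGroup P :=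
    QuotientGroup.lift _ θ (fun t ht => (hθker t).mpr ht)
  have hψinj : Function.Injective ψ := by
    rw [injective_iff_map_eq_one]
    intro q hq
    obtain ⟨t, rfl⟩ := QuotientGroup.mk_surjective q
    rw [QuotientGroup.eq_one_iff]
    exact (hθker t).mp hq
  have h1 := Subgroup.card_dvd_of_injective ψ hψinj
  have h2 : (Subgroup.centralizer (P : Set G)).relIndex T =
      Nat.card (T ⧸ (Subgroup.centralizer (P : Set G)).subgroupOf T) :=
    Subgroup.index_eq_card _
  rw [h2]
  exact fun h => hA (h.trans h1)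

end Odd

end Cfsg.Agent.Helper77
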