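import Cfsg.Agent.Helper77.ContribConj
import Cfsg.Agent.Helper77.MaxPair
import Cfsg.Agent.Helper78.PPart

/-!
# Orthogonality of the contributions of distinct subsections, and Bessel's inequality

(helper77, file 53.)
-/

set_option autoImplicit false
set_option linter.unusedSectionVars false
set_option linter.unusedVariables false

namespace Cfsg.Agent.Helper77

open Cfsg
open scoped ComplexConjugate
open Cfsg.Agent.S4426 (cut)
open Cfsg.Agent.Helper16

section Bessel

/-- **Bessel's inequality** for a family of pairwise orthogonal "hermitian idempotent" rows. -/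
theorem bessel_le_one {K Y : Type*} [Fintype K] [Fintype Y] (m : Y → K → ℂ) (k₀ : K)
    (hrow : ∀ y, ∑ ψ : K, m y ψ * conj (m y ψ) = m y k₀)
    (horth : ∀ y y', y ≠ y' → ∑ ψ : K, m y ψ * conj (m y' ψ) = 0) :
    ∃ C : ℝ, ∑ y : Y, m y k₀ = (C : ℂ) ∧ 0 ≤ C ∧ C ≤ 1 := by
  classical
  let a : K → ℂ := fun ψ => ∑ y : Y, m y ψ
  have h1 : ∑ ψ : K, a ψ * conj (a ψ) = a k₀ := by
    have e1 : ∀ ψ : K, a ψ * conj (a ψ) = ∑ y : Y, ∑ y' : Y, m y ψ * conj (m y' ψ) := by
      intro ψ
      show (∑ y : Y, m y ψ) * conj (∑ y : Y, m y ψ) = _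
      rw [map_sum, Finset.sum_mul_sum]
    rw [Finset.sum_congr rfl (fun ψ _ => e1 ψ), Finset.sum_comm]
    have e2 : ∀ y : Y, ∑ ψ : K, ∑ y' : Y, m y ψ * conj (m y' ψ) = m y k₀ := by
      intro y
      rw [Finset.sum_comm]
      rw [Finset.sum_eq_single y]
      · exact hrow y
      · intro y' _ hne
        exact horth y y' (Ne.symm hne)
      · intro h
        exact absurd (Finset.mem_univ y) h
    rw [Finset.sum_congr rfl (fun y _ => e2 y)]
  refine ⟨∑ ψ : K, Complex.normSq (a ψ), ?_, ?_, ?_⟩
  · show a k₀ = _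
    rw [← h1, Complex.ofReal_sum]
    refine Finset.sum_congr rfl (fun ψ _ => ?_)
    rw [Complex.mul_conj]
  · exact Finset.sum_nonneg (fun ψ _ => Complex.normSq_nonneg _)
  · have hC : a k₀ = ((∑ ψ : K, Complex.normSq (a ψ) : ℝ) : ℂ) := by
      rw [← h1, Complex.ofReal_sum]
      refine Finset.sum_congr rfl (fun ψ _ => ?_)
      rw [Complex.mul_conj]
    set C : ℝ := ∑ ψ : K, Complex.normSq (a ψ) with hCdef
    have h2 : Complex.normSq (a k₀) ≤ C :=
      Finset.single_le_sum (f := fun ψ => Complex.normSq (a ψ))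
        (fun ψ _ => Complex.normSq_nonneg _) (Finset.mem_univ k₀)
    rw [hC, Complex.normSq_ofReal] at h2
    by_contra hlt
    rw [not_le] at hlt
    nlinarith

end Bessel

section Orth

variable {G : Type*} [Group G] [Fintype G] {M : Ideal AlgInt} {p : ℕ}

/-- Contributions vanish off the induced block (literal centralizer). -/
theorem contribE_eq_zero_of_not_mem_aux [Fact p.Prime] (hM : IsPModular p M) (x : G)
    (hx : ∃ k : ℕ, orderOf x = p ^ k) [Fintype (Subgroup.centralizer ({x} : Set G))]
    {b : Set (IrrCharacter (Subgroup.centralizer ({x} : Set G)))} {B : Set (IrrCharacter G)}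
    (hind : IsInducedBlock M (Subgroup.centralizer ({x} : Set G)) b B)
    (χ : IrrCharacter G) (hχ : χ ∉ B) (ψ : IrrCharacter G) :
    contribE p (Subgroup.centralizer ({x} : Set G)) x b (χ : G → ℂ) (ψ : G → ℂ) = 0 := by
  classical
  have hMp : M.IsPrime := IsPModular.isPrime hM
  rw [← classInner_cut_shiftPart x b (irr_isClassFunction χ) (irr_isClassFunction ψ)]
  have hnot : ¬ IsInducedBlock M (Subgroup.centralizer ({x} : Set G)) b
      (blockOf M (χ : G → ℂ)) := by
    intro h
    apply hχ
    rw [isInducedBlock_unique _ hind h]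
    exact Helper78.mem_blockOf_self hMp χ
  have hz : cut p 1 (shiftPart x b (χ : G → ℂ)) = fun _ => 0 := by
    funext y
    unfold cut
    by_cases hy : p ∣ orderOf y
    · rw [if_pos hy]
    · rw [if_neg hy, shiftPart_irr_eq_zero hM x hx χ b hind.1 hnot y hy, mul_zero]
  rw [hz]
  unfold classInner
  simp

/-- Contributions vanish off the induced block. -/
theorem contribE_eq_zero_of_not_mem [Fact p.Prime] (hM : IsPModular p M) (x : G)
    (hx : ∃ k : ℕ, orderOf x = p ^ k) (K : Subgroup G) [Fintype K]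
    (hK : K = Subgroup.centralizer ({x} : Set G))
    {b : Set (IrrCharacter K)} {B : Set (IrrCharacter G)}
    (hind : IsInducedBlock M K b B) (χ : IrrCharacter G) (hχ : χ ∉ B) (ψ : IrrCharacter G) :
    contribE p K x b (χ : G → ℂ) (ψ : G → ℂ) = 0 := by
  subst hK
  exact contribE_eq_zero_of_not_mem_aux hM x hx hind χ hχ ψ

/-- Orthogonality of the contributions of two blocks of the same centralizer (literal). -/
theorem sum_contribE_mul_conj_eq_zero_of_ne_aux [Fact p.Prime] (hM : IsPModular p M) (x : G)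
    (hx : ∃ k : ℕ, orderOf x = p ^ k) [Fintype (Subgroup.centralizer ({x} : Set G))]
    {b b' : Set (IrrCharacter (Subgroup.centralizer ({x} : Set G)))} (hb : IsPBlock M b)
    (hb' : IsPBlock M b') (hne : b ≠ b') (χ : IrrCharacter G) :
    ∑ ψ : IrrCharacter G,
      contribE p (Subgroup.centralizer ({x} : Set G)) x b (χ : G → ℂ) (ψ : G → ℂ) *
        conj (contribE p (Subgroup.centralizer ({x} : Set G)) x b' (χ : G → ℂ) (ψ : G → ℂ)) =
      0 := by
  classical
  have hMp : M.IsPrime := IsPModular.isPrime hM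
  have hχ := irr_isClassFunction χ
  have h1 : ∀ (β : Set (IrrCharacter (Subgroup.centralizer ({x} : Set G)))) (ψ : IrrCharacter G),
      contribE p (Subgroup.centralizer ({x} : Set G)) x β (χ : G → ℂ) (ψ : G → ℂ) =
      classInner (cut p 1 (shiftPart x β (χ : G → ℂ)))
        (fun c : Subgroup.centralizer ({x} : Set G) => (ψ : G → ℂ) (x * (c : G))) :=
    fun β ψ => (classInner_cut_shiftPart x β hχ (irr_isClassFunction ψ)).symm
  rw [Finset.sum_congr rfl (fun ψ _ => by rw [h1 b ψ, h1 b' ψ])]
  have hcl : IsClassFunction (Subgroup.centralizer ({x} : Set G))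
      (shiftPart x b' (χ : G → ℂ)) := by
    rw [shiftPart_eq_blockPart x b' hχ]
    exact isClassFunction_blockPart b' _
  rw [section_parseval x hx (shiftPart x b (χ : G → ℂ)) hcl,
    shiftPart_eq_blockPart x b hχ, shiftPart_eq_blockPart x b' hχ,
    classInner_cut_expand p (isClassFunction_blockPart b _) (isClassFunction_blockPart b' _)]
  refine Finset.sum_eq_zero (fun θ _ => Finset.sum_eq_zero (fun θ' _ => ?_))
  rw [classInner_blockPart_irr, classInner_blockPart_irr]
  by_cases h : θ ∈ b
  · by_cases h' : θ' ∈ b'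
    · have hz : classInner (cut p 1 (θ : Subgroup.centralizer ({x} : Set G) → ℂ))
          (θ' : Subgroup.centralizer ({x} : Set G) → ℂ) = 0 := by
        apply Cfsg.Agent.S4431.classInner_cut_eq_zero hM 1 θ θ'
        rw [← Helper78.isPBlock_eq_blockOf_of_mem hMp hb h]
        intro h''
        exact hne (Helper78.isPBlock_eq_of_mem_of_mem hMp hb hb' h'' h')
      rw [hz, mul_zero]
    · rw [if_neg h']
      simp
  · rw [if_neg h]
    simp

/-- Orthogonality of the contributions of two blocks of the same centralizer. -/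
theorem sum_contribE_mul_conj_eq_zero_of_ne [Fact p.Prime] (hM : IsPModular p M) (x : G)
    (hx : ∃ k : ℕ, orderOf x = p ^ k) (K : Subgroup G) [Fintype K]
    (hK : K = Subgroup.centralizer ({x} : Set G))
    {b b' : Set (IrrCharacter K)} (hb : IsPBlock M b)
    (hb' : IsPBlock M b') (hne : b ≠ b') (χ : IrrCharacter G) :
    ∑ ψ : IrrCharacter G,
      contribE p K x b (χ : G → ℂ) (ψ : G → ℂ) *
        conj (contribE p K x b' (χ : G → ℂ) (ψ : G → ℂ)) = 0 := by
  subst hK
  exact sum_contribE_mul_conj_eq_zero_of_ne_aux hM x hx hb hb' hne χ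

/-- Conjugacy of elements of two `p`-sections forces conjugacy of the `p`-parts. -/
theorem isConj_of_isConj_mul [Fact p.Prime] (x x' : G) (hx : ∃ k : ℕ, orderOf x = p ^ k)
    (hx' : ∃ k : ℕ, orderOf x' = p ^ k) (r : Subgroup.centralizer ({x} : Set G))
    (r' : Subgroup.centralizer ({x'} : Set G)) (hr : ¬ p ∣ orderOf r) (hr' : ¬ p ∣ orderOf r')
    (h : IsConj (x * (r : G)) (x' * (r' : G))) : IsConj x x' := by
  have hp : p.Prime := Fact.out
  have hcomm : ∀ (z : G) (t : Subgroup.centralizer ({z} : Set G)), z * (t : G) = (t : G) * z := by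
    intro z t
    have := t.2
    rw [Subgroup.mem_centralizer_iff] at this
    exact this z (Set.mem_singleton z)
  obtain ⟨t, ht⟩ := isConj_iff.mp h
  have hpy : IsPPart p (x * (r : G)) x :=
    ⟨(r : G), rfl, hcomm x r, hx, by rw [Subgroup.orderOf_coe]; exact hr⟩
  have hpc : IsPPart p (x' * (r' : G)) x' :=
    ⟨(r' : G), rfl, hcomm x' r', hx', by rw [Subgroup.orderOf_coe]; exact hr'⟩
  have h1 := Helper78.isPPart_conj hpy t
  rw [ht] at h1
  have h2 : t * x * t⁻¹ = x' := isPPart_unique hp h1 hpc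
  exact isConj_iff.mpr ⟨t, h2⟩

/-- Orthogonality of the contributions of subsections with non-conjugate `p`-elements
(literal centralizers). -/
theorem sum_contribE_mul_conj_eq_zero_of_not_isConj_aux [Fact p.Prime] (x x' : G)
    (hx : ∃ k : ℕ, orderOf x = p ^ k) (hx' : ∃ k : ℕ, orderOf x' = p ^ k)
    [Fintype (Subgroup.centralizer ({x} : Set G))] [Fintype (Subgroup.centralizer ({x'} : Set G))]
    (b : Set (IrrCharacter (Subgroup.centralizer ({x} : Set G))))
    (b' : Set (IrrCharacter (Subgroup.centralizer ({x'} : Set G))))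
    (hnc : ¬ IsConj x x') (χ : IrrCharacter G) :
    ∑ ψ : IrrCharacter G,
      contribE p (Subgroup.centralizer ({x} : Set G)) x b (χ : G → ℂ) (ψ : G → ℂ) *
        conj (contribE p (Subgroup.centralizer ({x'} : Set G)) x' b' (χ : G → ℂ) (ψ : G → ℂ)) =
      0 := by
  classical
  have hχ := irr_isClassFunction χ
  let S := shiftPart x b (χ : G → ℂ)
  let S' := shiftPart x' b' (χ : G → ℂ)
  have h1 : ∀ ψ : IrrCharacter G,
      contribE p (Subgroup.centralizer ({x} : Set G)) x b (χ : G → ℂ) (ψ : G → ℂ) *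
        conj (contribE p (Subgroup.centralizer ({x'} : Set G)) x' b' (χ : G → ℂ) (ψ : G → ℂ)) =
      (Nat.card (Subgroup.centralizer ({x} : Set G)) : ℂ)⁻¹ *
        ((Nat.card (Subgroup.centralizer ({x'} : Set G)) : ℂ)⁻¹ *
        ∑ r : Subgroup.centralizer ({x} : Set G), ∑ r' : Subgroup.centralizer ({x'} : Set G),
          cut p 1 S r * conj (cut p 1 S' r') *
            ((ψ : G → ℂ) (x' * (r' : G)) * conj ((ψ : G → ℂ) (x * (r : G))))) := by
    intro ψ
    rw [← classInner_cut_shiftPart x b hχ (irr_isClassFunction ψ),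
      ← classInner_cut_shiftPart x' b' hχ (irr_isClassFunction ψ)]
    unfold classInner
    rw [map_mul, map_inv₀, Complex.conj_natCast, map_sum, mul_mul_mul_comm, Finset.sum_mul_sum,
      mul_assoc]
    congr 2
    refine Finset.sum_congr rfl (fun r _ => ?_)
    refine Finset.sum_congr rfl (fun r' _ => ?_)
    rw [map_mul, Complex.conj_conj]
    ring
  rw [Finset.sum_congr rfl (fun ψ _ => h1 ψ), ← Finset.mul_sum, ← Finset.mul_sum,
    Finset.sum_comm]
  have h2 : ∀ r : Subgroup.centralizer ({x} : Set G),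
      ∑ ψ : IrrCharacter G, ∑ r' : Subgroup.centralizer ({x'} : Set G),
        cut p 1 S r * conj (cut p 1 S' r') *
          ((ψ : G → ℂ) (x' * (r' : G)) * conj ((ψ : G → ℂ) (x * (r : G)))) = 0 := by
    intro r
    rw [Finset.sum_comm]
    refine Finset.sum_eq_zero (fun r' _ => ?_)
    rw [← Finset.mul_sum, Helper79.column_orthogonality (x' * (r' : G)) (x * (r : G))]
    by_cases hr : p ∣ orderOf r
    · have : cut p 1 S r = 0 := by unfold cut; rw [if_pos hr]
      rw [this, zero_mul, zero_mul]
    · by_cases hr' : p ∣ orderOf r'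
      · have : cut p 1 S' r' = 0 := by unfold cut; rw [if_pos hr']
        rw [this, map_zero, mul_zero, zero_mul]
      · rw [if_neg (fun h => hnc (isConj_of_isConj_mul x x' hx hx' r r' hr hr' h)), mul_zero]
  rw [Finset.sum_congr rfl (fun r _ => h2 r), Finset.sum_const_zero, mul_zero, mul_zero]

/-- Orthogonality of the contributions of subsections with non-conjugate `p`-elements. -/
theorem sum_contribE_mul_conj_eq_zero_of_not_isConj [Fact p.Prime] (x x' : G)
    (hx : ∃ k : ℕ, orderOf x = p ^ k) (hx' : ∃ k : ℕ, orderOf x' = p ^ k)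
    (K K' : Subgroup G) [Fintype K] [Fintype K']
    (hK : K = Subgroup.centralizer ({x} : Set G)) (hK' : K' = Subgroup.centralizer ({x'} : Set G))
    (b : Set (IrrCharacter K)) (b' : Set (IrrCharacter K'))
    (hnc : ¬ IsConj x x') (χ : IrrCharacter G) :
    ∑ ψ : IrrCharacter G,
      contribE p K x b (χ : G → ℂ) (ψ : G → ℂ) *
        conj (contribE p K' x' b' (χ : G → ℂ) (ψ : G → ℂ)) = 0 := by
  subst hK
  subst hK'
  exact sum_contribE_mul_conj_eq_zero_of_not_isConj_aux x x' hx hx' b b' hnc χ

end Orth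

end Cfsg.Agent.Helper77
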