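import Cfsg.Agent.Helper77.MajorNonvanish
import Cfsg.Agent.Helper77.SubsectionOrth
import Cfsg.Agent.Helper16.ContribMajor

/-!
# A block with a major subsection at an involution and defect two has four characters

(helper77, file 57.)
-/

set_option autoImplicit false
set_option linter.unusedSectionVars false
set_option linter.unusedVariables false
set_option maxHeartbeats 1000000

namespace Cfsg.Agent.Helper77

open Cfsg
open scoped ComplexConjugate
open Cfsg.Agent.Helper16 (contribE)

section Arith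

/-- the arithmetic core: integers `n ψ` with `∑ n ψ ^ 2 = 4 n χ₀`, `n χ₀` odd -/
theorem card_support_eq_four {ι : Type*} [Fintype ι] [DecidableEq ι] (n : ι → ℤ) (i₀ : ι)
    (hsum : ∑ i, n i ^ 2 = 4 * n i₀) (hodd : ¬ (2 : ℤ) ∣ n i₀) :
    (Finset.univ.filter (fun i => n i ≠ 0)).card = 4 := by
  set N := n i₀ with hN
  have hsplit : ∑ i, n i ^ 2 = N ^ 2 + ∑ i ∈ Finset.univ.erase i₀, n i ^ 2 := by
    rw [← Finset.add_sum_erase _ _ (Finset.mem_univ i₀)]
  have hnn : 0 ≤ ∑ i ∈ Finset.univ.erase i₀, n i ^ 2 :=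
    Finset.sum_nonneg (fun i _ => sq_nonneg _)
  have hN13 : N = 1 ∨ N = 3 := by
    have h1 : N ^ 2 ≤ 4 * N := by rw [← hsum, hsplit]; linarith
    have h2 : 0 ≤ N := by nlinarith [sq_nonneg N]
    have h3 : N ≤ 4 := by nlinarith
    interval_cases N
    · exact absurd (dvd_zero _) hodd
    · left; rfl
    · exact absurd (dvd_refl _) hodd
    · right; rfl
    · exact absurd ⟨2, by norm_num⟩ hodd
  have hrest : ∑ i ∈ Finset.univ.erase i₀, n i ^ 2 = 3 := by
    have : ∑ i ∈ Finset.univ.erase i₀, n i ^ 2 = 4 * N - N ^ 2 := by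
      rw [← hsum, hsplit]; ring
    rw [this]
    rcases hN13 with h | h <;> rw [h] <;> norm_num
  have hsq : ∀ i ∈ Finset.univ.erase i₀, n i ^ 2 = if n i ≠ 0 then 1 else 0 := by
    intro i hi
    by_cases h0 : n i = 0
    · rw [if_neg (not_not.mpr h0), h0]; norm_num
    · rw [if_pos h0]
      have hle : n i ^ 2 ≤ 3 := by
        rw [← hrest]
        exact Finset.single_le_sum (f := fun i => n i ^ 2) (fun j _ => sq_nonneg _) hi
      have h1 : -1 ≤ n i := by nlinarith
      have h2 : n i ≤ 1 := by nlinarith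
      have h3 : n i = -1 ∨ n i = 1 := by omega
      rcases h3 with h | h <;> rw [h] <;> norm_num
  rw [Finset.sum_congr rfl hsq] at hrest
  have hcount : ((Finset.univ.erase i₀).filter (fun i => n i ≠ 0)).card = 3 := by
    have h1 : (∑ i ∈ Finset.univ.erase i₀, (if n i ≠ 0 then (1 : ℤ) else 0)) =
        (((Finset.univ.erase i₀).filter (fun i => n i ≠ 0)).card : ℤ) := by
      rw [Finset.card_filter]
      push_cast
      rfl
    rw [h1] at hrest
    exact_mod_cast hrest
  have hN0 : n i₀ ≠ 0 := by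
    intro h
    apply hodd
    rw [show N = 0 from h]
    exact dvd_zero _
  have hins : Finset.univ.filter (fun i => n i ≠ 0) =
      insert i₀ ((Finset.univ.erase i₀).filter (fun i => n i ≠ 0)) := by
    ext i
    simp only [Finset.mem_filter, Finset.mem_univ, true_and, Finset.mem_insert, Finset.mem_erase,
      ne_eq]
    constructor
    · intro h
      by_cases hi : i = i₀
      · left; exact hi
      · right; exact ⟨⟨hi, trivial⟩, h⟩
    · rintro (h | h)
      · rw [h]; exact hN0
      · exact h.2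
  rw [hins, Finset.card_insert_of_notMem, hcount]
  simp

end Arith

section Count

variable {G : Type*} [Group G] [Fintype G] {M : Ideal AlgInt}

/-- **A block of defect two (`p = 2`) with a major subsection at an involution has exactly four
irreducible characters.** -/
theorem card_block_eq_four_of_major [Fact (Nat.Prime 2)] (hM : IsPModular 2 M) (a : G)
    (ha : a * a = 1)
    (H : Subgroup G) [Fintype H] (hH : H = Subgroup.centralizer ({a} : Set G))
    {b : Set (IrrCharacter H)} {B : Set (IrrCharacter G)}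
    (hind : IsInducedBlock M H b B) (hdef : blockDefect 2 b = blockDefect 2 B)
    (hd2 : blockDefect 2 B = 2) : Nat.card B = 4 := by
  classical
  have hMp : M.IsPrime := Helper16.IsPModular.isPrime hM
  have hb : IsPBlock M b := hind.1
  have hB : IsPBlock M B := hind.2.1
  have hx : ∃ k : ℕ, orderOf a = 2 ^ k := by
    have h1 : orderOf a ∣ 2 ^ 1 := by
      rw [pow_one]
      apply orderOf_dvd_of_pow_eq_one
      rw [pow_two]
      exact ha
    obtain ⟨k, -, hk⟩ := (Nat.dvd_prime_pow Nat.prime_two).1 h1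
    exact ⟨k, hk⟩
  have haH : a ∈ H := by
    rw [hH, Subgroup.mem_centralizer_singleton_iff]
  let yH : H := ⟨a, haH⟩
  have hyc : yH ∈ Subgroup.center H := by
    rw [Subgroup.mem_center_iff]
    intro c
    apply Subtype.ext
    have hc : (c : G) ∈ Subgroup.centralizer ({a} : Set G) := hH ▸ c.2
    rw [Subgroup.mem_centralizer_singleton_iff] at hc
    exact hc
  have hyHpow : yH ^ (2 ^ 1) = 1 := by
    apply Subtype.ext
    rw [SubmonoidClass.coe_pow, pow_one, pow_two]
    exact ha
  obtain ⟨χ₀, hχ₀, h0⟩ := Helper78.exists_height_zero (p := 2) hMp hB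
  let m : IrrCharacter G → ℂ := fun ψ => contribE 2 H a b (χ₀ : G → ℂ) (ψ : G → ℂ)
  -- integrality
  have hdb : blockDefect 2 b = 2 := by rw [hdef, hd2]
  have hint : ∀ ψ : IrrCharacter G, ∃ n : ℤ, (4 : ℂ) * m ψ = (n : ℂ) ∧
      (ψ = χ₀ → ¬ MemLocalIdeal M (n : ℂ)) := by
    intro ψ
    obtain ⟨A, μ, hμ, hform⟩ := Helper16.exists_pow_form hM H yH hyc 1 hyHpow hb χ₀ ψ
    have hμ' : ∀ i, ∃ ε : ℤ, μ i = (ε : ℂ) := by
      intro i
      have h1 : μ i ^ 2 = 1 := by
        have := hμ i
        rwa [pow_one] at this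
      have h1' : μ i * μ i = 1 := by rw [← pow_two]; exact h1
      rcases mul_self_eq_one_iff.mp h1' with h | h
      · exact ⟨1, by rw [h]; norm_num⟩
      · exact ⟨-1, by rw [h]; norm_num⟩
    choose ε hε using hμ'
    have hf1 := hform 1
    rw [pow_one, hdb] at hf1
    refine ⟨∑ i, A i * ε i, ?_, ?_⟩
    · have : ((2 ^ 2 : ℕ) : ℂ) = 4 := by norm_num
      rw [← this]
      show ((2 ^ 2 : ℕ) : ℂ) * contribE 2 H a b (χ₀ : G → ℂ) (ψ : G → ℂ) = _
      rw [hf1]
      push_cast
      refine Finset.sum_congr rfl (fun i _ => ?_)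
      rw [pow_one, hε i]
    · intro hψ
      subst hψ
      have hnv := Helper16.contribE_one_not_memLocalIdeal hM H hind ψ ψ hχ₀ hχ₀ h0 h0
      have hf0 := hform 0
      rw [pow_zero] at hf0
      rw [hf0] at hnv
      have h1 := Helper16.pow_form_not_memLocalIdeal hM A μ hμ hnv 1
      have h2 : ∑ i, (A i : ℂ) * μ i ^ 1 = ((∑ i, A i * ε i : ℤ) : ℂ) := by
        push_cast
        refine Finset.sum_congr rfl (fun i _ => ?_)
        rw [pow_one, hε i]
      rwa [h2] at h1
  choose n hn hnunit using hint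
  -- the row identity
  have hrow : ∑ ψ : IrrCharacter G, m ψ * conj (m ψ) = m χ₀ :=
    Helper16.sum_contribE_row' hM a hx H hH hb χ₀
  have hsum : ∑ ψ : IrrCharacter G, n ψ ^ 2 = 4 * n χ₀ := by
    have h1 : ∀ ψ : IrrCharacter G, ((n ψ ^ 2 : ℤ) : ℂ) = 16 * (m ψ * conj (m ψ)) := by
      intro ψ
      have h2 : conj ((4 : ℂ) * m ψ) = (n ψ : ℂ) := by rw [hn ψ, map_intCast]
      rw [map_mul] at h2
      have h4 : conj (4 : ℂ) = 4 := by
        rw [show (4 : ℂ) = ((4 : ℕ) : ℂ) by norm_num, Complex.conj_natCast]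
      rw [h4] at h2
      push_cast
      rw [pow_two]
      nth_rewrite 1 [← hn ψ]
      rw [← h2]
      ring
    have h3 : ((∑ ψ : IrrCharacter G, n ψ ^ 2 : ℤ) : ℂ) = ((4 * n χ₀ : ℤ) : ℂ) := by
      rw [Int.cast_sum, Finset.sum_congr rfl (fun ψ _ => h1 ψ), ← Finset.mul_sum, hrow]
      push_cast
      rw [← hn χ₀]
      ring
    exact_mod_cast h3
  have hodd : ¬ (2 : ℤ) ∣ n χ₀ := by
    rintro ⟨k, hk⟩
    apply hnunit χ₀ rfl
    rw [hk]
    push_cast
    exact Helper16.memLocalIdeal_mul_right (by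
      have := Helper77.memLocalIdeal_p hM
      exact_mod_cast this) (Helper16.memLocalRing_intCast k)
  have hfour := card_support_eq_four n χ₀ hsum hodd
  -- the support is `B`
  have hsupp : ∀ ψ : IrrCharacter G, n ψ ≠ 0 ↔ ψ ∈ B := by
    intro ψ
    constructor
    · intro hne
      by_contra hψ
      apply hne
      have h1 : contribE 2 H a b (ψ : G → ℂ) (χ₀ : G → ℂ) = 0 :=
        contribE_eq_zero_of_not_mem hM a hx H hH hind ψ hψ χ₀
      have h2 : m ψ = 0 := by
        show contribE 2 H a b (χ₀ : G → ℂ) (ψ : G → ℂ) = 0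
        rw [← Helper16.contribE_conj_symm hM H a hb (ψ : G → ℂ) (χ₀ : G → ℂ), h1, map_zero]
      have h3 := hn ψ
      rw [h2, mul_zero] at h3
      exact_mod_cast h3.symm
    · intro hψ hzero
      have h1 : m ψ ≠ 0 := contribE_ne_zero_of_major a hM hx H hH hind hdef χ₀ ψ hχ₀ h0 hψ
      have h3 := hn ψ
      rw [hzero, Int.cast_zero] at h3
      rcases mul_eq_zero.mp h3 with h | h
      · norm_num at h
      · exact h1 h
  rw [Nat.card_eq_fintype_card, Fintype.card_subtype, ← hfour]
  congr 1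
  ext ψ
  simp only [Finset.mem_filter, Finset.mem_univ, true_and]
  exact (hsupp ψ).symm

end Count

end Cfsg.Agent.Helper77
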