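import Cfsg.Agent.Helper77.KleinRank
import Cfsg.Agent.Helper77.AbelianNilpotent

/-!
# Blocks with a Klein four defect group

(helper77, file 59.)
-/

set_option autoImplicit false
set_option linter.unusedSectionVars false
set_option linter.unusedVariables false
set_option maxHeartbeats 1000000

namespace Cfsg.Agent.Helper77

open Cfsg

section Main

variable {G : Type*} [Group G] [Fintype G] {M : Ideal AlgInt}

/-- **Brauer**: a 2-block `B` with a Klein four defect group has inertial index `e ∈ {1, 3}`,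
`k(B) = 4` and `l(B) = e`. -/
theorem klein_four_main [Fact (Nat.Prime 2)] (hM : IsPModular 2 M)
    (B : Set (IrrCharacter G)) (hB : IsPBlock M B) (P : Subgroup G)
    (hPD : IsDefectGroup 2 M B P) (hV : IsKleinFour P)
    (c : Set (IrrCharacter (Subgroup.centralizer (P : Set G))))
    (hc : IsInducedBlock M (Subgroup.centralizer (P : Set G)) c B) (T : Subgroup G)
    (hT : ∀ g : G, g ∈ T ↔ (g ∈ Subgroup.normalizer (P : Set G) ∧
      StabilizesBlock (Subgroup.centralizer (P : Set G)) c g)) (e : ℕ)
    (he : (Subgroup.centralizer (P : Set G)).relIndex T = e) :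
    (e = 1 ∨ e = 3) ∧ Nat.card B = 4 ∧ blockRank 2 B = e := by
  classical
  have hab : ∀ x ∈ P, ∀ y ∈ P, x * y = y * x := by
    intro x hx y hy
    have := mul_comm_of_exponent_two (G := P) hV.exponent_two ⟨x, hx⟩ ⟨y, hy⟩
    exact congrArg Subtype.val this
  have hmax := isMaximalBrauerPair_of_isInducedBlock_of_abelian hM B hB P hPD hab c hc
  have hPe : IsBrauerPair 2 M P c := hmax.1.1
  obtain ⟨hPT, hCT, hTN, hstabT⟩ := stab_basic P c T hT
  have hodd := not_dvd_relIndex_of_abelian hM B hB P hPD hab c hc T hT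
  obtain ⟨hfree, h13, htrans⟩ := kleinFour_stab_action P T hV hCT hTN hodd
  have hTeq : T = stabT P c := by
    ext g
    rw [hT g, mem_stabT]
  -- the defect
  have hcardP := card_defectGroup hM hB P hPD
  have hd2 : blockDefect 2 B = 2 := by
    rw [hV.card_four] at hcardP
    have h1 : (2 : ℕ) ^ 2 = 2 ^ blockDefect 2 B := by rw [← hcardP]; norm_num
    exact (Nat.pow_right_injective (le_refl 2) h1).symm
  -- an involution
  obtain ⟨a, haP, ha1⟩ : ∃ a : G, a ∈ P ∧ a ≠ 1 := by
    by_contra hcon
    push Not at hcon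
    have : Nat.card P ≤ 1 := by
      haveI : Fintype P := Fintype.ofFinite P
      rw [Nat.card_eq_fintype_card (α := P)]
      refine Fintype.card_le_one_iff.mpr (fun x y => ?_)
      apply Subtype.ext
      rw [hcon x x.2, hcon y y.2]
    rw [hV.card_four] at this
    omega
  have haa : a * a = 1 := by
    have := IsKleinFour.mul_self (G := P) ⟨a, haP⟩
    exact congrArg Subtype.val this
  haveI : ∀ S : Subgroup G, Fintype S := fun S => Fintype.ofFinite S
  have hQP : Subgroup.zpowers a ≤ P := by
    rw [Subgroup.zpowers_le]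
    exact haP
  have hPK : P ≤ Subgroup.centralizer ((Subgroup.zpowers a : Subgroup G) : Set G) :=
    le_centralizer_of_abelian P _ hab hQP
  obtain ⟨fa, ⟨hfa, hlea⟩, -⟩ := existsUnique_subpairLE hM P (Subgroup.zpowers a) c hPe hQP
  obtain ⟨hinda, hdefa⟩ := Helper16.blockDefect_eq_of_central_subpair hM B P _ c fa hmax hQP hPK
    hfa hlea
  have hk4 : Nat.card B = 4 :=
    card_block_eq_four_of_major hM a haa _ (Helper16.centralizer_zpowers_eq a) hinda hdefa hd2
  rw [← he]
  refine ⟨h13, hk4, ?_⟩
  rcases h13 with h1 | h3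
  · -- the nilpotent case
    have hTC : T ≤ Subgroup.centralizer (P : Set G) := Subgroup.relIndex_eq_one.mp h1
    have hnil : IsNilpotentBlock 2 M B :=
      isNilpotentBlock_of_abelian_of_stab_le hM B P c hmax hab
        (fun x hxN hxS => hTC ((hT x).mpr ⟨hxN, hxS⟩))
    rw [h1]
    exact (nilpotent_abelian_count hM B P c hmax hab hnil).2
  · have hfree' : ∀ g ∈ stabT P c, ∀ x ∈ P, x ≠ 1 → g * x * g⁻¹ = x →
        g ∈ Subgroup.centralizer (P : Set G) := by
      intro g hg
      exact hfree g (by rw [hTeq]; exact hg)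
    have htrans' : ∀ a ∈ P, a ≠ 1 → ∀ a' ∈ P, a' ≠ 1 → ∃ t ∈ stabT P c, t * a * t⁻¹ = a' := by
      intro a ha ha1 a' ha' ha'1
      obtain ⟨t, ht, hta⟩ := htrans h3 a ha ha1 a' ha' ha'1
      exact ⟨t, by rw [← hTeq]; exact ht, hta⟩
    have := blockRank_add_one_of_free_transitive hM B P c hmax hab hfree' htrans' a haP ha1
    rw [h3]
    omega

end Main

end Cfsg.Agent.Helper77
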