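import Cfsg.Agent.Helper77.NilpotentCount
import Cfsg.Agent.Helper77.KleinAction
import Cfsg.Agent.Helper77.KleinCount
import Cfsg.Agent.Helper77.AbelianLocal
import Cfsg.Agent.Helper16.BrauerNil
import Cfsg.Agent.Helper16.MajorSub
import Cfsg.Agent.Helper16.QuotientDefect2
import Cfsg.Agent.Helper16.SecondMainVanish

/-!
# Blocks with an abelian defect group on which the inertial group acts freely and transitively

`k(B) = l(B) + 1`.

(helper77, file 58.)
-/

set_option autoImplicit false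
set_option linter.unusedSectionVars false
set_option linter.unusedVariables false
set_option maxHeartbeats 1000000

namespace Cfsg.Agent.Helper77

open Cfsg
open scoped ComplexConjugate
open Cfsg.Agent.Helper16 (contribE transBlock zEquiv)

section Rank

variable {G : Type*} [Group G] [Fintype G] {M : Ideal AlgInt} {p : ℕ}

/-- **Free and transitive inertial action on an abelian defect group**: `l(B) + 1 = k(B)`. -/
theorem blockRank_add_one_of_free_transitive [Fact p.Prime] (hM : IsPModular p M)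
    (B : Set (IrrCharacter G)) (P : Subgroup G)
    (c : Set (IrrCharacter (Subgroup.centralizer (P : Set G))))
    (hmax : IsMaximalBrauerPair p M B P c) (hab : ∀ x ∈ P, ∀ y ∈ P, x * y = y * x)
    (hfree : ∀ g ∈ stabT P c, ∀ x ∈ P, x ≠ 1 → g * x * g⁻¹ = x →
      g ∈ Subgroup.centralizer (P : Set G))
    (htrans : ∀ a ∈ P, a ≠ 1 → ∀ a' ∈ P, a' ≠ 1 → ∃ t ∈ stabT P c, t * a * t⁻¹ = a')
    (a : G) (haP : a ∈ P) (ha1 : a ≠ 1) :
    blockRank p B + 1 = Nat.card B := by
  classical
  have hMp : M.IsPrime := Helper16.IsPModular.isPrime hM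
  have hpr : p.Prime := Fact.out
  have hPe : IsBrauerPair p M P c := hmax.1.1
  have hB : IsPBlock M B := hmax.1.2.1
  have hDdef : IsDefectGroup p M B P := isDefectGroup_of_isMaximalBrauerPair hM B P c hmax
  have hcardP := card_defectGroup hM hB P hDdef
  letI : ∀ S : Subgroup G, Fintype S := fun S => Fintype.ofFinite S
  -- the subgroup generated by `a`
  have hQP : Subgroup.zpowers a ≤ P := by
    rw [Subgroup.zpowers_le]
    exact haP
  have hQ1 : Subgroup.zpowers a ≠ ⊥ := by
    intro h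
    apply ha1
    have := Subgroup.mem_zpowers a
    rw [h, Subgroup.mem_bot] at this
    exact this
  have hPK : P ≤ Subgroup.centralizer ((Subgroup.zpowers a : Subgroup G) : Set G) :=
    le_centralizer_of_abelian P _ hab hQP
  have hCPQ : Subgroup.centralizer (P : Set G) ≤
      Subgroup.centralizer ((Subgroup.zpowers a : Subgroup G) : Set G) :=
    Subgroup.centralizer_le hQP
  have hQC : Subgroup.zpowers a ≤
      Subgroup.centralizer ((Subgroup.zpowers a : Subgroup G) : Set G) := hQP.trans hPK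
  have hQp : IsPGroup p (Subgroup.zpowers a) := hPe.1.to_le hQP
  obtain ⟨fa, ⟨hfa, hlea⟩, -⟩ := existsUnique_subpairLE hM P (Subgroup.zpowers a) c hPe hQP
  obtain ⟨hinda, hdefa⟩ := Helper16.blockDefect_eq_of_central_subpair hM B P _ c fa hmax hQP hPK
    hfa hlea
  -- `l(fa) = 1`
  have hnil : IsNilpotentBlock p M fa :=
    isNilpotentBlock_of_free_action hM B P c hmax hab hfree _ hQP hQ1 fa hfa hlea
  have hmaxK := isMaximalBrauerPair_down_of_abelian hM B P c hmax hab _ fa hQP hfa hlea hPK hCPQ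
  have habK : ∀ x ∈ P.subgroupOf (Subgroup.centralizer ((Subgroup.zpowers a : Subgroup G) : Set G)),
      ∀ y ∈ P.subgroupOf (Subgroup.centralizer ((Subgroup.zpowers a : Subgroup G) : Set G)),
        x * y = y * x :=
    fun x hx y hy => Subtype.ext (hab x hx y hy)
  have hl1 : blockRank p fa = 1 := (nilpotent_abelian_count hM fa _ _ hmaxK habK hnil).2
  -- the order of `a`
  have hap : ∃ k : ℕ, orderOf a = p ^ k := by
    have h1 := orderOf_dvd_natCard (⟨a, haP⟩ : P)
    rw [hcardP, ← Subgroup.orderOf_coe] at h1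
    obtain ⟨k, -, hk⟩ := (Nat.dvd_prime_pow hpr).1 h1
    exact ⟨k, hk⟩
  -- representatives
  obtain ⟨X, hX, hXrep⟩ := Helper16.exists_pSection_reps (G := G) p
  obtain ⟨xa, ⟨hxaX, hxaconj⟩, hxauniq⟩ := hXrep a hap
  obtain ⟨g₀, hg₀⟩ := isConj_iff.mp hxaconj
  set filt : (x₀ : G) → Finset (Set (IrrCharacter (Subgroup.centralizer ({x₀} : Set G)))) :=
    fun x₀ => (Helper77.blocksFinset M (Subgroup.centralizer ({x₀} : Set G))).filter
        (fun b => IsInducedBlock M (Subgroup.centralizer ({x₀} : Set G)) b B) with hfilt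
  have hk : (Nat.card B : ℂ) = ∑ x₀ ∈ X, ∑ b ∈ filt x₀, (blockRank p b : ℂ) :=
    Helper16.card_block_eq_sum_blockRank hM hB X hX hXrep
  have h1X : (1 : G) ∈ X := by
    obtain ⟨x, ⟨hx, hconj⟩, -⟩ := hXrep 1 ⟨0, by simp⟩
    have : x = 1 := by
      obtain ⟨c, hc⟩ := isConj_iff.mp hconj
      rw [← hc]
      group
    rwa [this] at hx
  have hxa1 : xa ≠ 1 := by
    intro h
    apply ha1
    rw [h] at hg₀
    calc a = g₀⁻¹ * (g₀ * a * g₀⁻¹) * g₀ := by group
      _ = 1 := by rw [hg₀]; group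
  have hS1 : ∑ b ∈ filt 1, (blockRank p b : ℂ) = (blockRank p B : ℂ) :=
    Helper16.sum_blockRank_section_one hM hB
  -- the sections at the other representatives are empty
  have hS0 : ∀ x₀ ∈ X, x₀ ≠ 1 → x₀ ≠ xa → filt x₀ = ∅ := by
    intro x₀ hx₀X hx₀1 hx₀a
    rw [Finset.eq_empty_iff_forall_notMem]
    intro b hb
    rw [hfilt, Finset.mem_filter, Helper77.mem_blocksFinset] at hb
    obtain ⟨hbB, hind⟩ := hb
    apply hx₀a
    obtain ⟨χ, hχ⟩ := hB
    have hind' : IsInducedBlock M (Subgroup.centralizer ({x₀} : Set G)) b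
        (blockOf M (χ : G → ℂ)) := by rw [← hχ]; exact hind
    obtain ⟨D', hD', hx₀D'⟩ := Helper16.exists_defectGroup_mem_of_induced hM x₀ (hX x₀ hx₀X) χ b
      hind'
    rw [← hχ] at hD'
    obtain ⟨g, hg⟩ := Helper16.exists_conj_eq_of_isDefectGroup hM ⟨χ, hχ⟩ hDdef hD'
    rw [hg] at hx₀D'
    obtain ⟨a', ha'P, ha'⟩ := hx₀D'
    have ha'x : g * a' * g⁻¹ = x₀ := ha'
    have ha'1 : a' ≠ 1 := by
      intro h
      apply hx₀1
      rw [← ha'x, h]
      group
    obtain ⟨t, ht, hta⟩ := htrans a haP ha1 a' ha'P ha'1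
    have hconj : IsConj a x₀ := by
      rw [isConj_iff]
      refine ⟨g * t, ?_⟩
      rw [← ha'x, ← hta]
      group
    exact hxauniq x₀ ⟨hx₀X, hconj⟩
  -- the section at `xa`
  have hmema : transBlock a xa g₀ fa ∈ filt xa := by
    rw [hfilt, Finset.mem_filter, Helper77.mem_blocksFinset]
    refine ⟨Helper16.isPBlock_transBlock _ _ _ hg₀ hfa, ?_⟩
    rw [Helper16.transBlock_eq _ _ _ hg₀]
    exact Helper78.isInducedBlock_conj_transport (zEquiv _ _ _ hg₀) g₀
      (Helper16.coe_zEquiv _ _ _ hg₀) hinda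
  have hSa : filt xa = {transBlock a xa g₀ fa} := by
    rw [Finset.eq_singleton_iff_unique_mem]
    refine ⟨hmema, ?_⟩
    intro b hb
    rw [hfilt, Finset.mem_filter, Helper77.mem_blocksFinset] at hb
    obtain ⟨hbB, hind⟩ := hb
    set σ := zEquiv a xa g₀ hg₀ with hσ
    have hσsymm : ∀ h : Subgroup.centralizer ({xa} : Set G),
        ((σ.symm h : Subgroup.centralizer ((Subgroup.zpowers a : Subgroup G) : Set G)) : G) =
          g₀⁻¹ * (h : G) * g₀⁻¹⁻¹ := by
      intro h
      have h1 := Helper16.coe_zEquiv a xa g₀ hg₀ (σ.symm h)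
      rw [← hσ, MulEquiv.apply_symm_apply] at h1
      rw [h1]
      group
    set b' := Helper78.irrMap σ.symm '' b with hb'
    have hb'ind : IsInducedBlock M _ b' B :=
      Helper78.isInducedBlock_conj_transport σ.symm g₀⁻¹ hσsymm hind
    have hbb' : Helper78.irrMap σ '' b' = b := Helper78.image_irrMap_image_irrMap_symm σ b
    have hQb' : IsBrauerPairOf p M B (Subgroup.zpowers a) b' :=
      isBrauerPairOf_of_isInducedBlock hM (Subgroup.zpowers a)
        (Subgroup.centralizer ((Subgroup.zpowers a : Subgroup G) : Set G)) hQp hQC le_rfl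
        (Subgroup.centralizer_le_normalizer _) Subgroup.le_normalizer B b' hb'ind.1
        (fun t ht => stabilizesBlock_of_mem_self _ b' t ht) b' hb'ind.1
        (fun t => (extFun_of_mem _ _ t.2).symm) hb'ind
    obtain ⟨u, hu⟩ := exists_conj_subpairLE hM B P (Subgroup.zpowers a) c b' hmax hQb'
    have hu' : Relation.ReflTransGen (NormalSubpairRel p M)
        (conjIdx u ⟨Subgroup.zpowers a, b'⟩) ⟨P, c⟩ := hu
    have hua : u * a * u⁻¹ ∈ P := by
      have h1 : (conjIdx u ⟨Subgroup.zpowers a, b'⟩).1 ≤ P := le_of_reflTransGen hu'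
      apply h1
      exact ⟨a, Subgroup.mem_zpowers a, rfl⟩
    have hua1 : u * a * u⁻¹ ≠ 1 := by
      intro h
      apply ha1
      calc a = u⁻¹ * (u * a * u⁻¹) * u := by group
        _ = 1 := by rw [h]; group
    obtain ⟨t, ht, hta⟩ := htrans _ hua hua1 a haP ha1
    have htN : t ∈ Subgroup.normalizer (P : Set G) := ((mem_stabT P c t).mp ht).1
    have hfix : conjIdx t ⟨P, c⟩ = (⟨P, c⟩ : BrauerPairIdx G) :=
      (conjIdx_eq_self_iff P c t htN).mpr ((mem_stabT P c t).mp ht).2
    have hle2 : Relation.ReflTransGen (NormalSubpairRel p M)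
        (conjIdx (t * u) ⟨Subgroup.zpowers a, b'⟩) ⟨P, c⟩ := by
      have := reflTransGen_conjIdx (p := p) (M := M) t hu'
      rw [hfix] at this
      rw [Helper16.conjIdx_mul]
      exact this
    have htua : t * u * a * (t * u)⁻¹ = a := by
      calc t * u * a * (t * u)⁻¹ = t * (u * a * u⁻¹) * t⁻¹ := by group
        _ = a := hta
    have hfst : (conjIdx (t * u) ⟨Subgroup.zpowers a, b'⟩).1 =
        (⟨Subgroup.zpowers a, fa⟩ : BrauerPairIdx G).1 := by
      show (Subgroup.zpowers a).map (MulAut.conj (t * u)).toMonoidHom = Subgroup.zpowers a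
      rw [MonoidHom.map_zpowers]
      congr 1
    have heq1 : conjIdx (t * u) ⟨Subgroup.zpowers a, b'⟩ =
        (⟨Subgroup.zpowers a, fa⟩ : BrauerPairIdx G) :=
      idx_eq_of_le_of_fst_eq hM P c hPe hle2 hlea hfst
    have htuC : t * u ∈ Subgroup.centralizer ((Subgroup.zpowers a : Subgroup G) : Set G) := by
      rw [Helper16.centralizer_zpowers_eq, Subgroup.mem_centralizer_singleton_iff]
      calc t * u * a = t * u * a * (t * u)⁻¹ * (t * u) := by group
        _ = a * (t * u) := by rw [htua]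
    have heq2 : conjIdx (t * u) ⟨Subgroup.zpowers a, b'⟩ =
        (⟨Subgroup.zpowers a, b'⟩ : BrauerPairIdx G) :=
      (conjIdx_eq_self_iff _ b' (t * u) (Subgroup.centralizer_le_normalizer _ htuC)).mpr
        (stabilizesBlock_of_mem_self _ b' _ htuC)
    have heq3 : (⟨Subgroup.zpowers a, b'⟩ : BrauerPairIdx G) = ⟨Subgroup.zpowers a, fa⟩ := by
      rw [← heq2, heq1]
    have hb'fa : b' = fa := eq_of_heq (Sigma.mk.inj_iff.mp heq3).2
    rw [Helper16.transBlock_eq _ _ _ hg₀, ← hσ, ← hb'fa, hbb']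
  -- conclusion
  have hxaX' : xa ∈ X.erase 1 := Finset.mem_erase.mpr ⟨hxa1, hxaX⟩
  rw [← Finset.add_sum_erase X _ h1X, hS1, ← Finset.add_sum_erase (X.erase 1) _ hxaX', hSa,
    Finset.sum_singleton, Helper16.transBlock_eq _ _ _ hg₀, blockRank_image_irrMap, hl1] at hk
  have hrest : ∑ x₀ ∈ (X.erase 1).erase xa, ∑ b ∈ filt x₀, (blockRank p b : ℂ) = 0 := by
    refine Finset.sum_eq_zero (fun x₀ hx₀ => ?_)
    have h1 := Finset.mem_erase.mp hx₀
    have h2 := Finset.mem_erase.mp h1.2
    rw [hS0 x₀ h2.2 h2.1 h1.1, Finset.sum_empty]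
  rw [hrest, add_zero] at hk
  have : ((Nat.card B : ℕ) : ℂ) = ((blockRank p B + 1 : ℕ) : ℂ) := by
    rw [hk]
    push_cast
    ring
  exact_mod_cast this.symm

end Rank

end Cfsg.Agent.Helper77
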