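import Mathlib

set_option autoImplicit false

/-!
# Sums of roots of unity (helper77; vocabulary for the Knörr criterion, S4958)

* `RootSum n z`: `z` is a finite sum of `n`-th roots of unity (an element of `ℤ[ζ_n]`
  when `n` is even).
* `RootSumP n p z`: `z` is a finite sum of products `ω * (ε - 1)` with `ω ^ n = 1`,
  `ε ^ p = 1` (an element of the ideal `(1 - ζ_p) ℤ[ζ_n]`).
-/

namespace Cfsg.Agent.Helper77.Knorr

/-- `z` is a finite sum of `n`-th roots of unity. -/
def RootSum (n : ℕ) (z : ℂ) : Prop :=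
  ∃ s : Multiset ℂ, (∀ μ ∈ s, μ ^ n = 1) ∧ s.sum = z

/-- `z` is a finite sum of products `ω * (ε - 1)`, `ω ^ n = 1`, `ε ^ p = 1`. -/
def RootSumP (n p : ℕ) (z : ℂ) : Prop :=
  ∃ s : Multiset (ℂ × ℂ), (∀ x ∈ s, x.1 ^ n = 1 ∧ x.2 ^ p = 1) ∧
    (s.map (fun x => x.1 * (x.2 - 1))).sum = z

variable {n p : ℕ}

theorem RootSum.zero : RootSum n 0 := ⟨0, by simp, by simp⟩

theorem RootSum.of_pow_eq_one {μ : ℂ} (h : μ ^ n = 1) : RootSum n μ :=
  ⟨{μ}, by simpa using h, by simp⟩

theorem RootSum.one : RootSum n 1 := RootSum.of_pow_eq_one (one_pow n)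

theorem RootSum.add {a b : ℂ} (ha : RootSum n a) (hb : RootSum n b) : RootSum n (a + b) := by
  obtain ⟨s, hs, rfl⟩ := ha
  obtain ⟨t, ht, rfl⟩ := hb
  refine ⟨s + t, ?_, by simp⟩
  intro μ hμ
  rcases Multiset.mem_add.1 hμ with h | h
  · exact hs μ h
  · exact ht μ h

theorem RootSum.sum {ι : Type*} (s : Finset ι) (f : ι → ℂ) (h : ∀ i ∈ s, RootSum n (f i)) :
    RootSum n (∑ i ∈ s, f i) := by
  classical
  induction s using Finset.induction_on with
  | empty => simpa using RootSum.zero
  | insert a s ha ih =>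
    rw [Finset.sum_insert ha]
    exact (h a (Finset.mem_insert_self a s)).add
      (ih (fun i hi => h i (Finset.mem_insert_of_mem hi)))

theorem RootSum.mul {a b : ℂ} (ha : RootSum n a) (hb : RootSum n b) : RootSum n (a * b) := by
  obtain ⟨s, hs, rfl⟩ := ha
  obtain ⟨t, ht, rfl⟩ := hb
  refine ⟨(s ×ˢ t).map (fun x => x.1 * x.2), ?_, ?_⟩
  · intro μ hμ
    rw [Multiset.mem_map] at hμ
    obtain ⟨x, hx, rfl⟩ := hμ
    rw [Multiset.mem_product] at hx
    rw [mul_pow, hs _ hx.1, ht _ hx.2, one_mul]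
  · induction s using Multiset.induction_on with
    | empty => simp
    | cons a s ih =>
      rw [Multiset.cons_product, Multiset.map_add, Multiset.sum_add, Multiset.sum_cons, add_mul,
        ih (fun μ hμ => hs μ (Multiset.mem_cons_of_mem hμ))]
      congr 1
      rw [Multiset.map_map]
      simp only [Function.comp_def]
      rw [Multiset.sum_map_mul_left, Multiset.map_id']

theorem RootSum.prod {ι : Type*} (s : Finset ι) (f : ι → ℂ) (h : ∀ i ∈ s, RootSum n (f i)) :
    RootSum n (∏ i ∈ s, f i) := by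
  classical
  induction s using Finset.induction_on with
  | empty => simpa using RootSum.one
  | insert a s ha ih =>
    rw [Finset.prod_insert ha]
    exact (h a (Finset.mem_insert_self a s)).mul
      (ih (fun i hi => h i (Finset.mem_insert_of_mem hi)))

theorem RootSum.neg (h2 : 2 ∣ n) {a : ℂ} (ha : RootSum n a) : RootSum n (-a) := by
  have h1 : RootSum n (-1 : ℂ) := by
    apply RootSum.of_pow_eq_one
    obtain ⟨m, rfl⟩ := h2
    rw [pow_mul]; norm_num
  have := h1.mul ha
  simpa using this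

theorem RootSum.natCast (k : ℕ) : RootSum n (k : ℂ) := by
  induction k with
  | zero => simpa using RootSum.zero
  | succ k ih => push_cast; exact ih.add RootSum.one

theorem RootSum.mono {m : ℕ} (h : n ∣ m) {a : ℂ} (ha : RootSum n a) : RootSum m a := by
  obtain ⟨s, hs, rfl⟩ := ha
  refine ⟨s, fun μ hμ => ?_, rfl⟩
  obtain ⟨k, rfl⟩ := h
  rw [pow_mul, hs μ hμ, one_pow]

theorem RootSumP.zero : RootSumP n p 0 := ⟨0, by simp, by simp⟩

theorem RootSumP.add {a b : ℂ} (ha : RootSumP n p a) (hb : RootSumP n p b) :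
    RootSumP n p (a + b) := by
  obtain ⟨s, hs, rfl⟩ := ha
  obtain ⟨t, ht, rfl⟩ := hb
  refine ⟨s + t, ?_, by simp⟩
  intro x hx
  rcases Multiset.mem_add.1 hx with h | h
  · exact hs x h
  · exact ht x h

theorem RootSumP.sum {ι : Type*} (s : Finset ι) (f : ι → ℂ) (h : ∀ i ∈ s, RootSumP n p (f i)) :
    RootSumP n p (∑ i ∈ s, f i) := by
  classical
  induction s using Finset.induction_on with
  | empty => simpa using RootSumP.zero
  | insert a s ha ih =>
    rw [Finset.sum_insert ha]
    exact (h a (Finset.mem_insert_self a s)).add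
      (ih (fun i hi => h i (Finset.mem_insert_of_mem hi)))

/-- the basic generator -/
theorem RootSumP.of_roots {ω ε : ℂ} (hω : ω ^ n = 1) (hε : ε ^ p = 1) :
    RootSumP n p (ω * (ε - 1)) :=
  ⟨{(ω, ε)}, by simpa using ⟨hω, hε⟩, by simp⟩

/-- the ideal property: `RootSum * RootSumP ⊆ RootSumP` -/
theorem RootSumP.mul_left {a b : ℂ} (ha : RootSum n a) (hb : RootSumP n p b) :
    RootSumP n p (a * b) := by
  obtain ⟨s, hs, rfl⟩ := ha
  obtain ⟨t, ht, rfl⟩ := hb
  refine ⟨(s ×ˢ t).map (fun x => (x.1 * x.2.1, x.2.2)), ?_, ?_⟩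
  · intro y hy
    rw [Multiset.mem_map] at hy
    obtain ⟨x, hx, rfl⟩ := hy
    rw [Multiset.mem_product] at hx
    refine ⟨?_, (ht _ hx.2).2⟩
    show (x.1 * x.2.1) ^ n = 1
    rw [mul_pow, hs _ hx.1, (ht _ hx.2).1, one_mul]
  · rw [Multiset.map_map]
    simp only [Function.comp_def]
    induction s using Multiset.induction_on with
    | empty => simp
    | cons a s ih =>
      rw [Multiset.cons_product, Multiset.map_add, Multiset.sum_add, Multiset.sum_cons, add_mul,
        ih (fun μ hμ => hs μ (Multiset.mem_cons_of_mem hμ))]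
      congr 1
      rw [Multiset.map_map]
      simp only [Function.comp_def, mul_assoc]
      rw [Multiset.sum_map_mul_left]

theorem RootSumP.mul_right {a b : ℂ} (ha : RootSumP n p a) (hb : RootSum n b) :
    RootSumP n p (a * b) := by
  rw [mul_comm]; exact RootSumP.mul_left hb ha

/-- elements of the ideal are in the ring (when `p ∣ n` and `2 ∣ n`) -/
theorem RootSumP.rootSum (h2 : 2 ∣ n) (hp : p ∣ n) {a : ℂ} (ha : RootSumP n p a) :
    RootSum n a := by
  obtain ⟨s, hs, rfl⟩ := ha
  induction s using Multiset.induction_on with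
  | empty => simpa using RootSum.zero
  | cons x s ih =>
    rw [Multiset.map_cons, Multiset.sum_cons]
    refine RootSum.add ?_ (ih (fun y hy => hs y (Multiset.mem_cons_of_mem hy)))
    obtain ⟨h1, h2'⟩ := hs x (Multiset.mem_cons_self x s)
    refine (RootSum.of_pow_eq_one h1).mul ?_
    have hε : RootSum n x.2 := (RootSum.of_pow_eq_one h2').mono hp
    have := hε.add (RootSum.neg h2 RootSum.one)
    simpa [sub_eq_add_neg] using this

end Cfsg.Agent.Helper77.Knorr
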