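import Cfsg.Agent.Helper77.KnorrMain

set_option autoImplicit false

/-!
# Knörr's abelian-stabilizer criterion: final assembly (helper77, S4958)
-/

namespace Cfsg.Agent.Helper77.Knorr

open Cfsg Cfsg.Agent.Helper77
open scoped ComplexConjugate

universe u

variable {X : Type u} [Group X] [Finite X]

theorem knorr_abelian (p : ℕ) [hp : Fact p.Prime] (V : Subgroup X) [hVn : V.Normal]
    (hVexp : ∀ v ∈ V, v ^ p = 1) (hidx : ¬ p ∣ V.index)
    (hself : Subgroup.centralizer (V : Set X) = V) (G : Subgroup X)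
    (hGV : Subgroup.IsComplement' V G) (v : X) (hv : v ∈ V)
    (hab : ∀ a ∈ G ⊓ Subgroup.centralizer ({v} : Set X),
      ∀ b ∈ G ⊓ Subgroup.centralizer ({v} : Set X), a * b = b * a) :
    Nat.card (ConjClasses X) ≤ Nat.card V := by
  classical
  have : Fintype X := Fintype.ofFinite X
  have : Fintype (IrrCharacter X) := Cfsg.Agent.Helper74.irrFintype X
  have hpp : p.Prime := hp.out
  -- `V` is abelian
  have hVab : ∀ a ∈ V, ∀ b ∈ V, a * b = b * a := by
    intro a ha b hb
    have hb' : b ∈ Subgroup.centralizer (V : Set X) := by rw [hself]; exact hb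
    rw [Subgroup.mem_centralizer_iff] at hb'
    exact hb' a ha
  -- trivial case
  by_cases hV1 : V = ⊥
  · have htop : (⊤ : Subgroup X) = ⊥ := by
      have h1 : Subgroup.centralizer ((⊥ : Subgroup X) : Set X) = ⊤ := by
        rw [Subgroup.coe_bot]
        exact Subgroup.centralizer_eq_top_iff_subset.2 (by simp)
      rw [← h1, ← hV1, hself, hV1]
    have hsub : Subsingleton X := by
      refine ⟨fun a b => ?_⟩
      have ha : a ∈ (⊤ : Subgroup X) := Subgroup.mem_top a
      have hb : b ∈ (⊤ : Subgroup X) := Subgroup.mem_top b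
      rw [htop, Subgroup.mem_bot] at ha hb
      rw [ha, hb]
    have : Nat.card (ConjClasses X) ≤ Nat.card X :=
      Nat.card_le_card_of_surjective (ConjClasses.mk) ConjClasses.mk_surjective
    have hX1 : Nat.card X = 1 := Nat.card_unique
    have hVpos : 0 < Nat.card V := Nat.card_pos
    omega
  -- `p` divides `|V|`
  have hPV : IsPGroup p V := fun g => ⟨1, by
    rw [pow_one]
    exact Subtype.ext (by simpa using hVexp g.1 g.2)⟩
  obtain ⟨a, ha⟩ := IsPGroup.iff_card.1 hPV
  have ha0 : a ≠ 0 := by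
    rintro rfl
    rw [pow_zero] at ha
    exact hV1 (Subgroup.card_eq_one.1 ha)
  have hpV : p ∣ Nat.card V := by rw [ha]; exact dvd_pow_self p ha0
  have hpX : p ∣ Nat.card X := dvd_trans hpV (Subgroup.card_subgroup_dvd_card V)
  -- the complement
  have hcardG : Nat.card G = V.index := by
    have h1 := hGV.card_mul_card
    have h2 := V.card_mul_index
    have hVpos : 0 < Nat.card V := Nat.card_pos
    exact Nat.eq_of_mul_eq_mul_left hVpos (h1.trans h2.symm)
  have hcop : (Nat.card V).Coprime (Nat.card G) := by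
    rw [ha, hcardG]
    exact Nat.Coprime.pow_left _ ((Nat.Prime.coprime_iff_not_dvd hpp).2 hidx)
  set C : Subgroup X := G ⊓ Subgroup.centralizer ({v} : Set X) with hCdef
  have : Fintype C := Fintype.ofFinite C
  have hCG : C ≤ G := inf_le_left
  have hcopC : ¬ p ∣ Nat.card C := by
    intro h
    apply hidx
    rw [← hcardG]
    exact dvd_trans h (Subgroup.card_dvd_of_le hCG)
  have hdisj : V ⊓ G = ⊥ := hGV.disjoint.eq_bot
  -- the exponent
  set n := 2 * Nat.card X with hn
  have hn0 : 0 < n := Nat.mul_pos (by norm_num) Nat.card_pos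
  have hn2 : 2 ∣ n := Dvd.intro _ rfl
  have hXn : Nat.card X ∣ n := Dvd.intro_left _ rfl
  have hnp : p ∣ n := dvd_trans hpX hXn
  have hnC : Nat.card C ∣ n := dvd_trans (Subgroup.card_subgroup_dvd_card C) hXn
  -- the action
  letI act : MulDistribMulAction C V := conjAct C V
  have hCcomm : ∀ a b : C, a * b = b * a := fun a b => Subtype.ext (hab a a.2 b b.2)
  have hVcomm : ∀ a b : V, a * b = b * a := fun a b => Subtype.ext (hVab a a.2 b b.2)
  have hVexp' : ∀ u : V, u ^ p = 1 := fun u => Subtype.ext (by simpa using hVexp u.1 u.2)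
  obtain ⟨θ, hθ1, hθ2, ⟨k, ν, t, ht, hθ3⟩, hθ4⟩ :=
    exists_gauss_theta (C := C) (U := V) hCcomm hVcomm p hVexp' hcopC n hn2 hnp hnC
  have hθroot : ∀ c : C, RootSum n (θ c) := by
    intro c
    rw [hθ3 c]
    exact rootSum_of_fourier hnC ν t ht c
  -- nontrivial elements act nontrivially
  have hmove : ∀ c : C, c ≠ 1 → ∃ x : V, c • x ≠ x := by
    intro c hc
    by_contra hcon
    push Not at hcon
    apply hc
    have hcV : (c : X) ∈ Subgroup.centralizer (V : Set X) := by
      rw [Subgroup.mem_centralizer_iff]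
      intro w hw
      have := congrArg Subtype.val (hcon ⟨w, hw⟩)
      have h2 : (c : X) * w * (c : X)⁻¹ = w := this
      calc w * (c : X) = (c : X) * w * (c : X)⁻¹ * (c : X) := by rw [h2]
        _ = (c : X) * w := by group
    rw [hself] at hcV
    have : (c : X) ∈ V ⊓ G := ⟨hcV, hCG c.2⟩
    rw [hdisj, Subgroup.mem_bot] at this
    exact Subtype.ext this
  have hθone : θ 1 = 1 := hθ1 1 (fun x => one_smul C x)
  have hθP : ∀ c : C, c ≠ 1 → RootSumP n p (θ c) := fun c hc => hθ4 c (hmove c hc)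
  -- `v` commutes with `C` and has order dividing `p`
  have hvC : ∀ c ∈ C, v * c = c * v := by
    intro c hc
    have h1 : c ∈ Subgroup.centralizer ({v} : Set X) := hc.2
    rw [Subgroup.mem_centralizer_iff] at h1
    exact h1 v (Set.mem_singleton v)
  have hvp : v ^ p = 1 := hVexp v hv
  -- the Knörr coefficients
  let a : IrrCharacter X → ℂ := fun χ =>
    (Fintype.card C : ℂ)⁻¹ * ∑ c : C, θ c * (χ : X → ℂ) (v * (c : X))
  have hcardC0 : (Fintype.card C : ℂ) ≠ 0 := by exact_mod_cast Fintype.card_ne_zero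
  have ha_ne : ∀ χ, a χ ≠ 0 := fun χ =>
    mul_ne_zero (inv_ne_zero hcardC0)
      (sum_theta_char_ne_zero p V hVab hidx v hvp C n hn0 θ hθone hθP χ)
  have ha_root : ∀ χ, RootSum n (a χ) := by
    intro χ
    have hχc : IsCharacter X (χ : X → ℂ) := Cfsg.Agent.Helper74.irr_isCharacter χ
    have hrew : a χ = ∑ i, t i *
        ((Fintype.card C : ℂ)⁻¹ * ∑ c : C, ((ν i c : ℂˣ) : ℂ) * (χ : X → ℂ) (v * (c : X))) := by
      show (Fintype.card C : ℂ)⁻¹ * ∑ c : C, θ c * (χ : X → ℂ) (v * (c : X)) = _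
      simp only [hθ3, Finset.sum_mul, Finset.mul_sum]
      rw [Finset.sum_comm]
      refine Finset.sum_congr rfl (fun i _ => Finset.sum_congr rfl (fun c _ => ?_))
      ring
    rw [hrew]
    refine RootSum.sum _ _ (fun i _ => (ht i).mul ?_)
    exact (rootSum_fourier_char hχc C (ν i) v hvC p hpp.pos hvp).mono hnp
  -- Galois automorphisms
  have hτex : ∀ j : ℕ, ∃ τ : ℂ ≃+* ℂ, j.Coprime n → ActsAsPow τ n j := by
    intro j
    by_cases hj : j.Coprime n
    · obtain ⟨τ, hτ⟩ := Cfsg.Agent.Helper82.exists_ringAut_complex_pow n hn0 j hj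
      exact ⟨τ, fun _ => hτ⟩
    · exact ⟨RingEquiv.refl ℂ, fun h => absurd h hj⟩
  choose τ hτ using hτex
  set K := (Finset.range n).filter (fun j => j.Coprime n) with hK
  have hKcard : K.card = n.totient := by
    rw [Nat.totient_eq_card_coprime]
    congr 1
    ext j
    simp only [hK, Finset.mem_filter, Finset.mem_range, Nat.coprime_comm]
  have hφ : (0 : ℝ) < (n.totient : ℝ) := by exact_mod_cast Nat.totient_pos.2 hn0
  have hlow : ∀ χ : IrrCharacter X, (n.totient : ℝ) ≤ ∑ j ∈ K, ‖τ j (a χ)‖ ^ 2 := fun χ =>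
    totient_le_sum_normSq_ringAut n hn0 τ hτ (a χ) (ha_root χ) (ha_ne χ)
  -- column sums
  have hcol : ∀ j ∈ K, ∑ χ : IrrCharacter X, ‖τ j (a χ)‖ ^ 2 = (Nat.card V : ℝ) := by
    intro j hj
    have hjn : j.Coprime n := (Finset.mem_filter.1 hj).2
    have hact : ActsAsPow (τ j) n j := hτ j hjn
    have hactX : ActsAsPow (τ j) (Nat.card X) j := hact.mono hXn
    have hjX : j.Coprime (Nat.card X) := Nat.Coprime.coprime_dvd_right hXn hjn
    let F : (X → ℂ) → ℝ := fun f =>
      ‖(Fintype.card C : ℂ)⁻¹ * ∑ c : C, τ j (θ c) * f (v * (c : X))‖ ^ 2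
    have h1 : ∀ χ : IrrCharacter X, ‖τ j (a χ)‖ ^ 2 = F (fun g => τ j ((χ : X → ℂ) g)) := by
      intro χ
      show ‖τ j ((Fintype.card C : ℂ)⁻¹ * ∑ c : C, θ c * (χ : X → ℂ) (v * (c : X)))‖ ^ 2 = _
      simp only [F, map_mul, map_sum, map_inv₀, map_natCast]
    rw [Finset.sum_congr rfl (fun χ _ => h1 χ), sum_irr_comp_ringAut hactX hjX F]
    -- apply the weighted column orthogonality
    have hϑ : ∀ c : C, τ j (θ c) * conj (τ j (θ c)) *
        (Nat.card ↥(V ⊓ Subgroup.centralizer ({(c : X)} : Set X)) : ℂ) = (Nat.card V : ℂ) := by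
      intro c
      rw [hact.conj_apply (hθroot c), ← card_fixed_conjAct C V c]
      have := congrArg (τ j) (hθ2 c)
      simp only [map_mul, map_natCast] at this
      exact this
    have hW5 := Cfsg.Agent.Helper79.KnorrW5.sum_irr_normSq_weighted V G hVab hGV hcop v hv C hCdef
      (fun a ha b hb => hab a ha b hb) (fun c => τ j (θ c)) hϑ
    have hF : ∀ χ : IrrCharacter X, F (χ : X → ℂ) =
        ((Fintype.card C : ℝ)⁻¹) ^ 2 * ‖∑ c : C, τ j (θ c) * (χ : X → ℂ) (v * (c : X))‖ ^ 2 := by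
      intro χ
      show ‖(Fintype.card C : ℂ)⁻¹ * ∑ c : C, τ j (θ c) * (χ : X → ℂ) (v * (c : X))‖ ^ 2 = _
      rw [norm_mul, mul_pow, norm_inv, Complex.norm_natCast]
    rw [Finset.sum_congr rfl (fun χ _ => hF χ), ← Finset.mul_sum, hW5, Nat.card_eq_fintype_card]
    have hc0 : (Fintype.card C : ℝ) ≠ 0 := by exact_mod_cast Fintype.card_ne_zero
    field_simp
  -- double counting
  have hdouble : ∑ χ : IrrCharacter X, ∑ j ∈ K, ‖τ j (a χ)‖ ^ 2 =
      (n.totient : ℝ) * (Nat.card V : ℝ) := by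
    rw [Finset.sum_comm, Finset.sum_congr rfl hcol, Finset.sum_const, nsmul_eq_mul, hKcard]
  have hsum := Finset.sum_le_sum (fun χ (_ : χ ∈ (Finset.univ : Finset (IrrCharacter X))) => hlow χ)
  rw [hdouble, Finset.sum_const, nsmul_eq_mul, Finset.card_univ] at hsum
  have hfin : (Fintype.card (IrrCharacter X) : ℝ) ≤ (Nat.card V : ℝ) := by
    have h2 : (n.totient : ℝ) * (Fintype.card (IrrCharacter X) : ℝ) ≤
        (n.totient : ℝ) * (Nat.card V : ℝ) := by
      rw [mul_comm]; exact hsum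
    exact le_of_mul_le_mul_left h2 hφ
  rw [← Cfsg.Agent.Helper79.card_irr_eq_card_conjClasses, Nat.card_eq_fintype_card]
  exact_mod_cast hfin

end Cfsg.Agent.Helper77.Knorr
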