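import Cfsg.Agent.Helper77.KnorrDefs
import Cfsg.Agent.Helper82.GaloisConj
import Cfsg.Agent.Helper82.GaloisAvg

set_option autoImplicit false

/-!
# Galois tools for the Knörr criterion (helper77, S4958)

Ring automorphisms `τ` of `ℂ` acting on `n`-th roots of unity by `μ ↦ μ ^ k`:
* commute with complex conjugation on `RootSum n`;
* Galois averaging `φ(n) ≤ ∑_k ‖τ_k a‖²` for `0 ≠ a ∈ RootSum n`;
* permute the irreducible characters.
-/

namespace Cfsg.Agent.Helper77.Knorr

open Cfsg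
open scoped ComplexConjugate

universe u

/-- `τ` acts on the `n`-th roots of unity as the `k`-th power map. -/
def ActsAsPow (τ : ℂ ≃+* ℂ) (n k : ℕ) : Prop := ∀ μ : ℂ, μ ^ n = 1 → τ μ = μ ^ k

theorem ActsAsPow.mono {τ : ℂ ≃+* ℂ} {n m k : ℕ} (h : ActsAsPow τ n k) (hmn : m ∣ n) :
    ActsAsPow τ m k := by
  intro μ hμ
  apply h
  obtain ⟨c, rfl⟩ := hmn
  rw [pow_mul, hμ, one_pow]

theorem ActsAsPow.apply_rootSum {τ : ℂ ≃+* ℂ} {n k : ℕ} (h : ActsAsPow τ n k) {z : ℂ}
    (hz : RootSum n z) : RootSum n (τ z) := by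
  obtain ⟨s, hs, rfl⟩ := hz
  refine ⟨s.map τ, ?_, ?_⟩
  · intro μ hμ
    rw [Multiset.mem_map] at hμ
    obtain ⟨ν, hν, rfl⟩ := hμ
    rw [← map_pow, hs ν hν, map_one]
  · rw [← map_multiset_sum]

theorem conj_pow_eq_one {μ : ℂ} {n : ℕ} (h : μ ^ n = 1) : (conj μ) ^ n = 1 := by
  rw [← map_pow, h, map_one]

/-- `τ` commutes with complex conjugation on sums of `n`-th roots of unity. -/
theorem ActsAsPow.conj_apply {τ : ℂ ≃+* ℂ} {n k : ℕ} (h : ActsAsPow τ n k) {z : ℂ}
    (hz : RootSum n z) : conj (τ z) = τ (conj z) := by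
  obtain ⟨s, hs, rfl⟩ := hz
  induction s using Multiset.induction_on with
  | empty => simp
  | cons a s ih =>
    have ha : a ^ n = 1 := hs a (Multiset.mem_cons_self a s)
    have ih' := ih (fun μ hμ => hs μ (Multiset.mem_cons_of_mem hμ))
    rw [Multiset.sum_cons, map_add, map_add, map_add, map_add, ih', h a ha,
      h (conj a) (conj_pow_eq_one ha), map_pow]

/-- Galois averaging for sums of roots of unity, in terms of ring automorphisms of `ℂ`. -/
theorem totient_le_sum_normSq_ringAut (n : ℕ) (hn : 0 < n) (τ : ℕ → (ℂ ≃+* ℂ))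
    (hτ : ∀ k, k.Coprime n → ActsAsPow (τ k) n k) (a : ℂ) (ha : RootSum n a) (ha0 : a ≠ 0) :
    (n.totient : ℝ) ≤
      ∑ k ∈ (Finset.range n).filter (fun k => k.Coprime n), ‖τ k a‖ ^ 2 := by
  classical
  obtain ⟨s, hs, rfl⟩ := ha
  -- index the multiset
  let ι := Fin s.toList.length
  let μ : ι → ℂ := fun i => s.toList.get i
  have hμmem : ∀ i, μ i ∈ s := fun i => Multiset.mem_toList.1 (List.get_mem _ _)
  have hμ : ∀ i, μ i ^ n = 1 := fun i => hs _ (hμmem i)
  have hsum : ∀ f : ℂ → ℂ, ∑ i, f (μ i) = (s.map f).sum := by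
    intro f
    have h1 : (s.map f).sum = (s.toList.map f).sum := by
      conv_lhs => rw [← Multiset.coe_toList s]
      rfl
    rw [h1]
    simp only [μ, ι]
    rw [← List.sum_ofFn]
    congr 1
    apply List.ext_get
    · simp
    · intro i h1 h2
      simp
  have h0 : ∑ i, μ i ≠ 0 := by
    have := hsum id
    simp only [id, Multiset.map_id'] at this
    rw [this]; exact ha0
  have key := Cfsg.Agent.Helper82.totient_le_sum_normSq_powersum n hn μ hμ h0
  refine le_trans key (le_of_eq ?_)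
  refine Finset.sum_congr rfl (fun k hk => ?_)
  have hkc : k.Coprime n := (Finset.mem_filter.1 hk).2
  congr 2
  rw [map_multiset_sum, ← hsum (fun x => τ k x)]
  refine Finset.sum_congr rfl (fun i _ => ?_)
  exact (hτ k hkc (μ i) (hμ i)).symm

section chars
variable {X : Type u} [Group X] [Finite X]

/-- `τ (χ g) = χ (g ^ k)` when `τ` acts as the `k`-th power on `|X|`-th roots of unity. -/
theorem ActsAsPow.char_apply {τ : ℂ ≃+* ℂ} {k : ℕ} (h : ActsAsPow τ (Nat.card X) k)
    {χ : X → ℂ} (hχ : IsCharacter X χ) (g : X) : τ (χ g) = χ (g ^ k) := by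
  obtain ⟨m, ρ, rfl⟩ := hχ
  obtain ⟨b, μ, -, h2, -, h4⟩ :=
    Cfsg.Agent.Helper80.exists_eigen_data_rep ρ g (isOfFinOrder_of_finite g)
  have h41 := h4 1
  simp only [pow_one] at h41
  rw [h41, h4, map_sum]
  refine Finset.sum_congr rfl (fun i _ => ?_)
  apply h
  obtain ⟨c, hc⟩ := orderOf_dvd_natCard g
  rw [hc, pow_mul, h2, one_pow]

theorem ActsAsPow.isIrr_comp {τ : ℂ ≃+* ℂ} {k : ℕ} (h : ActsAsPow τ (Nat.card X) k)
    (hk : k.Coprime (Nat.card X)) {χ : X → ℂ} (hχ : IsIrrCharacter X χ) :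
    IsIrrCharacter X (fun g => τ (χ g)) := by
  have hc : IsCharacter X χ := Cfsg.Agent.Helper74.isCharacter_of_isIrr hχ
  have : (fun g => τ (χ g)) = fun g => χ (g ^ k) := funext (fun g => h.char_apply hc g)
  rw [this]
  exact Cfsg.Agent.Helper82.galoisConj_isIrrCharacter hχ k hk

/-- Reindexing a sum over the irreducible characters by a Galois automorphism. -/
theorem sum_irr_comp_ringAut [Fintype (IrrCharacter X)] {τ : ℂ ≃+* ℂ} {k : ℕ}
    (h : ActsAsPow τ (Nat.card X) k) (hk : k.Coprime (Nat.card X))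
    {M : Type*} [AddCommMonoid M] (F : (X → ℂ) → M) :
    ∑ χ : IrrCharacter X, F (fun g => τ ((χ : X → ℂ) g)) = ∑ χ : IrrCharacter X, F (χ : X → ℂ) := by
  classical
  let e : IrrCharacter X → IrrCharacter X := fun χ => ⟨fun g => τ ((χ : X → ℂ) g), h.isIrr_comp hk χ.2⟩
  have hinj : Function.Injective e := by
    intro χ ψ hχψ
    apply Subtype.ext
    funext g
    have := congrFun (congrArg Subtype.val hχψ) g
    exact τ.injective this
  have hbij : Function.Bijective e := Finite.injective_iff_bijective.1 hinj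
  exact Fintype.sum_bijective e hbij _ _ (fun χ => rfl)

end chars

end Cfsg.Agent.Helper77.Knorr
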