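import Cfsg.Agent.Helper77.KnorrDefs
import Cfsg.Agent.Helper78.Burnside
import Cfsg.Prelude.Def_Characters

set_option autoImplicit false

/-!
# Traces of `T * E`, `T` of finite order commuting with an idempotent `E` (helper77, S4958)

`trace (T * E)` is a sum of `p`-th roots of unity when `T ^ p = 1`, `E * E = E`, `T * E = E * T`.
Applied to `T = ρ v` and the isotypic projection `E = |C|⁻¹ ∑_{c ∈ C} ν c • ρ c`.
-/

namespace Cfsg.Agent.Helper77.Knorr

open Polynomial

section linalg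
variable {W : Type*} [AddCommGroup W] [Module ℂ W] [FiniteDimensional ℂ W]

theorem rootSum_trace_mul_idem (T E : Module.End ℂ W) (p : ℕ) (hp : 0 < p) (hT : T ^ p = 1)
    (hE : E * E = E) (hTE : T * E = E * T) : RootSum p (LinearMap.trace ℂ W (T * E)) := by
  classical
  set S := T * E with hS
  have hEpow : ∀ k : ℕ, E ^ (k + 1) = E := by
    intro k
    induction k with
    | zero => simp
    | succ k ih => rw [pow_succ, ih, hE]
  have hSpow : S ^ (p + 1) = S := by
    have hc : Commute T E := hTE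
    rw [hS, hc.mul_pow, hEpow, pow_succ, hT, one_mul]
  rw [Cfsg.Agent.Helper78.trace_eq_sum_roots' S]
  have hroot : ∀ r ∈ S.charpoly.roots, r = 0 ∨ r ^ p = 1 := by
    intro r hr
    have hroot : S.charpoly.IsRoot r := (Polynomial.mem_roots'.1 hr).2
    have hev : S.HasEigenvalue r := (Module.End.hasEigenvalue_iff_isRoot_charpoly S r).2 hroot
    obtain ⟨w, hw⟩ := hev.exists_hasEigenvector
    have h1 : (S ^ (p + 1)) w = r ^ (p + 1) • w := hw.pow_apply (p + 1)
    have h0 : S w = r • w := hw.apply_eq_smul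
    rw [hSpow, h0] at h1
    have h2 : (r ^ (p + 1) - r) • w = 0 := by
      rw [sub_smul, ← h1, sub_self]
    rcases smul_eq_zero.1 h2 with h | h
    · have h3 : r * (r ^ p - 1) = 0 := by
        have : r * (r ^ p - 1) = r ^ (p + 1) - r := by ring
        rw [this]; exact h
      rcases mul_eq_zero.1 h3 with h4 | h4
      · exact Or.inl h4
      · exact Or.inr (sub_eq_zero.1 h4)
    · exact absurd h hw.2
  refine ⟨S.charpoly.roots.filter (fun r => r ≠ 0), ?_, ?_⟩
  · intro μ hμ
    rw [Multiset.mem_filter] at hμ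
    rcases hroot μ hμ.1 with h | h
    · exact absurd h hμ.2
    · exact h
  · have hsplit := Multiset.filter_add_not (fun r : ℂ => r ≠ 0) S.charpoly.roots
    have hz : (S.charpoly.roots.filter (fun r => ¬ r ≠ 0)).sum = 0 := by
      apply Multiset.sum_eq_zero
      intro x hx
      rw [Multiset.mem_filter] at hx
      exact not_not.1 hx.2
    conv_rhs => rw [← hsplit, Multiset.sum_add, hz, add_zero]

end linalg

section rep
variable {X : Type*} [Group X] {W : Type*} [AddCommGroup W] [Module ℂ W] [FiniteDimensional ℂ W]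

/-- the `ν⁻¹`-isotypic projection of a finite subgroup -/
noncomputable def isoProj (ρ : Representation ℂ X W) (C : Subgroup X) [Fintype C]
    (ν : C →* ℂˣ) : Module.End ℂ W :=
  (Fintype.card C : ℂ)⁻¹ • ∑ c : C, ((ν c : ℂˣ) : ℂ) • ρ (c : X)

theorem isoProj_mul_self (ρ : Representation ℂ X W) (C : Subgroup X) [Fintype C]
    (ν : C →* ℂˣ) : isoProj ρ C ν * isoProj ρ C ν = isoProj ρ C ν := by
  classical
  unfold isoProj
  have hcard : (Fintype.card C : ℂ) ≠ 0 := by
    exact_mod_cast Fintype.card_ne_zero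
  rw [smul_mul_smul_comm, Finset.sum_mul_sum]
  have key : ∀ c : C, ∑ d : C, (((ν c : ℂˣ) : ℂ) • ρ (c : X)) * (((ν d : ℂˣ) : ℂ) • ρ (d : X)) =
      ∑ e : C, ((ν e : ℂˣ) : ℂ) • ρ (e : X) := by
    intro c
    rw [← Equiv.sum_comp (Equiv.mulLeft c) (fun e : C => ((ν e : ℂˣ) : ℂ) • ρ (e : X))]
    refine Finset.sum_congr rfl (fun d _ => ?_)
    simp only [Equiv.coe_mulLeft, map_mul, Units.val_mul, Subgroup.coe_mul]
    rw [smul_mul_smul_comm]
  rw [Finset.sum_congr rfl (fun c _ => key c), Finset.sum_const, Finset.card_univ,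
    ← Nat.cast_smul_eq_nsmul ℂ, smul_smul]
  congr 1
  field_simp

theorem commute_isoProj (ρ : Representation ℂ X W) (C : Subgroup X) [Fintype C]
    (ν : C →* ℂˣ) (x : X) (hx : ∀ c ∈ C, x * c = c * x) :
    ρ x * isoProj ρ C ν = isoProj ρ C ν * ρ x := by
  unfold isoProj
  rw [mul_smul_comm, smul_mul_assoc, Finset.mul_sum, Finset.sum_mul]
  congr 1
  refine Finset.sum_congr rfl (fun c _ => ?_)
  rw [mul_smul_comm, smul_mul_assoc, ← map_mul, ← map_mul, hx c c.2]

theorem trace_mul_isoProj (ρ : Representation ℂ X W) (C : Subgroup X) [Fintype C]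
    (ν : C →* ℂˣ) (x : X) :
    LinearMap.trace ℂ W (ρ x * isoProj ρ C ν) =
      (Fintype.card C : ℂ)⁻¹ * ∑ c : C, ((ν c : ℂˣ) : ℂ) * ρ.character (x * (c : X)) := by
  unfold isoProj
  rw [mul_smul_comm, map_smul, smul_eq_mul, Finset.mul_sum, map_sum]
  congr 1
  refine Finset.sum_congr rfl (fun c _ => ?_)
  rw [mul_smul_comm, map_smul, smul_eq_mul, ← map_mul]
  rfl

/-- **(K-W7)** the `ν`-Fourier coefficient of `c ↦ χ (v c)` is a sum of `p`-th roots of unity. -/
theorem rootSum_fourier_char [Finite X] {χ : X → ℂ} (hχ : Cfsg.IsCharacter X χ) (C : Subgroup X)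
    [Fintype C] (ν : C →* ℂˣ) (v : X) (hv : ∀ c ∈ C, v * c = c * v) (p : ℕ) (hp : 0 < p)
    (hvp : v ^ p = 1) :
    RootSum p ((Fintype.card C : ℂ)⁻¹ * ∑ c : C, ((ν c : ℂˣ) : ℂ) * χ (v * (c : X))) := by
  obtain ⟨m, ρ, rfl⟩ := hχ
  rw [← trace_mul_isoProj ρ C ν v]
  refine rootSum_trace_mul_idem (ρ v) (isoProj ρ C ν) p hp ?_ (isoProj_mul_self ρ C ν)
    (commute_isoProj ρ C ν v hv)
  rw [← map_pow, hvp, map_one]

end rep

end Cfsg.Agent.Helper77.Knorr
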