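import Cfsg.Agent.Helper77.KnorrTheta
import Cfsg.Agent.Helper77.KnorrGalois
import Cfsg.Agent.Helper77.KnorrTrace
import Cfsg.Agent.Helper77.RootsUnity
import Cfsg.Agent.Helper74.Ito
import Cfsg.Agent.Helper82.Knorr
import Cfsg.Agent.Helper79.KnorrW5

set_option autoImplicit false

/-!
# Knörr's abelian-stabilizer criterion for `k(GV)` (helper77, S4958)
-/

namespace Cfsg.Agent.Helper77.Knorr

open Cfsg Cfsg.Agent.Helper77
open scoped ComplexConjugate

universe u

section localring
variable {M : Ideal AlgInt} {p : ℕ}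

theorem rootSumP_memLocalIdeal (hM : IsPModular p M) {n : ℕ} (hn : 0 < n) {z : ℂ}
    (hz : RootSumP n p z) : MemLocalIdeal M z := by
  have hMp := isPrime_of_isPModular hM
  obtain ⟨s, hs, rfl⟩ := hz
  induction s using Multiset.induction_on with
  | empty => simpa using memLocalIdeal_zero M
  | cons x s ih =>
    rw [Multiset.map_cons, Multiset.sum_cons]
    refine memLocalIdeal_add M ?_ (ih (fun y hy => hs y (Multiset.mem_cons_of_mem hy)))
    obtain ⟨h1, h2⟩ := hs x (Multiset.mem_cons_self x s)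
    exact memLocalIdeal_mul_left M (memLocalRing_of_pow_eq_one hn h1)
      (memLocalIdeal_sub_one_of_pow_eq_one hM (k := 1) (by rw [pow_one]; exact h2))

theorem char_memLocalRing [hMp : M.IsPrime] {X : Type*} [Group X] [Finite X] {χ : X → ℂ}
    (hχ : IsCharacter X χ) (g : X) : MemLocalRing M (χ g) := by
  obtain ⟨m, ρ, rfl⟩ := hχ
  obtain ⟨b, μ, -, h2, -, h4⟩ :=
    Cfsg.Agent.Helper80.exists_eigen_data_rep ρ g (isOfFinOrder_of_finite g)
  have h41 := h4 1
  simp only [pow_one] at h41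
  rw [h41]
  exact memLocalRing_sum M _ _ (fun i _ =>
    memLocalRing_of_pow_eq_one (isOfFinOrder_of_finite g).orderOf_pos (h2 i))

theorem char_sub_one_memLocalIdeal (hM : IsPModular p M) {X : Type*} [Group X] [Finite X]
    {χ : X → ℂ} (hχ : IsCharacter X χ) (v : X) (hv : v ^ p = 1) :
    MemLocalIdeal M (χ v - χ 1) := by
  have hMp := isPrime_of_isPModular hM
  obtain ⟨m, ρ, rfl⟩ := hχ
  obtain ⟨b, μ, -, h2, -, h4⟩ :=
    Cfsg.Agent.Helper80.exists_eigen_data_rep ρ v (isOfFinOrder_of_finite v)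
  have h41 := h4 1
  have h40 := h4 0
  simp only [pow_one] at h41
  simp only [pow_zero] at h40
  rw [h41, h40, ← Finset.sum_sub_distrib]
  refine memLocalIdeal_sum M _ _ (fun i _ => ?_)
  apply memLocalIdeal_sub_one_of_pow_eq_one hM (k := 1)
  rw [pow_one]
  obtain ⟨c, hc⟩ := orderOf_dvd_of_pow_eq_one hv
  rw [hc, pow_mul, h2, one_pow]

end localring

section nonvanish
variable {X : Type u} [Group X] [Finite X]

/-- **(K-W6)** nonvanishing of the Knörr coefficient. -/
theorem sum_theta_char_ne_zero (p : ℕ) [hp : Fact p.Prime] (V : Subgroup X) [V.Normal]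
    (hVab : ∀ a ∈ V, ∀ b ∈ V, a * b = b * a) (hidx : ¬ p ∣ V.index) (v : X) (hvp : v ^ p = 1)
    (C : Subgroup X) [Fintype C] (n : ℕ) (hn : 0 < n) (θ : C → ℂ) (h1 : θ 1 = 1)
    (hθ : ∀ c : C, c ≠ 1 → RootSumP n p (θ c)) (χ : IrrCharacter X) :
    ∑ c : C, θ c * (χ : X → ℂ) (v * (c : X)) ≠ 0 := by
  classical
  have : Fintype X := Fintype.ofFinite X
  obtain ⟨M, hM⟩ := Cfsg.Agent.Helper74.exists_isPModular p hp.out
  have hMp := isPrime_of_isPModular hM
  have hχc : IsCharacter X (χ : X → ℂ) := Cfsg.Agent.Helper74.irr_isCharacter χ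
  intro h0
  rw [← Finset.add_sum_erase _ _ (Finset.mem_univ (1 : C))] at h0
  have hrest : MemLocalIdeal M (∑ c ∈ Finset.univ.erase (1 : C), θ c * (χ : X → ℂ) (v * (c : X))) := by
    refine memLocalIdeal_sum M _ _ (fun c hc => ?_)
    have hc1 : c ≠ 1 := (Finset.mem_erase.1 hc).1
    rw [mul_comm]
    exact memLocalIdeal_mul_left M (char_memLocalRing hχc _)
      (rootSumP_memLocalIdeal hM hn (hθ c hc1))
  have hv : MemLocalIdeal M ((χ : X → ℂ) v) := by
    have : (χ : X → ℂ) v = -(∑ c ∈ Finset.univ.erase (1 : C), θ c * (χ : X → ℂ) (v * (c : X))) := by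
      rw [h1, one_mul, Subgroup.coe_one, mul_one] at h0
      exact eq_neg_of_add_eq_zero_left h0
    rw [this]
    exact memLocalIdeal_neg hrest
  have h1' : MemLocalIdeal M ((χ : X → ℂ) 1) := by
    have := memLocalIdeal_sub M hv (char_sub_one_memLocalIdeal hM hχc v hvp)
    simpa using this
  obtain ⟨d, hd1, hd2⟩ := Cfsg.Agent.Helper74.ito_degree_dvd_index V hVab χ.2
  rw [hd1, memLocalIdeal_natCast_iff hM] at h1'
  exact hidx (dvd_trans h1' hd2)

end nonvanish

section action
variable {X : Type u} [Group X]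

/-- conjugation action of a subgroup on a normal subgroup -/
@[reducible] def conjAct (C V : Subgroup X) [hV : V.Normal] : MulDistribMulAction C V where
  smul c w := ⟨(c : X) * (w : X) * (c : X)⁻¹, hV.conj_mem w.1 w.2 c⟩
  one_smul w := Subtype.ext (by show ((1 : C) : X) * (w : X) * ((1 : C) : X)⁻¹ = w; simp)
  mul_smul c d w := Subtype.ext (by
    show ((c * d : C) : X) * (w : X) * ((c * d : C) : X)⁻¹ =
      (c : X) * ((d : X) * (w : X) * (d : X)⁻¹) * (c : X)⁻¹
    simp [mul_assoc])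
  smul_mul c a b := Subtype.ext (by
    show (c : X) * ((a * b : V) : X) * (c : X)⁻¹ =
      ((c : X) * (a : X) * (c : X)⁻¹) * ((c : X) * (b : X) * (c : X)⁻¹)
    simp [mul_assoc])
  smul_one c := Subtype.ext (by show (c : X) * ((1 : V) : X) * (c : X)⁻¹ = ((1 : V) : X); simp)

theorem conjAct_coe (C V : Subgroup X) [hV : V.Normal] (c : C) (w : V) :
    (((conjAct C V).smul c w : V) : X) = (c : X) * (w : X) * (c : X)⁻¹ := rfl

theorem card_fixed_conjAct (C V : Subgroup X) [hV : V.Normal] (c : C) :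
    Nat.card {x : V // (conjAct C V).smul c x = x} =
      Nat.card ↥(V ⊓ Subgroup.centralizer ({(c : X)} : Set X)) := by
  refine Nat.card_congr ⟨fun x => ⟨x.1.1, x.1.2, ?_⟩, fun y => ⟨⟨y.1, y.2.1⟩, ?_⟩, ?_, ?_⟩
  · change (x.1 : X) ∈ Subgroup.centralizer ({(c : X)} : Set X)
    rw [Subgroup.mem_centralizer_iff]
    intro h hh
    rw [Set.mem_singleton_iff] at hh
    subst hh
    have := congrArg Subtype.val x.2
    rw [conjAct_coe] at this
    calc (c : X) * (x.1 : X) = (c : X) * (x.1 : X) * (c : X)⁻¹ * (c : X) := by group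
      _ = (x.1 : X) * (c : X) := by rw [this]
  · apply Subtype.ext
    rw [conjAct_coe]
    have h : (y : X) ∈ Subgroup.centralizer ({(c : X)} : Set X) := y.2.2
    rw [Subgroup.mem_centralizer_iff] at h
    have h' := h (c : X) (Set.mem_singleton _)
    show (c : X) * (y : X) * (c : X)⁻¹ = (y : X)
    rw [h']; group
  · intro x; rfl
  · intro y; rfl

end action

end Cfsg.Agent.Helper77.Knorr
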