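import Cfsg.Agent.Helper77.KnorrDefs
import Cfsg.Agent.Helper34.KnorrField
import Cfsg.Agent.Helper81.KnorrW2
import Cfsg.Agent.Helper29.Maschke

set_option autoImplicit false

/-!
# The Gauss-sum generalized character of an abelian `p'`-group acting on an elementary
abelian `p`-group (helper77, for S4958)
-/

namespace Cfsg.Agent.Helper77.Knorr

open scoped ComplexConjugate

universe u

section defs
variable (C : Type*) (U : Type*) [Group C] [Group U] [MulDistribMulAction C U]

/-- The properties of the function `θ` attached to the action of `C` on `U`. -/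
def IsTheta (p n : ℕ) (θ : C → ℂ) : Prop :=
  (∀ c, (∀ x : U, c • x = x) → θ c = 1) ∧
  (∀ c, θ c * conj (θ c) * (Nat.card {x : U // c • x = x} : ℂ) = (Nat.card U : ℂ)) ∧
  (∃ (k : ℕ) (ν : Fin k → (C →* ℂˣ)) (t : Fin k → ℂ), (∀ i, RootSum n (t i)) ∧
    ∀ c, θ c = ∑ i, t i * ((ν i c : ℂˣ) : ℂ)) ∧
  (∀ c, (∃ x : U, c • x ≠ x) → RootSumP n p (θ c))

end defs

/-- restricted action on an invariant subgroup -/
@[reducible] def subAct {C U : Type*} [Group C] [Group U] [MulDistribMulAction C U]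
    (W : Subgroup U) (hW : ∀ c : C, ∀ w ∈ W, c • w ∈ W) : MulDistribMulAction C W where
  smul c w := ⟨c • w.1, hW c w.1 w.2⟩
  one_smul w := Subtype.ext (one_smul C w.1)
  mul_smul c d w := Subtype.ext (mul_smul c d w.1)
  smul_mul c a b := Subtype.ext (smul_mul' c a.1 b.1)
  smul_one c := Subtype.ext (smul_one c)

section fourier
variable {C : Type*} [Group C] [Finite C]

theorem hom_pow_eq_one (ν : C →* ℂˣ) (c : C) {n : ℕ} (hnC : Nat.card C ∣ n) :
    ((ν c : ℂˣ) : ℂ) ^ n = 1 := by
  obtain ⟨m, rfl⟩ := hnC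
  rw [← Units.val_pow_eq_pow_val, ← map_pow, pow_mul, pow_card_eq_one', one_pow, map_one,
    Units.val_one]

theorem rootSum_of_fourier {n : ℕ} (hnC : Nat.card C ∣ n) {k : ℕ} (ν : Fin k → (C →* ℂˣ))
    (t : Fin k → ℂ) (ht : ∀ i, RootSum n (t i)) (c : C) :
    RootSum n (∑ i, t i * ((ν i c : ℂˣ) : ℂ)) :=
  RootSum.sum _ _ (fun i _ => (ht i).mul (RootSum.of_pow_eq_one (hom_pow_eq_one (ν i) c hnC)))

end fourier

section trivial
variable {C : Type*} {U : Type*} [Group C] [Group U] [MulDistribMulAction C U]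

theorem isTheta_of_subsingleton [Subsingleton U] (p n : ℕ) : IsTheta C U p n (fun _ => 1) := by
  refine ⟨fun _ _ => rfl, fun c => ?_, ⟨1, fun _ => 1, fun _ => 1, fun _ => RootSum.one, fun c => ?_⟩,
    fun c hc => ?_⟩
  · have h1 : Nat.card U = 1 := Nat.card_unique
    have : Nonempty {x : U // c • x = x} := ⟨⟨1, smul_one c⟩⟩
    have h2 : Nat.card {x : U // c • x = x} = 1 := Nat.card_unique
    rw [h1, h2]; simp
  · simp
  · obtain ⟨x, hx⟩ := hc
    exact absurd (Subsingleton.elim _ _) hx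

end trivial

section product
variable {C : Type*} {U : Type*} [Group C] [Finite C] [Group U] [Finite U]
  [MulDistribMulAction C U]

theorem isTheta_mul (hUc : ∀ a b : U, a * b = b * a) (p n : ℕ) (hnC : Nat.card C ∣ n)
    (W K : Subgroup U) (hW : ∀ c : C, ∀ w ∈ W, c • w ∈ W) (hK : ∀ c : C, ∀ w ∈ K, c • w ∈ K)
    (hWK : W ⊓ K = ⊥) (hWK' : W ⊔ K = ⊤) (θ₁ θ₂ : C → ℂ)
    (h₁ : @IsTheta C W _ _ (subAct W hW) p n θ₁) (h₂ : @IsTheta C K _ _ (subAct K hK) p n θ₂) :
    IsTheta C U p n (fun c => θ₁ c * θ₂ c) := by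
  classical
  letI : MulDistribMulAction C W := subAct W hW
  letI : MulDistribMulAction C K := subAct K hK
  have hsmW : ∀ (c : C) (w : W), ((c • w : W) : U) = c • (w : U) := fun _ _ => rfl
  have hsmK : ∀ (c : C) (w : K), ((c • w : K) : U) = c • (w : U) := fun _ _ => rfl
  -- the product map
  let f : W × K → U := fun x => (x.1 : U) * (x.2 : U)
  have hfinj : Function.Injective f := by
    rintro ⟨w, k⟩ ⟨w', k'⟩ h
    have h' : (w : U) * (k : U) = (w' : U) * (k' : U) := h
    have h1 : (w' : U)⁻¹ * (w : U) = (k' : U) * (k : U)⁻¹ := by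
      have : (w : U) = (w' : U) * (k' : U) * (k : U)⁻¹ := by rw [← h']; group
      rw [this]; group
    have h2 : (w' : U)⁻¹ * (w : U) ∈ W ⊓ K := by
      refine ⟨W.mul_mem (W.inv_mem w'.2) w.2, ?_⟩
      rw [h1]
      exact K.mul_mem k'.2 (K.inv_mem k.2)
    rw [hWK, Subgroup.mem_bot] at h2
    have hw : (w : U) = (w' : U) := by
      have := inv_mul_eq_one.1 h2
      exact this.symm
    have hk : (k : U) = (k' : U) := by
      rw [hw] at h'
      exact mul_left_cancel h'
    exact Prod.ext (Subtype.ext hw) (Subtype.ext hk)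
  have hfsurj : Function.Surjective f := by
    intro x
    have hx : x ∈ W ⊔ K := by rw [hWK']; trivial
    letI : CommGroup U := { ‹Group U› with mul_comm := hUc }
    obtain ⟨w, hw, k, hk, rfl⟩ := Subgroup.mem_sup.1 hx
    exact ⟨(⟨w, hw⟩, ⟨k, hk⟩), rfl⟩
  have hcardU : Nat.card U = Nat.card W * Nat.card K := by
    rw [← Nat.card_prod]
    exact (Nat.card_congr (Equiv.ofBijective f ⟨hfinj, hfsurj⟩)).symm
  -- fixed points
  have hfix : ∀ c : C, Nat.card {x : U // c • x = x} =
      Nat.card {x : W // c • x = x} * Nat.card {x : K // c • x = x} := by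
    intro c
    rw [← Nat.card_prod]
    symm
    refine Nat.card_congr (Equiv.ofBijective
      (fun x : {x : W // c • x = x} × {x : K // c • x = x} =>
        (⟨(x.1.1 : U) * (x.2.1 : U), by
          rw [smul_mul', ← hsmW, ← hsmK, x.1.2, x.2.2]⟩ : {x : U // c • x = x})) ⟨?_, ?_⟩)
    · rintro ⟨⟨w, hw⟩, ⟨k, hk⟩⟩ ⟨⟨w', hw'⟩, ⟨k', hk'⟩⟩ h
      have h' : f (w, k) = f (w', k') := congrArg Subtype.val h
      have := hfinj h'
      simp only [Prod.mk.injEq] at this
      obtain ⟨rfl, rfl⟩ := this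
      rfl
    · rintro ⟨x, hx⟩
      obtain ⟨⟨w, k⟩, rfl⟩ := hfsurj x
      have h1 : f (c • w, c • k) = f (w, k) := by
        show ((c • w : W) : U) * ((c • k : K) : U) = (w : U) * (k : U)
        rw [hsmW, hsmK, ← smul_mul']
        exact hx
      have := hfinj h1
      simp only [Prod.mk.injEq] at this
      exact ⟨(⟨w, this.1⟩, ⟨k, this.2⟩), rfl⟩
  obtain ⟨h11, h12, ⟨k₁, ν₁, t₁, ht₁, hθ₁⟩, h14⟩ := h₁
  obtain ⟨h21, h22, ⟨k₂, ν₂, t₂, ht₂, hθ₂⟩, h24⟩ := h₂
  refine ⟨?_, ?_, ?_, ?_⟩
  · intro c hc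
    have e1 : θ₁ c = 1 := h11 c (fun w => Subtype.ext (by rw [hsmW]; exact hc w))
    have e2 : θ₂ c = 1 := h21 c (fun w => Subtype.ext (by rw [hsmK]; exact hc w))
    simp only [e1, e2, mul_one]
  · intro c
    have e1 := h12 c
    have e2 := h22 c
    rw [hfix c, hcardU]
    push_cast
    rw [← e1, ← e2, map_mul]
    ring
  · refine ⟨k₁ * k₂, fun l => ν₁ (finProdFinEquiv.symm l).1 * ν₂ (finProdFinEquiv.symm l).2,
      fun l => t₁ (finProdFinEquiv.symm l).1 * t₂ (finProdFinEquiv.symm l).2,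
      fun l => (ht₁ _).mul (ht₂ _), fun c => ?_⟩
    change θ₁ c * θ₂ c = _
    rw [hθ₁ c, hθ₂ c, Finset.sum_mul_sum, ← Finset.sum_product']
    rw [Finset.univ_product_univ]
    symm
    refine Fintype.sum_equiv finProdFinEquiv.symm _ _ (fun l => ?_)
    simp only [MonoidHom.mul_apply, Units.val_mul]
    ring
  · rintro c ⟨x, hx⟩
    obtain ⟨⟨w, k⟩, rfl⟩ := hfsurj x
    by_cases hw : c • w = w
    · have hk : c • k ≠ k := by
        intro hk
        apply hx
        show c • ((w : U) * (k : U)) = (w : U) * (k : U)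
        rw [smul_mul', ← hsmW, ← hsmK, hw, hk]
      have r1 : RootSum n (θ₁ c) := by
        rw [hθ₁ c]; exact rootSum_of_fourier hnC ν₁ t₁ ht₁ c
      exact RootSumP.mul_left r1 (h24 c ⟨k, hk⟩)
    · have r2 : RootSum n (θ₂ c) := by
        rw [hθ₂ c]; exact rootSum_of_fourier hnC ν₂ t₂ ht₂ c
      exact RootSumP.mul_right (h14 c ⟨w, hw⟩) r2

end product

section irreducible
variable {C : Type*} {U : Type u} [Group C] [Finite C] [Group U] [Finite U]
  [MulDistribMulAction C U]

theorem isTheta_of_irreducible (hC : ∀ a b : C, a * b = b * a) (hUc : ∀ a b : U, a * b = b * a)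
    (p : ℕ) [Fact p.Prime] (hU : ∀ u : U, u ^ p = 1) (hU1 : ∃ u : U, u ≠ 1)
    (hirr : ∀ W : Subgroup U, (∀ c : C, ∀ w ∈ W, c • w ∈ W) → W = ⊥ ∨ W = ⊤)
    (n : ℕ) (hn2 : 2 ∣ n) (hnp : p ∣ n) (hnC : Nat.card C ∣ n) :
    ∃ θ : C → ℂ, IsTheta C U p n θ := by
  classical
  obtain ⟨F, instF, instFt, instCh, e, ρ, he, hρ⟩ :=
    Cfsg.Agent.Helper34.KnorrField.exists_field_of_irreducible (C := C) (U := U) hC hUc p hU hU1 hirr
  obtain ⟨θ, t1, t2, t3, t4⟩ :=
    @Cfsg.Agent.Helper81.KnorrW2.exists_theta_field F instF instFt C _ _ ρ p _ instCh n hn2 hnp hnC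
  have hfixall : ∀ c : C, (∀ x : U, c • x = x) ↔ ρ c = 1 := by
    intro c
    constructor
    · intro h
      have h1 := hρ c (e.symm 1)
      rw [h (e.symm 1), Equiv.apply_symm_apply, mul_one] at h1
      exact Units.ext h1.symm
    · intro h x
      apply e.injective
      rw [hρ c x, h, Units.val_one, one_mul]
  have hcardU : Nat.card U = Fintype.card F := by
    rw [Nat.card_congr e, Nat.card_eq_fintype_card]
  refine ⟨θ, ?_, ?_, t3, ?_⟩
  · intro c hc
    exact t1 c ((hfixall c).1 hc)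
  · intro c
    by_cases hc : ρ c = 1
    · have hall := (hfixall c).2 hc
      have : Nat.card {x : U // c • x = x} = Nat.card U :=
        Nat.card_congr (Equiv.subtypeUnivEquiv hall)
      rw [this, t1 c hc]; simp
    · have hone : ∀ x : U, c • x = x ↔ x = e.symm 0 := by
        intro x
        constructor
        · intro hx
          have h1 := hρ c x
          rw [hx] at h1
          have h2 : ((ρ c : F) - 1) * e x = 0 := by rw [sub_mul, one_mul, ← h1, sub_self]
          rcases mul_eq_zero.1 h2 with h3 | h3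
          · exfalso
            apply hc
            exact Units.ext (by rw [Units.val_one]; exact sub_eq_zero.1 h3)
          · rw [← h3, Equiv.symm_apply_apply]
        · rintro rfl
          apply e.injective
          rw [hρ c, Equiv.apply_symm_apply, mul_zero]
      have : Nat.card {x : U // c • x = x} = 1 := by
        have : Unique {x : U // c • x = x} :=
          { default := ⟨e.symm 0, (hone _).2 rfl⟩
            uniq := fun x => Subtype.ext ((hone x.1).1 x.2) }
        exact Nat.card_unique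
      rw [this, t2 c hc, hcardU]; simp
  · rintro c ⟨x, hx⟩
    apply t4 c
    intro h
    exact hx ((hfixall c).2 h x)

end irreducible

section main
variable {C : Type*} [Group C] [Finite C]

theorem exists_gauss_theta_aux (hC : ∀ a b : C, a * b = b * a)
    (p : ℕ) [Fact p.Prime] (hcop : ¬ p ∣ Nat.card C)
    (n : ℕ) (hn2 : 2 ∣ n) (hnp : p ∣ n) (hnC : Nat.card C ∣ n) :
    ∀ (m : ℕ) (U : Type u) [Group U] [Finite U] [MulDistribMulAction C U],
      (∀ a b : U, a * b = b * a) → (∀ u : U, u ^ p = 1) → Nat.card U = m →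
      ∃ θ : C → ℂ, IsTheta C U p n θ := by
  intro m
  induction m using Nat.strong_induction_on with
  | _ m ih =>
    intro U _ _ _ hUc hU hm
    classical
    by_cases hsub : Subsingleton U
    · exact ⟨fun _ => 1, isTheta_of_subsingleton p n⟩
    by_cases hirr : ∀ W : Subgroup U, (∀ c : C, ∀ w ∈ W, c • w ∈ W) → W = ⊥ ∨ W = ⊤
    · have hU1 : ∃ u : U, u ≠ 1 := by
        by_contra h
        push Not at h
        exact hsub ⟨fun a b => by rw [h a, h b]⟩
      exact isTheta_of_irreducible hC hUc p hU hU1 hirr n hn2 hnp hnC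
    · push Not at hirr
      obtain ⟨W, hW, hWbot, hWtop⟩ := hirr
      have hp : p.Prime := Fact.out
      -- coprimality
      have hPU : IsPGroup p U := fun g => ⟨1, by rw [pow_one]; exact hU g⟩
      obtain ⟨j, hj⟩ := IsPGroup.iff_card.1 hPU
      have hcopCU : (Nat.card C).Coprime (Nat.card U) := by
        rw [hj]
        exact Nat.Coprime.pow_right _ ((Nat.Prime.coprime_iff_not_dvd hp).2 hcop).symm
      obtain ⟨U', hU'1, hU'2⟩ := Cfsg.Agent.Helper29.exists_compl_of_exponent_prime hp hUc hU W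
      obtain ⟨K, hK, hWK, hWK'⟩ := Cfsg.Agent.Helper29.exists_invariant_compl (A := C) (V := U)
        hUc hcopCU W U' hW hU'1 hU'2
      have hKtop : K ≠ ⊤ := by
        intro h
        rw [h, inf_top_eq] at hWK
        exact hWbot hWK
      have hcardW : Nat.card W < m := by
        rw [← hm]
        refine lt_of_le_of_ne (Subgroup.card_le_card_group W) (fun h => hWtop ?_)
        exact Subgroup.eq_top_of_card_eq W h
      have hcardK : Nat.card K < m := by
        rw [← hm]
        refine lt_of_le_of_ne (Subgroup.card_le_card_group K) (fun h => hKtop ?_)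
        exact Subgroup.eq_top_of_card_eq K h
      obtain ⟨θ₁, h₁⟩ := @ih (Nat.card W) hcardW W _ _ (subAct W hW)
        (fun a b => Subtype.ext (hUc a b)) (fun u => Subtype.ext (by simpa using hU u)) rfl
      obtain ⟨θ₂, h₂⟩ := @ih (Nat.card K) hcardK K _ _ (subAct K hK)
        (fun a b => Subtype.ext (hUc a b)) (fun u => Subtype.ext (by simpa using hU u)) rfl
      exact ⟨_, isTheta_mul hUc p n hnC W K hW hK hWK hWK' θ₁ θ₂ h₁ h₂⟩

/-- **Theorem G.** -/
theorem exists_gauss_theta {U : Type u} [Group U] [Finite U]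
    [MulDistribMulAction C U] (hC : ∀ a b : C, a * b = b * a) (hUc : ∀ a b : U, a * b = b * a)
    (p : ℕ) [Fact p.Prime] (hU : ∀ u : U, u ^ p = 1) (hcop : ¬ p ∣ Nat.card C)
    (n : ℕ) (hn2 : 2 ∣ n) (hnp : p ∣ n) (hnC : Nat.card C ∣ n) :
    ∃ θ : C → ℂ, IsTheta C U p n θ :=
  exists_gauss_theta_aux hC p hcop n hn2 hnp hnC (Nat.card U) U hUc hU rfl

end main

end Cfsg.Agent.Helper77.Knorr
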