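import Cfsg.Agent.Helper16.Contribution5
import Cfsg.Agent.Helper16.DefectClasses
import Cfsg.Agent.Helper16.UnionBlocks
import Cfsg.Agent.Helper77.DefectOrder
import Cfsg.Agent.Helper77.BlockOrth
import Cfsg.Agent.Helper78.BlockBasic
import Cfsg.Agent.Helper79.Linear
import Cfsg.Agent.Helper74.CharBasic
import Cfsg.Agent.Helper80.Integrality
import Cfsg.Agent.Helper78.IrrBasic

/-!
# Non-vanishing of the contributions of major subsections (Brauer's (4C))

(helper77, file 52.)
-/

set_option autoImplicit false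
set_option linter.unusedSectionVars false
set_option linter.unusedVariables false

namespace Cfsg.Agent.Helper77

open Cfsg
open scoped ComplexConjugate
open Cfsg.Agent.S4426 (cut)
open Cfsg.Agent.Helper16

section ClassSum

variable {H : Type*} [Group H] [Fintype H] {M : Ideal AlgInt}

theorem centralizer_singleton_inv_h77 (g : H) :
    Subgroup.centralizer ({g⁻¹} : Set H) = Subgroup.centralizer ({g} : Set H) := by
  ext x
  rw [Subgroup.mem_centralizer_singleton_iff, Subgroup.mem_centralizer_singleton_iff]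
  constructor
  · intro h
    have : g * x = g * (x * g⁻¹) * g := by group
    rw [this, h]; group
  · intro h
    have : g⁻¹ * x = g⁻¹ * (x * g) * g⁻¹ := by group
    rw [this, h]; group

theorem irr_one_conj_h77 (χ : IrrCharacter H) : conj ((χ : H → ℂ) 1) = (χ : H → ℂ) 1 := by
  rw [← Helper74.charDegree_cast (Helper74.irr_isCharacter χ)]
  exact Complex.conj_natCast _

theorem index_centralizer_conj (r t : H) :
    (Subgroup.centralizer ({t * r * t⁻¹} : Set H)).index =
      (Subgroup.centralizer ({r} : Set H)).index := by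
  have := Helper78.index_centralizer_map (MulAut.conj t) r
  rwa [MulAut.conj_apply] at this

/-- A conjugation invariant function with values in the local ideal, summed with the weights
`1 / |class|`, gives an element of the local ideal. -/
theorem sum_div_index_memLocalIdeal [M.IsPrime] (F : H → ℂ)
    (hF : ∀ r t : H, F (t * r * t⁻¹) = F r) (hJ : ∀ r, MemLocalIdeal M (F r)) :
    MemLocalIdeal M (∑ r : H, F r / ((Subgroup.centralizer ({r} : Set H)).index : ℂ)) := by
  classical
  have hfin : Fintype (ConjClasses H) := Fintype.ofFinite _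
  rw [Helper80.sum_eq_sum_classes
    (fun r : H => F r / ((Subgroup.centralizer ({r} : Set H)).index : ℂ))
    (fun r t => by
      show F (t * r * t⁻¹) / _ = F r / _
      rw [hF r t, index_centralizer_conj])]
  refine Helper16.memLocalIdeal_sum _ _ (fun C _ => ?_)
  rw [Helper80.card_classFinset, nsmul_eq_mul]
  have h0 : ((Subgroup.centralizer ({Quotient.out C} : Set H)).index : ℂ) ≠ 0 := by
    exact_mod_cast Subgroup.index_ne_zero_of_finite
  have e : ((Subgroup.centralizer ({Quotient.out C} : Set H)).index : ℂ) *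
      (F (Quotient.out C) / ((Subgroup.centralizer ({Quotient.out C} : Set H)).index : ℂ)) =
      F (Quotient.out C) := by
    field_simp
  rw [e]
  exact hJ _

theorem conj_centralChar_irr (ζ : IrrCharacter H) (g : H) :
    conj (centralChar (ζ : H → ℂ) g) = centralChar (ζ : H → ℂ) g⁻¹ := by
  unfold centralChar
  rw [centralizer_singleton_inv_h77, map_div₀, map_mul, Complex.conj_natCast, irr_one_conj_h77,
    Helper74.char_inv (Helper74.irr_isCharacter ζ) g]

end ClassSum

section Major

variable {G : Type*} [Group G] [Fintype G] {M : Ideal AlgInt} {p : ℕ}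

theorem shiftPart_memLocalRing [M.IsPrime] (x : G) [Fintype (Subgroup.centralizer ({x} : Set G))]
    {b : Set (IrrCharacter (Subgroup.centralizer ({x} : Set G)))} (hb : IsPBlock M b)
    (χ : IrrCharacter G) (y : Subgroup.centralizer ({x} : Set G)) :
    MemLocalRing M (shiftPart x b (χ : G → ℂ) y) := by
  rw [shiftPart_def]
  exact Helper16.memLocalRing_sum _ _ (fun k _ => Helper16.memLocalRing_mul (osima hb k)
    (Helper16.memLocalRing_of_isIntegral (Helper78.isIntegral_irrChar_apply χ.2 _)))

theorem isClassFunction_shiftPart (x : G) [Fintype (Subgroup.centralizer ({x} : Set G))]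
    (b : Set (IrrCharacter (Subgroup.centralizer ({x} : Set G)))) {φ : G → ℂ}
    (hφ : IsClassFunction G φ) :
    IsClassFunction (Subgroup.centralizer ({x} : Set G)) (shiftPart x b φ) := by
  rw [shiftPart_eq_blockPart x b hφ]
  exact isClassFunction_blockPart b _

/-- The normalised inner product on the section of `x` as a weighted sum of central character
values. -/
theorem normalized_classInner_section [Fact p.Prime] (x : G) (hx : ∃ k : ℕ, orderOf x = p ^ k)
    [Fintype (Subgroup.centralizer ({x} : Set G))]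
    (S : Subgroup.centralizer ({x} : Set G) → ℂ) (ζ : IrrCharacter G) :
    (Nat.card G : ℂ) / (ζ : G → ℂ) 1 *
      classInner (cut p 1 S)
        (fun c : Subgroup.centralizer ({x} : Set G) => (ζ : G → ℂ) (x * (c : G))) =
    ∑ r : Subgroup.centralizer ({x} : Set G),
      cut p 1 S r * conj (centralChar (ζ : G → ℂ) (x * (r : G))) /
        ((Subgroup.centralizer ({r} : Set (Subgroup.centralizer ({x} : Set G)))).index : ℂ) := by
  classical
  unfold classInner
  rw [Finset.mul_sum, Finset.mul_sum]
  refine Finset.sum_congr rfl (fun r _ => ?_)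
  by_cases hr : p ∣ orderOf r
  · have : cut p 1 S r = 0 := by unfold cut; rw [if_pos hr]
    rw [this, zero_mul, zero_mul, zero_div, mul_zero, mul_zero]
  · have hζ1 : (ζ : G → ℂ) 1 ≠ 0 := irr_one_ne_zero ζ
    have hcard := card_centralizer_mul x hx r hr
    have h1 := Subgroup.index_mul_card (Subgroup.centralizer ({x * (r : G)} : Set G))
    have h2 := Subgroup.index_mul_card
      (Subgroup.centralizer ({r} : Set (Subgroup.centralizer ({x} : Set G))))
    rw [hcard] at h1
    have hH0 : (Nat.card (Subgroup.centralizer ({x} : Set G)) : ℂ) ≠ 0 := by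
      exact_mod_cast Nat.card_pos.ne'
    have hC0 : (Nat.card (Subgroup.centralizer
        ({r} : Set (Subgroup.centralizer ({x} : Set G)))) : ℂ) ≠ 0 := by
      exact_mod_cast Nat.card_pos.ne'
    have hi0 : ((Subgroup.centralizer
        ({r} : Set (Subgroup.centralizer ({x} : Set G)))).index : ℂ) ≠ 0 := by
      exact_mod_cast Subgroup.index_ne_zero_of_finite
    have h1c : ((Subgroup.centralizer ({x * (r : G)} : Set G)).index : ℂ) *
        (Nat.card (Subgroup.centralizer
          ({r} : Set (Subgroup.centralizer ({x} : Set G)))) : ℂ) = (Nat.card G : ℂ) := by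
      exact_mod_cast h1
    have h2c : ((Subgroup.centralizer
        ({r} : Set (Subgroup.centralizer ({x} : Set G)))).index : ℂ) *
        (Nat.card (Subgroup.centralizer
          ({r} : Set (Subgroup.centralizer ({x} : Set G)))) : ℂ) =
        (Nat.card (Subgroup.centralizer ({x} : Set G)) : ℂ) := by
      exact_mod_cast h2
    have hconj : conj (centralChar (ζ : G → ℂ) (x * (r : G))) =
        ((Subgroup.centralizer ({x * (r : G)} : Set G)).index : ℂ) *
          conj ((ζ : G → ℂ) (x * (r : G))) / (ζ : G → ℂ) 1 := by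
      unfold centralChar
      rw [map_div₀, map_mul, Complex.conj_natCast, irr_one_conj_h77]
    rw [hconj, ← h1c, ← h2c]
    field_simp

variable (x : G)

local notation "H" => Subgroup.centralizer (Singleton.singleton x : Set G)

/-- **Brauer's (4C)**: the contribution of a major subsection to `(χ₀, ψ)` does not vanish when
`χ₀` has height zero. -/
theorem contribE_ne_zero_of_major_aux [Fact p.Prime] (hM : IsPModular p M)
    (hx : ∃ k : ℕ, orderOf x = p ^ k) [Fintype (Subgroup.centralizer ({x} : Set G))]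
    {b : Set (IrrCharacter (Subgroup.centralizer ({x} : Set G)))} {B : Set (IrrCharacter G)}
    (hind : IsInducedBlock M (Subgroup.centralizer ({x} : Set G)) b B)
    (hdef : blockDefect p b = blockDefect p B)
    (χ₀ ψ : IrrCharacter G) (hχ₀ : χ₀ ∈ B) (h0 : blockHeight p B (χ₀ : G → ℂ) = 0) (hψ : ψ ∈ B) :
    contribE p (Subgroup.centralizer ({x} : Set G)) x b (χ₀ : G → ℂ) (ψ : G → ℂ) ≠ 0 := by
  classical
  have hMp : M.IsPrime := IsPModular.isPrime hM
  have hpr : p.Prime := Fact.out
  have hb : IsPBlock M b := hind.1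
  have hB : IsPBlock M B := hind.2.1
  -- Step 1: the unit
  let yH : H := ⟨x, mem_centralizer_singleton_self x⟩
  have hyc : yH ∈ Subgroup.center H := by
    rw [Subgroup.mem_center_iff]
    intro c
    apply Subtype.ext
    have := c.2
    rw [Subgroup.mem_centralizer_iff] at this
    exact (this x (Set.mem_singleton x)).symm
  obtain ⟨n, hn⟩ := hx
  have hyHpow : yH ^ (p ^ n) = 1 := by
    apply Subtype.ext
    rw [SubmonoidClass.coe_pow, ← hn]
    exact pow_orderOf_eq_one _
  obtain ⟨A, μ, hμ, hform⟩ := exists_pow_form hM H yH hyc n hyHpow hb χ₀ χ₀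
  have hf1 := hform 1
  have hf0 := hform 0
  rw [pow_one] at hf1
  rw [pow_zero] at hf0
  have hnv := contribE_one_not_memLocalIdeal hM H hind χ₀ χ₀ hχ₀ hχ₀ h0 h0
  rw [hf0] at hnv
  let u : ℂ := ((p ^ blockDefect p b : ℕ) : ℂ) * contribE p H x b (χ₀ : G → ℂ) (χ₀ : G → ℂ)
  have hu : u = ((p ^ blockDefect p b : ℕ) : ℂ) * contribE p H x b (χ₀ : G → ℂ) (χ₀ : G → ℂ) :=
    rfl
  have hu1 : u = ∑ i, (A i : ℂ) * μ i ^ 1 := hf1
  have huJ : ¬ MemLocalIdeal M u := by
    intro hmem
    apply hnv
    have hdiff : MemLocalIdeal M (∑ i, (A i : ℂ) * μ i ^ 1 - ∑ i, (A i : ℂ) * μ i ^ 0) := by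
      rw [← Finset.sum_sub_distrib]
      refine Helper16.memLocalIdeal_sum _ _ (fun i _ => ?_)
      rw [pow_zero, pow_one, ← mul_sub]
      exact Helper16.memLocalIdeal_mul_left (Helper16.memLocalRing_intCast _)
        (Helper77.memLocalIdeal_sub_one_of_pow_eq_one hM (hμ i))
    rw [hu1] at hmem
    have := Helper16.memLocalIdeal_sub hmem hdiff
    rwa [sub_sub_cancel] at this
  have huR : MemLocalRing M u := by
    rw [hu1]
    refine Helper16.memLocalRing_sum _ _ (fun i _ => Helper16.memLocalRing_mul (Helper16.memLocalRing_intCast _) ?_)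
    rw [pow_one]
    apply Helper16.memLocalRing_of_isIntegral
    have hpos : 0 < p ^ n := pow_pos hpr.pos n
    apply IsIntegral.of_pow hpos
    rw [hμ i]
    exact isIntegral_one
  -- Step 2: the normalised contributions
  let S : H → ℂ := shiftPart x b (χ₀ : G → ℂ)
  have hScf : IsClassFunction H S := isClassFunction_shiftPart x b (irr_isClassFunction χ₀)
  have hSR : ∀ r, MemLocalRing M (S r) := fun r => shiftPart_memLocalRing x hb χ₀ r
  have hC1 : ∀ ζ : IrrCharacter G, contribE p H x b (χ₀ : G → ℂ) (ζ : G → ℂ) =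
      classInner (cut p 1 S) (fun c : H => (ζ : G → ℂ) (x * (c : G))) := fun ζ =>
    (classInner_cut_shiftPart x b (irr_isClassFunction χ₀) (irr_isClassFunction ζ)).symm
  have hN : ∀ ζ : IrrCharacter G, (Nat.card G : ℂ) / (ζ : G → ℂ) 1 *
      contribE p H x b (χ₀ : G → ℂ) (ζ : G → ℂ) =
      ∑ r : H, cut p 1 S r * conj (centralChar (ζ : G → ℂ) (x * (r : G))) /
        ((Subgroup.centralizer ({r} : Set H)).index : ℂ) := by
    intro ζ
    rw [hC1 ζ]
    exact normalized_classInner_section x ⟨n, hn⟩ S ζ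
  -- Step 3: the congruence
  have hcong : MemLocalIdeal M ((Nat.card G : ℂ) / (ψ : G → ℂ) 1 *
      contribE p H x b (χ₀ : G → ℂ) (ψ : G → ℂ) - (Nat.card G : ℂ) / (χ₀ : G → ℂ) 1 *
      contribE p H x b (χ₀ : G → ℂ) (χ₀ : G → ℂ)) := by
    rw [hN ψ, hN χ₀, ← Finset.sum_sub_distrib]
    have hterm : ∀ r : H,
        cut p 1 S r * conj (centralChar (ψ : G → ℂ) (x * (r : G))) /
          ((Subgroup.centralizer ({r} : Set H)).index : ℂ) -
        cut p 1 S r * conj (centralChar (χ₀ : G → ℂ) (x * (r : G))) /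
          ((Subgroup.centralizer ({r} : Set H)).index : ℂ) =
        (cut p 1 S r * (centralChar (ψ : G → ℂ) (x * (r : G))⁻¹ -
          centralChar (χ₀ : G → ℂ) (x * (r : G))⁻¹)) /
          ((Subgroup.centralizer ({r} : Set H)).index : ℂ) := by
      intro r
      rw [conj_centralChar_irr, conj_centralChar_irr]
      ring
    rw [Finset.sum_congr rfl (fun r _ => hterm r)]
    apply sum_div_index_memLocalIdeal
    · intro r t
      have hcut : cut p 1 S (t * r * t⁻¹) = cut p 1 S r := by
        unfold cut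
        have ho : orderOf (t * r * t⁻¹) = orderOf r := by
          have : t * r * t⁻¹ = MulAut.conj t r := by simp
          rw [this, MulEquiv.orderOf_eq]
        rw [ho, hScf r t]
      have hel : (x * ((t * r * t⁻¹ : H) : G))⁻¹ = (t : G) * (x * (r : G))⁻¹ * (t : G)⁻¹ := by
        have htx : (t : G) * x = x * (t : G) := by
          have := t.2
          rw [Subgroup.mem_centralizer_iff] at this
          exact (this x (Set.mem_singleton x)).symm
        rw [Subgroup.coe_mul, Subgroup.coe_mul, Subgroup.coe_inv]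
        have e1 : x * ((t : G) * (r : G) * (t : G)⁻¹) = (t : G) * (x * (r : G)) * (t : G)⁻¹ := by
          rw [← mul_assoc, ← mul_assoc, ← htx]
          group
        rw [e1]
        group
      rw [hcut, hel, centralChar_conj (irr_isClassFunction ψ),
        centralChar_conj (irr_isClassFunction χ₀)]
    · intro r
      refine Helper16.memLocalIdeal_mul_left ?_ (Helper78.sameBlock_of_mem_of_mem hMp hB hψ hχ₀ _)
      unfold cut
      by_cases hr : p ∣ orderOf r
      · rw [if_pos hr]; exact Helper16.memLocalRing_zero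
      · rw [if_neg hr, one_mul]; exact hSR r
  -- Step 4: the value at `χ₀` is a unit
  have hdeg : ((charDegree (χ₀ : G → ℂ) : ℕ) : ℂ) = (χ₀ : G → ℂ) 1 :=
    Helper74.charDegree_cast (Helper74.irr_isCharacter χ₀)
  have hdeg0 : charDegree (χ₀ : G → ℂ) ≠ 0 := irr_charDegree_ne_zero χ₀
  have hval : (p ^ blockDefect p b * charDegree (χ₀ : G → ℂ)).factorization p =
      (Nat.card G).factorization p := by
    rw [Nat.factorization_mul (pow_pos hpr.pos _).ne' hdeg0, Finsupp.add_apply,
      hpr.factorization_pow, Finsupp.single_eq_same, hdef]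
    have h1 := (blockHeight_eq_zero_iff p hχ₀).mp h0
    have h2 := blockDefect_eq p B
    have h3 := minExp_le_card p (⟨χ₀, hχ₀⟩ : B.Nonempty)
    omega
  have hprod0 : p ^ blockDefect p b * charDegree (χ₀ : G → ℂ) ≠ 0 :=
    Nat.mul_ne_zero (pow_pos hpr.pos _).ne' hdeg0
  have hcR : MemLocalRing M ((Nat.card G : ℂ) /
      ((p ^ blockDefect p b * charDegree (χ₀ : G → ℂ) : ℕ) : ℂ)) :=
    Helper78.memLocalRing_natCast_div hM hprod0 Nat.card_pos.ne' (le_of_eq hval)
  have hcR' : MemLocalRing M (((p ^ blockDefect p b * charDegree (χ₀ : G → ℂ) : ℕ) : ℂ) /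
      (Nat.card G : ℂ)) :=
    Helper78.memLocalRing_natCast_div hM Nat.card_pos.ne' hprod0 (le_of_eq hval.symm)
  have hG0 : (Nat.card G : ℂ) ≠ 0 := by exact_mod_cast Nat.card_pos.ne'
  have hprod0c : ((p ^ blockDefect p b * charDegree (χ₀ : G → ℂ) : ℕ) : ℂ) ≠ 0 := by
    exact_mod_cast hprod0
  have hcJ : ¬ MemLocalIdeal M ((Nat.card G : ℂ) /
      ((p ^ blockDefect p b * charDegree (χ₀ : G → ℂ) : ℕ) : ℂ)) := by
    intro hmem
    have := Helper16.memLocalIdeal_mul_left hcR' hmem
    rw [div_mul_div_comm, mul_comm, div_self (mul_ne_zero hG0 hprod0c)] at this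
    exact Helper16.not_memLocalIdeal_one this
  have hNχ₀ : (Nat.card G : ℂ) / (χ₀ : G → ℂ) 1 *
      contribE p H x b (χ₀ : G → ℂ) (χ₀ : G → ℂ) =
      (Nat.card G : ℂ) / ((p ^ blockDefect p b * charDegree (χ₀ : G → ℂ) : ℕ) : ℂ) * u := by
    rw [hu, Nat.cast_mul, hdeg]
    have h10 : (χ₀ : G → ℂ) 1 ≠ 0 := irr_one_ne_zero χ₀
    have hp0 : ((p ^ blockDefect p b : ℕ) : ℂ) ≠ 0 := by
      exact_mod_cast (pow_pos hpr.pos _).ne'
    field_simp
  have hNχ₀J : ¬ MemLocalIdeal M ((Nat.card G : ℂ) / (χ₀ : G → ℂ) 1 *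
      contribE p H x b (χ₀ : G → ℂ) (χ₀ : G → ℂ)) := by
    rw [hNχ₀]
    exact Helper16.not_memLocalIdeal_mul hcR hcJ huJ
  -- Step 5
  intro hzero
  apply hNχ₀J
  rw [hzero, mul_zero, zero_sub] at hcong
  have := Helper16.memLocalIdeal_neg hcong
  rwa [neg_neg] at this

/-- **Brauer's (4C)**, general subgroup form. -/
theorem contribE_ne_zero_of_major [Fact p.Prime] (hM : IsPModular p M)
    (hx : ∃ k : ℕ, orderOf x = p ^ k) (K : Subgroup G) [Fintype K]
    (hK : K = Subgroup.centralizer ({x} : Set G))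
    {b : Set (IrrCharacter K)} {B : Set (IrrCharacter G)}
    (hind : IsInducedBlock M K b B) (hdef : blockDefect p b = blockDefect p B)
    (χ₀ ψ : IrrCharacter G) (hχ₀ : χ₀ ∈ B) (h0 : blockHeight p B (χ₀ : G → ℂ) = 0) (hψ : ψ ∈ B) :
    contribE p K x b (χ₀ : G → ℂ) (ψ : G → ℂ) ≠ 0 := by
  subst hK
  exact contribE_ne_zero_of_major_aux x hM hx hind hdef χ₀ ψ hχ₀ h0 hψ

end Major

end Cfsg.Agent.Helper77
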