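import Cfsg.Agent.Helper77.BlockOrth
import Cfsg.Agent.Helper78.IrrTransport
import Cfsg.Agent.Helper79.PrincipalQuot
import Cfsg.Agent.Helper80.CharLevel
import Cfsg.Prelude.Def_BlockRank
import Cfsg.Prelude.Def_Transfer

/-!
# The principal block has rank one iff the group has a normal `p`-complement

(helper77, file 37.)
-/

set_option autoImplicit false
set_option linter.unusedSectionVars false

namespace Cfsg.Agent.Helper77

open Cfsg

variable {G : Type*} [Group G] {M : Ideal AlgInt} {p : ℕ}

theorem pRegularPart_of_regular (χ : G → ℂ) {g : G} (hg : IsPRegular p g) :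
    pRegularPart p χ g = χ g := by
  unfold pRegularPart
  exact if_pos hg

theorem pRegularPart_of_not_regular (χ : G → ℂ) {g : G} (hg : ¬ IsPRegular p g) :
    pRegularPart p χ g = 0 := by
  unfold pRegularPart
  exact if_neg hg

theorem isPRegular_one [Fact p.Prime] : IsPRegular p (1 : G) := by
  unfold IsPRegular
  rw [orderOf_one]
  exact (Nat.Prime.one_lt Fact.out).ne' ∘ Nat.dvd_one.mp

theorem pRegularPart_one_ne_zero [Fact p.Prime] :
    pRegularPart p (fun _ : G => (1 : ℂ)) ≠ 0 := by
  intro h
  have h1 := congrFun h (1 : G)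
  rw [pRegularPart_of_regular _ isPRegular_one] at h1
  exact one_ne_zero h1

/-- A power of `g` by the `p`-part of its order is `p`-regular. -/
theorem exists_pow_isPRegular [Finite G] [Fact p.Prime] (g : G) :
    ∃ a : ℕ, IsPRegular p (g ^ p ^ a) := by
  have hm : orderOf g ≠ 0 := (orderOf_pos g).ne'
  obtain ⟨a, m', hm', hmeq⟩ :=
    Nat.exists_eq_pow_mul_and_not_dvd hm p (Nat.Prime.ne_one Fact.out)
  refine ⟨a, ?_⟩
  intro hdvd
  apply hm'
  have : orderOf (g ^ p ^ a) ∣ m' := by
    apply orderOf_dvd_of_pow_eq_one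
    rw [← pow_mul, ← hmeq, pow_orderOf_eq_one]
  exact hdvd.trans this

variable [Finite G]

/-- In a group with a normal `p`-complement the principal block has rank one. -/
theorem blockRank_principalBlock_of_hasNormalPComplement [Fact p.Prime] (hM : IsPModular p M)
    (h : HasNormalPComplement p G) : blockRank p (principalBlock M G) = 1 := by
  classical
  have hMp : M.IsPrime := isPrime_of_isPModular hM
  have hp : p.Prime := Fact.out
  obtain ⟨P, N, hNn, hNP⟩ := h
  have hidx : N.index = Nat.card P := hNP.symm.index_eq_card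
  have hcardN : Nat.card N = (P : Subgroup G).index := hNP.index_eq_card.symm
  have hNcop : (Nat.card N).Coprime p := by
    rw [hcardN]
    exact ((Nat.Prime.coprime_iff_not_dvd hp).mpr P.not_dvd_index).symm
  obtain ⟨k, hk⟩ := IsPGroup.iff_card.mp P.isPGroup'
  -- `p`-regular elements lie in `N`
  have hreg : ∀ g : G, IsPRegular p g → g ∈ N := by
    intro g hg
    rw [← QuotientGroup.eq_one_iff, ← orderOf_eq_one_iff]
    have h1 : orderOf ((g : G ⧸ N)) ∣ orderOf g := orderOf_map_dvd (QuotientGroup.mk' N) g
    have h2 : orderOf ((g : G ⧸ N)) ∣ p ^ k := by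
      have := orderOf_dvd_natCard ((g : G ⧸ N))
      rwa [← Subgroup.index_eq_card, hidx, hk] at this
    obtain ⟨j, _, hj⟩ := (Nat.dvd_prime_pow hp).mp h2
    have hj0 : j = 0 := by
      by_contra hne
      apply hg
      have : p ∣ p ^ j := dvd_pow_self p hne
      rw [← hj] at this
      exact this.trans h1
    rw [hj, hj0, pow_zero]
  have hker := fun χ hχ => Helper79.principalBlock_ker hM N hNcop χ hχ
  have hall : ∀ χ ∈ principalBlock M G, pRegularPart p (χ : G → ℂ) =
      ((χ : G → ℂ) 1) • pRegularPart p (fun _ : G => (1 : ℂ)) := by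
    intro χ hχ
    funext g
    by_cases hg : IsPRegular p g
    · rw [Pi.smul_apply, pRegularPart_of_regular _ hg, pRegularPart_of_regular _ hg,
        hker χ hχ g (hreg g hg), smul_eq_mul, mul_one]
    · rw [Pi.smul_apply, pRegularPart_of_not_regular _ hg, pRegularPart_of_not_regular _ hg,
        smul_zero]
  have hspan : Submodule.span ℂ ((fun χ : IrrCharacter G => pRegularPart p (χ : G → ℂ)) ''
      principalBlock M G) = Submodule.span ℂ {pRegularPart p (fun _ : G => (1 : ℂ))} := by
    apply le_antisymm
    · rw [Submodule.span_le]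
      rintro _ ⟨χ, hχ, rfl⟩
      show pRegularPart p (χ : G → ℂ) ∈ _
      rw [hall χ hχ]
      exact Submodule.smul_mem _ _ (Submodule.mem_span_singleton_self _)
    · rw [Submodule.span_le, Set.singleton_subset_iff]
      apply Submodule.subset_span
      exact ⟨Helper79.principalIrr G, Helper78.principalIrr_mem_principalBlock M hMp G, rfl⟩
  unfold blockRank
  rw [hspan]
  exact finrank_span_singleton pRegularPart_one_ne_zero

/-- If the principal block has rank one, its characters are constant on `p`-regular elements. -/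
theorem eq_one_of_isPRegular_of_blockRank_eq_one [Fact p.Prime] (hM : IsPModular p M)
    (h : blockRank p (principalBlock M G) = 1) (χ : IrrCharacter G)
    (hχ : χ ∈ principalBlock M G) (g : G) (hg : IsPRegular p g) :
    (χ : G → ℂ) g = (χ : G → ℂ) 1 := by
  classical
  have hMp : M.IsPrime := isPrime_of_isPModular hM
  unfold blockRank at h
  set V := Submodule.span ℂ ((fun χ : IrrCharacter G => pRegularPart p (χ : G → ℂ)) ''
      principalBlock M G) with hV
  have hv₀ : pRegularPart p (fun _ : G => (1 : ℂ)) ∈ V :=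
    Submodule.subset_span
      ⟨Helper79.principalIrr G, Helper78.principalIrr_mem_principalBlock M hMp G, rfl⟩
  have hw : pRegularPart p (χ : G → ℂ) ∈ V := Submodule.subset_span ⟨χ, hχ, rfl⟩
  have hnz : (⟨_, hv₀⟩ : V) ≠ 0 := by
    intro h0
    exact pRegularPart_one_ne_zero (congrArg Subtype.val h0)
  obtain ⟨c, hc⟩ := (finrank_eq_one_iff_of_nonzero' (⟨_, hv₀⟩ : V) hnz).mp h ⟨_, hw⟩
  have hc' : c • pRegularPart p (fun _ : G => (1 : ℂ)) = pRegularPart p (χ : G → ℂ) :=
    congrArg Subtype.val hc
  have h1 := congrFun hc' (1 : G)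
  have h2 := congrFun hc' g
  rw [Pi.smul_apply, pRegularPart_of_regular _ isPRegular_one,
    pRegularPart_of_regular _ isPRegular_one, smul_eq_mul, mul_one] at h1
  rw [Pi.smul_apply, pRegularPart_of_regular _ hg, pRegularPart_of_regular _ hg, smul_eq_mul,
    mul_one] at h2
  rw [← h2, h1]

/-- If the principal block has rank one, the group has a normal `p`-complement. -/
theorem hasNormalPComplement_of_blockRank_principalBlock [Fact p.Prime] (hM : IsPModular p M)
    (h : blockRank p (principalBlock M G) = 1) : HasNormalPComplement p G := by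
  classical
  have hfin : Fintype G := Fintype.ofFinite G
  have hMp : M.IsPrime := isPrime_of_isPModular hM
  have hp : p.Prime := Fact.out
  have hB : IsPBlock M (principalBlock M G) := Helper78.isPBlock_principalBlock M G
  -- the kernel of the principal block
  let N : Subgroup G := ⨅ χ : principalBlock M G,
    Helper80.kerChar ((χ : IrrCharacter G) : G → ℂ) (Helper79.irr_isCharacter (χ : IrrCharacter G))
  have hNn : N.Normal := Subgroup.normal_iInf_normal (fun χ => Helper80.kerChar_normal _ _)
  have hmemN : ∀ g : G, g ∈ N ↔ ∀ χ ∈ principalBlock M G, (χ : G → ℂ) g = (χ : G → ℂ) 1 := by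
    intro g
    simp only [N, Subgroup.mem_iInf, Helper80.mem_kerChar, Subtype.forall]
  have hregN : ∀ g : G, IsPRegular p g → g ∈ N := fun g hg =>
    (hmemN g).mpr (fun χ hχ => eq_one_of_isPRegular_of_blockRank_eq_one hM h χ hχ g hg)
  -- `N` has no `p`-singular elements
  have hsing : ∀ g ∈ N, IsPRegular p g := by
    intro g hgN hdvd'
    have h1 := weak_block_orthogonality hM hB (1 : G) g isPRegular_one hdvd'
    rw [finsum_mem_eq_finite_toFinset_sum _ (Set.toFinite (principalBlock M G))] at h1
    have h2 : ∀ χ ∈ (Set.toFinite (principalBlock M G)).toFinset,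
        (χ : G → ℂ) g * (χ : G → ℂ) 1 = ((charDegree (χ : G → ℂ) ^ 2 : ℕ) : ℂ) := by
      intro χ hχ
      rw [(hmemN g).mp hgN χ ((Set.Finite.mem_toFinset _).mp hχ), Helper79.irr_one]
      push_cast
      ring
    rw [Finset.sum_congr rfl h2, ← Nat.cast_sum, Nat.cast_eq_zero, Finset.sum_eq_zero_iff] at h1
    have h3 := h1 (Helper79.principalIrr G)
      ((Set.Finite.mem_toFinset _).mpr (Helper78.principalIrr_mem_principalBlock M hMp G))
    have h4 := Helper79.irr_charDegree_pos (Helper79.principalIrr G)
    have h5 : charDegree ((Helper79.principalIrr G : IrrCharacter G) : G → ℂ) = 0 :=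
      pow_eq_zero_iff (two_ne_zero) |>.mp h3
    omega
  have hNcop : (Nat.card N).Coprime p := by
    rw [Nat.coprime_comm, Nat.Prime.coprime_iff_not_dvd hp]
    intro hdvd
    obtain ⟨x, hx⟩ := exists_prime_orderOf_dvd_card' p hdvd
    apply hsing (x : G) x.2
    rw [Subgroup.orderOf_coe, hx]
  -- `G / N` is a `p`-group
  have hquot : IsPGroup p (G ⧸ N) := by
    intro q
    obtain ⟨g, rfl⟩ := QuotientGroup.mk_surjective q
    obtain ⟨a, ha⟩ := exists_pow_isPRegular (p := p) g
    refine ⟨a, ?_⟩
    rw [← QuotientGroup.mk_pow, QuotientGroup.eq_one_iff]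
    exact hregN _ ha
  obtain ⟨k, hk⟩ := IsPGroup.iff_card.mp hquot
  rw [← Subgroup.index_eq_card] at hk
  obtain ⟨P⟩ : Nonempty (Sylow p G) := inferInstance
  have hcardG : Nat.card N * p ^ k = Nat.card G := by
    rw [← hk]
    exact Subgroup.card_mul_index N
  have hcardP : Nat.card P = p ^ k := by
    rw [P.card_eq_multiplicity, ← hcardG]
    congr 1
    rw [Nat.factorization_mul Nat.card_pos.ne' (pow_ne_zero _ hp.ne_zero),
      Finsupp.add_apply, Nat.factorization_eq_zero_of_not_dvd
        ((Nat.Prime.coprime_iff_not_dvd hp).mp hNcop.symm),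
      Nat.Prime.factorization_pow hp, Finsupp.single_eq_same, zero_add]
  refine ⟨P, N, hNn, Subgroup.isComplement'_of_coprime ?_ ?_⟩
  · rw [hcardP]
    exact hcardG
  · rw [hcardP]
    exact Nat.Coprime.pow_right _ hNcop

end Cfsg.Agent.Helper77
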