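import Cfsg.Agent.Helper77.CentricLocal
import Cfsg.Agent.Helper77.PrincipalRank
import Cfsg.Agent.Helper16.CentralDefectZero

/-!
# A criterion for maximal Brauer pairs

(helper77, file 41.)
-/

set_option autoImplicit false
set_option linter.unusedSectionVars false
set_option linter.style.haveILetI false

namespace Cfsg.Agent.Helper77

open Cfsg Cfsg.FusionSystem Cfsg.Agent.Helper87

section Canonical

variable {H : Type*} [Group H] [Fintype H] {M : Ideal AlgInt} {p : ℕ}

/-- **The canonical character of a block with a central defect group.** -/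
theorem exists_canonical_character [Fact p.Prime] (hM : IsPModular p M)
    {b : Set (IrrCharacter H)} (hb : IsPBlock M b) (Z : Subgroup H)
    (hZ : IsDefectGroup p M b Z) (hZc : Z ≤ Subgroup.center H) :
    ∃ θ ∈ b, (∀ z ∈ Z, (θ : H → ℂ) z = (θ : H → ℂ) 1) ∧
      (charDegree (θ : H → ℂ)).factorization p + (Nat.card Z).factorization p =
        (Nat.card H).factorization p := by
  classical
  have hMp : M.IsPrime := isPrime_of_isPModular hM
  have hp : p.Prime := Fact.out
  have hcardZ : Nat.card Z = p ^ blockDefect p b := card_defectGroup hM hb Z hZ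
  have hZp : IsPGroup p Z := IsPGroup.of_card hcardZ
  haveI hZn : Z.Normal := Helper16.normal_of_le_center hZc
  obtain ⟨ψ, hψ⟩ := Helper78.isPBlock_nonempty hMp hb
  have hex : ∃ θ ∈ b, ∀ z ∈ Z, (θ : H → ℂ) z = (θ : H → ℂ) 1 := by
    by_contra hne
    push_neg at hne
    have hspan := Helper16.pRegularPart_mem_span_ker hM hb Z hZp hZc ψ hψ
    have hempty : {χ : IrrCharacter H | χ ∈ b ∧ ∀ u ∈ Z, (χ : H → ℂ) u = (χ : H → ℂ) 1} = ∅ := by
      ext χ
      simp only [Set.mem_setOf_eq, Set.mem_empty_iff_false, iff_false, not_and]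
      intro hχ hall
      obtain ⟨z, hz, hne'⟩ := hne χ hχ
      exact hne' (hall z hz)
    rw [hempty, Set.image_empty, Submodule.span_empty, Submodule.mem_bot] at hspan
    have h1 := congrFun hspan (1 : H)
    rw [pRegularPart_of_regular _ isPRegular_one] at h1
    exact Helper79.irr_one_ne_zero ψ h1
  obtain ⟨θ, hθ, hker⟩ := hex
  refine ⟨θ, hθ, hker, ?_⟩
  -- lower bound
  have hlow := Helper16.pow_dvd_charDegree_of_mem (p := p) hθ
  rw [hp.pow_dvd_iff_le_factorization (Helper16.irr_charDegree_ne_zero θ)] at hlow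
  -- upper bound through the quotient
  obtain ⟨ψ', hψ'irr, hψ'⟩ := Helper80.IsIrrCharacter.exists_descend θ.2
    (QuotientGroup.mk' Z) (QuotientGroup.mk'_surjective Z) (by
      intro g hg
      have hgZ : g ∈ Z := by
        rw [← QuotientGroup.eq_one_iff]
        exact hg
      exact hker g hgZ)
  have hdeg : charDegree ψ' = charDegree (θ : H → ℂ) := by
    unfold charDegree
    rw [hψ' 1]
    rfl
  have hdvd : charDegree (θ : H → ℂ) ∣ Nat.card (H ⧸ Z) := by
    rw [← hdeg]
    exact Helper80.IsIrrCharacter.charDegree_dvd_card hψ'irr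
  have hHZ : Nat.card H = Nat.card (H ⧸ Z) * Nat.card Z := by
    rw [← Subgroup.index_eq_card, Subgroup.index_mul_card]
  have hfacH : (Nat.card H).factorization p =
      (Nat.card (H ⧸ Z)).factorization p + (Nat.card Z).factorization p := by
    rw [hHZ, Nat.factorization_mul Nat.card_pos.ne' Nat.card_pos.ne']
    rfl
  have hfacZ : (Nat.card Z).factorization p = blockDefect p b := by
    rw [hcardZ, hp.factorization_pow]
    simp
  have hup : (charDegree (θ : H → ℂ)).factorization p ≤ (Nat.card (H ⧸ Z)).factorization p :=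
    (Nat.factorization_le_iff_dvd (Helper16.irr_charDegree_ne_zero θ) Nat.card_pos.ne').mpr
      hdvd p
  omega

end Canonical

variable {G : Type*} [Group G] [Fintype G] {M : Ideal AlgInt} {p : ℕ}

/-- The top subgroup `P` of a block fusion system is fully automized. -/
theorem isFullyAutomized_top [Fact p.Prime] (hM : IsPModular p M)
    (B : Set (IrrCharacter G)) (P : Subgroup G)
    (e : Set (IrrCharacter (Subgroup.centralizer (P : Set G)))) (F : FusionSystem P)
    (hF : IsBlockFusionSystemOn p M B P e F) : F.IsFullyAutomized p P := by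
  have hsat := isSaturated_of_isBlockFusionSystemOn hM B P e F hF
  obtain ⟨P', ⟨φ, hφ, hrange⟩, hauto, _⟩ := hsat P le_rfl
  have hP' : P' = P := by
    apply Subgroup.eq_of_le_of_card_ge
    · rw [← hrange]
      rintro _ ⟨x, rfl⟩
      exact (F.le_of_mem hφ).2 x
    · rw [← hrange]
      exact (Nat.card_congr (MonoidHom.ofInjective (F.injective_of_mem hφ)).toEquiv).le
  rw [hP'] at hauto
  exact hauto

/-- The top subgroup `P` of a block fusion system is centric. -/
theorem isCentric_top
    (P : Subgroup G) (F : FusionSystem P) : F.IsCentric P := by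
  refine ⟨le_rfl, ?_⟩
  rintro P' ⟨φ, hφ, hrange⟩
  have hP' : P' = P := by
    apply Subgroup.eq_of_le_of_card_ge
    · rw [← hrange]
      rintro _ ⟨x, rfl⟩
      exact (F.le_of_mem hφ).2 x
    · rw [← hrange]
      exact (Nat.card_congr (MonoidHom.ofInjective (F.injective_of_mem hφ)).toEquiv).le
  rw [hP']
  exact inf_le_left

/-- **`p`-elements of the stabilizer of a maximal Brauer pair `(Q, e)` lie in `Q C_G(Q)`.** -/
theorem mem_sup_centralizer_of_pElement [Fact p.Prime] (hM : IsPModular p M)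
    (B : Set (IrrCharacter G)) (Q : Subgroup G)
    (e : Set (IrrCharacter (Subgroup.centralizer (Q : Set G))))
    (hmax : IsMaximalBrauerPair p M B Q e) (g : G)
    (hgN : g ∈ Subgroup.normalizer (Q : Set G))
    (hgS : StabilizesBlock (Subgroup.centralizer (Q : Set G)) e g)
    (hgp : ∃ k : ℕ, orderOf g = p ^ k) : g ∈ Q ⊔ Subgroup.centralizer (Q : Set G) := by
  classical
  have hPe : IsBrauerPair p M Q e := hmax.1.1
  have hF := isBlockFusionSystemOn_blockFusionSystem hM B Q e hmax
  obtain ⟨_, R, hR⟩ := isFullyAutomized_top hM B Q e _ hF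
  haveI hfinAut : Finite (MulAut Q) := finite_mulAut_of_le (S := Q) (le_refl Q)
  have hα : conjAut Q g hgN ∈ (blockFusionSystem hM Q e hPe).autGroup Q := by
    rw [mem_autGroup_iff _ (le_refl Q)]
    have hfix : conjIdx g ⟨Q, e⟩ = ⟨Q, e⟩ := (conjIdx_eq_self_iff Q e g hgN).mpr hgS
    have hle' : Relation.ReflTransGen (NormalSubpairRel p M) (conjIdx g ⟨Q, e⟩) ⟨Q, e⟩ := by
      rw [hfix]
    exact (hF.2 Q _).mpr ⟨le_refl Q, g, fun u => rfl, le_of_reflTransGen hle', e,
      Relation.ReflTransGen.refl, hle'⟩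
  obtain ⟨k, hk⟩ := hgp
  have hpow : (⟨conjAut Q g hgN, hα⟩ : (blockFusionSystem hM Q e hPe).autGroup Q) ^ p ^ k = 1 := by
    apply Subtype.ext
    show (conjAut Q g hgN) ^ p ^ k = 1
    rw [conjAut_pow]
    have h1 : g ^ p ^ k = 1 := by rw [← hk]; exact pow_orderOf_eq_one g
    ext x
    rw [conjAut_apply, MulAut.one_apply]
    simp [h1]
  have hB' : IsPGroup p (Subgroup.zpowers
      (⟨conjAut Q g hgN, hα⟩ : (blockFusionSystem hM Q e hPe).autGroup Q)) := by
    rintro ⟨b, hb⟩
    obtain ⟨i, rfl⟩ := hb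
    refine ⟨k, ?_⟩
    apply Subtype.ext
    show (_ ^ i) ^ p ^ k = 1
    rw [← zpow_natCast, ← zpow_mul, mul_comm, zpow_mul, zpow_natCast, hpow, one_zpow]
  obtain ⟨a, ha⟩ := exists_conj_mem_sylow_of_isPGroup R _ hB'
  have h1 := ha _ (Subgroup.mem_zpowers _)
  rw [hR, Subgroup.mem_subgroupOf, mem_autInducedBy_iff] at h1
  obtain ⟨u, hu, hux⟩ := h1
  -- `conj_g = conj_v` on `Q` with `v = a⁻¹ u`
  have hv : ∀ x : Q, g * (x : G) * g⁻¹ =
      (((a : MulAut Q)⁻¹ ⟨u, hu⟩ : Q) : G) * (x : G) * (((a : MulAut Q)⁻¹ ⟨u, hu⟩ : Q) : G)⁻¹ := by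
    intro x
    have h2 := hux ((a : MulAut Q) x)
    have h3 : (a : MulAut Q) (conjAut Q g hgN x) =
        ⟨u, hu⟩ * (a : MulAut Q) x * (⟨u, hu⟩ : Q)⁻¹ := by
      apply Subtype.ext
      have h2' : ((((a : MulAut Q) * conjAut Q g hgN * (a : MulAut Q)⁻¹)
          ((a : MulAut Q) x) : Q) : G) = ((a : MulAut Q) (conjAut Q g hgN x) : Q) := by
        rw [MulAut.mul_apply, MulAut.mul_apply, MulAut.inv_apply_self]
      rw [← h2']
      exact h2
    have h4 := congrArg (fun y => (a : MulAut Q)⁻¹ y) h3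
    simp only [MulAut.inv_apply_self, map_mul, map_inv] at h4
    have h5 := congrArg Subtype.val h4
    rw [conjAut_apply] at h5
    exact h5
  have hc : (((a : MulAut Q)⁻¹ ⟨u, hu⟩ : Q) : G)⁻¹ * g ∈ Subgroup.centralizer (Q : Set G) := by
    rw [Subgroup.mem_centralizer_iff]
    intro x hx
    have h6 := hv ⟨x, hx⟩
    set v := (((a : MulAut Q)⁻¹ ⟨u, hu⟩ : Q) : G) with hvdef
    have h7 : g * x = v * x * v⁻¹ * g := by
      calc g * x = g * x * g⁻¹ * g := by group
        _ = v * x * v⁻¹ * g := by rw [h6]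
    calc x * (v⁻¹ * g) = v⁻¹ * (v * x * v⁻¹ * g) := by group
      _ = v⁻¹ * (g * x) := by rw [← h7]
      _ = v⁻¹ * g * x := by group
  have h8 : g = (((a : MulAut Q)⁻¹ ⟨u, hu⟩ : Q) : G) *
      ((((a : MulAut Q)⁻¹ ⟨u, hu⟩ : Q) : G)⁻¹ * g) := by group
  rw [h8]
  exact Subgroup.mul_mem _ (Subgroup.mem_sup_left ((a : MulAut Q)⁻¹ ⟨u, hu⟩ : Q).2)
    (Subgroup.mem_sup_right hc)

/-- `Z(Q) = Q ∩ C_G(Q)` is central in `C_G(Q)`. -/
theorem inf_centralizer_subgroupOf_le_center (Q : Subgroup G) :
    (Q ⊓ Subgroup.centralizer (Q : Set G)).subgroupOf (Subgroup.centralizer (Q : Set G)) ≤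
      Subgroup.center (Subgroup.centralizer (Q : Set G)) := by
  intro z hz
  rw [Subgroup.mem_subgroupOf] at hz
  rw [Subgroup.mem_center_iff]
  intro c
  apply Subtype.ext
  show (c : G) * (z : G) = (z : G) * (c : G)
  exact (c.2 (z : G) hz.1).symm

/-- **Maximal Brauer pairs, forward direction.** -/
theorem exists_character_of_isMaximalBrauerPair [Fact p.Prime] (hM : IsPModular p M)
    (B : Set (IrrCharacter G)) (Q : Subgroup G)
    (e : Set (IrrCharacter (Subgroup.centralizer (Q : Set G))))
    (hmax : IsMaximalBrauerPair p M B Q e) :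
    ∃ θ ∈ e, (∀ z : Subgroup.centralizer (Q : Set G), (z : G) ∈ Q →
        (θ : Subgroup.centralizer (Q : Set G) → ℂ) z =
          (θ : Subgroup.centralizer (Q : Set G) → ℂ) 1) ∧
      (charDegree (θ : Subgroup.centralizer (Q : Set G) → ℂ)).factorization p +
        (Nat.card ↥(Q ⊓ Subgroup.centralizer (Q : Set G))).factorization p =
        (Nat.card (Subgroup.centralizer (Q : Set G))).factorization p := by
  classical
  have hPe : IsBrauerPair p M Q e := hmax.1.1
  have hF := isBlockFusionSystemOn_blockFusionSystem hM B Q e hmax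
  have hcen := isCentric_top Q (blockFusionSystem hM Q e hPe)
  have hD := (isCentric_iff hM B Q e _ hF Q e le_rfl hPe.2 Relation.ReflTransGen.refl).mp hcen
  have hfin : Fintype (Subgroup.centralizer (Q : Set G)) := Fintype.ofFinite _
  obtain ⟨θ, hθ, hker, hdeg⟩ := exists_canonical_character hM hPe.2 _ hD
    (inf_centralizer_subgroupOf_le_center Q)
  refine ⟨θ, hθ, ?_, ?_⟩
  · intro z hz
    exact hker z (Subgroup.mem_subgroupOf.mpr ⟨hz, z.2⟩)
  · rw [card_subgroupOf_of_le inf_le_right] at hdeg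
    exact hdeg

/-- **Maximal Brauer pairs, backward direction.** -/
theorem isMaximalBrauerPair_of_character [Fact p.Prime] (hM : IsPModular p M)
    (Q : Subgroup G)
    (e : Set (IrrCharacter (Subgroup.centralizer (Q : Set G))))
    (he : IsBrauerPair p M Q e)
    (θ : IrrCharacter (Subgroup.centralizer (Q : Set G))) (hθ : θ ∈ e)
    (hdeg : (charDegree (θ : Subgroup.centralizer (Q : Set G) → ℂ)).factorization p +
        (Nat.card ↥(Q ⊓ Subgroup.centralizer (Q : Set G))).factorization p =
        (Nat.card (Subgroup.centralizer (Q : Set G))).factorization p)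
    (hstab : ∀ g : G, g ∈ Subgroup.normalizer (Q : Set G) →
      StabilizesBlock (Subgroup.centralizer (Q : Set G)) e g → (∃ k : ℕ, orderOf g = p ^ k) →
      g ∈ Q ⊔ Subgroup.centralizer (Q : Set G)) :
    ∃ B : Set (IrrCharacter G), IsMaximalBrauerPair p M B Q e := by
  classical
  have hMp : M.IsPrime := isPrime_of_isPModular hM
  have hp : p.Prime := Fact.out
  have hfin : Fintype (Subgroup.centralizer (Q : Set G)) := Fintype.ofFinite _
  have hZex : ∃ Z : Subgroup (Subgroup.centralizer (Q : Set G)),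
      Z = (Q ⊓ Subgroup.centralizer (Q : Set G)).subgroupOf (Subgroup.centralizer (Q : Set G)) :=
    ⟨_, rfl⟩
  obtain ⟨Z, hZdef⟩ := hZex
  have hZp : IsPGroup p Z := by
    have h1 : IsPGroup p (Q ⊓ Subgroup.centralizer (Q : Set G) : Subgroup G) :=
      he.1.to_le inf_le_left
    rw [hZdef]
    exact h1.comap_subtype
  have hZcen : Z ≤ Subgroup.center (Subgroup.centralizer (Q : Set G)) := by
    rw [hZdef]
    exact inf_centralizer_subgroupOf_le_center Q
  have hcardZ' : Nat.card Z = Nat.card (Q ⊓ Subgroup.centralizer (Q : Set G) : Subgroup G) := by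
    rw [hZdef]
    exact card_subgroupOf_of_le inf_le_right
  have hdeg' : (charDegree (θ : Subgroup.centralizer (Q : Set G) → ℂ)).factorization p =
      Z.index.factorization p := by
    have h1 : Nat.card (Subgroup.centralizer (Q : Set G)) = Z.index * Nat.card Z :=
      (Subgroup.index_mul_card Z).symm
    have hidx : Z.index ≠ 0 := Subgroup.index_ne_zero_of_finite
    have h2 : (Nat.card (Subgroup.centralizer (Q : Set G))).factorization p =
        Z.index.factorization p + (Nat.card Z).factorization p := by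
      rw [h1, Nat.factorization_mul hidx Nat.card_pos.ne']
      rfl
    rw [hcardZ'] at h2
    omega
  have hDZ : IsDefectGroup p M e Z := by
    have h1 := Helper16.isDefectGroup_of_central_defect_zero hM Z hZp hZcen θ hdeg'
    rw [← Helper78.isPBlock_eq_blockOf_of_mem hMp he.2 hθ] at h1
    exact h1
  have hcardZ : Nat.card Z = p ^ blockDefect p e := card_defectGroup hM he.2 Z hDZ
  obtain ⟨B, hB, _⟩ := existsUnique_isBrauerPairOf hM Q e he
  -- the key claim: a normal step above `(Q, e)` does not enlarge `Q`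
  have hclaim : ∀ c : BrauerPairIdx G, NormalSubpairRel p M ⟨Q, e⟩ c → c.1 = Q := by
    intro c hsub
    have hsub' : IsNormalSubpair p M Q e c.1 c.2 := hsub
    obtain ⟨_, hc, hQR, hRN, hRstab, _⟩ := hsub'
    have hRL : c.1 ≤ Q ⊔ Subgroup.centralizer (Q : Set G) := by
      intro x hx
      refine hstab x (hRN hx) (hRstab x hx) ?_
      obtain ⟨k, hk⟩ := (IsPGroup.iff_orderOf.mp hc.1) ⟨x, hx⟩
      exact ⟨k, by rw [← hk, Subgroup.orderOf_mk]⟩
    obtain ⟨D, hD, hDle⟩ := exists_defectGroup_ge_centralizer hM c.1 Q c.2 e hc hQR he.2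
      (Relation.ReflTransGen.single hsub)
    have hcardD : Nat.card D = p ^ blockDefect p e := card_defectGroup hM he.2 D hD
    have hZle : Z ≤ (c.1 ⊓ Subgroup.centralizer (Q : Set G)).subgroupOf
        (Subgroup.centralizer (Q : Set G)) := by
      rw [hZdef]
      exact Subgroup.comap_mono (inf_le_inf_right _ hQR)
    have hZD : Z = D := Subgroup.eq_of_le_of_card_ge (hZle.trans hDle) (by rw [hcardD, hcardZ])
    have hRC : c.1 ⊓ Subgroup.centralizer (Q : Set G) ≤ Q := by
      intro x hx
      have h1 : (⟨x, hx.2⟩ : Subgroup.centralizer (Q : Set G)) ∈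
          (c.1 ⊓ Subgroup.centralizer (Q : Set G)).subgroupOf
            (Subgroup.centralizer (Q : Set G)) := Subgroup.mem_subgroupOf.mpr hx
      have h2 : (⟨x, hx.2⟩ : Subgroup.centralizer (Q : Set G)) ∈ Z := by
        rw [hZD]
        exact hDle h1
      rw [hZdef] at h2
      exact (Subgroup.mem_subgroupOf.mp h2).1
    have hQN : Q ≤ Subgroup.normalizer ((Subgroup.centralizer (Q : Set G) : Subgroup G) : Set G) :=
      Subgroup.le_normalizer.trans (Helper78.normalizer_le_normalizer_centralizer Q)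
    apply le_antisymm _ hQR
    intro x hx
    obtain ⟨q, hq, c', hc', rfl⟩ := exists_mul_of_mem_sup_of_le_normalizer hQN (hRL hx)
    have h1 : c' ∈ c.1 := by
      have : c' = q⁻¹ * (q * c') := by group
      rw [this]
      exact Subgroup.mul_mem _ (Subgroup.inv_mem _ (hQR hq)) hx
    exact Subgroup.mul_mem _ hq (hRC ⟨h1, hc'⟩)
  refine ⟨B, hB, fun R g hRg hle => ?_⟩
  have hall : ∀ b : BrauerPairIdx G, Relation.ReflTransGen (NormalSubpairRel p M) ⟨Q, e⟩ b →
      b = ⟨Q, e⟩ := by
    intro b hb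
    induction hb with
    | refl => rfl
    | tail hab hbc ih =>
      rename_i b' c'
      rw [ih] at hbc
      have h1 := hclaim c' hbc
      have hc' : IsBrauerPair p M c'.1 c'.2 := hbc.2.1
      exact (idx_eq_of_le_of_fst_eq hM c'.1 c'.2 hc' (a := ⟨Q, e⟩) (b := c')
        (Relation.ReflTransGen.single hbc) Relation.ReflTransGen.refl h1.symm).symm
  have := hall ⟨R, g⟩ hle
  exact congrArg Sigma.fst this

end Cfsg.Agent.Helper77
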