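import Cfsg.Agent.Helper77.NilpotentCountAux

/-!
# Nilpotent blocks with abelian defect groups: `k(B) = |D|` and `l(B) = 1`

(helper77, file 55.)
-/

set_option autoImplicit false
set_option linter.unusedSectionVars false
set_option linter.unusedVariables false
set_option maxHeartbeats 1000000

namespace Cfsg.Agent.Helper77

open Cfsg
open scoped ComplexConjugate
open Cfsg.Agent.Helper16 (contribE)

section Main

variable {G : Type*} [Group G] [Fintype G] {M : Ideal AlgInt} {p : ℕ}

/-- **Nilpotent blocks with abelian defect groups.** -/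
theorem nilpotent_abelian_count [Fact p.Prime] (hM : IsPModular p M)
    (B : Set (IrrCharacter G)) (D : Subgroup G)
    (e : Set (IrrCharacter (Subgroup.centralizer (D : Set G))))
    (hmax : IsMaximalBrauerPair p M B D e) (hab : ∀ x ∈ D, ∀ y ∈ D, x * y = y * x)
    (hnil : IsNilpotentBlock p M B) :
    Nat.card B = Nat.card D ∧ blockRank p B = 1 := by
  classical
  have hMp : M.IsPrime := Helper16.IsPModular.isPrime hM
  have hpr : p.Prime := Fact.out
  have hB : IsPBlock M B := hmax.1.2.1
  have hDe : IsBrauerPair p M D e := hmax.1.1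
  have hDp : IsPGroup p D := hDe.1
  have hDD : IsDefectGroup p M B D := isDefectGroup_of_isMaximalBrauerPair hM B D e hmax
  have hcardD : Nat.card D = p ^ blockDefect p B := card_defectGroup hM hB D hDD
  -- the local blocks
  have hex : ∀ Q : {Q : Subgroup G // Q ≤ D},
      ∃ f : Set (IrrCharacter (Subgroup.centralizer ((Q : Subgroup G) : Set G))),
        IsPBlock M f ∧ SubpairLE p M (Q : Subgroup G) f D e :=
    fun Q => exists_subpairLE hM D e hDe _ Q.1 Q.2 (le_refl _)
  choose f hf hle using hex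
  have hQp : ∀ Q : {Q : Subgroup G // Q ≤ D}, IsPGroup p (Q : Subgroup G) :=
    fun Q => hDp.to_le Q.2
  have hQf : ∀ Q : {Q : Subgroup G // Q ≤ D}, IsBrauerPair p M (Q : Subgroup G) (f Q) :=
    fun Q => ⟨hQp Q, hf Q⟩
  have hQfB : ∀ Q : {Q : Subgroup G // Q ≤ D}, IsBrauerPairOf p M B (Q : Subgroup G) (f Q) :=
    fun Q => (isBrauerPairOf_iff_of_subpairLE hM D Q.1 e (f Q) hDe (hQf Q) (hle Q) B).mp hmax.1
  have hQab : ∀ Q : {Q : Subgroup G // Q ≤ D},
      (Q : Subgroup G) ≤ Subgroup.centralizer ((Q : Subgroup G) : Set G) := by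
    intro Q q hq
    rw [Subgroup.mem_centralizer_iff]
    intro h hh
    exact hab h (Q.2 hh) q (Q.2 hq)
  have hind : ∀ Q : {Q : Subgroup G // Q ≤ D},
      IsInducedBlock M (Subgroup.centralizer ((Q : Subgroup G) : Set G)) (f Q) B :=
    fun Q => isInducedBlock_of_isBrauerPairOf_of_le_centralizer hM B Q.1 (f Q) (hQab Q) (hQfB Q)
  have hdef : ∀ Q : {Q : Subgroup G // Q ≤ D}, blockDefect p (f Q) = blockDefect p B := by
    intro Q
    have h1 := card_eq_pow_blockDefect_of_abelian hM B D e hmax hab Q.1 (f Q) Q.2 (hf Q) (hle Q)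
    rw [hcardD] at h1
    exact (Nat.pow_right_injective hpr.two_le h1).symm
  -- the subsections attached to the elements of `D`
  let Qof : D → {Q : Subgroup G // Q ≤ D} := fun y =>
    ⟨Subgroup.zpowers (y : G), by rw [Subgroup.zpowers_le]; exact y.2⟩
  have hx : ∀ y : D, ∃ k : ℕ, orderOf (y : G) = p ^ k := by
    intro y
    obtain ⟨k, hk⟩ := IsPGroup.iff_orderOf.mp hDp y
    exact ⟨k, by rw [Subgroup.orderOf_coe]; exact hk⟩
  have hHy : ∀ y : D, Subgroup.centralizer (((Qof y : Subgroup G)) : Set G) =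
      Subgroup.centralizer ({(y : G)} : Set G) := fun y => centralizer_zpowers_eq (y : G)
  let E : (Q : {Q : Subgroup G // Q ≤ D}) → G → IrrCharacter G → IrrCharacter G → ℂ :=
    fun Q x χ ψ => contribE p (Subgroup.centralizer ((Q : Subgroup G) : Set G)) x (f Q)
      (χ : G → ℂ) (ψ : G → ℂ)
  let m : D → IrrCharacter G → IrrCharacter G → ℂ := fun y χ ψ => E (Qof y) (y : G) χ ψ
  have hrow : ∀ (y : D) (χ : IrrCharacter G),
      ∑ ψ : IrrCharacter G, m y χ ψ * conj (m y χ ψ) = m y χ χ := fun y χ =>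
    Helper16.sum_contribE_row' hM (y : G) (hx y) _ (hHy y) (hf _) χ
  have horth : ∀ (χ : IrrCharacter G) (y y' : D), y ≠ y' →
      ∑ ψ : IrrCharacter G, m y χ ψ * conj (m y' χ ψ) = 0 := by
    intro χ y y' hyy'
    by_cases hc : IsConj (y : G) (y' : G)
    · obtain ⟨g, hg⟩ := isConj_iff.mp hc
      have hQQ' : ((Qof y : Subgroup G)).map (MulAut.conj g).toMonoidHom = (Qof y' : Subgroup G) := by
        show (Subgroup.zpowers (y : G)).map (MulAut.conj g).toMonoidHom = Subgroup.zpowers (y' : G)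
        rw [MonoidHom.map_zpowers]
        congr 1
      let σ : Subgroup.centralizer (((Qof y : Subgroup G)) : Set G) ≃*
          Subgroup.centralizer (((Qof y' : Subgroup G)) : Set G) :=
        (centConj (Qof y : Subgroup G) g).trans
          (MulEquiv.subgroupCongr (congrArg (fun R : Subgroup G =>
            Subgroup.centralizer (R : Set G)) hQQ'))
      have hσ : ∀ c : Subgroup.centralizer (((Qof y : Subgroup G)) : Set G),
          ((σ c : _) : G) = g * (c : G) * g⁻¹ := fun c => rfl
      let b'' : Set (IrrCharacter (Subgroup.centralizer (((Qof y : Subgroup G)) : Set G))) :=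
        Helper78.irrMap σ.symm '' (f (Qof y'))
      have hb'' : IsPBlock M b'' := isPBlock_image_irrMap _ (hf _)
      have hback : Helper78.irrMap σ '' b'' = f (Qof y') :=
        Helper78.image_irrMap_image_irrMap_symm σ _
      have hne : f (Qof y) ≠ b'' := by
        intro heq
        have h1 : Helper78.irrMap σ '' (f (Qof y)) = f (Qof y') := by
          rw [heq]
          exact hback
        have h2 := conj_eq_self_of_irrMap_image_eq hM B D e hmax hab hnil _ _ (f (Qof y))
          (f (Qof y')) (Qof y).2 (hle _) (hle _) g hQQ' σ hσ h1 (y : G)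
          (Subgroup.mem_zpowers _)
        apply hyy'
        apply Subtype.ext
        rw [← hg, h2]
      have hm' : ∀ ψ : IrrCharacter G, m y' χ ψ =
          contribE p (Subgroup.centralizer (((Qof y : Subgroup G)) : Set G)) (y : G) b''
            (χ : G → ℂ) (ψ : G → ℂ) := by
        intro ψ
        have h3 := contribE_conj (p := p) (Subgroup.centralizer (((Qof y : Subgroup G)) : Set G))
          (Subgroup.centralizer (((Qof y' : Subgroup G)) : Set G)) σ g hσ (y : G) b''
          (Helper16.irr_isClassFunction χ) (Helper16.irr_isClassFunction ψ)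
        rw [hback, hg] at h3
        exact h3
      rw [Finset.sum_congr rfl (fun ψ _ => by rw [hm' ψ])]
      exact sum_contribE_mul_conj_eq_zero_of_ne hM (y : G) (hx y) _ (hHy y) (hf _) hb'' hne χ
    · exact sum_contribE_mul_conj_eq_zero_of_not_isConj (y : G) (y' : G) (hx y) (hx y') _ _
        (hHy y) (hHy y') _ _ hc χ
  have hsupp : ∀ (y : D) (χ : IrrCharacter G), χ ∉ B → m y χ χ = 0 := fun y χ hχ =>
    contribE_eq_zero_of_not_mem hM (y : G) (hx y) _ (hHy y) (hind _) χ hχ χ
  have htrace : ∀ y : D, ∑ χ : IrrCharacter G, m y χ χ = (blockRank p (f (Qof y)) : ℂ) := fun y =>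
    Helper16.sum_contribE_diag' hM (y : G) (hx y) _ (hHy y) (hf _)
  -- Bessel
  have hbes : ∀ χ : IrrCharacter G, ∃ C : ℝ, ∑ y : D, m y χ χ = (C : ℂ) ∧ 0 ≤ C ∧ C ≤ 1 :=
    fun χ => bessel_le_one (fun (y : D) ψ => m y χ ψ) χ (fun y => hrow y χ) (horth χ)
  choose C hC hC0 hC1 using hbes
  -- the lower bound `∑ l(b_y) ≤ k(B)`
  have hCz : ∀ χ : IrrCharacter G, χ ∉ B → C χ = 0 := by
    intro χ hχ
    have h1 : ∑ y : D, m y χ χ = 0 := Finset.sum_eq_zero (fun y _ => hsupp y χ hχ)
    rw [hC χ] at h1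
    exact_mod_cast h1
  have hsumL : ((∑ y : D, blockRank p (f (Qof y)) : ℕ) : ℝ) = ∑ χ : IrrCharacter G, C χ := by
    apply Complex.ofReal_injective
    rw [Complex.ofReal_natCast, Complex.ofReal_sum, Nat.cast_sum,
      Finset.sum_congr rfl (fun y _ => (htrace y).symm), Finset.sum_comm]
    exact Finset.sum_congr rfl (fun χ _ => hC χ)
  have hkB : (∑ χ : IrrCharacter G, C χ) ≤ (Nat.card B : ℝ) := by
    have h1 : ∀ χ : IrrCharacter G, C χ ≤ if χ ∈ B then (1 : ℝ) else 0 := by
      intro χ
      by_cases h : χ ∈ B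
      · rw [if_pos h]; exact hC1 χ
      · rw [if_neg h, hCz χ h]
    refine le_trans (Finset.sum_le_sum (fun χ _ => h1 χ)) (le_of_eq ?_)
    rw [Finset.sum_boole, Nat.card_eq_fintype_card, Fintype.card_subtype]
  have hlow : ∑ y : D, blockRank p (f (Qof y)) ≤ Nat.card B := by
    rw [← hsumL] at hkB
    exact_mod_cast hkB
  have hl1 : ∀ y : D, 1 ≤ blockRank p (f (Qof y)) := fun y =>
    blockRank_pos p (Helper78.isPBlock_nonempty hMp (hf _))
  have hDle : Nat.card D ≤ ∑ y : D, blockRank p (f (Qof y)) := by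
    have h1 : Nat.card D = ∑ y : D, 1 := by
      rw [Finset.sum_const, smul_eq_mul, mul_one, Nat.card_eq_fintype_card, Finset.card_univ]
    rw [h1]
    exact Finset.sum_le_sum (fun y _ => hl1 y)
  -- a character of height zero
  obtain ⟨χ₀, hχ₀, hdefχ, hminχ⟩ :=
    Helper16.exists_height_zero' p B (Helper78.isPBlock_nonempty hMp hB)
  have h0 : blockHeight p B (χ₀ : G → ℂ) = 0 := by
    rw [Helper16.blockHeight_eq_zero_iff p hχ₀]
    have h1 := Helper16.minExp_le_of_mem p hχ₀
    have h2 := Helper16.blockDefect_eq p B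
    have hle0 := Helper16.factorization_charDegree_le p χ₀
    omega
  -- the upper bound
  have hkle : Nat.card B ≤ Nat.card D := by
    have hpd0 : 0 < p ^ blockDefect p B := pow_pos hpr.pos _
    let Γ := (Finset.range (p ^ blockDefect p B)).filter
      (fun γ => Nat.Coprime (p ^ blockDefect p B) γ)
    let R : {Q : Subgroup G // Q ≤ D} → G → ℝ := fun Q x =>
      ∑ ψ : IrrCharacter G, Complex.normSq (E Q x χ₀ ψ)
    let r : D → ℝ := fun y => R (Qof y) (y : G)
    have hr : ∀ y : D, ((r y : ℝ) : ℂ) = m y χ₀ χ₀ := by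
      intro y
      rw [← hrow y χ₀]
      show ((∑ ψ : IrrCharacter G, Complex.normSq (m y χ₀ ψ) : ℝ) : ℂ) = _
      rw [Complex.ofReal_sum]
      exact Finset.sum_congr rfl (fun ψ _ => (Complex.mul_conj _).symm)
    have hrsum : ∑ y : D, r y = C χ₀ := by
      apply Complex.ofReal_injective
      rw [Complex.ofReal_sum, ← hC χ₀]
      exact Finset.sum_congr rfl (fun y _ => hr y)
    have hpowD : ∀ y : D, (y : G) ^ (p ^ blockDefect p B) = 1 := by
      intro y
      have h1 : y ^ Nat.card D = 1 := pow_card_eq_one'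
      rw [hcardD] at h1
      have := congrArg (fun t : D => (t : G)) h1
      simpa using this
    have hamgm : ∀ y : D, (Nat.card B : ℝ) * ((p ^ blockDefect p B).totient : ℝ) ≤
        ((p ^ (2 * blockDefect p B) : ℕ) : ℝ) * ∑ γ ∈ Γ, R (Qof y) ((y : G) ^ γ) := by
      intro y
      let yH : Subgroup.centralizer (((Qof y : Subgroup G)) : Set G) :=
        ⟨(y : G), hQab (Qof y) (Subgroup.mem_zpowers _)⟩
      have hyc : yH ∈ Subgroup.center
          (Subgroup.centralizer (((Qof y : Subgroup G)) : Set G)) := by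
        rw [Subgroup.mem_center_iff]
        intro c
        apply Subtype.ext
        have := c.2
        rw [Subgroup.mem_centralizer_iff] at this
        exact (this (y : G) (Subgroup.mem_zpowers _)).symm
      have hyHpow : yH ^ (p ^ blockDefect p B) = 1 := by
        apply Subtype.ext
        rw [SubmonoidClass.coe_pow]
        exact hpowD y
      have hcyc : ∀ ψ ∈ B, ((p ^ blockDefect p B).totient : ℝ) ≤ ∑ γ ∈ Γ,
          Complex.normSq (((p ^ blockDefect p B : ℕ) : ℂ) * E (Qof y) ((y : G) ^ γ) χ₀ ψ) := by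
        intro ψ hψ
        obtain ⟨A, μ, hμ, hform⟩ := Helper16.exists_pow_form hM _ yH hyc (blockDefect p B)
          hyHpow (hf (Qof y)) χ₀ ψ
        rw [hdef (Qof y)] at hform
        have hnz := contribE_ne_zero_of_major (y : G) hM (hx y) _ (hHy y) (hind (Qof y))
          (hdef (Qof y)) χ₀ ψ hχ₀ h0 hψ
        have hne : ∑ i, (A i : ℂ) * μ i ≠ 0 := by
          have h1 := hform 1
          simp only [pow_one] at h1
          intro hz
          rw [hz] at h1
          rcases mul_eq_zero.mp h1 with h2 | h2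
          · have : ((p ^ blockDefect p B : ℕ) : ℂ) ≠ 0 := by exact_mod_cast hpd0.ne'
            exact this h2
          · exact hnz h2
        have hineq := Helper16.sum_normSq_ge_totient hpr (blockDefect p B) Finset.univ A μ
          (fun i _ => hμ i) hne
        refine le_trans hineq (le_of_eq ?_)
        refine Finset.sum_congr rfl (fun γ _ => ?_)
        rw [← hform γ]
      let Bf : Finset (IrrCharacter G) := Finset.univ.filter (fun χ => χ ∈ B)
      have hcard : Bf.card = Nat.card B := by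
        rw [Nat.card_eq_fintype_card, Fintype.card_subtype]
      have e1 : (Nat.card B : ℝ) * ((p ^ blockDefect p B).totient : ℝ) =
          ∑ ψ ∈ Bf, ((p ^ blockDefect p B).totient : ℝ) := by
        rw [Finset.sum_const, nsmul_eq_mul, hcard]
      have e2 : ∑ ψ ∈ Bf, ((p ^ blockDefect p B).totient : ℝ) ≤ ∑ ψ ∈ Bf, ∑ γ ∈ Γ,
          Complex.normSq (((p ^ blockDefect p B : ℕ) : ℂ) * E (Qof y) ((y : G) ^ γ) χ₀ ψ) :=
        Finset.sum_le_sum (fun ψ hψ => hcyc ψ (Finset.mem_filter.mp hψ).2)
      have e3 : ∑ ψ ∈ Bf, ∑ γ ∈ Γ,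
          Complex.normSq (((p ^ blockDefect p B : ℕ) : ℂ) * E (Qof y) ((y : G) ^ γ) χ₀ ψ) ≤
          ∑ ψ : IrrCharacter G, ∑ γ ∈ Γ,
          Complex.normSq (((p ^ blockDefect p B : ℕ) : ℂ) * E (Qof y) ((y : G) ^ γ) χ₀ ψ) :=
        Finset.sum_le_sum_of_subset_of_nonneg (Finset.subset_univ _)
          (fun ψ _ _ => Finset.sum_nonneg (fun γ _ => Complex.normSq_nonneg _))
      have e4 : ∑ ψ : IrrCharacter G, ∑ γ ∈ Γ,
          Complex.normSq (((p ^ blockDefect p B : ℕ) : ℂ) * E (Qof y) ((y : G) ^ γ) χ₀ ψ) =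
          ((p ^ (2 * blockDefect p B) : ℕ) : ℝ) * ∑ γ ∈ Γ, R (Qof y) ((y : G) ^ γ) := by
        rw [Finset.sum_comm, Finset.mul_sum]
        refine Finset.sum_congr rfl (fun γ _ => ?_)
        show _ = _ * ∑ ψ : IrrCharacter G, Complex.normSq (E (Qof y) ((y : G) ^ γ) χ₀ ψ)
        rw [Finset.mul_sum]
        refine Finset.sum_congr rfl (fun ψ _ => ?_)
        rw [Complex.normSq_mul, Complex.normSq_natCast]
        congr 1
        push_cast
        ring
      rw [e1]
      exact le_trans e2 (le_trans e3 (le_of_eq e4))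
    have hRr : ∀ (y : D) (γ : ℕ), Nat.Coprime (p ^ blockDefect p B) γ →
        R (Qof y) ((y : G) ^ γ) = r (y ^ γ) := by
      intro y γ hγ
      have hdvd : orderOf (y : G) ∣ p ^ blockDefect p B := by
        rw [Subgroup.orderOf_coe, ← hcardD]
        exact orderOf_dvd_natCard y
      have hcop : Nat.Coprime γ (orderOf (y : G)) := (Nat.Coprime.coprime_dvd_left hdvd hγ).symm
      have hQeq : Qof (y ^ γ) = Qof y := by
        apply Subtype.ext
        show Subgroup.zpowers ((y ^ γ : D) : G) = Subgroup.zpowers (y : G)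
        rw [SubmonoidClass.coe_pow]
        exact zpowers_pow_eq_of_coprime _ hcop
      show R (Qof y) ((y : G) ^ γ) = R (Qof (y ^ γ)) ((y ^ γ : D) : G)
      rw [hQeq, SubmonoidClass.coe_pow]
    have hφpos : (0 : ℝ) < ((p ^ blockDefect p B).totient : ℝ) := by
      exact_mod_cast Nat.totient_pos.mpr hpd0
    have hΓcard : Γ.card = (p ^ blockDefect p B).totient :=
      (Nat.totient_eq_card_coprime (p ^ blockDefect p B)).symm
    have hsumγ : ∀ γ ∈ Γ, ∑ y : D, r (y ^ γ) = ∑ y : D, r y := by
      intro γ hγ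
      have hcop : (Nat.card D).Coprime γ := by
        rw [hcardD]
        exact (Finset.mem_filter.mp hγ).2
      exact Equiv.sum_comp (powCoprime hcop) r
    have hup : (Nat.card D : ℝ) * ((Nat.card B : ℝ) * ((p ^ blockDefect p B).totient : ℝ)) ≤
        ((p ^ (2 * blockDefect p B) : ℕ) : ℝ) *
          (((p ^ blockDefect p B).totient : ℝ) * C χ₀) := by
      have e1 : (Nat.card D : ℝ) * ((Nat.card B : ℝ) * ((p ^ blockDefect p B).totient : ℝ)) =
          ∑ y : D, (Nat.card B : ℝ) * ((p ^ blockDefect p B).totient : ℝ) := by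
        rw [Finset.sum_const, nsmul_eq_mul, Finset.card_univ, ← Nat.card_eq_fintype_card]
      have e2 : ∑ y : D, ((p ^ (2 * blockDefect p B) : ℕ) : ℝ) *
          ∑ γ ∈ Γ, R (Qof y) ((y : G) ^ γ) =
          ((p ^ (2 * blockDefect p B) : ℕ) : ℝ) *
            (((p ^ blockDefect p B).totient : ℝ) * C χ₀) := by
        rw [← Finset.mul_sum, Finset.sum_comm]
        congr 1
        have e3 : ∀ γ ∈ Γ, ∑ y : D, R (Qof y) ((y : G) ^ γ) = ∑ y : D, r y := by
          intro γ hγ
          rw [← hsumγ γ hγ]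
          exact Finset.sum_congr rfl (fun y _ => hRr y γ (Finset.mem_filter.mp hγ).2)
        rw [Finset.sum_congr rfl e3, Finset.sum_const, nsmul_eq_mul, hΓcard, hrsum]
      rw [e1, ← e2]
      exact Finset.sum_le_sum (fun y _ => hamgm y)
    -- conclude
    have hDr : (Nat.card D : ℝ) = ((p ^ blockDefect p B : ℕ) : ℝ) := by rw [hcardD]
    have hpdr : (0 : ℝ) < ((p ^ blockDefect p B : ℕ) : ℝ) := by exact_mod_cast hpd0
    have h2d : ((p ^ (2 * blockDefect p B) : ℕ) : ℝ) =
        ((p ^ blockDefect p B : ℕ) : ℝ) * ((p ^ blockDefect p B : ℕ) : ℝ) := by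
      push_cast
      ring
    rw [hDr, h2d] at hup
    have hfin : (Nat.card B : ℝ) ≤ ((p ^ blockDefect p B : ℕ) : ℝ) := by
      have h3 : ((p ^ blockDefect p B : ℕ) : ℝ) * ((p ^ blockDefect p B).totient : ℝ) *
          (Nat.card B : ℝ) ≤ ((p ^ blockDefect p B : ℕ) : ℝ) *
          ((p ^ blockDefect p B).totient : ℝ) * ((p ^ blockDefect p B : ℕ) : ℝ) := by
        have hCle := hC1 χ₀
        have hC0' := hC0 χ₀
        nlinarith [mul_pos hpdr hφpos, mul_pos (mul_pos hpdr hφpos) hpdr]
      exact le_of_mul_le_mul_left h3 (mul_pos hpdr hφpos)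
    rw [hcardD]
    exact_mod_cast hfin
  have hkeq : Nat.card B = Nat.card D := le_antisymm hkle (hDle.trans hlow)
  refine ⟨hkeq, ?_⟩
  have hall : ∀ y : D, blockRank p (f (Qof y)) = 1 := by
    by_contra hcon
    rw [not_forall] at hcon
    obtain ⟨y₁, hy₁⟩ := hcon
    have h2 : 1 < blockRank p (f (Qof y₁)) := lt_of_le_of_ne (hl1 y₁) (Ne.symm hy₁)
    have hlt : ∑ y : D, 1 < ∑ y : D, blockRank p (f (Qof y)) :=
      Finset.sum_lt_sum (fun y _ => hl1 y) ⟨y₁, Finset.mem_univ _, h2⟩
    rw [Finset.sum_const, smul_eq_mul, mul_one, Finset.card_univ, ← Nat.card_eq_fintype_card] at hlt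
    omega
  have h1 := hall 1
  have htop : Subgroup.centralizer (((Qof 1 : Subgroup G)) : Set G) = ⊤ := by
    show Subgroup.centralizer ((Subgroup.zpowers ((1 : D) : G) : Subgroup G) : Set G) = ⊤
    rw [Subgroup.coe_one, Subgroup.zpowers_one_eq_bot, Subgroup.centralizer_eq_top_iff_subset]
    intro z hz
    have : z = 1 := hz
    rw [this]
    exact Subgroup.one_mem _
  rw [blockRank_eq_of_isInducedBlock_top _ htop (hind (Qof 1))] at h1
  exact h1

end Main

end Cfsg.Agent.Helper77
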