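import Cfsg.Agent.Helper77.SubsectionOrth
import Cfsg.Agent.Helper77.MajorNonvanish
import Cfsg.Agent.Helper77.AbelianNilpotent
import Cfsg.Agent.Helper77.BlockRank

/-!
# Auxiliary lemmas for the count of characters in a nilpotent block with abelian defect group

(helper77, file 54.)
-/

set_option autoImplicit false
set_option linter.unusedSectionVars false
set_option linter.unusedVariables false

namespace Cfsg.Agent.Helper77

open Cfsg
open scoped ComplexConjugate
open Cfsg.Agent.Helper16 (contribE)

section Rank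

variable {H H' : Type*} [Group H] [Group H'] [Fintype H] [Fintype H']

/-- The `p`-regular rank of a non-empty set of irreducible characters is positive. -/
theorem blockRank_pos (p : ℕ) [Fact p.Prime] {b : Set (IrrCharacter H)} (hne : b.Nonempty) :
    0 < blockRank p b := by
  obtain ⟨θ, hθ⟩ := hne
  have hp : p.Prime := Fact.out
  unfold blockRank
  have hmem : pRegularPart p (θ : H → ℂ) ∈ Submodule.span ℂ
      ((fun χ : IrrCharacter H => pRegularPart p (χ : H → ℂ)) '' b) :=
    Submodule.subset_span ⟨θ, hθ, rfl⟩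
  have hne0 : pRegularPart p (θ : H → ℂ) ≠ 0 := by
    intro h
    have h1 := congrFun h 1
    have h2 : pRegularPart p (θ : H → ℂ) 1 = (θ : H → ℂ) 1 := by
      apply pRegularPart_of_reg
      rw [orderOf_one]
      exact hp.one_lt.ne' ∘ Nat.dvd_one.mp
    rw [h2] at h1
    exact Helper16.irr_one_ne_zero θ h1
  rw [Module.finrank_pos_iff_exists_ne_zero]
  exact ⟨⟨_, hmem⟩, fun h => hne0 (congrArg Subtype.val h)⟩

/-- The `p`-regular rank is invariant under isomorphisms. -/
theorem blockRank_image_irrMap (p : ℕ) (σ : H ≃* H') (b : Set (IrrCharacter H)) :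
    blockRank p (Helper78.irrMap σ '' b) = blockRank p b := by
  classical
  let L : (H → ℂ) ≃ₗ[ℂ] (H' → ℂ) := LinearEquiv.funCongrLeft ℂ ℂ σ.symm.toEquiv
  have hL : ∀ (f : H → ℂ) (h' : H'), L f h' = f (σ.symm h') := fun f h' => rfl
  have hreg : ∀ θ : IrrCharacter H, L (pRegularPart p (θ : H → ℂ)) =
      pRegularPart p (Helper78.irrMap σ θ : H' → ℂ) := by
    intro θ
    funext h'
    rw [hL]
    have ho : orderOf (σ.symm h') = orderOf h' := MulEquiv.orderOf_eq σ.symm h'
    by_cases hd : p ∣ orderOf h'
    · rw [pRegularPart_of_sing hd, pRegularPart_of_sing (by rw [ho]; exact hd)]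
    · rw [pRegularPart_of_reg hd, pRegularPart_of_reg (by rw [ho]; exact hd),
        Helper78.irrMap_apply]
  unfold blockRank
  have himg : (fun χ : IrrCharacter H' => pRegularPart p (χ : H' → ℂ)) '' (Helper78.irrMap σ '' b) =
      L '' ((fun χ : IrrCharacter H => pRegularPart p (χ : H → ℂ)) '' b) := by
    rw [Set.image_image, Set.image_image]
    apply Set.image_congr
    intro θ _
    exact (hreg θ).symm
  rw [himg]
  have hspan : Submodule.span ℂ (L '' ((fun χ : IrrCharacter H => pRegularPart p (χ : H → ℂ)) '' b)) =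
      (Submodule.span ℂ ((fun χ : IrrCharacter H => pRegularPart p (χ : H → ℂ)) '' b)).map
        (L : (H → ℂ) →ₗ[ℂ] (H' → ℂ)) := by
    rw [Submodule.map_span]
    rfl
  rw [hspan]
  exact LinearEquiv.finrank_map_eq L _

end Rank

section Top

variable {G : Type*} [Group G] [Fintype G] {M : Ideal AlgInt} {p : ℕ}

/-- The induced central character from the whole group is the central character. -/
theorem inducedCentralChar_top (ξ : IrrCharacter (⊤ : Subgroup G)) (g : G) :
    inducedCentralChar (⊤ : Subgroup G) (ξ : (⊤ : Subgroup G) → ℂ) g =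
      centralChar (Helper78.irrMap (Subgroup.topEquiv : (⊤ : Subgroup G) ≃* G) ξ : G → ℂ) g := by
  classical
  have hfin : Fintype (⊤ : Subgroup G) := Fintype.ofFinite _
  rw [Helper16.inducedCentralChar_eq_omega,
    ← Helper16.omega_classInd _ (Helper16.irr_isClassFunction _) g, Helper78.omega_irrMap]
  rfl

/-- A block of the whole group (seen as a subgroup) inducing `B` has the `p`-regular rank of
`B`. -/
theorem blockRank_eq_of_isInducedBlock_top [hMp : M.IsPrime] (K : Subgroup G) [Fintype K]
    (hK : K = ⊤) {b : Set (IrrCharacter K)} {B : Set (IrrCharacter G)}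
    (hind : IsInducedBlock M K b B) : blockRank p b = blockRank p B := by
  classical
  subst hK
  obtain ⟨hb, hB, hcong⟩ := hind
  obtain ⟨ξ, hξ⟩ := Helper78.isPBlock_nonempty hMp hb
  obtain ⟨χ, hχ⟩ := Helper78.isPBlock_nonempty hMp hB
  have hmem : Helper78.irrMap (Subgroup.topEquiv : (⊤ : Subgroup G) ≃* G) ξ ∈ B := by
    rw [Helper78.isPBlock_eq_blockOf_of_mem hMp hB hχ]
    apply Helper78.sameBlock_symm
    intro g
    have := hcong ξ hξ χ hχ g
    rwa [inducedCentralChar_top] at this
  have himg : Helper78.irrMap (Subgroup.topEquiv : (⊤ : Subgroup G) ≃* G) '' b = B :=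
    Helper78.isPBlock_eq_of_mem_of_mem hMp (isPBlock_image_irrMap _ hb) hB ⟨ξ, hξ, rfl⟩ hmem
  rw [← himg, blockRank_image_irrMap]

end Top

section Local

variable {G : Type*} [Group G] [Fintype G] {M : Ideal AlgInt} {p : ℕ}

/-- For an abelian `p`-subgroup `Q`, the block of a Brauer pair `(Q, f)` of `B` induces `B`. -/
theorem isInducedBlock_of_isBrauerPairOf_of_le_centralizer [Fact p.Prime] (hM : IsPModular p M)
    (B : Set (IrrCharacter G)) (Q : Subgroup G)
    (f : Set (IrrCharacter (Subgroup.centralizer (Q : Set G))))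
    (hQab : Q ≤ Subgroup.centralizer (Q : Set G)) (hBf : IsBrauerPairOf p M B Q f) :
    IsInducedBlock M (Subgroup.centralizer (Q : Set G)) f B := by
  classical
  have hfin : Fintype (Subgroup.centralizer (Q : Set G)) := Fintype.ofFinite _
  have hHC : Subgroup.centralizer (Q : Set G) ≤
      Subgroup.normalizer ((Subgroup.centralizer (Q : Set G) : Subgroup G) : Set G) :=
    Subgroup.le_normalizer
  refine isInducedBlock_of_covering hM Q (Subgroup.centralizer (Q : Set G)) hBf.1.1 hQab le_rfl
    (Subgroup.centralizer_le_normalizer _) hHC B f hBf f hBf.1.2 ?_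
  intro t
  rw [orbitSum_of_stable _ _ hHC f (fun y hy => stabilizesBlock_of_mem_self _ f y hy), extFun_coe]

/-- **No fusion**: in a nilpotent block with abelian defect group `P`, a conjugation between
subpairs of the maximal pair `(P, e)` is trivial on the subgroup. -/
theorem conj_eq_self_of_isNilpotentBlock_of_abelian [Fact p.Prime] (hM : IsPModular p M)
    (B : Set (IrrCharacter G)) (P : Subgroup G)
    (e : Set (IrrCharacter (Subgroup.centralizer (P : Set G))))
    (hmax : IsMaximalBrauerPair p M B P e) (hab : ∀ x ∈ P, ∀ y ∈ P, x * y = y * x)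
    (hnil : IsNilpotentBlock p M B) (Q : Subgroup G)
    (f : Set (IrrCharacter (Subgroup.centralizer (Q : Set G)))) (hQP : Q ≤ P)
    (hle : SubpairLE p M Q f P e) (g : G)
    (hle' : SubpairLE p M (Q.map (MulAut.conj g).toMonoidHom) (conjBlock Q g f) P e) :
    ∀ q ∈ Q, g * q * g⁻¹ = q := by
  have hF := isBlockFusionSystemOn_blockFusionSystem hM B P e hmax
  have hinner := eq_inner_of_isNilpotentBlock hM B P e _ hF hnil
  have hmem := (hF.2 Q ((MulAut.conj g).toMonoidHom.comp Q.subtype)).mpr
    ⟨hQP, g, fun u => rfl, le_of_reflTransGen hle', f, hle, hle'⟩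
  rw [hinner] at hmem
  obtain ⟨_, u, hu, hconj⟩ := hmem
  intro q hq
  have h1 : g * q * g⁻¹ = u * q * u⁻¹ := hconj ⟨q, hq⟩
  rw [h1, hab u hu q (hQP hq)]
  exact mul_inv_cancel_right q u

/-- **No fusion**, isomorphism form. -/
theorem conj_eq_self_of_irrMap_image_eq [Fact p.Prime] (hM : IsPModular p M)
    (B : Set (IrrCharacter G)) (P : Subgroup G)
    (e : Set (IrrCharacter (Subgroup.centralizer (P : Set G))))
    (hmax : IsMaximalBrauerPair p M B P e) (hab : ∀ x ∈ P, ∀ y ∈ P, x * y = y * x)
    (hnil : IsNilpotentBlock p M B) (Q Q' : Subgroup G)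
    (f : Set (IrrCharacter (Subgroup.centralizer (Q : Set G))))
    (f' : Set (IrrCharacter (Subgroup.centralizer (Q' : Set G)))) (hQP : Q ≤ P)
    (hle : SubpairLE p M Q f P e) (hle' : SubpairLE p M Q' f' P e) (g : G)
    (hQQ' : Q.map (MulAut.conj g).toMonoidHom = Q')
    (σ : Subgroup.centralizer (Q : Set G) ≃* Subgroup.centralizer (Q' : Set G))
    (hσ : ∀ c : Subgroup.centralizer (Q : Set G), ((σ c : _) : G) = g * (c : G) * g⁻¹)
    (hff' : Helper78.irrMap σ '' f = f') :
    ∀ q ∈ Q, g * q * g⁻¹ = q := by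
  subst hQQ'
  have hσ' : σ = centConj Q g := by
    apply MulEquiv.ext
    intro c
    apply Subtype.ext
    rw [hσ c, coe_centConj_apply]
  subst hff'
  rw [hσ', ← conjBlock_eq_image] at hle'
  exact conj_eq_self_of_isNilpotentBlock_of_abelian hM B P e hmax hab hnil Q f hQP hle g hle'

end Local

section Zpowers

variable {G : Type*} [Group G]

theorem zpowers_pow_eq_of_coprime (y : G) {γ : ℕ} (h : Nat.Coprime γ (orderOf y)) :
    Subgroup.zpowers (y ^ γ) = Subgroup.zpowers y := by
  apply le_antisymm
  · rw [Subgroup.zpowers_le]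
    exact Subgroup.npow_mem_zpowers y γ
  · obtain ⟨m, hm⟩ := exists_pow_eq_self_of_coprime h
    rw [Subgroup.zpowers_le]
    have := Subgroup.npow_mem_zpowers (y ^ γ) m
    rwa [hm] at this

end Zpowers

end Cfsg.Agent.Helper77
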