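import Cfsg.Agent.Helper16.HeightZeroSection
import Cfsg.Agent.Helper16.StableBlock
import Cfsg.Agent.Helper74.LinTwist
import Cfsg.Agent.Helper82.CosetOrth
import Cfsg.Agent.Helper77.BlockRank

/-!
# Blocks with abelian defect groups over a stable block of a normal subgroup of `p`-power index

(helper77, file 50.)
-/

set_option autoImplicit false
set_option linter.unusedSectionVars false
set_option linter.unusedVariables false

namespace Cfsg.Agent.Helper77

open Cfsg
open scoped ComplexConjugate Pointwise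

section NV

variable {G : Type*} [Group G] [Fintype G] {M : Ideal AlgInt} {p : ℕ}

/-- **Every character of a block is non-zero somewhere on the `p`-section of a central element of
a defect group** (any height). -/
theorem exists_ne_zero_of_mem_center_defectGroup [Fact p.Prime] (hM : IsPModular p M)
    {B : Set (IrrCharacter G)} (hB : IsPBlock M B) (D : Subgroup G)
    (hD : IsDefectGroup p M B D) (χ : IrrCharacter G) (hχ : χ ∈ B) (x : G) (hx : x ∈ D)
    (hxc : ∀ y ∈ D, x * y = y * x) :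
    ∃ k : G, ¬ p ∣ orderOf k ∧ Commute x k ∧ (χ : G → ℂ) (x * k) ≠ 0 := by
  classical
  have hMp : M.IsPrime := Helper16.IsPModular.isPrime hM
  have hp : p.Prime := Fact.out
  have hcardD := card_defectGroup hM hB D hD
  have hDp : IsPGroup p D := IsPGroup.of_card hcardD
  obtain ⟨k, hk, S, hDdef⟩ := id hD
  have hkreg : ¬ p ∣ orderOf k := by
    intro hdvd
    apply hk.2.1
    rw [blockCoeff_eq_zero_of_dvd_orderOf hM hB k hdvd]
    exact Helper16.memLocalIdeal_zero
  have hDk : ∀ y ∈ D, Commute y k := by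
    intro y hy
    rw [hDdef] at hy
    obtain ⟨c, hc, rfl⟩ := hy
    have := c.2
    rw [Subgroup.mem_centralizer_iff] at this
    exact (this k (Set.mem_singleton k)).symm
  have hxk : Commute x k := hDk x hx
  obtain ⟨j, hj⟩ := hDp ⟨x, hx⟩
  have hxj : x ^ p ^ j = 1 := by
    have := congrArg (fun t : D => (t : G)) hj
    simpa using this
  obtain ⟨χ₀, hχ₀, hdef, hmin⟩ := Helper16.exists_height_zero' p B ⟨χ, hχ⟩
  have hle0 : (charDegree (χ₀ : G → ℂ)).factorization p ≤ (Nat.card G).factorization p :=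
    Helper16.factorization_charDegree_le p χ₀
  have h0 : blockHeight p B (χ₀ : G → ℂ) = 0 := by
    rw [Helper16.blockHeight_eq_zero_iff p hχ₀]
    have h1 := Helper16.minExp_le_of_mem p hχ₀
    have h2 := Helper16.blockDefect_eq p B
    omega
  -- the centralizer of `x * k`
  have hDg : D ≤ Subgroup.centralizer ({x * k} : Set G) := by
    intro y hy
    rw [Subgroup.mem_centralizer_singleton_iff]
    have h1 : y * x = x * y := (hxc y hy).symm
    have h2 : y * k = k * y := (hDk y hy).eq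
    calc y * (x * k) = (y * x) * k := by rw [mul_assoc]
      _ = x * (y * k) := by rw [h1, mul_assoc]
      _ = x * k * y := by rw [h2, mul_assoc]
  have hgk : Subgroup.centralizer ({x * k} : Set G) ≤ Subgroup.centralizer ({k} : Set G) := by
    intro y hy
    rw [Subgroup.mem_centralizer_singleton_iff] at hy ⊢
    have h1 : Commute y (x * k) := hy
    have h2 : Commute y ((x * k) ^ p ^ j) := h1.pow_right _
    rw [hxk.mul_pow, hxj, one_mul] at h2
    have hcop : Nat.Coprime (p ^ j) (orderOf k) :=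
      Nat.Coprime.pow_left j ((Nat.Prime.coprime_iff_not_dvd hp).mpr hkreg)
    obtain ⟨m, hm⟩ := exists_pow_eq_self_of_coprime hcop
    have h3 : Commute y ((k ^ p ^ j) ^ m) := h2.pow_right m
    rw [hm] at h3
    exact h3.eq
  have hcardS : Nat.card S = Nat.card D := by
    rw [hDdef, Subgroup.card_map_of_injective (Subgroup.subtype_injective _)]
  have hexpk : (Nat.card (Subgroup.centralizer ({k} : Set G))).factorization p =
      blockDefect p B := by
    have h1 := S.card_eq_multiplicity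
    rw [hcardS, hcardD] at h1
    exact (Nat.pow_right_injective hp.two_le h1).symm
  have hexpg : (Nat.card (Subgroup.centralizer ({x * k} : Set G))).factorization p =
      blockDefect p B := by
    apply le_antisymm
    · rw [← hexpk]
      exact (Nat.factorization_le_iff_dvd Nat.card_pos.ne' Nat.card_pos.ne').mpr
        (Subgroup.card_dvd_of_le hgk) p
    · have h1 : p ^ blockDefect p B ∣ Nat.card (Subgroup.centralizer ({x * k} : Set G)) := by
        rw [← hcardD]
        exact Subgroup.card_dvd_of_le hDg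
      exact (hp.pow_dvd_iff_le_factorization Nat.card_pos.ne').mp h1
  have hidx0 : (Subgroup.centralizer ({x * k} : Set G)).index ≠ 0 :=
    Subgroup.index_ne_zero_of_finite
  have hfac := Helper16.factorization_card_eq p (x * k)
  have hcmp : (Subgroup.centralizer ({x * k} : Set G)).index.factorization p ≤
      (charDegree (χ₀ : G → ℂ)).factorization p := by
    omega
  have hR := Helper78.memLocalRing_natCast_div hM hidx0 (Helper16.irr_charDegree_ne_zero χ₀) hcmp
  have hd : ((charDegree (χ₀ : G → ℂ) : ℕ) : ℂ) = (χ₀ : G → ℂ) 1 :=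
    Helper80.IsCharacter.charDegree_cast (Helper79.irr_isCharacter χ₀)
  have h10 : (χ₀ : G → ℂ) 1 ≠ 0 := Helper16.irr_one_ne_zero χ₀
  have hω₀ : ¬ MemLocalIdeal M (centralChar (χ₀ : G → ℂ) (x * k)) := by
    intro hcon
    have h1 : (χ₀ : G → ℂ) (x * k) =
        ((charDegree (χ₀ : G → ℂ) : ℂ) /
          ((Subgroup.centralizer ({x * k} : Set G)).index : ℂ)) *
          centralChar (χ₀ : G → ℂ) (x * k) := by
      unfold centralChar
      rw [hd]
      have hidxc : ((Subgroup.centralizer ({x * k} : Set G)).index : ℂ) ≠ 0 := by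
        exact_mod_cast hidx0
      field_simp
    have h2 : MemLocalIdeal M ((χ₀ : G → ℂ) (x * k)) := by
      rw [h1]
      exact Helper16.memLocalIdeal_mul_left hR hcon
    have h3 := Helper78.irr_mul_sub_memLocalIdeal hM χ₀ x k hxk hxj hkreg
    have h4 := Helper16.memLocalIdeal_sub h2 h3
    rw [sub_sub_cancel] at h4
    exact Helper16.irr_not_memLocalIdeal_of_height_zero hM hB χ₀ hχ₀ h0 k hk h4
  have hsame := Helper78.sameBlock_of_mem_of_mem hMp hB hχ hχ₀ (x * k)
  refine ⟨k, hkreg, hxk, ?_⟩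
  intro hzero
  apply hω₀
  have h5 : centralChar (χ : G → ℂ) (x * k) = 0 := by
    unfold centralChar
    rw [hzero, mul_zero, zero_div]
  rw [h5, zero_sub] at hsame
  have := Helper16.memLocalIdeal_neg hsame
  rwa [neg_neg] at this

end NV

section PIndex

variable {G : Type*} [Group G] [Fintype G] {M : Ideal AlgInt} {p : ℕ}
variable (N : Subgroup G) [hN : N.Normal]

/-- A `p`-regular element lies in every normal subgroup of `p`-power index. -/
theorem mem_of_not_dvd_orderOf_of_index [Fact p.Prime] (hidx : ∃ k : ℕ, N.index = p ^ k)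
    {k : G} (hk : ¬ p ∣ orderOf k) : k ∈ N := by
  obtain ⟨m, hm⟩ := hidx
  have h1 : k ^ N.index ∈ N := Subgroup.pow_index_mem N k
  rw [hm] at h1
  have hcop : Nat.Coprime (p ^ m) (orderOf k) :=
    Nat.Coprime.pow_left m ((Nat.Prime.coprime_iff_not_dvd Fact.out).mpr hk)
  obtain ⟨u, hu⟩ := exists_pow_eq_self_of_coprime hcop
  rw [← hu]
  exact N.pow_mem h1 u

/-- A linear character of `G / N` fixing a character of a block with abelian defect group `P`,
`G = N P`, is trivial. -/
theorem monoidHom_eq_one_of_twist_eq [Fact p.Prime] (hM : IsPModular p M)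
    (hidx : ∃ k : ℕ, N.index = p ^ k) {B : Set (IrrCharacter G)} (hB : IsPBlock M B)
    (P : Subgroup G) (hPD : IsDefectGroup p M B P) (hPab : ∀ x ∈ P, ∀ y ∈ P, x * y = y * x)
    (hNP : N ⊔ P = ⊤) (χ : IrrCharacter G) (hχ : χ ∈ B) (ν : G →* ℂˣ)
    (hνN : ∀ n ∈ N, ν n = 1)
    (hfix : ∀ g : G, ((ν g : ℂˣ) : ℂ) * (χ : G → ℂ) g = (χ : G → ℂ) g) : ν = 1 := by
  have hP1 : ∀ y ∈ P, ν y = 1 := by
    intro y hy
    obtain ⟨k, hkreg, hyk, hne⟩ := exists_ne_zero_of_mem_center_defectGroup hM hB P hPD χ hχ y hy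
      (fun z hz => hPab y hy z hz)
    have hkN : k ∈ N := mem_of_not_dvd_orderOf_of_index N hidx hkreg
    have h1 := hfix (y * k)
    have h2 : ((ν (y * k) : ℂˣ) : ℂ) = 1 := by
      have h3 : (((ν (y * k) : ℂˣ) : ℂ) - 1) * (χ : G → ℂ) (y * k) = 0 := by
        rw [sub_mul, h1, one_mul, sub_self]
      rcases mul_eq_zero.mp h3 with h4 | h4
      · exact sub_eq_zero.mp h4
      · exact absurd h4 hne
    have h5 : ν (y * k) = 1 := Units.ext h2
    rw [map_mul, hνN k hkN, mul_one] at h5
    exact h5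
  apply MonoidHom.ext
  intro g
  have hg : g ∈ N ⊔ P := by rw [hNP]; exact Subgroup.mem_top g
  have hmul : (g : G) ∈ (N : Set G) * (P : Set G) := by
    rw [← Subgroup.normal_mul]
    exact hg
  obtain ⟨n, hn, y, hy, rfl⟩ := Set.mem_mul.mp hmul
  rw [map_mul, hνN n hn, hP1 y hy, mul_one, MonoidHom.one_apply]

/-- `G / N` is abelian when `G = N P` with `P` abelian. -/
theorem quotient_comm_of_sup_eq_top (P : Subgroup G)
    (hPab : ∀ x ∈ P, ∀ y ∈ P, x * y = y * x) (hNP : N ⊔ P = ⊤) :
    ∀ a b : G ⧸ N, a * b = b * a := by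
  have hdec : ∀ g : G, ∃ y ∈ P, (g : G ⧸ N) = (y : G ⧸ N) := by
    intro g
    have hg : g ∈ N ⊔ P := by rw [hNP]; exact Subgroup.mem_top g
    have hmul : (g : G) ∈ (N : Set G) * (P : Set G) := by
      rw [← Subgroup.normal_mul]
      exact hg
    obtain ⟨n, hn, y, hy, rfl⟩ := Set.mem_mul.mp hmul
    refine ⟨y, hy, ?_⟩
    rw [QuotientGroup.mk_mul, (QuotientGroup.eq_one_iff n).mpr hn, one_mul]
  intro a b
  obtain ⟨g, rfl⟩ := QuotientGroup.mk_surjective a
  obtain ⟨h, rfl⟩ := QuotientGroup.mk_surjective b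
  obtain ⟨y, hy, e1⟩ := hdec g
  obtain ⟨y', hy', e2⟩ := hdec h
  rw [e1, e2, ← QuotientGroup.mk_mul, ← QuotientGroup.mk_mul, hPab y hy y' hy']

/-- **Every character of `B` restricts irreducibly to `N`** (norm form). -/
theorem classInner_restrict_self [Fact p.Prime] (hM : IsPModular p M)
    (hidx : ∃ k : ℕ, N.index = p ^ k) {B : Set (IrrCharacter G)} (hB : IsPBlock M B)
    (P : Subgroup G) (hPD : IsDefectGroup p M B P) (hPab : ∀ x ∈ P, ∀ y ∈ P, x * y = y * x)
    (hNP : N ⊔ P = ⊤) [Fintype N] (χ : IrrCharacter G) (hχ : χ ∈ B) :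
    classInner (fun n : N => (χ : G → ℂ) n) (fun n : N => (χ : G → ℂ) n) = 1 := by
  classical
  have : Fintype (G ⧸ N) := Fintype.ofFinite _
  have hab := quotient_comm_of_sup_eq_top N P hPab hNP
  have hlin : ∀ lam : IrrCharacter (G ⧸ N), ∃ ν : (G ⧸ N) →* ℂˣ,
      ∀ q, (lam : G ⧸ N → ℂ) q = ((ν q : ℂˣ) : ℂ) := by
    intro lam
    have h1 : (lam : G ⧸ N → ℂ) 1 = 1 := by
      have := Helper82.irr_pow_eq_one_of_comm hab lam.2 (1 : G ⧸ N) 1 (pow_one 1)
      simpa using this
    exact Helper80.IsCharacter.exists_monoidHom (Helper74.irr_isCharacter lam) h1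
  choose ν hν using hlin
  let μ : IrrCharacter (G ⧸ N) → (G →* ℂˣ) := fun lam => (ν lam).comp (QuotientGroup.mk' N)
  have hμ : ∀ lam g, ((μ lam g : ℂˣ) : ℂ) = (lam : G ⧸ N → ℂ) (g : G ⧸ N) := by
    intro lam g
    rw [hν]
    rfl
  have hμN : ∀ lam, ∀ n ∈ N, μ lam n = 1 := by
    intro lam n hn
    show ν lam ((n : G) : G ⧸ N) = 1
    rw [(QuotientGroup.eq_one_iff n).mpr hn, map_one]
  -- column orthogonality in the quotient
  have hcol : ∀ g : G, ∑ lam : IrrCharacter (G ⧸ N), ((μ lam g : ℂˣ) : ℂ) =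
      if g ∈ N then (Nat.card (G ⧸ N) : ℂ) else 0 := by
    intro g
    have h1 := Helper79.column_orthogonality (G := G ⧸ N) (g : G ⧸ N) (1 : G ⧸ N)
    have h2 : ∀ lam : IrrCharacter (G ⧸ N), (lam : G ⧸ N → ℂ) (1 : G ⧸ N) = 1 := by
      intro lam
      rw [hν, map_one, Units.val_one]
    have h3 : ∑ lam : IrrCharacter (G ⧸ N), ((μ lam g : ℂˣ) : ℂ) =
        ∑ lam : IrrCharacter (G ⧸ N), (lam : G ⧸ N → ℂ) (g : G ⧸ N) *
          conj ((lam : G ⧸ N → ℂ) (1 : G ⧸ N)) := by
      refine Finset.sum_congr rfl (fun lam _ => ?_)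
      rw [h2, map_one, mul_one, hμ]
    rw [h3, h1]
    have h4 : IsConj (1 : G ⧸ N) (g : G ⧸ N) ↔ g ∈ N := by
      rw [isConj_one_right, QuotientGroup.eq_one_iff]
    have h5 : Subgroup.centralizer ({(1 : G ⧸ N)} : Set (G ⧸ N)) = ⊤ := by
      ext y
      simp [Subgroup.mem_centralizer_iff]
    simp only [h4, h5, Subgroup.card_top]
  -- the Fourier sum
  have hcard : (Nat.card G : ℂ) = (Nat.card (G ⧸ N) : ℂ) * (Nat.card N : ℂ) := by
    have := Subgroup.card_eq_card_quotient_mul_card_subgroup N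
    exact_mod_cast this
  have hQ0 : (Nat.card (G ⧸ N) : ℂ) ≠ 0 := by
    have : 0 < Nat.card (G ⧸ N) := Nat.card_pos
    exact_mod_cast this.ne'
  have hN0 : (Nat.card N : ℂ) ≠ 0 := by
    have : 0 < Nat.card N := Nat.card_pos
    exact_mod_cast this.ne'
  have hsub : ∑ g : G, (if g ∈ N then (χ : G → ℂ) g * conj ((χ : G → ℂ) g) else 0) =
      ∑ n : N, (χ : G → ℂ) n * conj ((χ : G → ℂ) n) := by
    rw [← Finset.sum_filter]
    exact (Finset.sum_subtype (Finset.univ.filter (fun g : G => g ∈ N)) (by simp)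
      (fun g => (χ : G → ℂ) g * conj ((χ : G → ℂ) g)))
  have hsum : ∑ lam : IrrCharacter (G ⧸ N),
      classInner ((Helper74.twist (μ lam) χ : IrrCharacter G) : G → ℂ) (χ : G → ℂ) =
      classInner (fun n : N => (χ : G → ℂ) n) (fun n : N => (χ : G → ℂ) n) := by
    unfold classInner
    rw [← Finset.mul_sum, Finset.sum_comm]
    have h1 : ∀ g : G, ∑ lam : IrrCharacter (G ⧸ N),
        ((Helper74.twist (μ lam) χ : IrrCharacter G) : G → ℂ) g * conj ((χ : G → ℂ) g) =
        (if g ∈ N then (Nat.card (G ⧸ N) : ℂ) else 0) *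
          ((χ : G → ℂ) g * conj ((χ : G → ℂ) g)) := by
      intro g
      rw [← hcol g, Finset.sum_mul]
      refine Finset.sum_congr rfl (fun lam _ => ?_)
      rw [Helper74.twist_apply, mul_assoc]
    rw [Finset.sum_congr rfl (fun g _ => h1 g)]
    have h2 : ∀ g : G, (if g ∈ N then (Nat.card (G ⧸ N) : ℂ) else 0) *
          ((χ : G → ℂ) g * conj ((χ : G → ℂ) g)) =
        (Nat.card (G ⧸ N) : ℂ) *
          (if g ∈ N then (χ : G → ℂ) g * conj ((χ : G → ℂ) g) else 0) := by
      intro g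
      by_cases hg : g ∈ N
      · rw [if_pos hg, if_pos hg]
      · rw [if_neg hg, if_neg hg, zero_mul, mul_zero]
    rw [Finset.sum_congr rfl (fun g _ => h2 g), ← Finset.mul_sum, hsub, hcard]
    field_simp
  -- the trivial character of the quotient
  let lam₀ : IrrCharacter (G ⧸ N) :=
    ⟨fun q => (((1 : (G ⧸ N) →* ℂˣ) q : ℂˣ) : ℂ), Helper80.isIrrCharacter_of_monoidHom 1⟩
  have hiff : ∀ lam : IrrCharacter (G ⧸ N), Helper74.twist (μ lam) χ = χ ↔ lam = lam₀ := by
    intro lam
    constructor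
    · intro h
      have hfix : ∀ g : G, ((μ lam g : ℂˣ) : ℂ) * (χ : G → ℂ) g = (χ : G → ℂ) g := by
        intro g
        have := congrArg (fun ψ : IrrCharacter G => (ψ : G → ℂ) g) h
        simpa [Helper74.twist_apply] using this
      have h1 := monoidHom_eq_one_of_twist_eq N hM hidx hB P hPD hPab hNP χ hχ (μ lam)
        (hμN lam) hfix
      apply Subtype.ext
      funext q
      obtain ⟨g, rfl⟩ := QuotientGroup.mk_surjective q
      rw [← hμ, h1]
      rfl
    · rintro rfl
      have h1 : μ lam₀ = 1 := by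
        apply MonoidHom.ext
        intro g
        apply Units.ext
        rw [hμ]
        rfl
      rw [h1, Helper74.twist_one]
  rw [← hsum]
  have h3 : ∀ lam : IrrCharacter (G ⧸ N),
      classInner ((Helper74.twist (μ lam) χ : IrrCharacter G) : G → ℂ) (χ : G → ℂ) =
      if lam = lam₀ then 1 else 0 := by
    intro lam
    rw [Helper74.irr_orthonormal]
    by_cases h : lam = lam₀
    · rw [if_pos h, if_pos ((hiff lam).mpr h)]
    · rw [if_neg h, if_neg (fun h' => h ((hiff lam).mp h'))]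
  rw [Finset.sum_congr rfl (fun lam _ => h3 lam), Finset.sum_ite_eq' Finset.univ lam₀,
    if_pos (Finset.mem_univ _)]

/-- **Block ranks agree** when every character of `B` restricts to a member of `b`, every member
of `b` is such a restriction, and `N` has `p`-power index. -/
theorem blockRank_eq_of_restrict [Fact p.Prime] (hidx : ∃ k : ℕ, N.index = p ^ k)
    (b : Set (IrrCharacter N)) (B : Set (IrrCharacter G))
    (hc : ∀ χ ∈ B, ∃ θ ∈ b, ∀ n : N, (χ : G → ℂ) n = (θ : N → ℂ) n)
    (hsurj : ∀ θ ∈ b, ∃ χ ∈ B, ∀ n : N, (χ : G → ℂ) n = (θ : N → ℂ) n) :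
    blockRank p B = blockRank p b := by
  classical
  let R : (G → ℂ) →ₗ[ℂ] (N → ℂ) := LinearMap.funLeft ℂ ℂ (Subtype.val : N → G)
  have hR : ∀ (f : G → ℂ) (n : N), R f n = f n := fun f n => rfl
  have hreg : ∀ g : G, ¬ p ∣ orderOf g → g ∈ N :=
    fun g hg => mem_of_not_dvd_orderOf_of_index N hidx hg
  -- restriction of regular parts
  have hRreg : ∀ (χ : IrrCharacter G) (θ : IrrCharacter N),
      (∀ n : N, (χ : G → ℂ) n = (θ : N → ℂ) n) →
      R (pRegularPart p (χ : G → ℂ)) = pRegularPart p (θ : N → ℂ) := by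
    intro χ θ hres
    funext n
    rw [hR]
    by_cases hn : p ∣ orderOf n
    · have hn' : p ∣ orderOf (n : G) := by rw [Subgroup.orderOf_coe]; exact hn
      rw [pRegularPart_of_sing hn, pRegularPart_of_sing hn']
    · have hn' : ¬ p ∣ orderOf (n : G) := by rw [Subgroup.orderOf_coe]; exact hn
      rw [pRegularPart_of_reg hn, pRegularPart_of_reg hn', hres n]
  let SB : Set (G → ℂ) := (fun χ : IrrCharacter G => pRegularPart p (χ : G → ℂ)) '' B
  let Sb : Set (N → ℂ) := (fun θ : IrrCharacter N => pRegularPart p (θ : N → ℂ)) '' b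
  have himg : R '' SB = Sb := by
    ext f
    constructor
    · rintro ⟨_, ⟨χ, hχ, rfl⟩, rfl⟩
      obtain ⟨θ, hθ, hres⟩ := hc χ hχ
      exact ⟨θ, hθ, (hRreg χ θ hres).symm⟩
    · rintro ⟨θ, hθ, rfl⟩
      obtain ⟨χ, hχ, hres⟩ := hsurj θ hθ
      exact ⟨_, ⟨χ, hχ, rfl⟩, hRreg χ θ hres⟩
  have hmap : (Submodule.span ℂ SB).map R = Submodule.span ℂ Sb := by
    rw [Submodule.map_span, himg]
  -- vanishing off `N`
  let V : Submodule ℂ (G → ℂ) :=
    { carrier := {f | ∀ g : G, g ∉ N → f g = 0}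
      add_mem' := by
        intro f f' hf hf' g hg
        rw [Pi.add_apply, hf g hg, hf' g hg, add_zero]
      zero_mem' := by
        intro g hg
        rfl
      smul_mem' := by
        intro c f hf g hg
        rw [Pi.smul_apply, hf g hg, smul_zero] }
  have hV : Submodule.span ℂ SB ≤ V := by
    rw [Submodule.span_le]
    rintro _ ⟨χ, hχ, rfl⟩ g hg
    have hsing : p ∣ orderOf g := by
      by_contra h
      exact hg (hreg g h)
    exact pRegularPart_of_sing hsing
  have hinj : Function.Injective (R.domRestrict (Submodule.span ℂ SB)) := by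
    intro f f' hff'
    apply Subtype.ext
    funext g
    by_cases hg : g ∈ N
    · have := congrFun hff' ⟨g, hg⟩
      exact this
    · rw [hV f.2 g hg, hV f'.2 g hg]
  have h1 := LinearMap.finrank_range_of_inj hinj
  rw [LinearMap.range_domRestrict, hmap] at h1
  exact h1.symm

/-- A constituent of the restriction of a character of `B` is the restriction. -/
theorem restrict_eq_of_constituent [Fact p.Prime] (hM : IsPModular p M)
    (hidx : ∃ k : ℕ, N.index = p ^ k) {B : Set (IrrCharacter G)} (hB : IsPBlock M B)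
    (P : Subgroup G) (hPD : IsDefectGroup p M B P) (hPab : ∀ x ∈ P, ∀ y ∈ P, x * y = y * x)
    (hNP : N ⊔ P = ⊤) [Fintype N] (χ : IrrCharacter G) (hχ : χ ∈ B) (θ : IrrCharacter N)
    (hne : classInner (fun n : N => (χ : G → ℂ) n) (θ : N → ℂ) ≠ 0) :
    ∀ n : N, (χ : G → ℂ) n = (θ : N → ℂ) n := by
  classical
  have hirr : IsIrrCharacter N (fun n : N => (χ : G → ℂ) n) :=
    Helper74.isIrrCharacter_of_norm_one (Helper74.isCharacter_restrict N (Helper74.irr_isCharacter χ))
      (classInner_restrict_self N hM hidx hB P hPD hPab hNP χ hχ)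
  let χN : IrrCharacter N := ⟨fun n : N => (χ : G → ℂ) n, hirr⟩
  have heq : χN = θ := by
    by_contra h
    have h0 : classInner (χN : N → ℂ) (θ : N → ℂ) = 0 := Helper74.irr_inner_ne h
    exact hne h0
  intro n
  have h1 : (χN : N → ℂ) n = (θ : N → ℂ) n := by rw [heq]
  exact h1

/-- **Main theorem on blocks with abelian defect groups covering a stable block of a normal
subgroup of `p`-power index.** -/
theorem pindex_abelian_main [Fact p.Prime] (hM : IsPModular p M) [Fintype N]
    (hidx : ∃ k : ℕ, N.index = p ^ k) (b : Set (IrrCharacter N)) (hb : IsPBlock M b)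
    (hstab : ∀ g : G, StabilizesBlock N b g) (B : Set (IrrCharacter G)) (hB : IsPBlock M B)
    (hcov : ∃ χ ∈ B, ∃ θ ∈ b, classInner (fun n : N => (χ : G → ℂ) n) (θ : N → ℂ) ≠ 0)
    (P : Subgroup G) (hPD : IsDefectGroup p M B P)
    (hPab : ∀ x ∈ P, ∀ y ∈ P, x * y = y * x) :
    N ⊔ P = ⊤ ∧ IsDefectGroup p M b ((P ⊓ N).subgroupOf N) ∧
      (∀ χ ∈ B, ∃ θ ∈ b, ∀ n : N, (χ : G → ℂ) n = (θ : N → ℂ) n) ∧
      (∀ θ ∈ b, Nat.card {χ : IrrCharacter G // χ ∈ B ∧
        ∀ n : N, (χ : G → ℂ) n = (θ : N → ℂ) n} = N.index) ∧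
      Nat.card B = N.index * Nat.card b ∧ blockRank p B = blockRank p b := by
  classical
  have hMp : M.IsPrime := Helper16.IsPModular.isPrime hM
  have hgs : Helper16.GStable N b := Helper16.gStable_of_stabilizesBlock N hstab
  obtain ⟨B', hB', hmem, hBc⟩ := Helper16.exists_block_over_stable N hM hidx hb hgs
  obtain ⟨χ₁, hχ₁, θ₁, hθ₁, hne₁⟩ := hcov
  have hχ₁' : χ₁ ∈ B' := (hmem χ₁).mpr ⟨θ₁, hθ₁, hne₁⟩
  have hBB' : B = B' := Helper78.isPBlock_eq_of_mem_of_mem hMp hB hB' hχ₁ hχ₁'
  subst hBB'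
  obtain ⟨hNP, hdef⟩ := Helper16.defect_of_stable_block N hM hidx hb hgs hBc hPD
  -- (c)
  have hc : ∀ χ ∈ B, ∃ θ ∈ b, ∀ n : N, (χ : G → ℂ) n = (θ : N → ℂ) n := by
    intro χ hχ
    obtain ⟨θ, hθ, hne⟩ := (hmem χ).mp hχ
    exact ⟨θ, hθ, restrict_eq_of_constituent N hM hidx hB P hPD hPab hNP χ hχ θ hne⟩
  -- uniqueness of the restriction
  have huniq : ∀ (χ : IrrCharacter G) (θ θ' : IrrCharacter N),
      (∀ n : N, (χ : G → ℂ) n = (θ : N → ℂ) n) → (∀ n : N, (χ : G → ℂ) n = (θ' : N → ℂ) n) →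
      θ = θ' := by
    intro χ θ θ' h h'
    apply Subtype.ext
    funext n
    rw [← h n, h' n]
  -- (d)
  have hd : ∀ θ ∈ b, Nat.card {χ : IrrCharacter G // χ ∈ B ∧
      ∀ n : N, (χ : G → ℂ) n = (θ : N → ℂ) n} = N.index := by
    intro θ hθ
    have hexp := congrFun (Helper79.classFunction_expansion
      (Helper15.isClassFunction_indFun N (θ : N → ℂ))) 1
    rw [Helper15.indFun_apply_one, Finset.sum_apply] at hexp
    have hterm : ∀ χ : IrrCharacter G,
        (classInner (indFun N (θ : N → ℂ)) (χ : G → ℂ) • (χ : G → ℂ)) 1 =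
        if (χ ∈ B ∧ ∀ n : N, (χ : G → ℂ) n = (θ : N → ℂ) n) then (θ : N → ℂ) 1 else 0 := by
      intro χ
      rw [Pi.smul_apply, smul_eq_mul,
        Helper15.frobenius_reciprocity N (θ : N → ℂ) (χ : G → ℂ) (Helper79.irr_isClassFunction χ)]
      by_cases hS : (χ ∈ B ∧ ∀ n : N, (χ : G → ℂ) n = (θ : N → ℂ) n)
      · rw [if_pos hS]
        have h1 : (fun n : N => (χ : G → ℂ) n) = (θ : N → ℂ) := funext hS.2
        rw [h1, Helper74.irr_inner_self, one_mul]
        have := hS.2 1
        simpa using this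
      · rw [if_neg hS]
        have h0 : classInner (θ : N → ℂ) (fun n : N => (χ : G → ℂ) n) = 0 := by
          by_contra hne
          apply hS
          have hne' : classInner (fun n : N => (χ : G → ℂ) n) (θ : N → ℂ) ≠ 0 := by
            rw [← Helper74.classInner_conj_symm]
            intro h
            apply hne
            have := congrArg conj h
            simpa using this
          have hχB : χ ∈ B := (hmem χ).mpr ⟨θ, hθ, hne'⟩
          exact ⟨hχB, restrict_eq_of_constituent N hM hidx hB P hPD hPab hNP χ hχB θ hne'⟩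
        rw [h0, zero_mul]
    rw [Finset.sum_congr rfl (fun χ _ => hterm χ), Finset.sum_ite, Finset.sum_const_zero, add_zero,
      Finset.sum_const, nsmul_eq_mul] at hexp
    have hθ1 : (θ : N → ℂ) 1 ≠ 0 := Helper16.irr_one_ne_zero θ
    have h2 : ((N.index : ℕ) : ℂ) = ((Finset.univ.filter (fun χ : IrrCharacter G =>
        χ ∈ B ∧ ∀ n : N, (χ : G → ℂ) n = (θ : N → ℂ) n)).card : ℂ) :=
      mul_right_cancel₀ hθ1 hexp
    rw [Nat.card_eq_fintype_card, Fintype.card_subtype]
    exact_mod_cast h2.symm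
  -- (e)
  have he : Nat.card B = N.index * Nat.card b := by
    rw [Nat.card_eq_fintype_card, Fintype.card_subtype, Nat.card_eq_fintype_card,
      Fintype.card_subtype]
    set tB := Finset.univ.filter (fun χ : IrrCharacter G => χ ∈ B) with htB
    set tb := Finset.univ.filter (fun θ : IrrCharacter N => θ ∈ b) with htb
    have h1 : tB.card = ∑ χ ∈ tB, ∑ θ ∈ tb,
        (if ∀ n : N, (χ : G → ℂ) n = (θ : N → ℂ) n then 1 else 0) := by
      rw [Finset.card_eq_sum_ones]
      refine Finset.sum_congr rfl (fun χ hχ => ?_)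
      have hχB : χ ∈ B := (Finset.mem_filter.mp hχ).2
      obtain ⟨θ, hθ, hres⟩ := hc χ hχB
      rw [Finset.sum_eq_single_of_mem θ (Finset.mem_filter.mpr ⟨Finset.mem_univ _, hθ⟩)]
      · rw [if_pos hres]
      · intro θ' _ hne
        rw [if_neg]
        intro h'
        exact hne (huniq χ θ' θ h' hres)
    rw [h1, Finset.sum_comm]
    have h2 : ∀ θ ∈ tb, ∑ χ ∈ tB,
        (if ∀ n : N, (χ : G → ℂ) n = (θ : N → ℂ) n then 1 else 0) = N.index := by
      intro θ hθ
      have hθb : θ ∈ b := (Finset.mem_filter.mp hθ).2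
      rw [← hd θ hθb, Nat.card_eq_fintype_card, Fintype.card_subtype, ← Finset.card_filter,
        Finset.filter_filter]
    rw [Finset.sum_congr rfl h2, Finset.sum_const, smul_eq_mul, mul_comm]
  refine ⟨hNP, hdef, hc, hd, he, ?_⟩
  -- (f)
  exact blockRank_eq_of_restrict N hidx b B hc (fun θ hθ => by
    have h1 := hd θ hθ
    have hpos : 0 < N.index := Nat.pos_of_ne_zero (Subgroup.index_ne_zero_of_finite)
    rw [← h1] at hpos
    obtain ⟨⟨χ, hχ, hres⟩⟩ := (Nat.card_pos_iff.mp hpos).1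
    exact ⟨χ, hχ, hres⟩)

end PIndex

end Cfsg.Agent.Helper77
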