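import Cfsg.Agent.Helper77.PerfKlein
import Cfsg.Agent.Helper77.BlockRank
import Cfsg.Agent.Helper79.ClassMult

/-!
# The singular expansion of the characters of a block from the rank formula

(helper77, file 62.)
-/

set_option autoImplicit false
set_option linter.unusedSectionVars false
set_option linter.unusedVariables false
set_option maxHeartbeats 1000000

namespace Cfsg.Agent.Helper77

open Cfsg
open scoped ComplexConjugate

section Expand

variable {X : Type*} [Group X] [Fintype X] [Fintype (IrrCharacter X)]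
  {M : Ideal AlgInt} {p : ℕ} {B : Set (IrrCharacter X)} {r : ℕ}
  {d : Fin r → IrrCharacter X → ℤ}

open Classical in
theorem sum_sq_eq_four (hsupp : ∀ i χ, χ ∉ B → d i χ = 0)
    (hsign : ∀ i χ, χ ∈ B → d i χ = 1 ∨ d i χ = -1) (hcard : Nat.card B = 4) (i : Fin r) :
    ∑ ψ : IrrCharacter X, d i ψ * d i ψ = 4 := by
  have h1 : ∀ ψ : IrrCharacter X, d i ψ * d i ψ = if ψ ∈ B then 1 else 0 := by
    intro ψ
    by_cases hψ : ψ ∈ B
    · rw [if_pos hψ]
      rcases hsign i ψ hψ with h | h <;> rw [h] <;> norm_num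
    · rw [if_neg hψ, hsupp i ψ hψ, mul_zero]
  rw [Finset.sum_congr rfl (fun ψ _ => h1 ψ), Finset.sum_boole]
  have : (Finset.univ.filter (fun ψ : IrrCharacter X => ψ ∈ B)).card = Nat.card B := by
    rw [Nat.card_eq_fintype_card, Fintype.card_subtype]
  rw [this, hcard]
  norm_num

/-- the function `χ - (1/4) ∑ i, d i χ • Θ_i` -/
noncomputable def resid (d : Fin r → IrrCharacter X → ℤ) (χ : IrrCharacter X) (g : X) : ℂ :=
  (χ : X → ℂ) g - (1 / 4 : ℂ) * ∑ i, (d i χ : ℂ) * thetaSum (d i) g

open Classical in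
/-- the coefficients of `resid` -/
theorem resid_eq_sum (χ : IrrCharacter X) (g : X) :
    resid d χ g = ∑ ψ : IrrCharacter X,
      (((if ψ = χ then (1 : ℂ) else 0) - (1 / 4 : ℂ) * ∑ i, (d i χ : ℂ) * (d i ψ : ℂ)) *
        (ψ : X → ℂ) g) := by
  unfold resid thetaSum
  simp only [sub_mul, Finset.sum_sub_distrib]
  congr 1
  · rw [Finset.sum_eq_single χ]
    · rw [if_pos rfl, one_mul]
    · intro ψ _ hψ
      rw [if_neg hψ, zero_mul]
    · intro h
      exact absurd (Finset.mem_univ _) h
  · simp only [Finset.mul_sum, Finset.sum_mul]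
    rw [Finset.sum_comm]
    refine Finset.sum_congr rfl (fun ψ _ => Finset.sum_congr rfl (fun i _ => ?_))
    ring

open Classical in
/-- the norm of `resid` -/
theorem classInner_resid (hsupp : ∀ i χ, χ ∉ B → d i χ = 0)
    (hsign : ∀ i χ, χ ∈ B → d i χ = 1 ∨ d i χ = -1) (hcard : Nat.card B = 4)
    (horth : ∀ i k, i ≠ k → ∑ ψ : IrrCharacter X, d i ψ * d k ψ = 0)
    (χ : IrrCharacter X) (hχ : χ ∈ B) :
    classInner (resid d χ) (resid d χ) = 1 - (r : ℂ) / 4 := by
  set c : IrrCharacter X → ℂ := fun ψ =>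
    (if ψ = χ then (1 : ℂ) else 0) - (1 / 4 : ℂ) * ∑ i, (d i χ : ℂ) * (d i ψ : ℂ) with hc
  have hres : resid d χ = fun g => ∑ ψ : IrrCharacter X, c ψ * (ψ : X → ℂ) g := by
    funext g
    exact resid_eq_sum χ g
  have hres' : resid d χ = ∑ ψ : IrrCharacter X, c ψ • (ψ : X → ℂ) := by
    rw [hres]
    funext g
    rw [Finset.sum_apply]
    rfl
  have hcreal : ∀ ψ, conj (c ψ) = c ψ := by
    intro ψ
    simp only [hc, map_sub, map_mul, map_sum, Complex.conj_ofReal]
    have h14 : conj (1 / 4 : ℂ) = 1 / 4 := by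
      rw [map_div₀, map_one]
      congr 1
      exact Complex.conj_ofReal 4
    rw [h14]
    congr 1
    · split_ifs <;> simp
    · congr 1
      refine Finset.sum_congr rfl (fun i _ => ?_)
      rw [map_intCast, map_intCast]
  have h1 : classInner (resid d χ) (resid d χ) = ∑ ψ : IrrCharacter X, c ψ * c ψ := by
    rw [hres', Helper79.classInner_sum_left]
    refine Finset.sum_congr rfl (fun ψ _ => ?_)
    rw [Helper79.classInner_smul_left, Helper79.classInner_sum_right]
    rw [Finset.sum_eq_single ψ]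
    · rw [Helper79.classInner_smul_right, Helper79.classInner_irr_self, hcreal, mul_one]
    · intro ψ' _ hne
      rw [Helper79.classInner_smul_right, Helper79.classInner_irr_ne (Ne.symm hne), mul_zero]
    · intro h
      exact absurd (Finset.mem_univ _) h
  rw [h1]
  -- the integer computation
  set s : IrrCharacter X → ℤ := fun ψ => ∑ i, d i χ * d i ψ with hs
  have hcs : ∀ ψ, c ψ = (if ψ = χ then (1 : ℂ) else 0) - (1 / 4 : ℂ) * (s ψ : ℂ) := by
    intro ψ
    simp only [hc, hs]
    push_cast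
    rfl
  have hsχ : s χ = r := by
    simp only [hs]
    have : ∀ i : Fin r, d i χ * d i χ = 1 := by
      intro i
      rcases hsign i χ hχ with h | h <;> rw [h] <;> norm_num
    rw [Finset.sum_congr rfl (fun i _ => this i)]
    simp
  have hss : ∑ ψ : IrrCharacter X, s ψ * s ψ = 4 * r := by
    have e1 : ∀ ψ, s ψ * s ψ = ∑ i, ∑ k, (d i χ * d k χ) * (d i ψ * d k ψ) := by
      intro ψ
      simp only [hs]
      rw [Finset.sum_mul_sum]
      refine Finset.sum_congr rfl (fun i _ => Finset.sum_congr rfl (fun k _ => ?_))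
      ring
    rw [Finset.sum_congr rfl (fun ψ _ => e1 ψ), Finset.sum_comm]
    have e2 : ∀ i : Fin r, ∑ ψ : IrrCharacter X, ∑ k, (d i χ * d k χ) * (d i ψ * d k ψ) = 4 := by
      intro i
      rw [Finset.sum_comm]
      rw [Finset.sum_eq_single i]
      · rw [← Finset.mul_sum, sum_sq_eq_four hsupp hsign hcard i]
        rcases hsign i χ hχ with h | h <;> rw [h] <;> norm_num
      · intro k _ hne
        rw [← Finset.mul_sum, horth i k (Ne.symm hne), mul_zero]
      · intro h
        exact absurd (Finset.mem_univ _) h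
    rw [Finset.sum_congr rfl (fun i _ => e2 i)]
    simp
    ring
  have e3 : ∀ ψ, c ψ * c ψ = (if ψ = χ then (1 : ℂ) else 0) -
      (1 / 2 : ℂ) * (if ψ = χ then (s ψ : ℂ) else 0) + (1 / 16 : ℂ) * ((s ψ * s ψ : ℤ) : ℂ) := by
    intro ψ
    rw [hcs ψ]
    push_cast
    by_cases h : ψ = χ
    · simp only [if_pos h]; ring
    · simp only [if_neg h]; ring
  rw [Finset.sum_congr rfl (fun ψ _ => e3 ψ), Finset.sum_add_distrib, Finset.sum_sub_distrib,
    ← Finset.mul_sum, ← Finset.mul_sum, ← Int.cast_sum, hss]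
  simp only [Finset.sum_ite_eq', Finset.mem_univ, if_true, hsχ]
  push_cast
  ring

/-- the `p`-regular square norm -/
noncomputable def normReg (p : ℕ) (f : X → ℂ) : ℝ :=
  ∑ g : X, if p ∣ orderOf g then 0 else Complex.normSq (f g)

/-- the total square norm -/
noncomputable def normTot (f : X → ℂ) : ℝ := ∑ g : X, Complex.normSq (f g)

theorem normReg_le_normTot (f : X → ℂ) : normReg p f ≤ normTot f := by
  unfold normReg normTot
  refine Finset.sum_le_sum (fun g _ => ?_)
  split_ifs
  · exact Complex.normSq_nonneg _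
  · exact le_refl _

theorem normTot_eq (f : X → ℂ) : ((normTot f : ℝ) : ℂ) = (Nat.card X : ℂ) * classInner f f := by
  unfold normTot classInner
  rw [← mul_assoc, mul_inv_cancel₀ Helper79.card_ne_zero_complex, one_mul, Complex.ofReal_sum]
  refine Finset.sum_congr rfl (fun g _ => ?_)
  rw [Complex.mul_conj]

open Classical in
/-- the rank formula in terms of regular norms -/
theorem sum_normReg_eq [Fact p.Prime] (hM : IsPModular p M) (hB : IsPBlock M B) :
    ∑ χ : IrrCharacter X, (if χ ∈ B then normReg p (χ : X → ℂ) else 0) =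
      (Nat.card X : ℝ) * (blockRank p B : ℝ) := by
  have h := blockRank_formula hM hB
  have h1 : ∀ x : X, ∑ᶠ χ ∈ B, pRegularPart p (χ : X → ℂ) x * (χ : X → ℂ) x⁻¹ =
      ∑ χ : IrrCharacter X, (if χ ∈ B then
        (((if p ∣ orderOf x then 0 else Complex.normSq ((χ : X → ℂ) x) : ℝ)) : ℂ) else 0) := by
    intro x
    rw [finsum_mem_def, finsum_eq_sum_of_fintype]
    refine Finset.sum_congr rfl (fun χ _ => ?_)
    rw [Set.indicator_apply]
    by_cases hχ : χ ∈ B
    · rw [if_pos hχ, if_pos hχ, Helper79.irr_inv]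
      by_cases hx : p ∣ orderOf x
      · rw [pRegularPart_of_sing hx, if_pos hx, zero_mul, Complex.ofReal_zero]
      · rw [pRegularPart_of_reg hx, if_neg hx, Complex.mul_conj]
    · rw [if_neg hχ, if_neg hχ]
  rw [Finset.sum_congr rfl (fun x _ => h1 x), Finset.sum_comm] at h
  have h2 : ((∑ χ : IrrCharacter X, (if χ ∈ B then normReg p (χ : X → ℂ) else 0) : ℝ) : ℂ) =
      (((Nat.card X : ℝ) * (blockRank p B : ℝ) : ℝ) : ℂ) := by
    push_cast
    rw [h]
    refine Finset.sum_congr rfl (fun χ _ => ?_)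
    by_cases hχ : χ ∈ B
    · simp only [if_pos hχ]
      unfold normReg
      rw [Complex.ofReal_sum]
    · simp only [if_neg hχ, Finset.sum_const_zero, Complex.ofReal_zero]
  exact_mod_cast h2

open Classical in
/-- **The singular expansion.** -/
theorem expand_of_rank [Fact p.Prime] (hM : IsPModular p M) (hB : IsPBlock M B)
    (hsupp : ∀ i χ, χ ∉ B → d i χ = 0)
    (hsign : ∀ i χ, χ ∈ B → d i χ = 1 ∨ d i χ = -1) (hcard : Nat.card B = 4)
    (horth : ∀ i k, i ≠ k → ∑ ψ : IrrCharacter X, d i ψ * d k ψ = 0)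
    (hvan : ∀ i g, IsPRegular p g → thetaSum (d i) g = 0)
    (hrank : blockRank p B + r = 4) :
    ∀ χ ∈ B, ∀ g, ¬ IsPRegular p g →
      (χ : X → ℂ) g = (1 / 4 : ℂ) * ∑ i, (d i χ : ℂ) * thetaSum (d i) g := by
  have hXpos : (0 : ℝ) < (Nat.card X : ℝ) := by
    have : 0 < Nat.card X := Nat.card_pos
    exact_mod_cast this
  -- the total norms
  have htot : ∀ χ ∈ B, normTot (resid d χ) = (Nat.card X : ℝ) * (1 - (r : ℝ) / 4) := by
    intro χ hχ
    have h1 := normTot_eq (resid d χ)
    rw [classInner_resid hsupp hsign hcard horth χ hχ] at h1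
    have h2 : ((normTot (resid d χ) : ℝ) : ℂ) =
        (((Nat.card X : ℝ) * (1 - (r : ℝ) / 4) : ℝ) : ℂ) := by
      rw [h1]
      push_cast
      ring
    exact_mod_cast h2
  -- regular norms
  have hreg : ∀ χ : IrrCharacter X, normReg p (resid d χ) = normReg p (χ : X → ℂ) := by
    intro χ
    unfold normReg
    refine Finset.sum_congr rfl (fun g _ => ?_)
    by_cases hg : p ∣ orderOf g
    · rw [if_pos hg, if_pos hg]
    · rw [if_neg hg, if_neg hg]
      congr 1
      unfold resid
      have : ∀ i, thetaSum (d i) g = 0 := fun i => hvan i g hg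
      simp only [this, mul_zero, Finset.sum_const_zero, sub_zero]
  have hle : ∀ χ ∈ B, normReg p (χ : X → ℂ) ≤ (Nat.card X : ℝ) * (1 - (r : ℝ) / 4) := by
    intro χ hχ
    rw [← hreg χ, ← htot χ hχ]
    exact normReg_le_normTot _
  have hsum := sum_normReg_eq hM hB
  have hcardB : (Finset.univ.filter (fun ψ : IrrCharacter X => ψ ∈ B)).card = 4 := by
    rw [← hcard, Nat.card_eq_fintype_card, Fintype.card_subtype]
  have hrank' : (blockRank p B : ℝ) = 4 - (r : ℝ) := by
    have : ((blockRank p B + r : ℕ) : ℝ) = 4 := by rw [hrank]; norm_num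
    push_cast at this
    linarith
  -- each gap is zero
  have hgap : ∑ χ : IrrCharacter X, (if χ ∈ B then
      ((Nat.card X : ℝ) * (1 - (r : ℝ) / 4) - normReg p (χ : X → ℂ)) else 0) = 0 := by
    have e1 : ∀ χ : IrrCharacter X, (if χ ∈ B then
        ((Nat.card X : ℝ) * (1 - (r : ℝ) / 4) - normReg p (χ : X → ℂ)) else 0) =
        (if χ ∈ B then (Nat.card X : ℝ) * (1 - (r : ℝ) / 4) else 0) -
          (if χ ∈ B then normReg p (χ : X → ℂ) else 0) := by
      intro χ
      by_cases hχ : χ ∈ B
      · simp only [if_pos hχ]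
      · simp only [if_neg hχ, sub_zero]
    rw [Finset.sum_congr rfl (fun χ _ => e1 χ), Finset.sum_sub_distrib, hsum,
      ← Finset.sum_filter, Finset.sum_const, hcardB, hrank']
    simp
    ring
  have hgap0 : ∀ χ ∈ B, normReg p (χ : X → ℂ) = (Nat.card X : ℝ) * (1 - (r : ℝ) / 4) := by
    intro χ hχ
    have hnn : ∀ ψ ∈ (Finset.univ : Finset (IrrCharacter X)), (0 : ℝ) ≤ (if ψ ∈ B then
        ((Nat.card X : ℝ) * (1 - (r : ℝ) / 4) - normReg p (ψ : X → ℂ)) else 0) := by
      intro ψ _
      by_cases hψ : ψ ∈ B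
      · rw [if_pos hψ]
        linarith [hle ψ hψ]
      · rw [if_neg hψ]
    have := (Finset.sum_eq_zero_iff_of_nonneg hnn).mp hgap χ (Finset.mem_univ χ)
    rw [if_pos hχ] at this
    linarith
  intro χ hχ g hg
  have hg' : p ∣ orderOf g := by
    by_contra h
    exact hg h
  -- the singular norm of the residual vanishes
  have hsing : ∑ x : X, (if p ∣ orderOf x then Complex.normSq (resid d χ x) else 0) = 0 := by
    have e1 : ∀ x : X, (if p ∣ orderOf x then Complex.normSq (resid d χ x) else 0) =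
        Complex.normSq (resid d χ x) -
          (if p ∣ orderOf x then 0 else Complex.normSq (resid d χ x)) := by
      intro x
      by_cases hx : p ∣ orderOf x
      · simp only [if_pos hx, sub_zero]
      · simp only [if_neg hx, sub_self]
    rw [Finset.sum_congr rfl (fun x _ => e1 x), Finset.sum_sub_distrib]
    have e2 : ∑ x : X, Complex.normSq (resid d χ x) = normTot (resid d χ) := rfl
    have e3 : ∑ x : X, (if p ∣ orderOf x then 0 else Complex.normSq (resid d χ x)) =
        normReg p (resid d χ) := rfl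
    rw [e2, e3, htot χ hχ, hreg χ, hgap0 χ hχ, sub_self]
  have hnn : ∀ x ∈ (Finset.univ : Finset X), (0 : ℝ) ≤
      (if p ∣ orderOf x then Complex.normSq (resid d χ x) else 0) := by
    intro x _
    split_ifs
    · exact Complex.normSq_nonneg _
    · exact le_refl _
  have h0 := (Finset.sum_eq_zero_iff_of_nonneg hnn).mp hsing g (Finset.mem_univ g)
  rw [if_pos hg'] at h0
  have h1 : resid d χ g = 0 := Complex.normSq_eq_zero.mp h0
  unfold resid at h1
  exact sub_eq_zero.mp h1

end Expand

end Cfsg.Agent.Helper77
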