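import Cfsg.Agent.Helper77.MajorNonvanish
import Cfsg.Agent.Helper16.Contribution5
import Cfsg.Agent.Helper16.SylowIn
import Cfsg.Agent.Helper78.PSection

/-!
# Evaluation of the rows of the contribution matrix of a subsection

For a `p`-element `x`, a block `b` of `C_G(x)` and `χ ∈ Irr(G)`, the class function
`g ↦ ∑_ζ m^{(x,b)}_{χζ} ζ(g)` vanishes off the `p`-section of `x`, and takes the value
`χ^{(x,b)}(t)` at `x t`.  It has local-integer values, and `p^{d(b)}` times its value at `g`,
divided by `|C_G(g)|`, is a local integer.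

(helper77, file 63.)
-/

set_option autoImplicit false
set_option linter.unusedSectionVars false
set_option linter.unusedVariables false
set_option maxHeartbeats 1000000

namespace Cfsg.Agent.Helper77

open Cfsg
open scoped ComplexConjugate
open Cfsg.Agent.S4426 (cut)
open Cfsg.Agent.Helper16

section Eval

variable {G : Type*} [Group G] [Fintype G] {M : Ideal AlgInt} {p : ℕ}

open Classical in
/-- the general formula for a row of the contribution matrix, evaluated at `g` -/
theorem sum_contribE_mul_irr (x : G) [Fintype (Subgroup.centralizer ({x} : Set G))]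
    (b : Set (IrrCharacter (Subgroup.centralizer ({x} : Set G)))) {φ : G → ℂ}
    (hφ : IsClassFunction G φ) (g : G) :
    ∑ ζ : IrrCharacter G,
      contribE p (Subgroup.centralizer ({x} : Set G)) x b φ (ζ : G → ℂ) * (ζ : G → ℂ) g =
    (Nat.card (Subgroup.centralizer ({x} : Set G)) : ℂ)⁻¹ *
      ∑ r : Subgroup.centralizer ({x} : Set G), cut p 1 (shiftPart x b φ) r *
        (if IsConj (x * (r : G)) g then
          (Nat.card (Subgroup.centralizer ({x * (r : G)} : Set G)) : ℂ) else 0) := by
  have h1 : ∀ ζ : IrrCharacter G,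
      contribE p (Subgroup.centralizer ({x} : Set G)) x b φ (ζ : G → ℂ) * (ζ : G → ℂ) g =
      (Nat.card (Subgroup.centralizer ({x} : Set G)) : ℂ)⁻¹ *
        ∑ r : Subgroup.centralizer ({x} : Set G), cut p 1 (shiftPart x b φ) r *
          ((ζ : G → ℂ) g * conj ((ζ : G → ℂ) (x * (r : G)))) := by
    intro ζ
    rw [← classInner_cut_shiftPart x b hφ (irr_isClassFunction ζ)]
    unfold classInner
    rw [mul_assoc, Finset.sum_mul]
    congr 1
    refine Finset.sum_congr rfl (fun r _ => ?_)
    ring
  rw [Finset.sum_congr rfl (fun ζ _ => h1 ζ), ← Finset.mul_sum, Finset.sum_comm]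
  congr 1
  refine Finset.sum_congr rfl (fun r _ => ?_)
  rw [← Finset.mul_sum, Helper79.column_orthogonality g (x * (r : G))]

open Classical in
/-- the row vanishes off the `p`-section of `x` -/
theorem sum_contribE_mul_irr_of_not_isConj (x : G)
    [Fintype (Subgroup.centralizer ({x} : Set G))]
    (b : Set (IrrCharacter (Subgroup.centralizer ({x} : Set G)))) {φ : G → ℂ}
    (hφ : IsClassFunction G φ) (g : G)
    (hg : ∀ t : Subgroup.centralizer ({x} : Set G), ¬ p ∣ orderOf t → ¬ IsConj (x * (t : G)) g) :
    ∑ ζ : IrrCharacter G,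
      contribE p (Subgroup.centralizer ({x} : Set G)) x b φ (ζ : G → ℂ) * (ζ : G → ℂ) g = 0 := by
  rw [sum_contribE_mul_irr x b hφ g]
  have : ∀ r : Subgroup.centralizer ({x} : Set G), cut p 1 (shiftPart x b φ) r *
        (if IsConj (x * (r : G)) g then
          (Nat.card (Subgroup.centralizer ({x * (r : G)} : Set G)) : ℂ) else 0) = 0 := by
    intro r
    by_cases hr : p ∣ orderOf r
    · have : cut p 1 (shiftPart x b φ) r = 0 := by unfold cut; rw [if_pos hr]
      rw [this, zero_mul]
    · rw [if_neg (hg r hr), mul_zero]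
  rw [Finset.sum_congr rfl (fun r _ => this r), Finset.sum_const_zero, mul_zero]

open Classical in
/-- the value of the row at the element `x t` of the `p`-section of `x` -/
theorem sum_contribE_mul_irr_of_isConj [Fact p.Prime] (x : G) (hx : ∃ k : ℕ, orderOf x = p ^ k)
    [Fintype (Subgroup.centralizer ({x} : Set G))]
    (b : Set (IrrCharacter (Subgroup.centralizer ({x} : Set G)))) {φ : G → ℂ}
    (hφ : IsClassFunction G φ) (g : G) (t : Subgroup.centralizer ({x} : Set G))
    (ht : ¬ p ∣ orderOf t) (hg : IsConj (x * (t : G)) g) :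
    ∑ ζ : IrrCharacter G,
      contribE p (Subgroup.centralizer ({x} : Set G)) x b φ (ζ : G → ℂ) * (ζ : G → ℂ) g =
      shiftPart x b φ t := by
  have hH0 : (Nat.card (Subgroup.centralizer ({x} : Set G)) : ℂ) ≠ 0 :=
    Helper79.card_ne_zero_complex
  have hS : IsClassFunction (Subgroup.centralizer ({x} : Set G)) (shiftPart x b φ) :=
    isClassFunction_shiftPart x b hφ
  rw [sum_contribE_mul_irr x b hφ g]
  have h1 : ∀ r : Subgroup.centralizer ({x} : Set G), cut p 1 (shiftPart x b φ) r *
        (if IsConj (x * (r : G)) g then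
          (Nat.card (Subgroup.centralizer ({x * (r : G)} : Set G)) : ℂ) else 0) =
      (Nat.card (Subgroup.centralizer ({x * (t : G)} : Set G)) : ℂ) *
        (if IsConj t r then shiftPart x b φ r else 0) := by
    intro r
    by_cases hr : p ∣ orderOf r
    · have h2 : cut p 1 (shiftPart x b φ) r = 0 := by unfold cut; rw [if_pos hr]
      have h3 : ¬ IsConj t r := by
        intro hc
        rw [orderOf_eq_of_isConj' hc] at ht
        exact ht hr
      rw [h2, zero_mul, if_neg h3, mul_zero]
    · have h2 : cut p 1 (shiftPart x b φ) r = shiftPart x b φ r := by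
        unfold cut; rw [if_neg hr, one_mul]
      have hiff := isConj_mul_iff x hx t r ht hr
      by_cases hc : IsConj t r
      · have hc' : IsConj (x * (t : G)) (x * (r : G)) := hiff.mpr hc
        have hc'' : IsConj (x * (r : G)) g := hc'.symm.trans hg
        rw [h2, if_pos hc'', if_pos hc, card_centralizer_of_isConj hc', mul_comm]
      · have hc'' : ¬ IsConj (x * (r : G)) g := by
          intro h
          apply hc
          exact hiff.mp (hg.trans h.symm)
        rw [if_neg hc'', if_neg hc, mul_zero, mul_zero]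
  have e := sum_isConj_eq t hS
  have e' : (∑ r : Subgroup.centralizer ({x} : Set G),
      if IsConj t r then shiftPart x b φ r else 0) =
      (Nat.card (Subgroup.centralizer ({x} : Set G)) : ℂ) *
        (Nat.card (Subgroup.centralizer ({t} : Set (Subgroup.centralizer ({x} : Set G)))) : ℂ)⁻¹ *
        shiftPart x b φ t := by
    rw [← e]
    refine Finset.sum_congr rfl (fun i _ => ?_)
    by_cases hc : IsConj t i
    · rw [if_pos hc, if_pos hc]
    · rw [if_neg hc, if_neg hc]
  rw [Finset.sum_congr rfl (fun r _ => h1 r), ← Finset.mul_sum, e',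
    card_centralizer_mul x hx t ht]
  have hc0 : (Nat.card (Subgroup.centralizer ({t} : Set (Subgroup.centralizer ({x} : Set G)))) : ℂ)
      ≠ 0 := Helper79.card_ne_zero_complex
  field_simp

end Eval

section LemmaD

variable {G : Type*} [Group G] [Fintype G] {M : Ideal AlgInt} {p : ℕ}

open Classical in
/-- **Lemma D.** `p^{d(b)} χ^{(x,b)}(t) / |C_G(x t)|` is a local integer. -/
theorem memLocalRing_pow_mul_shiftPart_div [Fact p.Prime] (hM : IsPModular p M) (x : G)
    (hx : ∃ k : ℕ, orderOf x = p ^ k) [Fintype (Subgroup.centralizer ({x} : Set G))]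
    {b : Set (IrrCharacter (Subgroup.centralizer ({x} : Set G)))} (hb : IsPBlock M b)
    (χ : IrrCharacter G) (t : Subgroup.centralizer ({x} : Set G)) (ht : ¬ p ∣ orderOf t) :
    MemLocalRing M (((p ^ blockDefect p b : ℕ) : ℂ) * shiftPart x b (χ : G → ℂ) t /
      (Nat.card (Subgroup.centralizer ({x * (t : G)} : Set G)) : ℂ)) := by
  have hMp : M.IsPrime := IsPModular.isPrime hM
  have hp : p.Prime := Fact.out
  -- the central element
  have hxH : x ∈ Subgroup.centralizer ({x} : Set G) := by
    rw [Subgroup.mem_centralizer_singleton_iff]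
  let xH : Subgroup.centralizer ({x} : Set G) := ⟨x, hxH⟩
  have hxc : xH ∈ Subgroup.center (Subgroup.centralizer ({x} : Set G)) := by
    rw [Subgroup.mem_center_iff]
    intro c
    apply Subtype.ext
    have hc := c.2
    rw [Subgroup.mem_centralizer_singleton_iff] at hc
    exact hc
  have hxpow : xH ^ orderOf x = 1 := by
    apply Subtype.ext
    rw [SubmonoidClass.coe_pow]
    exact pow_orderOf_eq_one x
  choose lam hlam1 hlam using
    fun θ : IrrCharacter (Subgroup.centralizer ({x} : Set G)) => irr_central_mul_norm θ hxc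
  have hlamc : ∀ θ : IrrCharacter (Subgroup.centralizer ({x} : Set G)),
      lam θ * conj (lam θ) = 1 := by
    intro θ
    rw [Complex.mul_conj, Complex.normSq_eq_norm_sq, hlam1 θ]
    simp
  have hlamint : ∀ θ : IrrCharacter (Subgroup.centralizer ({x} : Set G)),
      MemLocalRing M (lam θ) := by
    intro θ
    have h1 : lam θ ^ orderOf x = 1 := central_scalar_pow_eq_one θ xH (lam θ) (hlam θ) hxpow
    have h2 : IsIntegral ℤ (lam θ ^ orderOf x) := by rw [h1]; exact isIntegral_one
    exact Helper16.memLocalRing_of_isIntegral (IsIntegral.of_pow (orderOf_pos x) h2)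
  have hnat : ∀ θ : IrrCharacter (Subgroup.centralizer ({x} : Set G)), ∃ m : ℕ,
      classInner (fun c : Subgroup.centralizer ({x} : Set G) => (χ : G → ℂ) (c : G))
        (θ : Subgroup.centralizer ({x} : Set G) → ℂ) = (m : ℂ) := fun θ =>
    Helper15.isCharacter_inner_nat
      (Helper74.isCharacter_restrict _ (Helper74.irr_isCharacter χ)) (Helper74.irr_isCharacter θ)
  choose aa haa using hnat
  have hshift : ∀ θ : IrrCharacter (Subgroup.centralizer ({x} : Set G)),
      classInner (fun c : Subgroup.centralizer ({x} : Set G) => (χ : G → ℂ) (x * (c : G)))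
        (θ : Subgroup.centralizer ({x} : Set G) → ℂ) = lam θ * (aa θ : ℂ) := by
    intro θ
    have := classInner_central_shift θ xH (lam θ) (hlamc θ) (hlam θ)
      (fun c : Subgroup.centralizer ({x} : Set G) => (χ : G → ℂ) (c : G))
    rw [haa θ] at this
    rw [← this]
    rfl
  rw [card_centralizer_mul x hx t ht, shiftPart_eq_blockPart x b (irr_isClassFunction χ),
    blockPart_eq_sum, Finset.mul_sum, Finset.sum_div]
  refine Helper16.memLocalRing_sum _ _ (fun θ _ => ?_)
  by_cases hθ : θ ∈ b
  · rw [if_pos hθ, one_mul, hshift θ]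
    -- the factor `p^d θ(1) / |H|`
    have hdeg0 : charDegree (θ : Subgroup.centralizer ({x} : Set G) → ℂ) ≠ 0 :=
      charDegree_ne_zero' θ
    have h1 : minExp p b ≤
        (charDegree (θ : Subgroup.centralizer ({x} : Set G) → ℂ)).factorization p :=
      minExp_le_of_mem p hθ
    have h2 : (charDegree (θ : Subgroup.centralizer ({x} : Set G) → ℂ)).factorization p ≤
        (Nat.card (Subgroup.centralizer ({x} : Set G))).factorization p :=
      factorization_charDegree_le p θ
    have hfac : MemLocalRing M
        (((p ^ blockDefect p b * charDegree (θ : Subgroup.centralizer ({x} : Set G) → ℂ) : ℕ) : ℂ) /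
          ((Nat.card (Subgroup.centralizer ({x} : Set G)) : ℕ) : ℂ)) := by
      refine Helper78.memLocalRing_natCast_div hM Nat.card_pos.ne'
        (mul_ne_zero (pow_ne_zero _ hp.ne_zero) hdeg0) ?_
      rw [Nat.factorization_mul (pow_ne_zero _ hp.ne_zero) hdeg0, Finsupp.add_apply,
        hp.factorization_pow, Finsupp.single_eq_same, blockDefect_eq]
      omega
    have hcc := centralChar_memLocalRing (M := M) θ t
    have hmem := Helper16.memLocalRing_mul (Helper16.memLocalRing_mul (hlamint θ) (Helper16.memLocalRing_natCast (M := M) (aa θ)))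
      (Helper16.memLocalRing_mul hcc hfac)
    have hθ1 : (θ : Subgroup.centralizer ({x} : Set G) → ℂ) 1 ≠ 0 := irr_one_ne_zero θ
    have hidx : ((Subgroup.centralizer
        ({t} : Set (Subgroup.centralizer ({x} : Set G)))).index : ℂ) ≠ 0 := by
      have : (Subgroup.centralizer
        ({t} : Set (Subgroup.centralizer ({x} : Set G)))).index ≠ 0 :=
        Subgroup.index_ne_zero_of_finite
      exact_mod_cast this
    have hc0 : (Nat.card (Subgroup.centralizer
        ({t} : Set (Subgroup.centralizer ({x} : Set G)))) : ℂ) ≠ 0 :=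
      Helper79.card_ne_zero_complex
    have hcard : (Nat.card (Subgroup.centralizer ({x} : Set G)) : ℂ) =
        (Nat.card (Subgroup.centralizer
          ({t} : Set (Subgroup.centralizer ({x} : Set G)))) : ℂ) *
        ((Subgroup.centralizer
          ({t} : Set (Subgroup.centralizer ({x} : Set G)))).index : ℂ) := by
      rw [← Nat.cast_mul, Subgroup.card_mul_index]
    have heq : ((p ^ blockDefect p b : ℕ) : ℂ) *
        (lam θ * (aa θ : ℂ) * (θ : Subgroup.centralizer ({x} : Set G) → ℂ) t) /
        (Nat.card (Subgroup.centralizer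
          ({t} : Set (Subgroup.centralizer ({x} : Set G)))) : ℂ) =
        lam θ * (aa θ : ℂ) *
        (centralChar (θ : Subgroup.centralizer ({x} : Set G) → ℂ) t *
          (((p ^ blockDefect p b * charDegree (θ : Subgroup.centralizer ({x} : Set G) → ℂ) : ℕ) : ℂ) /
          ((Nat.card (Subgroup.centralizer ({x} : Set G)) : ℕ) : ℂ))) := by
      unfold centralChar
      rw [hcard]
      push_cast
      rw [← irr_one_eq_natCast θ]
      field_simp
    rw [heq]
    exact hmem
  · rw [if_neg hθ, zero_mul, mul_zero, zero_div]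
    exact Helper16.memLocalRing_zero

end LemmaD

section General

variable {G : Type*} [Group G] [Fintype G] {M : Ideal AlgInt} {p : ℕ}

/-- the three properties of a row of the contribution matrix (literal centralizer) -/
theorem contribE_row_eval_aux [Fact p.Prime] (hM : IsPModular p M) (x : G)
    (hx : ∃ k : ℕ, orderOf x = p ^ k) [Fintype (Subgroup.centralizer ({x} : Set G))]
    {b : Set (IrrCharacter (Subgroup.centralizer ({x} : Set G)))} (hb : IsPBlock M b)
    (χ : IrrCharacter G) (g : G) :
    ((∀ t : G, t ∈ Subgroup.centralizer ({x} : Set G) → ¬ p ∣ orderOf t →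
        ¬ IsConj (x * t) g) →
      ∑ ζ : IrrCharacter G, contribE p (Subgroup.centralizer ({x} : Set G)) x b (χ : G → ℂ)
        (ζ : G → ℂ) * (ζ : G → ℂ) g = 0) ∧
    MemLocalRing M (∑ ζ : IrrCharacter G,
      contribE p (Subgroup.centralizer ({x} : Set G)) x b (χ : G → ℂ) (ζ : G → ℂ) *
        (ζ : G → ℂ) g) ∧
    MemLocalRing M (((p ^ blockDefect p b : ℕ) : ℂ) * (∑ ζ : IrrCharacter G,
      contribE p (Subgroup.centralizer ({x} : Set G)) x b (χ : G → ℂ) (ζ : G → ℂ) *
        (ζ : G → ℂ) g) / (Nat.card (Subgroup.centralizer ({g} : Set G)) : ℂ)) := by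
  classical
  have hMp : M.IsPrime := IsPModular.isPrime hM
  have hχ := irr_isClassFunction χ
  by_cases hex : ∃ t : Subgroup.centralizer ({x} : Set G), ¬ p ∣ orderOf t ∧
      IsConj (x * (t : G)) g
  · obtain ⟨t, ht, hconj⟩ := hex
    have hval := sum_contribE_mul_irr_of_isConj (p := p) x hx b hχ g t ht hconj
    refine ⟨fun h => ?_, ?_, ?_⟩
    · exfalso
      exact h (t : G) t.2 (by rw [Subgroup.orderOf_coe]; exact ht) hconj
    · rw [hval]
      exact shiftPart_memLocalRing x hb χ t
    · rw [hval, card_centralizer_of_isConj hconj]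
      exact memLocalRing_pow_mul_shiftPart_div hM x hx hb χ t ht
  · have hno : ∀ t : Subgroup.centralizer ({x} : Set G), ¬ p ∣ orderOf t →
        ¬ IsConj (x * (t : G)) g := fun t ht hc => hex ⟨t, ht, hc⟩
    have hz := sum_contribE_mul_irr_of_not_isConj (p := p) x b hχ g hno
    refine ⟨fun _ => hz, ?_, ?_⟩
    · rw [hz]; exact Helper16.memLocalRing_zero
    · rw [hz, mul_zero, zero_div]; exact Helper16.memLocalRing_zero

/-- **The rows of the contribution matrix, evaluated.** -/
theorem contribE_row_eval [Fact p.Prime] (hM : IsPModular p M) (x : G)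
    (hx : ∃ k : ℕ, orderOf x = p ^ k) (K : Subgroup G) [Fintype K]
    (hK : K = Subgroup.centralizer ({x} : Set G))
    {b : Set (IrrCharacter K)} (hb : IsPBlock M b) (χ : IrrCharacter G) (g : G) :
    ((∀ t : G, t ∈ Subgroup.centralizer ({x} : Set G) → ¬ p ∣ orderOf t →
        ¬ IsConj (x * t) g) →
      ∑ ζ : IrrCharacter G, contribE p K x b (χ : G → ℂ) (ζ : G → ℂ) * (ζ : G → ℂ) g = 0) ∧
    MemLocalRing M (∑ ζ : IrrCharacter G,
      contribE p K x b (χ : G → ℂ) (ζ : G → ℂ) * (ζ : G → ℂ) g) ∧
    MemLocalRing M (((p ^ blockDefect p b : ℕ) : ℂ) * (∑ ζ : IrrCharacter G,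
      contribE p K x b (χ : G → ℂ) (ζ : G → ℂ) * (ζ : G → ℂ) g) /
        (Nat.card (Subgroup.centralizer ({g} : Set G)) : ℂ)) := by
  subst hK
  exact contribE_row_eval_aux hM x hx hb χ g

/-- a product of a nontrivial `p`-element with a commuting `p`-regular element is `p`-singular -/
theorem dvd_orderOf_mul_of_commute [Fact p.Prime] {x t : G} (hx : ∃ k : ℕ, orderOf x = p ^ k)
    (hx1 : x ≠ 1) (hcomm : Commute x t) (ht : ¬ p ∣ orderOf t) : p ∣ orderOf (x * t) := by
  have hp : p.Prime := Fact.out
  obtain ⟨k, hk⟩ := hx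
  have hk0 : k ≠ 0 := by
    intro h
    rw [h, pow_zero, orderOf_eq_one_iff] at hk
    exact hx1 hk
  have hcop : Nat.Coprime (orderOf x) (orderOf t) := by
    rw [hk]
    exact Nat.Coprime.pow_left k ((Nat.Prime.coprime_iff_not_dvd hp).mpr ht)
  rw [hcomm.orderOf_mul_eq_mul_orderOf_of_coprime hcop, hk]
  exact Dvd.dvd.mul_right (dvd_pow_self p hk0) _

/-- the row vanishes at the `p`-regular elements, for `x ≠ 1` -/
theorem contribE_row_eval_regular [Fact p.Prime] (hM : IsPModular p M) (x : G)
    (hx : ∃ k : ℕ, orderOf x = p ^ k) (hx1 : x ≠ 1) (K : Subgroup G) [Fintype K]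
    (hK : K = Subgroup.centralizer ({x} : Set G))
    {b : Set (IrrCharacter K)} (hb : IsPBlock M b) (χ : IrrCharacter G) (g : G)
    (hg : ¬ p ∣ orderOf g) :
    ∑ ζ : IrrCharacter G, contribE p K x b (χ : G → ℂ) (ζ : G → ℂ) * (ζ : G → ℂ) g = 0 := by
  refine (contribE_row_eval hM x hx K hK hb χ g).1 (fun t htC ht hconj => ?_)
  apply hg
  rw [← orderOf_eq_of_isConj' hconj]
  rw [Subgroup.mem_centralizer_singleton_iff] at htC
  exact dvd_orderOf_mul_of_commute hx hx1 htC.symm ht

end General

end Cfsg.Agent.Helper77
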