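import Cfsg.Agent.Helper77.KleinCount
import Cfsg.Agent.Helper77.PerfContrib

/-!
# The signs attached to a major subsection at an involution, defect two

For an involution `a`, a block `f` of `C_G(a)` of defect two with `l(f) = 1` inducing the block `B`
with `k(B) = 4` of the same defect: the row `(4 m_{χ₀ζ})_ζ` of the contribution matrix at a
character `χ₀` of height zero consists of signs on `B`, and vanishes off `B`.

(helper77, file 64.)
-/

set_option autoImplicit false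
set_option linter.unusedSectionVars false
set_option linter.unusedVariables false
set_option maxHeartbeats 1000000

namespace Cfsg.Agent.Helper77

open Cfsg
open scoped ComplexConjugate
open Cfsg.Agent.Helper16 (contribE)

section Sign

variable {G : Type*} [Group G] [Fintype G] {M : Ideal AlgInt}

theorem orderOf_involution_pow {a : G} (ha : a * a = 1) : ∃ k : ℕ, orderOf a = 2 ^ k := by
  have h1 : orderOf a ∣ 2 ^ 1 := by
    rw [pow_one]
    apply orderOf_dvd_of_pow_eq_one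
    rw [pow_two]
    exact ha
  obtain ⟨k, -, hk⟩ := (Nat.dvd_prime_pow Nat.prime_two).1 h1
  exact ⟨k, hk⟩

/-- integrality of `4 m_{χψ}` at an involution, defect two -/
theorem exists_int_four_mul_contribE [Fact (Nat.Prime 2)] (hM : IsPModular 2 M) (a : G)
    (ha : a * a = 1) (K : Subgroup G) [Fintype K]
    (hK : K = Subgroup.centralizer ({a} : Set G))
    {f : Set (IrrCharacter K)} (hf : IsPBlock M f) (hdf : blockDefect 2 f = 2)
    (χ ψ : IrrCharacter G) :
    ∃ n : ℤ, (4 : ℂ) * contribE 2 K a f (χ : G → ℂ) (ψ : G → ℂ) = (n : ℂ) := by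
  classical
  have haK : a ∈ K := by
    rw [hK, Subgroup.mem_centralizer_singleton_iff]
  let yH : K := ⟨a, haK⟩
  have hyc : yH ∈ Subgroup.center K := by
    rw [Subgroup.mem_center_iff]
    intro c
    apply Subtype.ext
    have hc : (c : G) ∈ Subgroup.centralizer ({a} : Set G) := hK ▸ c.2
    rw [Subgroup.mem_centralizer_singleton_iff] at hc
    exact hc
  have hyHpow : yH ^ (2 ^ 1) = 1 := by
    apply Subtype.ext
    rw [SubmonoidClass.coe_pow, pow_one, pow_two]
    exact ha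
  obtain ⟨A, μ, hμ, hform⟩ := Helper16.exists_pow_form hM K yH hyc 1 hyHpow hf χ ψ
  have hμ' : ∀ i, ∃ ε : ℤ, μ i = (ε : ℂ) := by
    intro i
    have h1 : μ i ^ 2 = 1 := by
      have := hμ i
      rwa [pow_one] at this
    have h1' : μ i * μ i = 1 := by rw [← pow_two]; exact h1
    rcases mul_self_eq_one_iff.mp h1' with h | h
    · exact ⟨1, by rw [h]; norm_num⟩
    · exact ⟨-1, by rw [h]; norm_num⟩
  choose ε hε using hμ'
  have hf1 := hform 1
  rw [pow_one, hdf] at hf1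
  refine ⟨∑ i, A i * ε i, ?_⟩
  have : ((2 ^ 2 : ℕ) : ℂ) = 4 := by norm_num
  rw [← this]
  show ((2 ^ 2 : ℕ) : ℂ) * contribE 2 K a f (χ : G → ℂ) (ψ : G → ℂ) = _
  rw [hf1]
  push_cast
  refine Finset.sum_congr rfl (fun i _ => ?_)
  rw [pow_one, hε i]

/-- **The signs of a major subsection at an involution.** -/
theorem exists_sign_row [Fact (Nat.Prime 2)] (hM : IsPModular 2 M) (a : G) (ha : a * a = 1)
    (K : Subgroup G) [Fintype K] (hK : K = Subgroup.centralizer ({a} : Set G))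
    {f : Set (IrrCharacter K)} {B : Set (IrrCharacter G)}
    (hind : IsInducedBlock M K f B) (hdef : blockDefect 2 f = blockDefect 2 B)
    (hd2 : blockDefect 2 B = 2) (hl1 : blockRank 2 f = 1) (hk4 : Nat.card B = 4)
    (χ₀ : IrrCharacter G) (hχ₀ : χ₀ ∈ B) (h0 : blockHeight 2 B (χ₀ : G → ℂ) = 0) :
    ∃ d : IrrCharacter G → ℤ, (∀ χ, χ ∉ B → d χ = 0) ∧ (∀ χ, χ ∈ B → d χ = 1 ∨ d χ = -1) ∧
      ∀ ζ : IrrCharacter G, (d ζ : ℂ) = 4 * contribE 2 K a f (χ₀ : G → ℂ) (ζ : G → ℂ) := by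
  classical
  have hMp : M.IsPrime := Helper16.IsPModular.isPrime hM
  have hf : IsPBlock M f := hind.1
  have hB : IsPBlock M B := hind.2.1
  have hx : ∃ k : ℕ, orderOf a = 2 ^ k := orderOf_involution_pow ha
  have hdf : blockDefect 2 f = 2 := by rw [hdef, hd2]
  set m : IrrCharacter G → IrrCharacter G → ℂ :=
    fun χ ψ => contribE 2 K a f (χ : G → ℂ) (ψ : G → ℂ) with hm
  choose n hn using fun ζ : IrrCharacter G =>
    exists_int_four_mul_contribE hM a ha K hK hf hdf χ₀ ζ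
  choose N hN using fun χ : IrrCharacter G =>
    exists_int_four_mul_contribE hM a ha K hK hf hdf χ χ
  have hn' : ∀ ζ, (4 : ℂ) * m χ₀ ζ = (n ζ : ℂ) := hn
  have hN' : ∀ χ, (4 : ℂ) * m χ χ = (N χ : ℂ) := hN
  have hherm : ∀ χ ψ : IrrCharacter G, conj (m χ ψ) = m ψ χ := fun χ ψ =>
    Helper16.contribE_conj_symm hM K a hf (χ : G → ℂ) (ψ : G → ℂ)
  -- (a) zero off `B`
  have hzero : ∀ ζ : IrrCharacter G, ζ ∉ B → n ζ = 0 := by
    intro ζ hζ
    have h1 : m ζ χ₀ = 0 := contribE_eq_zero_of_not_mem hM a hx K hK hind ζ hζ χ₀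
    have h2 : m χ₀ ζ = 0 := by rw [← hherm ζ χ₀, h1, map_zero]
    have h3 := hn' ζ
    rw [h2, mul_zero] at h3
    exact_mod_cast h3.symm
  -- (b) nonzero on `B`
  have hmne : ∀ ζ : IrrCharacter G, ζ ∈ B → m χ₀ ζ ≠ 0 := fun ζ hζ =>
    contribE_ne_zero_of_major a hM hx K hK hind hdef χ₀ ζ hχ₀ h0 hζ
  have hne : ∀ ζ : IrrCharacter G, ζ ∈ B → n ζ ≠ 0 := by
    intro ζ hζ hz
    have h3 := hn' ζ
    rw [hz, Int.cast_zero] at h3
    rcases mul_eq_zero.mp h3 with h | h
    · norm_num at h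
    · exact hmne ζ hζ h
  -- rows
  have hrow : ∀ χ : IrrCharacter G, ∑ ψ : IrrCharacter G, m χ ψ * conj (m χ ψ) = m χ χ :=
    fun χ => Helper16.sum_contribE_row' hM a hx K hK hf χ
  -- (c) the diagonal integers
  have hNreal : ∀ χ : IrrCharacter G,
      (N χ : ℝ) = 4 * ∑ ψ : IrrCharacter G, Complex.normSq (m χ ψ) := by
    intro χ
    have h1 : ((N χ : ℝ) : ℂ) =
        ((4 * ∑ ψ : IrrCharacter G, Complex.normSq (m χ ψ) : ℝ) : ℂ) := by
      rw [Complex.ofReal_intCast, ← hN' χ, ← hrow χ]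
      push_cast
      congr 1
      refine Finset.sum_congr rfl (fun ψ _ => ?_)
      rw [Complex.mul_conj]
    exact_mod_cast h1
  have hNnn : ∀ χ : IrrCharacter G, 0 ≤ N χ := by
    intro χ
    have h1 : (0 : ℝ) ≤ (N χ : ℝ) := by
      rw [hNreal χ]
      exact mul_nonneg (by norm_num) (Finset.sum_nonneg (fun ψ _ => Complex.normSq_nonneg _))
    exact_mod_cast h1
  have hNpos : ∀ χ : IrrCharacter G, χ ∈ B → 1 ≤ N χ := by
    intro χ hχ
    have hne0 : m χ χ₀ ≠ 0 := by
      rw [← hherm χ₀ χ]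
      intro h
      apply hmne χ hχ
      have := congrArg conj h
      rwa [Complex.conj_conj, map_zero] at this
    have h1 : (0 : ℝ) < (N χ : ℝ) := by
      rw [hNreal χ]
      apply mul_pos (by norm_num)
      exact Finset.sum_pos' (fun ψ _ => Complex.normSq_nonneg _)
        ⟨χ₀, Finset.mem_univ _, Complex.normSq_pos.mpr hne0⟩
    have h2 : 0 < N χ := by exact_mod_cast h1
    omega
  -- (d) the trace
  have htrace : ∑ χ : IrrCharacter G, N χ = 4 := by
    have h1 : ((∑ χ : IrrCharacter G, N χ : ℤ) : ℂ) = ((4 : ℤ) : ℂ) := by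
      rw [Int.cast_sum, Finset.sum_congr rfl (fun χ _ => (hN' χ).symm), ← Finset.mul_sum]
      have := Helper16.sum_contribE_diag' hM a hx K hK hf
      rw [hl1] at this
      show (4 : ℂ) * ∑ χ : IrrCharacter G, contribE 2 K a f (χ : G → ℂ) (χ : G → ℂ) = _
      rw [this]
      norm_num
    exact_mod_cast h1
  have hcardB : (Finset.univ.filter (fun ψ : IrrCharacter G => ψ ∈ B)).card = 4 := by
    rw [← hk4, Nat.card_eq_fintype_card, Fintype.card_subtype]
  -- (e) `N χ₀ = 1`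
  have hN1 : N χ₀ = 1 := by
    have hsum0 : ∑ χ : IrrCharacter G, (N χ - if χ ∈ B then 1 else 0) = 0 := by
      rw [Finset.sum_sub_distrib, htrace, Finset.sum_boole, hcardB]
      norm_num
    have hnn : ∀ χ ∈ (Finset.univ : Finset (IrrCharacter G)),
        (0 : ℤ) ≤ N χ - if χ ∈ B then 1 else 0 := by
      intro χ _
      by_cases hχ : χ ∈ B
      · rw [if_pos hχ]
        have := hNpos χ hχ
        omega
      · rw [if_neg hχ]
        have := hNnn χ
        omega
    have := (Finset.sum_eq_zero_iff_of_nonneg hnn).mp hsum0 χ₀ (Finset.mem_univ _)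
    rw [if_pos hχ₀] at this
    omega
  -- (f) `n χ₀ = 1`
  have hn1 : n χ₀ = 1 := by
    have h1 : (n χ₀ : ℂ) = (N χ₀ : ℂ) := by rw [← hn' χ₀, ← hN' χ₀]
    have h2 : n χ₀ = N χ₀ := by exact_mod_cast h1
    rw [h2, hN1]
  -- (g) the sum of squares
  have hsum : ∑ ψ : IrrCharacter G, n ψ ^ 2 = 4 := by
    have h1 : ∀ ψ : IrrCharacter G, ((n ψ ^ 2 : ℤ) : ℂ) = 16 * (m χ₀ ψ * conj (m χ₀ ψ)) := by
      intro ψ
      have h2 : conj ((4 : ℂ) * m χ₀ ψ) = (n ψ : ℂ) := by rw [hn' ψ, map_intCast]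
      rw [map_mul] at h2
      have h4 : conj (4 : ℂ) = 4 := by
        rw [show (4 : ℂ) = ((4 : ℕ) : ℂ) by norm_num, Complex.conj_natCast]
      rw [h4] at h2
      push_cast
      rw [pow_two]
      nth_rewrite 1 [← hn' ψ]
      rw [← h2]
      ring
    have h3 : ((∑ ψ : IrrCharacter G, n ψ ^ 2 : ℤ) : ℂ) = ((4 * n χ₀ : ℤ) : ℂ) := by
      rw [Int.cast_sum, Finset.sum_congr rfl (fun ψ _ => h1 ψ), ← Finset.mul_sum, hrow χ₀]
      push_cast
      rw [← hn' χ₀]
      ring
    have h4 : ∑ ψ : IrrCharacter G, n ψ ^ 2 = 4 * n χ₀ := by exact_mod_cast h3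
    rw [h4, hn1]
    norm_num
  -- (h) the signs
  have hsq : ∀ ζ : IrrCharacter G, ζ ∈ B → n ζ ^ 2 = 1 := by
    have hsum0 : ∑ ζ : IrrCharacter G, (n ζ ^ 2 - if ζ ∈ B then 1 else 0) = 0 := by
      rw [Finset.sum_sub_distrib, hsum, Finset.sum_boole, hcardB]
      norm_num
    have hnn : ∀ ζ ∈ (Finset.univ : Finset (IrrCharacter G)),
        (0 : ℤ) ≤ n ζ ^ 2 - if ζ ∈ B then 1 else 0 := by
      intro ζ _
      by_cases hζ : ζ ∈ B
      · rw [if_pos hζ]
        have h1 : 0 < n ζ ^ 2 := by have := hne ζ hζ; positivity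
        omega
      · rw [if_neg hζ]
        have := sq_nonneg (n ζ)
        omega
    intro ζ hζ
    have := (Finset.sum_eq_zero_iff_of_nonneg hnn).mp hsum0 ζ (Finset.mem_univ _)
    rw [if_pos hζ] at this
    omega
  refine ⟨n, hzero, fun ζ hζ => ?_, fun ζ => (hn' ζ).symm⟩
  have h1 := hsq ζ hζ
  have h2 : (n ζ - 1) * (n ζ + 1) = 0 := by ring_nf; ring_nf at h1; omega
  rcases mul_eq_zero.mp h2 with h | h
  · left; omega
  · right; omega

end Sign

end Cfsg.Agent.Helper77
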