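import Cfsg.Agent.Helper77.KleinMain
import Cfsg.Agent.Helper77.PerfSign
import Cfsg.Agent.Helper77.PerfExpand

/-!
# The singular structure of a block with a Klein four defect group

(helper77, file 65.)
-/

set_option autoImplicit false
set_option linter.unusedSectionVars false
set_option linter.unusedVariables false
set_option maxHeartbeats 1000000

namespace Cfsg.Agent.Helper77

open Cfsg
open scoped ComplexConjugate
open Cfsg.Agent.Helper16 (contribE transBlock zEquiv)

section Involution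

variable {G : Type*} [Group G] [Fintype G] {M : Ideal AlgInt} {p : ℕ}

/-- `l(f) = 1` for the block `f` of the centralizer of a nontrivial element `a` of the abelian
defect group `P`, when the inertial group acts freely. -/
theorem blockRank_eq_one_of_free [Fact p.Prime] (hM : IsPModular p M)
    (B : Set (IrrCharacter G)) (P : Subgroup G)
    (c : Set (IrrCharacter (Subgroup.centralizer (P : Set G))))
    (hmax : IsMaximalBrauerPair p M B P c) (hab : ∀ x ∈ P, ∀ y ∈ P, x * y = y * x)
    (hfree : ∀ g ∈ stabT P c, ∀ x ∈ P, x ≠ 1 → g * x * g⁻¹ = x →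
      g ∈ Subgroup.centralizer (P : Set G))
    (a : G) (haP : a ∈ P) (ha1 : a ≠ 1)
    (fa : Set (IrrCharacter (Subgroup.centralizer ((Subgroup.zpowers a : Subgroup G) : Set G))))
    (hfa : IsPBlock M fa) (hlea : SubpairLE p M (Subgroup.zpowers a) fa P c) :
    blockRank p fa = 1 := by
  classical
  letI : ∀ S : Subgroup G, Fintype S := fun S => Fintype.ofFinite S
  have hQP : Subgroup.zpowers a ≤ P := by
    rw [Subgroup.zpowers_le]
    exact haP
  have hQ1 : Subgroup.zpowers a ≠ ⊥ := by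
    intro h
    apply ha1
    have := Subgroup.mem_zpowers a
    rw [h, Subgroup.mem_bot] at this
    exact this
  have hPK : P ≤ Subgroup.centralizer ((Subgroup.zpowers a : Subgroup G) : Set G) :=
    le_centralizer_of_abelian P _ hab hQP
  have hCPQ : Subgroup.centralizer (P : Set G) ≤
      Subgroup.centralizer ((Subgroup.zpowers a : Subgroup G) : Set G) :=
    Subgroup.centralizer_le hQP
  have hnil : IsNilpotentBlock p M fa :=
    isNilpotentBlock_of_free_action hM B P c hmax hab hfree _ hQP hQ1 fa hfa hlea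
  have hmaxK := isMaximalBrauerPair_down_of_abelian hM B P c hmax hab _ fa hQP hfa hlea hPK hCPQ
  have habK : ∀ x ∈ P.subgroupOf (Subgroup.centralizer ((Subgroup.zpowers a : Subgroup G) : Set G)),
      ∀ y ∈ P.subgroupOf (Subgroup.centralizer ((Subgroup.zpowers a : Subgroup G) : Set G)),
        x * y = y * x :=
    fun x hx y hy => Subtype.ext (hab x hx y hy)
  exact (nilpotent_abelian_count hM fa _ _ hmaxK habK hnil).2

/-- **The data attached to an involution of the Klein four defect group.** -/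
theorem involution_data [Fact (Nat.Prime 2)] (hM : IsPModular 2 M)
    (B : Set (IrrCharacter G)) (P : Subgroup G)
    (c : Set (IrrCharacter (Subgroup.centralizer (P : Set G))))
    (hmax : IsMaximalBrauerPair 2 M B P c) (hab : ∀ x ∈ P, ∀ y ∈ P, x * y = y * x)
    (hfree : ∀ g ∈ stabT P c, ∀ x ∈ P, x ≠ 1 → g * x * g⁻¹ = x →
      g ∈ Subgroup.centralizer (P : Set G))
    (hd2 : blockDefect 2 B = 2) (hk4 : Nat.card B = 4)
    (χ₀ : IrrCharacter G) (hχ₀ : χ₀ ∈ B) (h0 : blockHeight 2 B (χ₀ : G → ℂ) = 0)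
    (a : G) (haP : a ∈ P) (ha1 : a ≠ 1) (haa : a * a = 1)
    [Fintype (Subgroup.centralizer ((Subgroup.zpowers a : Subgroup G) : Set G))]
    (fa : Set (IrrCharacter (Subgroup.centralizer ((Subgroup.zpowers a : Subgroup G) : Set G))))
    (hfa : IsPBlock M fa) (hlea : SubpairLE 2 M (Subgroup.zpowers a) fa P c) :
    ∃ d : IrrCharacter G → ℤ, (∀ χ, χ ∉ B → d χ = 0) ∧ (∀ χ, χ ∈ B → d χ = 1 ∨ d χ = -1) ∧
      (∀ ζ : IrrCharacter G, (d ζ : ℂ) =
        4 * contribE 2 (Subgroup.centralizer ((Subgroup.zpowers a : Subgroup G) : Set G)) a fa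
          (χ₀ : G → ℂ) (ζ : G → ℂ)) ∧
      (∀ g : G, IsPRegular 2 g → thetaSum d g = 0) ∧
      (∀ g : G, MemLocalRing M (thetaSum d g / 4)) ∧
      (∀ g : G, MemLocalRing M
        (thetaSum d g / (Nat.card (Subgroup.centralizer ({g} : Set G)) : ℂ))) := by
  classical
  have hMp : M.IsPrime := Helper16.IsPModular.isPrime hM
  have hQP : Subgroup.zpowers a ≤ P := by
    rw [Subgroup.zpowers_le]
    exact haP
  have hPK : P ≤ Subgroup.centralizer ((Subgroup.zpowers a : Subgroup G) : Set G) :=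
    le_centralizer_of_abelian P _ hab hQP
  obtain ⟨hinda, hdefa⟩ := Helper16.blockDefect_eq_of_central_subpair hM B P _ c fa hmax hQP hPK
    hfa hlea
  have hl1 : blockRank 2 fa = 1 :=
    blockRank_eq_one_of_free hM B P c hmax hab hfree a haP ha1 fa hfa hlea
  have hK := Helper16.centralizer_zpowers_eq a
  have hx : ∃ k : ℕ, orderOf a = 2 ^ k := orderOf_involution_pow haa
  have hdf : blockDefect 2 fa = 2 := by rw [hdefa, hd2]
  obtain ⟨d, hsupp, hsign, hform⟩ := exists_sign_row hM a haa _ hK hinda hdefa hd2 hl1 hk4 χ₀ hχ₀ h0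
  have htheta : ∀ g : G, thetaSum d g = 4 * ∑ ζ : IrrCharacter G,
      contribE 2 (Subgroup.centralizer ((Subgroup.zpowers a : Subgroup G) : Set G)) a fa
        (χ₀ : G → ℂ) (ζ : G → ℂ) * (ζ : G → ℂ) g := by
    intro g
    unfold thetaSum
    rw [Finset.mul_sum]
    refine Finset.sum_congr rfl (fun ζ _ => ?_)
    rw [hform ζ]
    ring
  refine ⟨d, hsupp, hsign, hform, ?_, ?_, ?_⟩
  · intro g hg
    rw [htheta g, contribE_row_eval_regular hM a hx ha1 _ hK hfa χ₀ g hg, mul_zero]
  · intro g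
    rw [htheta g]
    have h1 := (contribE_row_eval hM a hx _ hK hfa χ₀ g).2.1
    have : (4 : ℂ) * (∑ ζ : IrrCharacter G,
      contribE 2 (Subgroup.centralizer ((Subgroup.zpowers a : Subgroup G) : Set G)) a fa
        (χ₀ : G → ℂ) (ζ : G → ℂ) * (ζ : G → ℂ) g) / 4 = ∑ ζ : IrrCharacter G,
      contribE 2 (Subgroup.centralizer ((Subgroup.zpowers a : Subgroup G) : Set G)) a fa
        (χ₀ : G → ℂ) (ζ : G → ℂ) * (ζ : G → ℂ) g := by
      field_simp
    rw [this]
    exact h1
  · intro g
    rw [htheta g]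
    have h1 := (contribE_row_eval hM a hx _ hK hfa χ₀ g).2.2
    rw [hdf] at h1
    have : ((2 ^ 2 : ℕ) : ℂ) = 4 := by norm_num
    rw [this] at h1
    exact h1

/-- orthogonality of the rows at two distinct involutions, in the case `e = 1` -/
theorem involution_orth [Fact (Nat.Prime 2)] (hM : IsPModular 2 M)
    (B : Set (IrrCharacter G)) (P : Subgroup G)
    (c : Set (IrrCharacter (Subgroup.centralizer (P : Set G))))
    (hmax : IsMaximalBrauerPair 2 M B P c) (hab : ∀ x ∈ P, ∀ y ∈ P, x * y = y * x)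
    (hcent : stabT P c ≤ Subgroup.centralizer (P : Set G))
    (χ₀ : IrrCharacter G)
    (a a' : G) (haP : a ∈ P) (ha'P : a' ∈ P) (hne : a ≠ a') (haa : a * a = 1)
    (ha'a' : a' * a' = 1)
    [Fintype (Subgroup.centralizer ((Subgroup.zpowers a : Subgroup G) : Set G))]
    [Fintype (Subgroup.centralizer ((Subgroup.zpowers a' : Subgroup G) : Set G))]
    (fa : Set (IrrCharacter (Subgroup.centralizer ((Subgroup.zpowers a : Subgroup G) : Set G))))
    (hfa : IsPBlock M fa) (hlea : SubpairLE 2 M (Subgroup.zpowers a) fa P c)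
    (fa' : Set (IrrCharacter (Subgroup.centralizer ((Subgroup.zpowers a' : Subgroup G) : Set G))))
    (hfa' : IsPBlock M fa') (hlea' : SubpairLE 2 M (Subgroup.zpowers a') fa' P c) :
    ∑ ψ : IrrCharacter G,
      contribE 2 (Subgroup.centralizer ((Subgroup.zpowers a : Subgroup G) : Set G)) a fa
        (χ₀ : G → ℂ) (ψ : G → ℂ) *
      conj (contribE 2 (Subgroup.centralizer ((Subgroup.zpowers a' : Subgroup G) : Set G)) a' fa'
        (χ₀ : G → ℂ) (ψ : G → ℂ)) = 0 := by
  classical
  have hx : ∃ k : ℕ, orderOf a = 2 ^ k := orderOf_involution_pow haa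
  have hx' : ∃ k : ℕ, orderOf a' = 2 ^ k := orderOf_involution_pow ha'a'
  have hK := Helper16.centralizer_zpowers_eq a
  have hK' := Helper16.centralizer_zpowers_eq a'
  by_cases hconj : IsConj a a'
  · obtain ⟨g, hg⟩ := isConj_iff.mp hconj
    haveI : Fintype (Subgroup.centralizer ({a'} : Set G)) := Fintype.ofFinite _
    have h1' : (1 : G) * a' * (1 : G)⁻¹ = a' := by group
    have hχ := Helper16.irr_isClassFunction χ₀
    have e1 : ∀ ψ : IrrCharacter G,
        contribE 2 (Subgroup.centralizer ((Subgroup.zpowers a : Subgroup G) : Set G)) a fa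
          (χ₀ : G → ℂ) (ψ : G → ℂ) =
        contribE 2 (Subgroup.centralizer ({a'} : Set G)) a' (transBlock a a' g fa)
          (χ₀ : G → ℂ) (ψ : G → ℂ) := fun ψ =>
      (Helper16.contribE_transBlock a a' g hg fa hχ (Helper16.irr_isClassFunction ψ)).symm
    have e2 : ∀ ψ : IrrCharacter G,
        contribE 2 (Subgroup.centralizer ((Subgroup.zpowers a' : Subgroup G) : Set G)) a' fa'
          (χ₀ : G → ℂ) (ψ : G → ℂ) =
        contribE 2 (Subgroup.centralizer ({a'} : Set G)) a' (transBlock a' a' 1 fa')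
          (χ₀ : G → ℂ) (ψ : G → ℂ) := fun ψ =>
      (Helper16.contribE_transBlock a' a' 1 h1' fa' hχ (Helper16.irr_isClassFunction ψ)).symm
    rw [Finset.sum_congr rfl (fun ψ _ => by rw [e1 ψ, e2 ψ])]
    refine sum_contribE_mul_conj_eq_zero_of_ne hM a' hx' _ rfl
      (Helper16.isPBlock_transBlock _ _ _ hg hfa) (Helper16.isPBlock_transBlock _ _ _ h1' hfa') ?_ χ₀
    intro heq
    have hidx := Helper16.conjIdx_eq_of_transBlock_eq a a' a' g 1 hg h1' fa fa' heq
    have hQP : Subgroup.zpowers a ≤ P := by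
      rw [Subgroup.zpowers_le]; exact haP
    have hQ'P : Subgroup.zpowers a' ≤ P := by
      rw [Subgroup.zpowers_le]; exact ha'P
    have hPK : P ≤ Subgroup.centralizer ((Subgroup.zpowers a : Subgroup G) : Set G) :=
      le_centralizer_of_abelian P _ hab hQP
    have hPK' : P ≤ Subgroup.centralizer ((Subgroup.zpowers a' : Subgroup G) : Set G) :=
      le_centralizer_of_abelian P _ hab hQ'P
    obtain ⟨t₁, ht₁, hfix⟩ := Helper16.exists_stabilizer_conj hM B P c hmax _ _ fa fa' hPK hQ'P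
      hPK' hfa' hlea hlea' ((1 : G)⁻¹ * g) hidx
    have hmem : t₁ * ((1 : G)⁻¹ * g) ∈ stabT P c :=
      mem_stabT_of_conjIdx_le hM P c hmax.1.1 _ (by rw [hfix])
    have hcen := hcent hmem
    rw [Subgroup.mem_centralizer_iff] at hcen ht₁
    have h2 : a * (t₁ * ((1 : G)⁻¹ * g)) = t₁ * ((1 : G)⁻¹ * g) * a := hcen a haP
    have h3 : a' * t₁ = t₁ * a' := ht₁ a' (Subgroup.mem_zpowers a')
    apply hne
    calc a = a * (t₁ * ((1 : G)⁻¹ * g)) * (t₁ * ((1 : G)⁻¹ * g))⁻¹ := by group
      _ = t₁ * (g * a * g⁻¹) * t₁⁻¹ := by rw [h2]; group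
      _ = t₁ * a' * t₁⁻¹ := by rw [hg]
      _ = a' := by rw [← h3]; group
  · exact sum_contribE_mul_conj_eq_zero_of_not_isConj a a' hx hx' _ _ hK hK' fa fa' hconj χ₀

/-- **The singular structure from a family of involutions.** -/
theorem kleinSing_of_involutions [Fact (Nat.Prime 2)] (hM : IsPModular 2 M)
    (B : Set (IrrCharacter G)) (hB : IsPBlock M B) (P : Subgroup G)
    (c : Set (IrrCharacter (Subgroup.centralizer (P : Set G))))
    (hmax : IsMaximalBrauerPair 2 M B P c) (hab : ∀ x ∈ P, ∀ y ∈ P, x * y = y * x)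
    (hfree : ∀ g ∈ stabT P c, ∀ x ∈ P, x ≠ 1 → g * x * g⁻¹ = x →
      g ∈ Subgroup.centralizer (P : Set G))
    (hd2 : blockDefect 2 B = 2) (hk4 : Nat.card B = 4) (r : ℕ) (inv : Fin r → G)
    (hinvP : ∀ i, inv i ∈ P) (hinv1 : ∀ i, inv i ≠ 1) (hinv2 : ∀ i, inv i * inv i = 1)
    (hdist : ∀ i k, i ≠ k → stabT P c ≤ Subgroup.centralizer (P : Set G) ∧ inv i ≠ inv k)
    (hrank : blockRank 2 B + r = 4) :
    ∃ d : Fin r → IrrCharacter G → ℤ, KleinSing 2 M B r d := by
  classical
  letI : ∀ S : Subgroup G, Fintype S := fun S => Fintype.ofFinite S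
  have hMp : M.IsPrime := Helper16.IsPModular.isPrime hM
  have hPe : IsBrauerPair 2 M P c := hmax.1.1
  obtain ⟨χ₀, hχ₀, h0⟩ := Helper78.exists_height_zero (p := 2) hMp hB
  have hdata : ∀ i : Fin r, ∃ (fa : Set (IrrCharacter
      (Subgroup.centralizer ((Subgroup.zpowers (inv i) : Subgroup G) : Set G))))
      (d : IrrCharacter G → ℤ), IsPBlock M fa ∧ SubpairLE 2 M (Subgroup.zpowers (inv i)) fa P c ∧
      (∀ χ, χ ∉ B → d χ = 0) ∧ (∀ χ, χ ∈ B → d χ = 1 ∨ d χ = -1) ∧
      (∀ ζ : IrrCharacter G, (d ζ : ℂ) =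
        4 * contribE 2 (Subgroup.centralizer ((Subgroup.zpowers (inv i) : Subgroup G) : Set G))
          (inv i) fa (χ₀ : G → ℂ) (ζ : G → ℂ)) ∧
      (∀ g : G, IsPRegular 2 g → thetaSum d g = 0) ∧
      (∀ g : G, MemLocalRing M (thetaSum d g / 4)) ∧
      (∀ g : G, MemLocalRing M
        (thetaSum d g / (Nat.card (Subgroup.centralizer ({g} : Set G)) : ℂ))) := by
    intro i
    have hQP : Subgroup.zpowers (inv i) ≤ P := by
      rw [Subgroup.zpowers_le]; exact hinvP i
    obtain ⟨fa, ⟨hfa, hlea⟩, -⟩ := existsUnique_subpairLE hM P (Subgroup.zpowers (inv i)) c hPe hQP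
    obtain ⟨d, h1, h2, h3, h4, h5, h6⟩ := involution_data hM B P c hmax hab hfree hd2 hk4 χ₀ hχ₀ h0
      (inv i) (hinvP i) (hinv1 i) (hinv2 i) fa hfa hlea
    exact ⟨fa, d, hfa, hlea, h1, h2, h3, h4, h5, h6⟩
  choose f d hf hle hsupp hsign hform hvan hint4 hintC using hdata
  have horth : ∀ i k, i ≠ k → ∑ ψ : IrrCharacter G, d i ψ * d k ψ = 0 := by
    intro i k hik
    obtain ⟨hcent, hne⟩ := hdist i k hik
    have h1 := involution_orth hM B P c hmax hab hcent χ₀ (inv i) (inv k) (hinvP i) (hinvP k) hne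
      (hinv2 i) (hinv2 k) (f i) (hf i) (hle i) (f k) (hf k) (hle k)
    have h2 : ((∑ ψ : IrrCharacter G, d i ψ * d k ψ : ℤ) : ℂ) = ((0 : ℤ) : ℂ) := by
      rw [Int.cast_sum, Int.cast_zero]
      have h3 : ∀ ψ : IrrCharacter G, ((d i ψ * d k ψ : ℤ) : ℂ) = 16 *
          (contribE 2 (Subgroup.centralizer ((Subgroup.zpowers (inv i) : Subgroup G) : Set G))
            (inv i) (f i) (χ₀ : G → ℂ) (ψ : G → ℂ) *
          conj (contribE 2 (Subgroup.centralizer ((Subgroup.zpowers (inv k) : Subgroup G) : Set G))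
            (inv k) (f k) (χ₀ : G → ℂ) (ψ : G → ℂ))) := by
        intro ψ
        have h4 : ((d k ψ : ℤ) : ℂ) = conj ((d k ψ : ℤ) : ℂ) := (map_intCast _ _).symm
        have h5 : conj (4 : ℂ) = 4 := by
          rw [show (4 : ℂ) = ((4 : ℕ) : ℂ) by norm_num, Complex.conj_natCast]
        rw [Int.cast_mul, h4, hform i ψ, hform k ψ, map_mul, h5]
        ring
      rw [Finset.sum_congr rfl (fun ψ _ => h3 ψ), ← Finset.mul_sum, h1, mul_zero]
    exact_mod_cast h2
  exact ⟨d, ⟨hsupp, hsign, hvan, hint4, hintC,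
    expand_of_rank hM hB hsupp hsign hk4 horth hvan hrank, hk4, horth⟩⟩

/-- **The singular structure of a block with a Klein four defect group.** -/
theorem exists_kleinSing [Fact (Nat.Prime 2)] (hM : IsPModular 2 M)
    (B : Set (IrrCharacter G)) (hB : IsPBlock M B) (P : Subgroup G)
    (hPD : IsDefectGroup 2 M B P) (hV : IsKleinFour P)
    (c : Set (IrrCharacter (Subgroup.centralizer (P : Set G))))
    (hc : IsInducedBlock M (Subgroup.centralizer (P : Set G)) c B) :
    ∃ (r : ℕ) (d : Fin r → IrrCharacter G → ℤ),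
      blockRank 2 B + r = 4 ∧ (r = 1 ∨ r = 3) ∧ KleinSing 2 M B r d := by
  classical
  have hab : ∀ x ∈ P, ∀ y ∈ P, x * y = y * x := by
    intro x hx y hy
    have := mul_comm_of_exponent_two (G := P) hV.exponent_two ⟨x, hx⟩ ⟨y, hy⟩
    exact congrArg Subtype.val this
  have hmax := isMaximalBrauerPair_of_isInducedBlock_of_abelian hM B hB P hPD hab c hc
  have hT : ∀ g : G, g ∈ stabT P c ↔ (g ∈ Subgroup.normalizer (P : Set G) ∧
      StabilizesBlock (Subgroup.centralizer (P : Set G)) c g) := fun g => mem_stabT P c g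
  obtain ⟨h13, hk4, hrank⟩ := klein_four_main hM B hB P hPD hV c hc (stabT P c) hT _ rfl
  obtain ⟨hPT, hCT, hTN, hstabT⟩ := stab_basic P c _ hT
  have hodd := not_dvd_relIndex_of_abelian hM B hB P hPD hab c hc _ hT
  obtain ⟨hfree, -, -⟩ := kleinFour_stab_action P _ hV hCT hTN hodd
  have hcardP := card_defectGroup hM hB P hPD
  have hd2 : blockDefect 2 B = 2 := by
    rw [hV.card_four] at hcardP
    have h1 : (2 : ℕ) ^ 2 = 2 ^ blockDefect 2 B := by rw [← hcardP]; norm_num
    exact (Nat.pow_right_injective (le_refl 2) h1).symm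
  have hinvol : ∀ a ∈ P, a * a = 1 := by
    intro a haP
    have := IsKleinFour.mul_self (G := P) ⟨a, haP⟩
    exact congrArg Subtype.val this
  rcases h13 with h1 | h3
  · -- `e = 1`, three involutions
    have hTC : stabT P c ≤ Subgroup.centralizer (P : Set G) := Subgroup.relIndex_eq_one.mp h1
    haveI : Fintype P := Fintype.ofFinite P
    have hcard3 : Fintype.card {x : P | x ≠ 1} = 3 := by
      rw [Set.card_ne_eq, ← Nat.card_eq_fintype_card, hV.card_four]
    let σ : Fin 3 ≃ {x : P | x ≠ 1} := (Fintype.equivFinOfCardEq hcard3).symm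
    let inv : Fin 3 → G := fun i => (((σ i : {x : P | x ≠ 1}) : P) : G)
    have hinvP : ∀ i, inv i ∈ P := fun i => ((σ i : {x : P | x ≠ 1}) : P).2
    have hinv1 : ∀ i, inv i ≠ 1 := by
      intro i h
      exact (σ i).2 (Subtype.ext h)
    have hinj : ∀ i k, i ≠ k → inv i ≠ inv k := by
      intro i k hik h
      apply hik
      apply σ.injective
      exact Subtype.ext (Subtype.ext h)
    obtain ⟨d, hd⟩ := kleinSing_of_involutions hM B hB P c hmax hab hfree hd2 hk4 3 inv hinvP hinv1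
      (fun i => hinvol _ (hinvP i)) (fun i k hik => ⟨hTC, hinj i k hik⟩)
      (by rw [hrank, h1])
    exact ⟨3, d, by rw [hrank, h1], Or.inr rfl, hd⟩
  · -- `e = 3`, one involution
    obtain ⟨a, haP, ha1⟩ : ∃ a : G, a ∈ P ∧ a ≠ 1 := by
      by_contra hcon
      push Not at hcon
      have : Nat.card P ≤ 1 := by
        haveI : Fintype P := Fintype.ofFinite P
        rw [Nat.card_eq_fintype_card (α := P)]
        refine Fintype.card_le_one_iff.mpr (fun x y => ?_)
        apply Subtype.ext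
        rw [hcon x x.2, hcon y y.2]
      rw [hV.card_four] at this
      omega
    obtain ⟨d, hd⟩ := kleinSing_of_involutions hM B hB P c hmax hab hfree hd2 hk4 1 (fun _ => a)
      (fun _ => haP) (fun _ => ha1) (fun _ => hinvol a haP)
      (fun i k hik => absurd (Subsingleton.elim i k) hik) (by rw [hrank, h3])
    exact ⟨1, d, by rw [hrank, h3], Or.inl rfl, hd⟩

end Involution

end Cfsg.Agent.Helper77
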