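import Cfsg.Agent.Helper77.AbelianLocal
import Cfsg.Agent.Helper77.InducedNested
import Cfsg.Agent.Helper16.MajorSub

/-!
# The roots of a block with abelian defect group and of its Brauer correspondent

Let `B` be a block of `G` with abelian defect group `P`, and let `c` be a block of `N = N_G(P)`
with defect group `P` inducing `B`.  A root `α` of `c` in `C_N(P)`, transported to `C_G(P)`, is a
root of `B`, and the inertial indices agree.

(helper77, file 66.)
-/

set_option autoImplicit false
set_option linter.unusedSectionVars false
set_option linter.unusedVariables false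
set_option maxHeartbeats 1000000

namespace Cfsg.Agent.Helper77

open Cfsg
open Cfsg.Agent.Helper78 (irrMap)

section Corr

variable {G : Type*} [Group G] [Fintype G] {M : Ideal AlgInt} {p : ℕ}

/-- Stabilization of a block of `C_K(R)` by an element of `K`, read in `G`. -/
theorem stabilizesBlock_up_symm (K : Subgroup G) [Fintype K] (R : Subgroup G) (hRK : R ≤ K)
    (hR : Subgroup.centralizer (R : Set G) ≤ K)
    (α : Set (IrrCharacter (Subgroup.centralizer ((R.subgroupOf K : Subgroup K) : Set K))))
    (x : K)
    (hx : StabilizesBlock (Subgroup.centralizer ((R.subgroupOf K : Subgroup K) : Set K)) α x)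
    (hxN : (x : G) ∈ Subgroup.normalizer (R : Set G)) :
    StabilizesBlock (Subgroup.centralizer (R : Set G))
      (irrMap (centDown K R hRK hR).symm '' α) (x : G) := by
  refine ⟨Helper78.normalizer_le_normalizer_centralizer _ hxN, ?_⟩
  rintro _ ⟨ξ, hξ, rfl⟩
  obtain ⟨ξ', hξ', hconj⟩ := hx.2 ξ hξ
  refine ⟨irrMap (centDown K R hRK hR).symm ξ', Set.mem_image_of_mem _ hξ', ?_⟩
  intro k k' hkk'
  rw [Helper78.irrMap_apply, Helper78.irrMap_apply]
  apply hconj
  apply Subtype.ext
  exact hkk'

/-- **Roots of a block and of its Brauer correspondent, with the same inertial index.** -/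
theorem exists_roots_same_index [Fact p.Prime] (hM : IsPModular p M)
    (B : Set (IrrCharacter G)) (P : Subgroup G)
    (hab : ∀ x ∈ P, ∀ y ∈ P, x * y = y * x)
    [Fintype (Subgroup.normalizer (P : Set G))]
    (c : Set (IrrCharacter (Subgroup.normalizer (P : Set G))))
    (hcD : IsDefectGroup p M c (P.subgroupOf (Subgroup.normalizer (P : Set G))))
    (hc : IsInducedBlock M (Subgroup.normalizer (P : Set G)) c B) :
    ∃ (α : Set (IrrCharacter (Subgroup.centralizer
        ((P.subgroupOf (Subgroup.normalizer (P : Set G)) :
          Subgroup (Subgroup.normalizer (P : Set G))) : Set (Subgroup.normalizer (P : Set G))))))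
      (bP : Set (IrrCharacter (Subgroup.centralizer (P : Set G)))),
      IsInducedBlock M (Subgroup.centralizer
        ((P.subgroupOf (Subgroup.normalizer (P : Set G)) :
          Subgroup (Subgroup.normalizer (P : Set G))) : Set (Subgroup.normalizer (P : Set G))))
        α c ∧
      IsInducedBlock M (Subgroup.centralizer (P : Set G)) bP B ∧
      (Subgroup.centralizer
        ((P.subgroupOf (Subgroup.normalizer (P : Set G)) :
          Subgroup (Subgroup.normalizer (P : Set G))) :
            Set (Subgroup.normalizer (P : Set G)))).relIndex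
        (stabT (P.subgroupOf (Subgroup.normalizer (P : Set G))) α) =
      (Subgroup.centralizer (P : Set G)).relIndex (stabT P bP) := by
  classical
  have hMp : M.IsPrime := isPrime_of_isPModular hM
  have hPN : P ≤ Subgroup.normalizer (P : Set G) := Subgroup.le_normalizer
  have hCN : Subgroup.centralizer (P : Set G) ≤ Subgroup.normalizer (P : Set G) :=
    Subgroup.centralizer_le_normalizer _
  have hcB : IsPBlock M c := hc.1
  -- a root of `c`
  obtain ⟨b', -, hind'⟩ := exists_block_sup_centralizer
    (P.subgroupOf (Subgroup.normalizer (P : Set G))) hM c hcB hcD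
  obtain ⟨α, hα, -, hmax'⟩ := Helper16.exists_maximalPair_of_induced hM c hcB _ hcD b' hind'
  have hab' : P.subgroupOf (Subgroup.normalizer (P : Set G)) ≤
      Subgroup.centralizer ((P.subgroupOf (Subgroup.normalizer (P : Set G)) :
        Subgroup (Subgroup.normalizer (P : Set G))) : Set (Subgroup.normalizer (P : Set G))) := by
    intro x hx
    rw [Helper78.mem_centralizer_subgroupOf_iff hPN]
    rw [Subgroup.mem_subgroupOf] at hx
    rw [Subgroup.mem_centralizer_iff]
    intro y hy
    exact hab y hy (x : G) hx
  have hαc := Helper16.isInducedBlock_of_isBrauerPairOf_abelian hM c _ hab' α hmax'.1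
  -- the transported root
  set σ := centDown (Subgroup.normalizer (P : Set G)) P hPN hCN with hσ
  have hbP : IsInducedBlock M (Subgroup.centralizer (P : Set G)) (irrMap σ.symm '' α) B :=
    isInducedBlock_trans_equiv (Subgroup.normalizer (P : Set G)) _ _ σ.symm (fun x => rfl) hαc hc
  refine ⟨α, irrMap σ.symm '' α, hαc, hbP, ?_⟩
  -- the stabilizers
  have hdown : downBlock (Subgroup.normalizer (P : Set G)) P hPN hCN (irrMap σ.symm '' α) = α := by
    unfold downBlock
    exact Helper78.image_irrMap_image_irrMap_symm σ α
  have hT : stabT (P.subgroupOf (Subgroup.normalizer (P : Set G))) α =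
      (stabT P (irrMap σ.symm '' α)).subgroupOf (Subgroup.normalizer (P : Set G)) := by
    ext x
    rw [Subgroup.mem_subgroupOf, mem_stabT, mem_stabT]
    have hxN : x ∈ Subgroup.normalizer ((P.subgroupOf (Subgroup.normalizer (P : Set G)) :
        Subgroup (Subgroup.normalizer (P : Set G))) : Set (Subgroup.normalizer (P : Set G))) :=
      mem_normalizer_subgroupOf _ P x x.2
    constructor
    · rintro ⟨-, hx⟩
      exact ⟨x.2, stabilizesBlock_up_symm _ P hPN hCN α x hx x.2⟩
    · rintro ⟨-, hx⟩
      refine ⟨hxN, ?_⟩
      have := stabilizesBlock_down (Subgroup.normalizer (P : Set G)) P hPN hCN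
        (irrMap σ.symm '' α) x hx hxN
      rwa [hdown] at this
  have hC : Subgroup.centralizer ((P.subgroupOf (Subgroup.normalizer (P : Set G)) :
        Subgroup (Subgroup.normalizer (P : Set G))) : Set (Subgroup.normalizer (P : Set G))) =
      (Subgroup.centralizer (P : Set G)).subgroupOf (Subgroup.normalizer (P : Set G)) := by
    ext x
    rw [Subgroup.mem_subgroupOf, Helper78.mem_centralizer_subgroupOf_iff hPN]
  have hTN : stabT P (irrMap σ.symm '' α) ≤ Subgroup.normalizer (P : Set G) :=
    fun y hy => ((mem_stabT P _ y).mp hy).1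
  have key : ∀ (X : Subgroup (Subgroup.normalizer (P : Set G))) (T₀ : Subgroup G),
      X = (Subgroup.centralizer (P : Set G)).subgroupOf (Subgroup.normalizer (P : Set G)) →
      T₀ ≤ Subgroup.normalizer (P : Set G) →
      X.relIndex (T₀.subgroupOf (Subgroup.normalizer (P : Set G))) =
        (Subgroup.centralizer (P : Set G)).relIndex T₀ := by
    intro X T₀ hX hT₀
    rw [hX, Subgroup.relIndex_subgroupOf hT₀]
  rw [hT]
  exact key _ _ hC hTN

end Corr

end Cfsg.Agent.Helper77
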