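import Cfsg.Agent.Helper77.PerfLemmaV
import Cfsg.Prelude.Def_BlockLocal
import Cfsg.Agent.Helper78.IrrBasic

/-!
# A perfectness criterion: blocks whose singular part is spanned by signed sums

(helper77, file 61.)
-/

set_option autoImplicit false
set_option linter.unusedSectionVars false
set_option linter.unusedVariables false
set_option maxHeartbeats 1000000

namespace Cfsg.Agent.Helper77

open Cfsg
open scoped ComplexConjugate

section Defs

variable {X : Type*} [Group X] [Fintype (IrrCharacter X)]

/-- the signed sum `∑ d χ • χ` -/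
noncomputable def thetaSum (d : IrrCharacter X → ℤ) (g : X) : ℂ :=
  ∑ χ : IrrCharacter X, (d χ : ℂ) * (χ : X → ℂ) g

/-- The singular part of the block `B` is spanned by the `r` signed sums `∑ d i χ • χ`. -/
structure KleinSing (p : ℕ) (M : Ideal AlgInt) (B : Set (IrrCharacter X)) (r : ℕ)
    (d : Fin r → IrrCharacter X → ℤ) : Prop where
  supp : ∀ i χ, χ ∉ B → d i χ = 0
  sign : ∀ i χ, χ ∈ B → d i χ = 1 ∨ d i χ = -1
  van : ∀ i g, IsPRegular p g → thetaSum (d i) g = 0
  int4 : ∀ i g, MemLocalRing M (thetaSum (d i) g / 4)
  intC : ∀ i g, MemLocalRing M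
    (thetaSum (d i) g / (Nat.card (Subgroup.centralizer ({g} : Set X)) : ℂ))
  expand : ∀ χ ∈ B, ∀ g, ¬ IsPRegular p g →
    (χ : X → ℂ) g = (1 / 4 : ℂ) * ∑ i, (d i χ : ℂ) * thetaSum (d i) g
  card : Nat.card B = 4
  orth : ∀ i k, i ≠ k → ∑ ψ : IrrCharacter X, d i ψ * d k ψ = 0

end Defs

section Kernel

variable {G : Type*} [Group G] [Finite G] [Fintype (IrrCharacter G)]
  {H : Type*} [Group H] [Finite H] [Fintype (IrrCharacter H)]
  {M : Ideal AlgInt} {p : ℕ}

open Classical in
theorem signedBijectionKernel_eq_sum (c : Set (IrrCharacter H))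
    (I : IrrCharacter H → IrrCharacter G) (ε : IrrCharacter H → ℤ) (x : G) (y : H) :
    signedBijectionKernel c I ε x y =
      ∑ η : IrrCharacter H, if η ∈ c then (ε η : ℂ) * (I η : G → ℂ) x * (η : H → ℂ) y else 0 := by
  unfold signedBijectionKernel
  rw [finsum_mem_def, finsum_eq_sum_of_fintype]
  refine Finset.sum_congr rfl (fun η _ => ?_)
  rw [Set.indicator_apply]

open Classical in
/-- reindexing along the bijection -/
theorem sum_ite_comp_bijOn {B : Set (IrrCharacter G)} {c : Set (IrrCharacter H)}
    {I : IrrCharacter H → IrrCharacter G} (hI : Set.BijOn I c B) (F : IrrCharacter G → ℂ) :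
    (∑ η : IrrCharacter H, if η ∈ c then F (I η) else 0) =
      ∑ χ : IrrCharacter G, if χ ∈ B then F χ else 0 := by
  have h1 : (∑ η : IrrCharacter H, if η ∈ c then F (I η) else 0) = ∑ᶠ η ∈ c, F (I η) := by
    rw [finsum_mem_def, finsum_eq_sum_of_fintype]
    refine Finset.sum_congr rfl (fun η _ => ?_)
    rw [Set.indicator_apply]
  have h2 : (∑ χ : IrrCharacter G, if χ ∈ B then F χ else 0) = ∑ᶠ χ ∈ B, F χ := by
    rw [finsum_mem_def, finsum_eq_sum_of_fintype]
    refine Finset.sum_congr rfl (fun η _ => ?_)
    rw [Set.indicator_apply]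
  rw [h1, h2]
  exact finsum_mem_eq_of_bijOn I hI (fun η _ => rfl)

variable {B : Set (IrrCharacter G)} {c : Set (IrrCharacter H)} {r : ℕ}
  {d : Fin r → IrrCharacter G → ℤ} {d' : Fin r → IrrCharacter H → ℤ}

open Classical in
/-- the kernel at a singular `x` -/
theorem kernel_of_sing_left (hS : KleinSing p M B r d) (hS' : KleinSing p M c r d')
    (I : IrrCharacter H → IrrCharacter G) (ε : IrrCharacter H → ℤ)
    (hI : Set.BijOn I c B)
    (hstar : ∀ i, ∀ η ∈ c, ε η * d i (I η) = d' i η) (x : G) (y : H)
    (hx : ¬ IsPRegular p x) :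
    signedBijectionKernel c I ε x y =
      (1 / 4 : ℂ) * ∑ i, thetaSum (d i) x * thetaSum (d' i) y := by
  rw [signedBijectionKernel_eq_sum]
  have h1 : ∀ η : IrrCharacter H,
      (if η ∈ c then (ε η : ℂ) * (I η : G → ℂ) x * (η : H → ℂ) y else 0) =
      (1 / 4 : ℂ) * ∑ i, thetaSum (d i) x * ((d' i η : ℂ) * (η : H → ℂ) y) := by
    intro η
    by_cases hη : η ∈ c
    · rw [if_pos hη, hS.expand (I η) (hI.mapsTo hη) x hx]
      have h2 : ∀ i, ((d' i η : ℤ) : ℂ) = (ε η : ℂ) * (d i (I η) : ℂ) := by
        intro i
        rw [← hstar i η hη]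
        push_cast
        ring
      simp only [h2, Finset.mul_sum, Finset.sum_mul]
      refine Finset.sum_congr rfl (fun i _ => ?_)
      ring
    · rw [if_neg hη]
      have h2 : ∀ i, d' i η = 0 := fun i => hS'.supp i η hη
      simp only [h2, Int.cast_zero, zero_mul, mul_zero, Finset.sum_const_zero]
  rw [Finset.sum_congr rfl (fun η _ => h1 η), ← Finset.mul_sum, Finset.sum_comm]
  congr 1
  refine Finset.sum_congr rfl (fun i _ => ?_)
  rw [← Finset.mul_sum]
  rfl

open Classical in
/-- the kernel at a singular `y` -/
theorem kernel_of_sing_right (hS : KleinSing p M B r d) (hS' : KleinSing p M c r d')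
    (I : IrrCharacter H → IrrCharacter G) (ε : IrrCharacter H → ℤ)
    (hI : Set.BijOn I c B) (hε : ∀ η ∈ c, ε η = 1 ∨ ε η = -1)
    (hstar : ∀ i, ∀ η ∈ c, ε η * d i (I η) = d' i η) (x : G) (y : H)
    (hy : ¬ IsPRegular p y) :
    signedBijectionKernel c I ε x y =
      (1 / 4 : ℂ) * ∑ i, thetaSum (d i) x * thetaSum (d' i) y := by
  rw [signedBijectionKernel_eq_sum]
  have h1 : ∀ η : IrrCharacter H,
      (if η ∈ c then (ε η : ℂ) * (I η : G → ℂ) x * (η : H → ℂ) y else 0) =
      (1 / 4 : ℂ) * ∑ i, thetaSum (d' i) y *
        (if η ∈ c then (d i (I η) : ℂ) * (I η : G → ℂ) x else 0) := by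
    intro η
    by_cases hη : η ∈ c
    · simp only [if_pos hη]
      rw [hS'.expand η hη y hy]
      have h2 : ∀ i, (ε η : ℂ) * ((d' i η : ℤ) : ℂ) = (d i (I η) : ℂ) := by
        intro i
        rw [← hstar i η hη]
        push_cast
        rcases hε η hη with h | h <;> rw [h] <;> push_cast <;> ring
      simp only [Finset.mul_sum, Finset.sum_mul]
      refine Finset.sum_congr rfl (fun i _ => ?_)
      rw [← h2 i]
      ring
    · simp only [if_neg hη, mul_zero, Finset.sum_const_zero]
  rw [Finset.sum_congr rfl (fun η _ => h1 η), ← Finset.mul_sum, Finset.sum_comm]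
  congr 1
  refine Finset.sum_congr rfl (fun i _ => ?_)
  rw [← Finset.mul_sum, mul_comm]
  congr 1
  rw [sum_ite_comp_bijOn hI (fun χ => (d i χ : ℂ) * (χ : G → ℂ) x)]
  unfold thetaSum
  refine Finset.sum_congr rfl (fun χ _ => ?_)
  by_cases hχ : χ ∈ B
  · rw [if_pos hχ]
  · rw [if_neg hχ, hS.supp i χ hχ, Int.cast_zero, zero_mul]

open Classical in
/-- **The perfectness criterion.** -/
theorem isPerfectIsometry_of_kleinSing [Fact p.Prime] (hM : IsPModular p M)
    (hS : KleinSing p M B r d) (hS' : KleinSing p M c r d')
    (I : IrrCharacter H → IrrCharacter G) (ε : IrrCharacter H → ℤ)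
    (hI : Set.BijOn I c B) (hε : ∀ η ∈ c, ε η = 1 ∨ ε η = -1)
    (hstar : ∀ i, ∀ η ∈ c, ε η * d i (I η) = d' i η) :
    IsPerfectIsometry p M c B I ε := by
  haveI hMp : M.IsPrime := isPrime_of_isPModular hM
  refine ⟨hI, hε, ?_⟩
  -- vanishing when exactly one argument is singular
  have hzero1 : ∀ x y, ¬ IsPRegular p x → IsPRegular p y →
      signedBijectionKernel c I ε x y = 0 := by
    intro x y hx hy
    rw [kernel_of_sing_left hS hS' I ε hI hstar x y hx]
    have : ∀ i, thetaSum (d i) x * thetaSum (d' i) y = 0 := by
      intro i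
      rw [hS'.van i y hy, mul_zero]
    simp only [this, Finset.sum_const_zero, mul_zero]
  have hzero2 : ∀ x y, IsPRegular p x → ¬ IsPRegular p y →
      signedBijectionKernel c I ε x y = 0 := by
    intro x y hx hy
    rw [kernel_of_sing_right hS hS' I ε hI hε hstar x y hy]
    have : ∀ i, thetaSum (d i) x * thetaSum (d' i) y = 0 := by
      intro i
      rw [hS.van i x hx, zero_mul]
    simp only [this, Finset.sum_const_zero, mul_zero]
  intro x y
  by_cases hx : IsPRegular p x
  · by_cases hy : IsPRegular p y
    · -- both regular: Lemma V on both sides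
      refine ⟨?_, ?_, Or.inl ⟨fun _ => hy, fun _ => hx⟩⟩
      · -- the `G`-side
        set a : IrrCharacter G → ℂ := fun χ => ∑ η : IrrCharacter H,
          if η ∈ c then (if I η = χ then (ε η : ℂ) * (η : H → ℂ) y else 0) else 0 with ha
        have hamem : ∀ χ, MemLocalRing M (a χ) := by
          intro χ
          refine memLocalRing_sum M _ _ (fun η _ => ?_)
          by_cases h1 : η ∈ c
          · rw [if_pos h1]
            by_cases h2 : I η = χ
            · rw [if_pos h2]
              exact memLocalRing_mul M (memLocalRing_intCast M _)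
                (memLocalRing_of_isIntegral M (Helper78.isIntegral_irrChar_apply η.2 y))
            · rw [if_neg h2]
              exact memLocalRing_of_isIntegral M isIntegral_zero
          · rw [if_neg h1]
            exact memLocalRing_of_isIntegral M isIntegral_zero
        have hsum : ∀ g : G, ∑ χ : IrrCharacter G, a χ * (χ : G → ℂ) g =
            signedBijectionKernel c I ε g y := by
          intro g
          rw [signedBijectionKernel_eq_sum]
          simp only [ha, Finset.sum_mul]
          rw [Finset.sum_comm]
          refine Finset.sum_congr rfl (fun η _ => ?_)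
          by_cases h1 : η ∈ c
          · simp only [if_pos h1]
            have : ∀ χ : IrrCharacter G,
                (if I η = χ then (ε η : ℂ) * (η : H → ℂ) y else 0) * (χ : G → ℂ) g =
                if I η = χ then (ε η : ℂ) * (η : H → ℂ) y * (χ : G → ℂ) g else 0 := by
              intro χ
              by_cases h2 : I η = χ
              · rw [if_pos h2, if_pos h2]
              · rw [if_neg h2, if_neg h2, zero_mul]
            rw [Finset.sum_congr rfl (fun χ _ => this χ), Finset.sum_ite_eq, if_pos (Finset.mem_univ _)]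
            ring
          · simp only [if_neg h1, zero_mul, Finset.sum_const_zero]
        have hvan : ∀ g : G, p ∣ orderOf g → ∑ χ : IrrCharacter G, a χ * (χ : G → ℂ) g = 0 := by
          intro g hg
          rw [hsum g]
          exact hzero1 g y (fun h => h hg) hy
        have := memLocalRing_div_card_centralizer_of_vanish hM a hamem hvan x hx
        rwa [hsum x] at this
      · -- the `H`-side
        set a : IrrCharacter H → ℂ := fun η =>
          if η ∈ c then (ε η : ℂ) * (I η : G → ℂ) x else 0 with ha
        have hamem : ∀ η, MemLocalRing M (a η) := by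
          intro η
          simp only [ha]
          by_cases h1 : η ∈ c
          · rw [if_pos h1]
            exact memLocalRing_mul M (memLocalRing_intCast M _)
              (memLocalRing_of_isIntegral M (Helper78.isIntegral_irrChar_apply (I η).2 x))
          · rw [if_neg h1]
            exact memLocalRing_of_isIntegral M isIntegral_zero
        have hsum : ∀ h : H, ∑ η : IrrCharacter H, a η * (η : H → ℂ) h =
            signedBijectionKernel c I ε x h := by
          intro h
          rw [signedBijectionKernel_eq_sum]
          refine Finset.sum_congr rfl (fun η _ => ?_)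
          simp only [ha]
          by_cases h1 : η ∈ c
          · rw [if_pos h1, if_pos h1]
          · rw [if_neg h1, if_neg h1, zero_mul]
        have hvan : ∀ h : H, p ∣ orderOf h → ∑ η : IrrCharacter H, a η * (η : H → ℂ) h = 0 := by
          intro h hh
          rw [hsum h]
          exact hzero2 x h hx (fun h' => h' hh)
        have := memLocalRing_div_card_centralizer_of_vanish hM a hamem hvan y hy
        rwa [hsum y] at this
    · have h0 := hzero2 x y hx hy
      refine ⟨?_, ?_, Or.inr h0⟩
      · rw [h0, zero_div]; exact memLocalRing_of_isIntegral M isIntegral_zero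
      · rw [h0, zero_div]; exact memLocalRing_of_isIntegral M isIntegral_zero
  · by_cases hy : IsPRegular p y
    · have h0 := hzero1 x y hx hy
      refine ⟨?_, ?_, Or.inr h0⟩
      · rw [h0, zero_div]; exact memLocalRing_of_isIntegral M isIntegral_zero
      · rw [h0, zero_div]; exact memLocalRing_of_isIntegral M isIntegral_zero
    · -- both singular
      have hk := kernel_of_sing_left hS hS' I ε hI hstar x y hx
      refine ⟨?_, ?_, Or.inl ⟨fun h => absurd h hx, fun h => absurd h hy⟩⟩
      · rw [hk]
        have : (1 / 4 : ℂ) * (∑ i, thetaSum (d i) x * thetaSum (d' i) y) /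
            (Nat.card (Subgroup.centralizer ({x} : Set G)) : ℂ) =
            ∑ i, (thetaSum (d i) x / (Nat.card (Subgroup.centralizer ({x} : Set G)) : ℂ)) *
              (thetaSum (d' i) y / 4) := by
          rw [Finset.mul_sum, Finset.sum_div]
          refine Finset.sum_congr rfl (fun i _ => ?_)
          ring
        rw [this]
        exact memLocalRing_sum M _ _ (fun i _ => memLocalRing_mul M (hS.intC i x) (hS'.int4 i y))
      · rw [hk]
        have : (1 / 4 : ℂ) * (∑ i, thetaSum (d i) x * thetaSum (d' i) y) /
            (Nat.card (Subgroup.centralizer ({y} : Set H)) : ℂ) =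
            ∑ i, (thetaSum (d i) x / 4) *
              (thetaSum (d' i) y / (Nat.card (Subgroup.centralizer ({y} : Set H)) : ℂ)) := by
          rw [Finset.mul_sum, Finset.sum_div]
          refine Finset.sum_congr rfl (fun i _ => ?_)
          ring
        rw [this]
        exact memLocalRing_sum M _ _ (fun i _ => memLocalRing_mul M (hS.int4 i x) (hS'.intC i y))

end Kernel

end Cfsg.Agent.Helper77
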