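import Mathlib
import Cfsg.Agent.Helper77.LocalRing
import Cfsg.Prelude.Def_Characters

/-!
# Lemma V: a local-integer combination of irreducible characters vanishing on the `p`-singular
elements is divisible by `|C_G(s)|` at every `p`-regular `s`

(helper77, file 60.)
-/

set_option autoImplicit false
set_option linter.unusedSectionVars false
set_option linter.unusedVariables false

namespace Cfsg.Agent.Helper77

open Cfsg Module Polynomial

section Trace

variable {V : Type*} [AddCommGroup V] [Module ℂ V] [FiniteDimensional ℂ V]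

/-- The trace of an endomorphism with `T ^ (m + 1) = T` is an algebraic integer. -/
theorem isIntegral_trace_of_pow_succ_eq_self (T : Module.End ℂ V) {m : ℕ} (hm : 0 < m)
    (hT : T ^ (m + 1) = T) : IsIntegral ℤ (LinearMap.trace ℂ V T) := by
  rw [Module.End.trace_eq_sum_roots_charpoly_of_splits (IsAlgClosed.splits _)]
  refine IsIntegral.multiset_sum fun r hr => ?_
  have hroot : T.charpoly.IsRoot r := (Polynomial.mem_roots'.1 hr).2
  have hev : T.HasEigenvalue r := (Module.End.hasEigenvalue_iff_isRoot_charpoly T r).2 hroot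
  obtain ⟨v, hv⟩ := hev.exists_hasEigenvector
  have h1 : (T ^ (m + 1)) v = r ^ (m + 1) • v := hv.pow_apply (m + 1)
  have h0 : T v = r • v := hv.apply_eq_smul
  rw [hT, h0] at h1
  have h2 : (r ^ (m + 1) - r) • v = 0 := by
    rw [sub_smul, ← h1, sub_self]
  have h3 : r ^ (m + 1) = r := by
    rcases smul_eq_zero.1 h2 with h | h
    · exact sub_eq_zero.1 h
    · exact absurd h hv.2
  by_cases hr0 : r = 0
  · rw [hr0]; exact isIntegral_zero
  · have h4 : r ^ m = 1 := by
      have : r ^ m * r = 1 * r := by rw [← pow_succ, h3, one_mul]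
      exact mul_right_cancel₀ hr0 this
    refine IsIntegral.of_pow hm ?_
    rw [h4]
    exact isIntegral_one

end Trace

section Average

variable {G : Type*} [Group G] [Finite G]

/-- For a representation `ρ`, a subgroup `Q` and an element `s` commuting with `Q`, the average
of the character over the coset `s Q` is an algebraic integer. -/
theorem isIntegral_average_coset {V : Type*} [AddCommGroup V] [Module ℂ V]
    [FiniteDimensional ℂ V] (ρ : Representation ℂ G V) (Q : Subgroup G) [Fintype Q] (s : G)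
    (hs : ∀ q ∈ Q, s * q = q * s) :
    IsIntegral ℤ ((Nat.card Q : ℂ)⁻¹ * ∑ q : Q, ρ.character (s * (q : G))) := by
  classical
  have hQ0 : (Nat.card Q : ℂ) ≠ 0 := by
    have : 0 < Nat.card Q := Nat.card_pos
    exact_mod_cast this.ne'
  set A : Module.End ℂ V := (Nat.card Q : ℂ)⁻¹ • ∑ q : Q, ρ (q : G) with hA
  -- `ρ t * A = A` for `t ∈ Q`
  have hmulA : ∀ t : Q, ρ (t : G) * ∑ q : Q, ρ (q : G) = ∑ q : Q, ρ (q : G) := by
    intro t
    rw [Finset.mul_sum]
    have : ∀ q : Q, ρ (t : G) * ρ (q : G) = ρ (((t * q : Q)) : G) := by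
      intro q
      rw [Subgroup.coe_mul, map_mul]
    rw [Finset.sum_congr rfl (fun q _ => this q)]
    exact Fintype.sum_bijective (fun q : Q => t * q) (Group.mulLeft_bijective t) _ _
      (fun q => rfl)
  have hAA : A * A = A := by
    rw [hA, smul_mul_assoc, Finset.sum_mul]
    have h1 : ∀ t : Q, ρ (t : G) * ((Nat.card Q : ℂ)⁻¹ • ∑ q : Q, ρ (q : G)) =
        (Nat.card Q : ℂ)⁻¹ • ∑ q : Q, ρ (q : G) := by
      intro t
      rw [mul_smul_comm, hmulA t]
    rw [Finset.sum_congr rfl (fun t _ => h1 t), Finset.sum_const, Finset.card_univ,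
      ← Nat.card_eq_fintype_card, ← Nat.cast_smul_eq_nsmul ℂ, smul_smul, smul_smul,
      inv_mul_cancel₀ hQ0, one_mul]
  have hcomm : Commute (ρ s) A := by
    rw [hA]
    refine Commute.smul_right ?_ _
    refine Commute.sum_right _ _ _ (fun q _ => ?_)
    show ρ s * ρ (q : G) = ρ (q : G) * ρ s
    rw [← map_mul, ← map_mul, hs _ q.2]
  set T : Module.End ℂ V := ρ s * A with hT
  have hApow : ∀ n : ℕ, A ^ (n + 1) = A := by
    intro n
    induction n with
    | zero => rw [zero_add, pow_one]
    | succ k ih => rw [pow_succ, ih, hAA]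
  set m := Nat.card G with hm
  have hmpos : 0 < m := Nat.card_pos
  have hTpow : T ^ (m + 1) = T := by
    rw [hT, hcomm.mul_pow, hApow, ← map_pow, pow_succ, pow_card_eq_one', one_mul]
  have hint := isIntegral_trace_of_pow_succ_eq_self T hmpos hTpow
  have htr : LinearMap.trace ℂ V T =
      (Nat.card Q : ℂ)⁻¹ * ∑ q : Q, ρ.character (s * (q : G)) := by
    rw [hT, hA, mul_smul_comm, map_smul, Finset.mul_sum, map_sum, smul_eq_mul]
    congr 1
    refine Finset.sum_congr rfl (fun q _ => ?_)
    rw [← map_mul]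
    rfl
  rw [← htr]
  exact hint

/-- The same for an irreducible character. -/
theorem isIntegral_average_coset_irr (χ : IrrCharacter G) (Q : Subgroup G) [Fintype Q] (s : G)
    (hs : ∀ q ∈ Q, s * q = q * s) :
    IsIntegral ℤ ((Nat.card Q : ℂ)⁻¹ * ∑ q : Q, (χ : G → ℂ) (s * (q : G))) := by
  obtain ⟨n, ρ, _, hρ⟩ := χ.2
  rw [← hρ]
  exact isIntegral_average_coset ρ Q s hs

end Average

section LemmaV

variable {G : Type*} [Group G] [Finite G] {M : Ideal AlgInt} {p : ℕ}

/-- **Lemma V.** A combination `f = ∑ a_χ χ` of irreducible characters with local-integer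
coefficients that vanishes on all `p`-singular elements satisfies
`f(s) / |C_G(s)| ∈ 𝒪` for every (`p`-regular) `s`. -/
theorem memLocalRing_div_card_centralizer_of_vanish [Fact p.Prime] (hM : IsPModular p M)
    [Fintype (IrrCharacter G)] (a : IrrCharacter G → ℂ) (ha : ∀ χ, MemLocalRing M (a χ))
    (hvan : ∀ g : G, p ∣ orderOf g → ∑ χ : IrrCharacter G, a χ * (χ : G → ℂ) g = 0)
    (s : G) (hs : ¬ p ∣ orderOf s) :
    MemLocalRing M ((∑ χ : IrrCharacter G, a χ * (χ : G → ℂ) s) /
      (Nat.card (Subgroup.centralizer ({s} : Set G)) : ℂ)) := by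
  classical
  haveI hMp : M.IsPrime := isPrime_of_isPModular hM
  have hp : p.Prime := Fact.out
  set C := Subgroup.centralizer ({s} : Set G) with hC
  obtain ⟨Q'⟩ : Nonempty (Sylow p C) := inferInstance
  set Q : Subgroup G := (Q' : Subgroup C).map C.subtype with hQ
  haveI : Fintype Q := Fintype.ofFinite Q
  have hcardQ : Nat.card Q = Nat.card (Q' : Subgroup C) :=
    Nat.card_congr ((Q' : Subgroup C).equivMapOfInjective C.subtype
      (Subgroup.subtype_injective C)).symm.toEquiv
  have hQC : ∀ q ∈ Q, q ∈ C := by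
    rintro q ⟨c, -, rfl⟩
    exact c.2
  have hcomm : ∀ q ∈ Q, s * q = q * s := by
    intro q hq
    have := hQC q hq
    rw [hC, Subgroup.mem_centralizer_iff] at this
    exact this s (Set.mem_singleton s)
  have hQp : IsPGroup p Q := Q'.2.map _
  have hsing : ∀ q : Q, (q : G) ≠ 1 → p ∣ orderOf (s * (q : G)) := by
    intro q hq1
    obtain ⟨k, hk⟩ := hQp q
    have hk' : (q : G) ^ p ^ k = 1 := by
      have := congrArg Subtype.val hk
      simpa using this
    have hdvd : orderOf (q : G) ∣ p ^ k := orderOf_dvd_of_pow_eq_one hk'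
    obtain ⟨j, hj, hoq⟩ := (Nat.dvd_prime_pow hp).1 hdvd
    have hj0 : j ≠ 0 := by
      rintro rfl
      rw [pow_zero, orderOf_eq_one_iff] at hoq
      exact hq1 hoq
    have hcop : Nat.Coprime (orderOf s) (orderOf (q : G)) := by
      rw [hoq]
      exact Nat.Coprime.pow_right j ((Nat.Prime.coprime_iff_not_dvd hp).mpr hs).symm
    have hc : Commute s (q : G) := hcomm _ q.2
    rw [hc.orderOf_mul_eq_mul_orderOf_of_coprime hcop, hoq]
    exact Dvd.dvd.mul_left (dvd_pow_self p hj0) _
  set f : G → ℂ := fun g => ∑ χ : IrrCharacter G, a χ * (χ : G → ℂ) g with hf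
  have hsum : ∑ q : Q, f (s * (q : G)) = f s := by
    rw [Finset.sum_eq_single (1 : Q)]
    · rw [Subgroup.coe_one, mul_one]
    · intro q _ hq
      apply hvan
      apply hsing
      intro h
      exact hq (Subtype.ext h)
    · intro h
      exact absurd (Finset.mem_univ _) h
  have hQ0 : (Nat.card Q : ℂ) ≠ 0 := by
    have : 0 < Nat.card Q := Nat.card_pos
    exact_mod_cast this.ne'
  have h1 : MemLocalRing M ((Nat.card Q : ℂ)⁻¹ * f s) := by
    rw [← hsum]
    have : (Nat.card Q : ℂ)⁻¹ * ∑ q : Q, f (s * (q : G)) =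
        ∑ χ : IrrCharacter G, a χ * ((Nat.card Q : ℂ)⁻¹ * ∑ q : Q, (χ : G → ℂ) (s * (q : G))) := by
      simp only [hf]
      rw [Finset.sum_comm, Finset.mul_sum]
      refine Finset.sum_congr rfl (fun χ _ => ?_)
      rw [← Finset.mul_sum]
      ring
    rw [this]
    refine memLocalRing_sum M _ _ (fun χ _ => ?_)
    exact memLocalRing_mul M (ha χ)
      (memLocalRing_of_isIntegral M (isIntegral_average_coset_irr χ Q s hcomm))
  -- the index of `Q'` in `C` is prime to `p`
  have hidx : ¬ p ∣ (Q' : Subgroup C).index := Q'.not_dvd_index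
  have hcardC : Nat.card C = Nat.card Q * (Q' : Subgroup C).index := by
    rw [hcardQ]
    exact ((Q' : Subgroup C).card_mul_index).symm
  have hidx' : ¬ MemLocalIdeal M (((Q' : Subgroup C).index : ℕ) : ℂ) := by
    rw [memLocalIdeal_natCast_iff hM]
    exact hidx
  have h2 : MemLocalRing M ((((Q' : Subgroup C).index : ℕ) : ℂ))⁻¹ :=
    memLocalRing_inv M (memLocalRing_natCast M _) hidx'
  have h3 : f s / (Nat.card C : ℂ) =
      (Nat.card Q : ℂ)⁻¹ * f s * ((((Q' : Subgroup C).index : ℕ) : ℂ))⁻¹ := by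
    rw [hcardC]
    push_cast
    rw [div_eq_mul_inv, mul_inv]
    ring
  show MemLocalRing M (f s / (Nat.card C : ℂ))
  rw [h3]
  exact memLocalRing_mul M h1 h2

end LemmaV

end Cfsg.Agent.Helper77
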