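import Cfsg.Agent.Helper77.PerfKlein

/-!
# Matching the characters of two blocks with the same singular structure

(helper77, file 67.)
-/

set_option autoImplicit false
set_option linter.unusedSectionVars false
set_option linter.unusedVariables false
set_option maxHeartbeats 1000000

namespace Cfsg.Agent.Helper77

open Cfsg

section Key

theorem one_add_mul_sign {a u : ℤ} (ha : a = 1 ∨ a = -1) (hu : u = 1 ∨ u = -1) :
    1 + u * a = if a = u then 2 else 0 := by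
  rcases ha with rfl | rfl <;> rcases hu with rfl | rfl <;> norm_num

theorem sign_mul_sign {a b : ℤ} (ha : a = 1 ∨ a = -1) (hb : b = 1 ∨ b = -1) :
    a * b = 1 ∨ a * b = -1 := by
  rcases ha with rfl | rfl <;> rcases hb with rfl | rfl <;> norm_num

theorem sign_mul_self {a : ℤ} (ha : a = 1 ∨ a = -1) : a * a = 1 := by
  rcases ha with rfl | rfl <;> norm_num

variable {X : Type*} [Group X] [Fintype (IrrCharacter X)]

open Classical in
/-- three pairwise orthogonal sign vectors on a set of four elements: every pair of signs is the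
key of exactly one element -/
theorem existsUnique_key {B : Set (IrrCharacter X)} (x y z : IrrCharacter X → ℤ)
    (hx0 : ∀ χ, χ ∉ B → x χ = 0) (hy0 : ∀ χ, χ ∉ B → y χ = 0) (hz0 : ∀ χ, χ ∉ B → z χ = 0)
    (hx : ∀ χ, χ ∈ B → x χ = 1 ∨ x χ = -1) (hy : ∀ χ, χ ∈ B → y χ = 1 ∨ y χ = -1)
    (hz : ∀ χ, χ ∈ B → z χ = 1 ∨ z χ = -1) (hcard : Nat.card B = 4)
    (hxy : ∑ χ : IrrCharacter X, x χ * y χ = 0) (hxz : ∑ χ : IrrCharacter X, x χ * z χ = 0)
    (hyz : ∑ χ : IrrCharacter X, y χ * z χ = 0)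
    (u v : ℤ) (hu : u = 1 ∨ u = -1) (hv : v = 1 ∨ v = -1) :
    ∃! χ, χ ∈ B ∧ x χ * y χ = u ∧ x χ * z χ = v := by
  have hxy' : ∀ χ, χ ∈ B → (x χ * y χ = 1 ∨ x χ * y χ = -1) :=
    fun χ hχ => sign_mul_sign (hx χ hχ) (hy χ hχ)
  have hxz' : ∀ χ, χ ∈ B → (x χ * z χ = 1 ∨ x χ * z χ = -1) :=
    fun χ hχ => sign_mul_sign (hx χ hχ) (hz χ hχ)
  set T : IrrCharacter X → ℤ := fun χ =>
    if χ ∈ B then (1 + u * (x χ * y χ)) * (1 + v * (x χ * z χ)) else 0 with hT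
  have hT1 : ∀ χ, T χ = (if χ ∈ B then 1 else 0) + u * (x χ * y χ) + v * (x χ * z χ) +
      u * v * (y χ * z χ) := by
    intro χ
    by_cases hχ : χ ∈ B
    · simp only [hT, if_pos hχ]
      have hxx : x χ * x χ = 1 := sign_mul_self (hx χ hχ)
      linear_combination (u * v * y χ * z χ) * hxx
    · simp only [hT, if_neg hχ, hx0 χ hχ, hy0 χ hχ]
      ring
  have hcardB : (Finset.univ.filter (fun ψ : IrrCharacter X => ψ ∈ B)).card = 4 := by
    rw [← hcard, Nat.card_eq_fintype_card, Fintype.card_subtype]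
  have hsum : ∑ χ : IrrCharacter X, T χ = 4 := by
    rw [Finset.sum_congr rfl (fun χ _ => hT1 χ)]
    simp only [Finset.sum_add_distrib, ← Finset.mul_sum, hxy, hxz, hyz, mul_zero, add_zero]
    rw [Finset.sum_boole, hcardB]
    norm_num
  have hT2 : ∀ χ, χ ∈ B → T χ = if (x χ * y χ = u ∧ x χ * z χ = v) then 4 else 0 := by
    intro χ hχ
    simp only [hT, if_pos hχ]
    rw [one_add_mul_sign (hxy' χ hχ) hu, one_add_mul_sign (hxz' χ hχ) hv]
    by_cases h1 : x χ * y χ = u <;> by_cases h2 : x χ * z χ = v <;> simp [h1, h2]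
  have hT0 : ∀ χ, 0 ≤ T χ := by
    intro χ
    by_cases hχ : χ ∈ B
    · rw [hT2 χ hχ]
      split_ifs <;> norm_num
    · simp only [hT, if_neg hχ]
      exact le_refl _
  have hex : ∃ χ, χ ∈ B ∧ x χ * y χ = u ∧ x χ * z χ = v := by
    by_contra hno
    have h0 : ∀ χ, T χ = 0 := by
      intro χ
      by_cases hχ : χ ∈ B
      · rw [hT2 χ hχ, if_neg]
        intro h
        exact hno ⟨χ, hχ, h⟩
      · simp only [hT, if_neg hχ]
    rw [Finset.sum_congr rfl (fun χ _ => h0 χ), Finset.sum_const_zero] at hsum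
    norm_num at hsum
  obtain ⟨χ₁, h1B, h1⟩ := hex
  refine ⟨χ₁, ⟨h1B, h1⟩, ?_⟩
  rintro χ₂ ⟨h2B, h2⟩
  by_contra hne
  have h8 : T χ₁ + T χ₂ ≤ ∑ χ : IrrCharacter X, T χ := by
    have h9 : ∑ χ ∈ ({χ₁, χ₂} : Finset (IrrCharacter X)), T χ ≤ ∑ χ : IrrCharacter X, T χ :=
      Finset.sum_le_sum_of_subset_of_nonneg (Finset.subset_univ _) (fun χ _ _ => hT0 χ)
    rwa [Finset.sum_pair (fun h => hne h.symm)] at h9
  rw [hT2 χ₁ h1B, if_pos h1, hT2 χ₂ h2B, if_pos h2, hsum] at h8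
  norm_num at h8

end Key

section Match

variable {G : Type*} [Group G] [Finite G] [Fintype (IrrCharacter G)]
  {H : Type*} [Group H] [Finite H] [Fintype (IrrCharacter H)]
  {M : Ideal AlgInt} {p : ℕ}
  {B : Set (IrrCharacter G)} {c : Set (IrrCharacter H)}

open Classical in
/-- matching for `r = 1` -/
theorem exists_matching_one {d : Fin 1 → IrrCharacter G → ℤ} {d' : Fin 1 → IrrCharacter H → ℤ}
    (hS : KleinSing p M B 1 d) (hS' : KleinSing p M c 1 d') :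
    ∃ (I : IrrCharacter H → IrrCharacter G) (ε : IrrCharacter H → ℤ), Set.BijOn I c B ∧
      (∀ η ∈ c, ε η = 1 ∨ ε η = -1) ∧ ∀ i, ∀ η ∈ c, ε η * d i (I η) = d' i η := by
  have hcc : Nat.card c = Nat.card B := by rw [hS.card, hS'.card]
  obtain ⟨e⟩ := Finite.card_eq.mp hcc
  have hne : Nat.card B ≠ 0 := by rw [hS.card]; norm_num
  obtain ⟨⟨χ₁, hχ₁⟩⟩ := (Nat.card_ne_zero.mp hne).1
  let I : IrrCharacter H → IrrCharacter G := fun η =>
    if h : η ∈ c then ((e ⟨η, h⟩ : B) : IrrCharacter G) else χ₁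
  have hI : ∀ η (h : η ∈ c), I η = ((e ⟨η, h⟩ : B) : IrrCharacter G) := by
    intro η h
    simp only [I, dif_pos h]
  have hbij : Set.BijOn I c B := by
    refine ⟨?_, ?_, ?_⟩
    · intro η hη
      rw [hI η hη]
      exact (e ⟨η, hη⟩).2
    · intro η₁ h₁ η₂ h₂ h12
      rw [hI η₁ h₁, hI η₂ h₂] at h12
      have := e.injective (Subtype.ext h12)
      exact congrArg Subtype.val this
    · intro χ hχ
      refine ⟨((e.symm ⟨χ, hχ⟩ : c) : IrrCharacter H), (e.symm ⟨χ, hχ⟩).2, ?_⟩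
      rw [hI _ (e.symm ⟨χ, hχ⟩).2]
      simp
  refine ⟨I, fun η => d' 0 η * d 0 (I η), hbij, ?_, ?_⟩
  · intro η hη
    exact sign_mul_sign (hS'.sign 0 η hη) (hS.sign 0 (I η) (hbij.mapsTo hη))
  · intro i η hη
    have hi : i = 0 := Subsingleton.elim i 0
    rw [hi, mul_assoc, sign_mul_self (hS.sign 0 (I η) (hbij.mapsTo hη)), mul_one]

open Classical in
/-- matching for `r = 3` -/
theorem exists_matching_three {d : Fin 3 → IrrCharacter G → ℤ} {d' : Fin 3 → IrrCharacter H → ℤ}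
    (hS : KleinSing p M B 3 d) (hS' : KleinSing p M c 3 d') :
    ∃ (I : IrrCharacter H → IrrCharacter G) (ε : IrrCharacter H → ℤ), Set.BijOn I c B ∧
      (∀ η ∈ c, ε η = 1 ∨ ε η = -1) ∧ ∀ i, ∀ η ∈ c, ε η * d i (I η) = d' i η := by
  have hkB := existsUnique_key (B := B) (d 0) (d 1) (d 2) (hS.supp 0) (hS.supp 1) (hS.supp 2)
    (hS.sign 0) (hS.sign 1) (hS.sign 2) hS.card (hS.orth 0 1 (by decide)) (hS.orth 0 2 (by decide))
    (hS.orth 1 2 (by decide))
  have hkc := existsUnique_key (B := c) (d' 0) (d' 1) (d' 2) (hS'.supp 0) (hS'.supp 1) (hS'.supp 2)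
    (hS'.sign 0) (hS'.sign 1) (hS'.sign 2) hS'.card (hS'.orth 0 1 (by decide))
    (hS'.orth 0 2 (by decide)) (hS'.orth 1 2 (by decide))
  have hne : Nat.card B ≠ 0 := by rw [hS.card]; norm_num
  obtain ⟨⟨χ₁, hχ₁⟩⟩ := (Nat.card_ne_zero.mp hne).1
  have hIex : ∀ η : IrrCharacter H, ∃ χ : IrrCharacter G, η ∈ c →
      (χ ∈ B ∧ d 0 χ * d 1 χ = d' 0 η * d' 1 η ∧ d 0 χ * d 2 χ = d' 0 η * d' 2 η) := by
    intro η
    by_cases hη : η ∈ c
    · obtain ⟨χ, hχ⟩ := (hkB (d' 0 η * d' 1 η) (d' 0 η * d' 2 η)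
        (sign_mul_sign (hS'.sign 0 η hη) (hS'.sign 1 η hη))
        (sign_mul_sign (hS'.sign 0 η hη) (hS'.sign 2 η hη))).exists
      exact ⟨χ, fun _ => hχ⟩
    · exact ⟨χ₁, fun h => absurd h hη⟩
  choose I hI using hIex
  have hbij : Set.BijOn I c B := by
    refine ⟨?_, ?_, ?_⟩
    · intro η hη
      exact (hI η hη).1
    · intro η₁ h₁ η₂ h₂ h12
      have k1 := hI η₁ h₁
      have k2 := hI η₂ h₂
      rw [← h12] at k2
      refine (hkc (d' 0 η₁ * d' 1 η₁) (d' 0 η₁ * d' 2 η₁)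
        (sign_mul_sign (hS'.sign 0 η₁ h₁) (hS'.sign 1 η₁ h₁))
        (sign_mul_sign (hS'.sign 0 η₁ h₁) (hS'.sign 2 η₁ h₁))).unique ⟨h₁, rfl, rfl⟩
        ⟨h₂, ?_, ?_⟩
      · rw [← k2.2.1, k1.2.1]
      · rw [← k2.2.2, k1.2.2]
    · intro χ hχ
      obtain ⟨η, hη, hk1, hk2⟩ := (hkc (d 0 χ * d 1 χ) (d 0 χ * d 2 χ)
        (sign_mul_sign (hS.sign 0 χ hχ) (hS.sign 1 χ hχ))
        (sign_mul_sign (hS.sign 0 χ hχ) (hS.sign 2 χ hχ))).exists
      refine ⟨η, hη, ?_⟩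
      have k := hI η hη
      refine (hkB (d 0 χ * d 1 χ) (d 0 χ * d 2 χ)
        (sign_mul_sign (hS.sign 0 χ hχ) (hS.sign 1 χ hχ))
        (sign_mul_sign (hS.sign 0 χ hχ) (hS.sign 2 χ hχ))).unique ⟨k.1, ?_, ?_⟩ ⟨hχ, rfl, rfl⟩
      · rw [k.2.1, hk1]
      · rw [k.2.2, hk2]
  refine ⟨I, fun η => d 0 (I η) * d' 0 η, hbij, ?_, ?_⟩
  · intro η hη
    exact sign_mul_sign (hS.sign 0 (I η) (hbij.mapsTo hη)) (hS'.sign 0 η hη)
  · intro i η hη
    have k := hI η hη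
    have hxx : d 0 (I η) * d 0 (I η) = 1 := sign_mul_self (hS.sign 0 (I η) k.1)
    have hyy : d' 0 η * d' 0 η = 1 := sign_mul_self (hS'.sign 0 η hη)
    have h3 : i = 0 ∨ i = 1 ∨ i = 2 := by
      fin_cases i
      · left; rfl
      · right; left; rfl
      · right; right; rfl
    rcases h3 with rfl | rfl | rfl
    · linear_combination (d' 0 η) * hxx
    · linear_combination (d' 0 η) * k.2.1 + (d' 1 η) * hyy
    · linear_combination (d' 0 η) * k.2.2 + (d' 2 η) * hyy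

/-- **Matching.** -/
theorem exists_matching {r : ℕ} {d : Fin r → IrrCharacter G → ℤ} {d' : Fin r → IrrCharacter H → ℤ}
    (hS : KleinSing p M B r d) (hS' : KleinSing p M c r d') (hr : r = 1 ∨ r = 3) :
    ∃ (I : IrrCharacter H → IrrCharacter G) (ε : IrrCharacter H → ℤ), Set.BijOn I c B ∧
      (∀ η ∈ c, ε η = 1 ∨ ε η = -1) ∧ ∀ i, ∀ η ∈ c, ε η * d i (I η) = d' i η := by
  rcases hr with rfl | rfl
  · exact exists_matching_one hS hS'
  · exact exists_matching_three hS hS'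

end Match

end Cfsg.Agent.Helper77
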