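import Cfsg.Agent.Helper77.PrimeDegDefs
import Cfsg.Agent.Helper63.PrimeDegA
import Cfsg.Agent.Helper10.PrimeDegB
import Cfsg.Agent.Helper58.PrimeDegE1
import Cfsg.Agent.Helper58.PrimeDegE2
import Cfsg.Agent.Helper58.PrimeDegE3
import Cfsg.Agent.Helper74.ThreeDegD
import Cfsg.Agent.Helper74.DegPFinal
import Cfsg.Agent.S4465

/-!
# Isaacs–Passman: all nonlinear irreducible degrees prime implies solvable (S4466)
-/

set_option autoImplicit false

namespace Cfsg.Agent.Helper77.PrimeDeg

open Cfsg

universe u

/-- a nonabelian simple group has a nonlinear irreducible character of non-prime degree -/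
theorem not_allPrimeDeg_of_simple {G : Type u} [Group G] [Finite G] (hs : IsSimpleGroup G)
    (hnc : ¬ ∀ a b : G, a * b = b * a) : ¬ AllPrimeDeg G := by
  classical
  intro h
  have hfin : Fintype G := Fintype.ofFinite G
  have hna : ∃ a b : G, a * b ≠ b * a := by
    by_contra hcon
    push Not at hcon
    exact hnc hcon
  obtain ⟨χ₀, hχ₀⟩ := Helper74.exists_degree_ne_one hna
  -- the minimal nonlinear degree
  set S : Set ℕ := {d | ∃ χ : IrrCharacter G, charDegree (χ : G → ℂ) = d ∧ d ≠ 1} with hS
  have hSne : S.Nonempty := ⟨_, χ₀, rfl, hχ₀⟩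
  have hmin := Nat.sInf_mem hSne
  obtain ⟨χ, hχd, hχ1⟩ := hmin
  set p := sInf S with hp
  have hpprime : p.Prime := by
    rw [← hχd]
    exact h χ (by rw [hχd]; exact hχ1)
  have hp2 : p ≠ 2 := by
    rw [← hχd]
    exact Helper58.PrimeDegE.charDegree_ne_two_of_simple hs hnc χ
  have hp3 : 3 ≤ p := by
    have := hpprime.two_le
    omega
  have hfaith : ∀ g : G, (χ : G → ℂ) g = (χ : G → ℂ) 1 → g = 1 :=
    Helper58.PrimeDegE.faithful_of_simple hs χ (by rw [hχd]; exact hχ1)
  have hχc : IsCharacter G (χ : G → ℂ) := Helper74.irr_isCharacter χ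
  obtain ⟨A, hAab, hAπ, hAidx⟩ := Cfsg.Agent.S4465.result (χ : G → ℂ) hχc hfaith p hχd
  -- all degrees are 1, p or |A|
  have hcd : ∀ ψ : IrrCharacter G, charDegree (ψ : G → ℂ) = 1 ∨ charDegree (ψ : G → ℂ) = p ∨
      charDegree (ψ : G → ℂ) = Nat.card A := by
    intro ψ
    by_cases h1 : charDegree (ψ : G → ℂ) = 1
    · exact Or.inl h1
    by_cases h2 : charDegree (ψ : G → ℂ) = p
    · exact Or.inr (Or.inl h2)
    right; right
    set q := charDegree (ψ : G → ℂ) with hq
    have hqprime : q.Prime := h ψ h1
    have hqS : q ∈ S := ⟨ψ, rfl, h1⟩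
    have hpq : p ≤ q := Nat.sInf_le hqS
    have hpodd : ¬ 2 ∣ p := by
      intro h2p
      exact hp2 ((Nat.prime_dvd_prime_iff_eq Nat.prime_two hpprime).mp h2p).symm
    have hq1 : q ≠ p + 1 := by
      intro hqe
      have h2 : 2 ∣ q := by
        rw [hqe]
        omega
      have := (Nat.prime_dvd_prime_iff_eq Nat.prime_two hqprime).mp h2
      omega
    have hqgt : p + 1 < q := by omega
    have hqG : q ∣ Nat.card G := Helper74.charDegree_dvd_card ψ
    have hnidx : ¬ q ∣ A.index := by
      intro hd
      have := hAidx q hqprime hd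
      omega
    have hqA : q ∣ Nat.card A := by
      rw [← A.card_mul_index] at hqG
      exact (hqprime.dvd_mul.mp hqG).resolve_right hnidx
    exact (Helper58.PrimeDegE.card_eq_degree_of_abelian_hall hs hnc A hAab ψ q hqprime rfl hqA
      hnidx).symm
  have hder := Helper74.ThreeDeg.three_deg (G := G) p (Nat.card A) hcd
  have hsol : Group.IsSolvable G := (Group.isSolvable_def G).mpr ⟨3, hder⟩
  exact hnc (hs.comm_iff_isSolvable.mpr hsol)

theorem solvable_aux : ∀ (k : ℕ) (G : Type u) [Group G] [Finite G], Nat.card G = k →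
    AllPrimeDeg G → Group.IsSolvable G := by
  intro k
  induction k using Nat.strong_induction_on with
  | _ k ih =>
    intro G _ _ hk h
    by_cases hN : ∃ N : Subgroup G, N.Normal ∧ N ≠ ⊥ ∧ N ≠ ⊤
    · obtain ⟨N, hNn, hNbot, hNtop⟩ := hN
      have hcardN : Nat.card N < k := by
        rw [← hk, ← N.card_mul_index]
        have hidx1 : N.index ≠ 1 := fun h1 => hNtop (Subgroup.index_eq_one.mp h1)
        have hidx0 : N.index ≠ 0 := N.index_ne_zero_of_finite
        have hpos : 0 < Nat.card N := Nat.card_pos
        have : 2 ≤ N.index := by omega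
        nlinarith
      have hcardQ : Nat.card (G ⧸ N) < k := by
        rw [← hk, ← N.card_mul_index, ← Subgroup.index_eq_card]
        have hN1 : 1 < Nat.card N := by
          rw [Finite.one_lt_card_iff_nontrivial]
          exact (Subgroup.nontrivial_iff_ne_bot N).mpr hNbot
        have hidx : 0 < N.index := Nat.pos_of_ne_zero N.index_ne_zero_of_finite
        nlinarith
      have : Group.IsSolvable N := ih _ hcardN N rfl (Helper63.PrimeDeg.primeDeg_of_normal N h)
      have : Group.IsSolvable (G ⧸ N) :=
        ih _ hcardQ (G ⧸ N) rfl (Helper10.PrimeDeg.primeDeg_quotient N h)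
      refine Group.isSolvable_of_ker_le_range N.subtype (QuotientGroup.mk' N) ?_
      rw [QuotientGroup.ker_mk', Subgroup.range_subtype]
    · push Not at hN
      by_cases hcomm : ∀ a b : G, a * b = b * a
      · exact Group.isSolvable_of_comm hcomm
      · exfalso
        have : Nontrivial G := by
          by_contra hnt
          rw [not_nontrivial_iff_subsingleton] at hnt
          exact hcomm (fun a b => Subsingleton.elim _ _)
        have hs : IsSimpleGroup G := by
          refine ⟨fun N hNn => ?_⟩
          by_contra hcon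
          push Not at hcon
          exact hcon.2 (hN N hNn hcon.1)
        exact not_allPrimeDeg_of_simple hs hcomm h

/-- **Isaacs–Passman**: if every nonlinear irreducible character has prime degree, the group is
solvable. -/
theorem isSolvable_of_allPrimeDeg {G : Type u} [Group G] [Finite G] (h : AllPrimeDeg G) :
    Group.IsSolvable G :=
  solvable_aux (Nat.card G) G rfl h

end Cfsg.Agent.Helper77.PrimeDeg
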