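import Cfsg.Agent.Helper77.PrimeDegSolvable
import Cfsg.Agent.Helper91.PrimeDegC
import Cfsg.Agent.Helper91.PrimeDegH
import Cfsg.Agent.Helper63.PrimeDegCp
import Cfsg.Agent.Helper76.PrimeDegD
import Cfsg.Agent.Helper76.PrimeDegG
import Cfsg.Agent.Helper76.DadeEmbed
import Cfsg.Agent.Helper74.ThreeDegA
import Cfsg.Agent.Helper74.ThompsonDeg
import Cfsg.Agent.Helper78.IrrTransport
import Cfsg.Agent.Helper79.CharBasic

/-!
# Isaacs–Passman: all nonlinear irreducible degrees prime implies at most three degrees (S4813)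
-/

set_option autoImplicit false

namespace Cfsg.Agent.Helper77.PrimeDeg

open Cfsg

universe u

theorem charDegree_eq_of_restrict {G : Type u} [Group G] (N : Subgroup G) (χ : IrrCharacter G)
    (θ : IrrCharacter N) (h : ∀ x : N, (χ : G → ℂ) x = (θ : N → ℂ) x) :
    charDegree (θ : N → ℂ) = charDegree (χ : G → ℂ) := by
  unfold charDegree
  rw [← h 1]
  rfl

/-- the key contradiction: degrees `s = |G : N|`, `p`, `q` all occurring, `s ∉ cd(N)` -/
theorem no_three_degrees {G : Type u} [Group G] [Finite G] (h : AllPrimeDeg G)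
    (N : Subgroup G) [hN : N.Normal] (s : ℕ) (hs : s.Prime) (hidx : N.index = s)
    (χs χp χq : IrrCharacter G) (hχs : charDegree (χs : G → ℂ) = s)
    (hp1 : charDegree (χp : G → ℂ) ≠ 1) (hq1 : charDegree (χq : G → ℂ) ≠ 1)
    (hps : charDegree (χp : G → ℂ) ≠ s) (hqs : charDegree (χq : G → ℂ) ≠ s)
    (hpq : charDegree (χp : G → ℂ) ≠ charDegree (χq : G → ℂ))
    (hno : ∀ θ : IrrCharacter N, charDegree (θ : N → ℂ) ≠ s) : False := by
  classical
  have hfinG : Fintype G := Fintype.ofFinite G
  have hfinN : Fintype N := Fintype.ofFinite N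
  obtain ⟨lam, hlam1, g, x₀, hx₀⟩ :=
    Helper63.PrimeDeg.exists_not_invariant_linear N s hs hidx χs hχs hno
  -- the conjugate linear character
  let lam' : IrrCharacter N := Helper78.irrMap (MulAut.conjNormal g : N ≃* N).symm lam
  have hlam'app : ∀ x : N, (lam' : N → ℂ) x = (lam : N → ℂ) (MulAut.conjNormal g x) := by
    intro x
    rfl
  have hlam'1 : charDegree (lam' : N → ℂ) = 1 := by
    rw [← hlam1]
    unfold charDegree
    rw [hlam'app 1, map_one]
  have hne : lam ≠ lam' := by
    intro heq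
    apply hx₀
    have := hlam'app x₀
    rw [← heq] at this
    rw [this]
    rfl
  obtain ⟨L, hLn, l, hl, hLidx, hLne⟩ :=
    Helper76.PrimeDegG.exists_prime_index_of_linear_ne lam lam' hlam1 hlam'1 hne
  -- vanishing off `L` for restrictions of characters of degree `t ≠ s`
  have key : ∀ χt : IrrCharacter G, charDegree (χt : G → ℂ) ≠ 1 →
      charDegree (χt : G → ℂ) ≠ s → l ∣ charDegree (χt : G → ℂ) := by
    intro χt ht1 hts
    have htprime : (charDegree (χt : G → ℂ)).Prime := h χt ht1
    have hnd : ¬ s ∣ charDegree (χt : G → ℂ) := by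
      intro hd
      exact hts ((Nat.prime_dvd_prime_iff_eq hs htprime).mp hd).symm
    obtain ⟨θt, hθt⟩ := Helper91.PrimeDeg.restrict_irreducible_of_prime_index N s hs hidx χt hnd
    have hdegθ : charDegree (θt : N → ℂ) = charDegree (χt : G → ℂ) :=
      charDegree_eq_of_restrict N χt θt hθt
    obtain ⟨ξ, hξ, hξdeg⟩ := Helper91.PrimeDeg.irr_mul_linear θt lam hlam1
    obtain ⟨χ', hχ'⟩ := Helper74.ThreeDeg.exists_irr_over' N ξ
    have hdvd : charDegree (ξ : N → ℂ) ∣ charDegree (χ' : G → ℂ) :=
      Helper74.charDegree_dvd_of_constituent N χ'.2 ξ.2 hχ'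
    rw [hξdeg, hdegθ] at hdvd
    have hχ'1 : charDegree (χ' : G → ℂ) ≠ 1 := by
      intro h1
      rw [h1] at hdvd
      exact htprime.one_lt.ne' (Nat.dvd_one.mp hdvd)
    have hχ'prime := h χ' hχ'1
    have hχ'deg : charDegree (χ' : G → ℂ) = charDegree (χt : G → ℂ) :=
      ((Nat.prime_dvd_prime_iff_eq htprime hχ'prime).mp hdvd).symm
    have hnd' : ¬ s ∣ charDegree (χ' : G → ℂ) := by rw [hχ'deg]; exact hnd
    obtain ⟨θ'', hθ''⟩ :=
      Helper91.PrimeDeg.restrict_irreducible_of_prime_index N s hs hidx χ' hnd'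
    have hθξ : θ'' = ξ := by
      by_contra hcon
      apply hχ'
      have : (fun n : N => (χ' : G → ℂ) n) = (θ'' : N → ℂ) := funext hθ''
      rw [this]
      exact Helper79.classInner_irr_ne hcon
    -- invariance
    have hcl' := Helper74.irr_isClassFunction χ'
    have hclt := Helper74.irr_isClassFunction χt
    have hξinv : ∀ x : N, (ξ : N → ℂ) (MulAut.conjNormal g x) = (ξ : N → ℂ) x := by
      intro x
      rw [← hθξ, ← hθ'', ← hθ'', MulAut.conjNormal_apply]
      exact hcl' (x : G) g
    have hθinv : ∀ x : N, (θt : N → ℂ) (MulAut.conjNormal g x) = (θt : N → ℂ) x := by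
      intro x
      rw [← hθt, ← hθt, MulAut.conjNormal_apply]
      exact hclt (x : G) g
    have hvan : ∀ x : N, x ∉ L → (θt : N → ℂ) x = 0 := by
      intro x hx
      have h1 := hξinv x
      rw [hξ, hξ, hθinv x, ← hlam'app x] at h1
      have h2 : (θt : N → ℂ) x * ((lam' : N → ℂ) x - (lam : N → ℂ) x) = 0 := by
        rw [mul_sub, h1, sub_self]
      rcases mul_eq_zero.mp h2 with h3 | h3
      · exact h3
      · exfalso
        exact hLne x hx (sub_eq_zero.mp h3).symm
    have := Helper76.PrimeDegD.prime_dvd_degree_of_vanish L l hl hLidx θt hvan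
    rw [hdegθ] at this
    exact this
  have hlp := key χp hp1 hps
  have hlq := key χq hq1 hqs
  have hpprime := h χp hp1
  have hqprime := h χq hq1
  have e1 := (Nat.prime_dvd_prime_iff_eq hl hpprime).mp hlp
  have e2 := (Nat.prime_dvd_prime_iff_eq hl hqprime).mp hlq
  exact hpq (e1.symm.trans e2)

theorem three_aux : ∀ (k : ℕ) (G : Type u) [Group G] [Finite G], Nat.card G = k →
    AllPrimeDeg G → ∃ m n : ℕ, ∀ χ : IrrCharacter G, charDegree (χ : G → ℂ) = 1 ∨
      charDegree (χ : G → ℂ) = m ∨ charDegree (χ : G → ℂ) = n := by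
  intro k
  induction k using Nat.strong_induction_on with
  | _ k ih =>
    intro G _ _ hk h
    classical
    by_contra hcon
    push Not at hcon
    have hfinG : Fintype G := Fintype.ofFinite G
    obtain ⟨χ₁, h11, -, -⟩ := hcon 1 1
    obtain ⟨χ₂, h21, h2a, -⟩ := hcon (charDegree (χ₁ : G → ℂ)) (charDegree (χ₁ : G → ℂ))
    obtain ⟨χ₃, h31, h3a, h3b⟩ := hcon (charDegree (χ₁ : G → ℂ)) (charDegree (χ₂ : G → ℂ))
    have hsol : Group.IsSolvable G := isSolvable_of_allPrimeDeg h
    have hnt : Nontrivial G := by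
      by_contra hnt
      rw [not_nontrivial_iff_subsingleton] at hnt
      have hd := Helper74.charDegree_dvd_card χ₁
      have hc1 : Nat.card G = 1 := Nat.card_unique
      rw [hc1] at hd
      exact h11 (Nat.dvd_one.mp hd)
    obtain ⟨N, hNn, hNprime⟩ := Helper76.dade_exists_normal_prime_index (G := G)
    set s := N.index with hs
    have hcardN : Nat.card N < k := by
      rw [← hk, ← N.card_mul_index]
      have hpos : 0 < Nat.card N := Nat.card_pos
      have := hNprime.two_le
      nlinarith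
    obtain ⟨m', n', hN3⟩ := ih _ hcardN N rfl (Helper63.PrimeDeg.primeDeg_of_normal N h)
    -- degrees different from 1 and s are in {m', n'}
    have hF : ∀ χ : IrrCharacter G, charDegree (χ : G → ℂ) ≠ 1 → charDegree (χ : G → ℂ) ≠ s →
        charDegree (χ : G → ℂ) = m' ∨ charDegree (χ : G → ℂ) = n' := by
      intro χ hχ1 hχs
      have hprime := h χ hχ1
      have hnd : ¬ s ∣ charDegree (χ : G → ℂ) := by
        intro hd
        exact hχs ((Nat.prime_dvd_prime_iff_eq hNprime hprime).mp hd).symm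
      obtain ⟨θ, hθ⟩ := Helper91.PrimeDeg.restrict_irreducible_of_prime_index N s hNprime rfl χ hnd
      have hdeg := charDegree_eq_of_restrict N χ θ hθ
      rcases hN3 θ with h1 | h1 | h1
      · exact absurd (hdeg ▸ h1) hχ1
      · exact Or.inl (hdeg ▸ h1)
      · exact Or.inr (hdeg ▸ h1)
    -- the contradiction from three characters, one of degree s
    have hfin : ∀ χs χp χq : IrrCharacter G, charDegree (χs : G → ℂ) = s →
        charDegree (χp : G → ℂ) ≠ 1 → charDegree (χq : G → ℂ) ≠ 1 →
        charDegree (χp : G → ℂ) ≠ s → charDegree (χq : G → ℂ) ≠ s →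
        charDegree (χp : G → ℂ) ≠ charDegree (χq : G → ℂ) → False := by
      intro χs χp χq hχs hp1 hq1 hps hqs hpq
      refine no_three_degrees h N s hNprime rfl χs χp χq hχs hp1 hq1 hps hqs hpq ?_
      intro θ hθs
      have hp' := hF χp hp1 hps
      have hq' := hF χq hq1 hqs
      have hs1 : s ≠ 1 := hNprime.one_lt.ne'
      rcases hN3 θ with h1 | h1 | h1
      · exact hs1 (hθs ▸ h1)
      · rcases hp' with h2 | h2
        · exact hps (by rw [h2, ← h1, hθs])
        · rcases hq' with h3 | h3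
          · exact hqs (by rw [h3, ← h1, hθs])
          · exact hpq (h2.trans h3.symm)
      · rcases hp' with h2 | h2
        · rcases hq' with h3 | h3
          · exact hpq (h2.trans h3.symm)
          · exact hqs (by rw [h3, ← h1, hθs])
        · exact hps (by rw [h2, ← h1, hθs])
    by_cases e1 : charDegree (χ₁ : G → ℂ) = s
    · exact hfin χ₁ χ₂ χ₃ e1 h21 h31 (fun e => h2a (e.trans e1.symm)) (fun e => h3a (e.trans e1.symm))
        (fun e => h3b e.symm)
    by_cases e2 : charDegree (χ₂ : G → ℂ) = s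
    · exact hfin χ₂ χ₁ χ₃ e2 h11 h31 e1 (fun e => h3b (e.trans e2.symm)) (fun e => h3a e.symm)
    by_cases e3 : charDegree (χ₃ : G → ℂ) = s
    · exact hfin χ₃ χ₁ χ₂ e3 h11 h21 e1 e2 (fun e => h2a e.symm)
    · have f1 := hF χ₁ h11 e1
      have f2 := hF χ₂ h21 e2
      have f3 := hF χ₃ h31 e3
      rcases f1 with f1 | f1 <;> rcases f2 with f2 | f2 <;> rcases f3 with f3 | f3
      · exact h2a (f2.trans f1.symm)
      · exact h2a (f2.trans f1.symm)
      · exact h3a (f3.trans f1.symm)
      · exact h3b (f3.trans f2.symm)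
      · exact h3b (f3.trans f2.symm)
      · exact h3a (f3.trans f1.symm)
      · exact h2a (f2.trans f1.symm)
      · exact h2a (f2.trans f1.symm)

/-- **Isaacs–Passman**: at most three irreducible character degrees. -/
theorem card_charDegrees_le_three {G : Type u} [Group G] [Finite G] (h : AllPrimeDeg G) :
    Nat.card ↥(charDegrees G) ≤ 3 := by
  obtain ⟨m, n, hmn⟩ := three_aux (Nat.card G) G rfl h
  have hsub : charDegrees G ⊆ ({1, m, n} : Set ℕ) := by
    rintro d ⟨χ, rfl⟩
    rcases hmn χ with h1 | h1 | h1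
    · rw [h1]; simp
    · rw [h1]; simp
    · rw [h1]; simp
  have hfin : ({1, m, n} : Set ℕ).Finite := Set.toFinite _
  rw [Nat.card_coe_set_eq]
  calc (charDegrees G).ncard ≤ ({1, m, n} : Set ℕ).ncard := Set.ncard_le_ncard hsub hfin
    _ ≤ 3 := by
        have h1 := Set.ncard_insert_le 1 ({m, n} : Set ℕ)
        have h2 := Set.ncard_insert_le m ({n} : Set ℕ)
        rw [Set.ncard_singleton] at h2
        omega

end Cfsg.Agent.Helper77.PrimeDeg
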