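import Cfsg.Agent.Helper78.Sak.Defs

/-!
Piece (A1) of helper78's S5544 farm (#12194): the non-fusion fields
`tmul tB tt ta aa nrm F1 anti` of `UAx mul B μ a` for a unit Majorana pair `(μ, a)`.
-/

set_option autoImplicit false
set_option linter.unusedSimpArgs false

namespace Cfsg.Agent.Helper77.Sak

open Cfsg.Axial

variable {V : Type*} [AddCommGroup V] [Module ℝ V]
variable {mul : V →ₗ[ℝ] V →ₗ[ℝ] V} {B : LinearMap.BilinForm ℝ V}

/-- full eigen-decomposition of an arbitrary vector with respect to a Majorana pair -/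
theorem decomp4 (μ : V ≃ₗ[ℝ] V) (a : V) (h : IsMajoranaPair mul B μ a) (y : V) :
    ∃ (l : ℝ) (u w b : V), y = l • a + u + w + b ∧ mul a u = 0 ∧ mul a w = (1 / 4 : ℝ) • w ∧
      mul a b = (1 / 32 : ℝ) • b ∧ μ a = a ∧ μ u = u ∧ μ w = w ∧ μ b = -b := by
  obtain ⟨-, -, ⟨⟨-, haa, htop, -⟩, hprim⟩, hM1, hM2⟩ := h
  have hS : eigenSum mul a majoranaSpectrum =
      eigen mul a 1 ⊔ (eigen mul a 0 ⊔ (eigen mul a (1 / 4) ⊔ eigen mul a (1 / 32))) := by
    unfold eigenSum majoranaSpectrum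
    rw [iSup_insert, iSup_insert, iSup_insert, iSup_singleton]
  have hSp : eigenSum mul a {1, 0, 1 / 4} =
      eigen mul a 1 ⊔ (eigen mul a 0 ⊔ eigen mul a (1 / 4)) := by
    unfold eigenSum
    rw [iSup_insert, iSup_insert, iSup_singleton]
  have hytop : y ∈ eigenSum mul a majoranaSpectrum := by rw [htop]; exact Submodule.mem_top
  rw [hS] at hytop
  obtain ⟨v1, hv1, r1, hr1, hy1⟩ := Submodule.mem_sup.1 hytop
  obtain ⟨v0, hv0, r2, hr2, hy2⟩ := Submodule.mem_sup.1 hr1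
  obtain ⟨v4, hv4, v32, hv32, hy3⟩ := Submodule.mem_sup.1 hr2
  have ha1 : a ∈ eigen mul a 1 := by
    rw [eigen, Module.End.mem_eigenspace_iff, one_smul]; exact haa
  have fa : μ a = a := hM1 a (by rw [hSp]; exact Submodule.mem_sup_left ha1)
  have f0 : μ v0 = v0 := hM1 v0 (by
    rw [hSp]; exact Submodule.mem_sup_right (Submodule.mem_sup_left hv0))
  have f4 : μ v4 = v4 := hM1 v4 (by
    rw [hSp]; exact Submodule.mem_sup_right (Submodule.mem_sup_right hv4))
  have f32 : μ v32 = -v32 := hM2 v32 hv32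
  rw [hprim] at hv1
  obtain ⟨l, hl⟩ := Submodule.mem_span_singleton.1 hv1
  refine ⟨l, v0, v4, v32, ?_, ?_, ?_, ?_, fa, f0, f4, f32⟩
  · rw [← hy1, ← hy2, ← hy3, hl]; abel
  · have := hv0
    rw [eigen, Module.End.mem_eigenspace_iff, zero_smul] at this
    exact this
  · have := hv4
    rw [eigen, Module.End.mem_eigenspace_iff] at this
    exact this
  · have := hv32
    rw [eigen, Module.End.mem_eigenspace_iff] at this
    exact this

/-- an eigenvector of `mul a` for an eigenvalue `c ≠ 1` is `B`-orthogonal to the idempotent `a` -/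
theorem B_axis_eigen_eq_zero (hassoc : ∀ u v w : V, B u (mul v w) = B (mul u v) w) (a v : V)
    (c : ℝ) (hc : c ≠ 1) (haa : mul a a = a) (hv : mul a v = c • v) : B a v = 0 := by
  have h1 : B a (mul a v) = B a v := by rw [hassoc, haa]
  rw [hv, map_smul, smul_eq_mul] at h1
  have h2 : (c - 1) * B a v = 0 := by linarith
  rcases mul_eq_zero.1 h2 with h3 | h3
  · exact absurd (by linarith) hc
  · exact h3

/-- Piece (A1): the fields `tmul tB tt ta aa nrm F1 anti` of `UAx mul B μ a`. -/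
theorem uax_of_pair_A1 (hV : IsMajoranaAmbient mul B) (μ : V ≃ₗ[ℝ] V) (a : V)
    (h : IsMajoranaPair mul B μ a) (hn : B a a = 1) :
    (∀ u v : V, μ (mul u v) = mul (μ u) (μ v)) ∧
    (∀ u v : V, B (μ u) (μ v) = B u v) ∧
    (∀ v : V, μ (μ v) = v) ∧
    μ a = a ∧
    mul a a = a ∧
    B a a = 1 ∧
    (∀ y : V, mul a (mul a y - (1 / 32 : ℝ) • (a + y)) =
      (7 / 32 : ℝ) • (mul a y - (1 / 32 : ℝ) • (a + y)) + (3 / 4 * B a y - 25 / 1024) • a
        + (7 / 2048 : ℝ) • (y + μ y)) ∧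
    (∀ y : V, mul a (y - μ y) = (1 / 32 : ℝ) • (y - μ y)) := by
  obtain ⟨-, -, -, hassoc, -⟩ := hV
  have haa : mul a a = a := h.2.2.1.1.2.1
  refine ⟨h.1, h.2.1, ?_, ?_, haa, hn, ?_, ?_⟩
  · intro y
    obtain ⟨l, u, w, b, hy, -, -, -, fa, fu, fw, fb⟩ := decomp4 μ a h y
    rw [hy]
    simp only [map_add, map_smul, map_neg, fa, fu, fw, fb, neg_neg]
  · obtain ⟨l, u, w, b, -, -, -, -, fa, -, -, -⟩ := decomp4 μ a h a
    exact fa
  · intro y
    obtain ⟨l, u, w, b, hy, hu, hw, hb, fa, fu, fw, fb⟩ := decomp4 μ a h y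
    have hBu : B a u = 0 :=
      B_axis_eigen_eq_zero hassoc a u 0 (by norm_num) haa (by rw [hu, zero_smul])
    have hBw : B a w = 0 := B_axis_eigen_eq_zero hassoc a w (1 / 4) (by norm_num) haa hw
    have hBb : B a b = 0 := B_axis_eigen_eq_zero hassoc a b (1 / 32) (by norm_num) haa hb
    have hl : B a y = l := by
      rw [hy]
      simp only [map_add, map_smul, smul_eq_mul, hn, hBu, hBw, hBb]
      ring
    rw [hl, hy]
    simp only [map_add, map_sub, map_smul, map_zero, map_neg, haa, hu, hw, hb, fa, fu, fw, fb]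
    module
  · intro y
    obtain ⟨l, u, w, b, hy, hu, hw, hb, fa, fu, fw, fb⟩ := decomp4 μ a h y
    rw [hy]
    simp only [map_add, map_sub, map_smul, map_zero, map_neg, haa, hu, hw, hb, fa, fu, fw, fb]
    module

end Cfsg.Agent.Helper77.Sak
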