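import Cfsg.Agent.Helper77.ExtFun
import Cfsg.Agent.Helper77.BlockPartition

/-!
# Inclusion of Brauer pairs and blocks

(helper77, file 17.)  If `(Q, f) ≤ (P, e)` then the two pairs belong to the same block of `G`.
-/

set_option autoImplicit false
set_option linter.unusedSectionVars false

namespace Cfsg.Agent.Helper77

open Cfsg
open Cfsg.Agent.Helper16 (omega conv classInd deltaOne)

variable {G : Type*} [Group G] [Fintype G] {M : Ideal AlgInt} {p : ℕ}

theorem invUnder_convPow {S : Set G} {β : G → ℂ} (hβ : InvUnder S β) (n : ℕ) :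
    InvUnder S (convPow β n) := by
  induction n with
  | zero => exact invUnder_of_isClassFunction Helper16.isClassFunction_deltaOne S
  | succ n ih => exact invUnder_conv ih hβ

theorem brauerOmega_zero (P : Subgroup G) (ξ : Subgroup.centralizer (P : Set G) → ℂ) :
    brauerOmega P (0 : G → ℂ) ξ = 0 := by
  have := brauerOmega_sub P (0 : G → ℂ) 0 ξ
  rw [sub_zero, sub_self] at this
  exact this

/-- Congruence to `1` is preserved by products. -/
theorem congr_one_of_mul [M.IsPrime] {x a b : ℂ} (hb : MemLocalRing M b)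
    (hx : MemLocalIdeal M (x - a * b)) (ha : MemLocalIdeal M (a - 1))
    (hb1 : MemLocalIdeal M (b - 1)) : MemLocalIdeal M (x - 1) := by
  have h1 : x - 1 = (x - a * b) + ((a - 1) * b + (b - 1)) := by ring
  rw [h1]
  exact Helper16.memLocalIdeal_add hx
    (Helper16.memLocalIdeal_add (Helper16.memLocalIdeal_mul_right ha hb) hb1)

/-- The Brauer value of a convolution power of an element with Brauer value `≡ 1` is `≡ 1`. -/
theorem brauerOmega_convPow_sub_one [Fact p.Prime] (hM : IsPModular p M) (P : Subgroup G)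
    (hP : IsPGroup p P) (D : G → ℂ) (hDR : ∀ x, MemLocalRing M (D x))
    (hDP : InvUnder (P : Set G) D)
    (hDC : InvUnder (Subgroup.centralizer (P : Set G) : Set G) D)
    (ξ : IrrCharacter (Subgroup.centralizer (P : Set G)))
    (h1 : MemLocalIdeal M (brauerOmega P D (ξ : Subgroup.centralizer (P : Set G) → ℂ) - 1))
    (n : ℕ) :
    MemLocalIdeal M
      (brauerOmega P (convPow D n) (ξ : Subgroup.centralizer (P : Set G) → ℂ) - 1) := by
  have hMp : M.IsPrime := isPrime_of_isPModular hM
  induction n with
  | zero =>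
    rw [convPow_zero, brauerOmega_deltaOne, sub_self]
    exact Helper16.memLocalIdeal_zero
  | succ n ih =>
    have h2 := brauerOmega_conv_sub_memLocalIdeal hM P hP (convPow D n) D
      (memLocalRing_convPow hDR n) hDR (invUnder_convPow hDP n) hDP (invUnder_convPow hDC n) hDC ξ
    rw [convPow_succ]
    exact congr_one_of_mul (brauerOmega_memLocalRing P D hDR hDC ξ) h2 ih h1

/-- If `(Q, f)` belongs to the block `B''` and `B' ≠ B''` is another block, then the Brauer values
at `Q` of the idempotent of `B'` on the members of `f` lie in the local ideal. -/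
theorem brauerOmega_memLocalIdeal_of_ne [Fact p.Prime] (hM : IsPModular p M) (Q : Subgroup G)
    (f : Set (IrrCharacter (Subgroup.centralizer (Q : Set G))))
    {B' B'' : Set (IrrCharacter G)} (hB' : IsPBlock M B')
    (hQf : IsBrauerPairOf p M B'' Q f) (hne : B' ≠ B'')
    (φ : IrrCharacter (Subgroup.centralizer (Q : Set G))) (hφ : φ ∈ f) :
    MemLocalIdeal M
      (brauerOmega Q (blockCoeff B') (φ : Subgroup.centralizer (Q : Set G) → ℂ)) := by
  have hMp : M.IsPrime := isPrime_of_isPModular hM
  obtain ⟨⟨hQ, hf⟩, hB'', h1⟩ := hQf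
  have hinv : ∀ B : Set (IrrCharacter G), IsPBlock M B → ∀ S : Set G, InvUnder S (blockCoeff B) :=
    fun B hB S => invUnder_of_isClassFunction (blockCoeff_isClassFunction hB) S
  have h2 := brauerOmega_conv_sub_memLocalIdeal hM Q hQ (blockCoeff B') (blockCoeff B'')
    (blockCoeff_memLocalRing hB') (blockCoeff_memLocalRing hB'')
    (hinv B' hB' _) (hinv B'' hB'' _) (hinv B' hB' _) (hinv B'' hB'' _) φ
  rw [blockCoeff_conv_of_ne hB' hB'' hne, brauerOmega_zero, zero_sub] at h2
  have h3 := Helper16.memLocalIdeal_neg h2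
  rw [neg_neg] at h3
  have ha : MemLocalRing M
      (brauerOmega Q (blockCoeff B') (φ : Subgroup.centralizer (Q : Set G) → ℂ)) :=
    brauerOmega_memLocalRing Q _ (blockCoeff_memLocalRing hB') (hinv B' hB' _) φ
  have h4 := Helper16.memLocalIdeal_mul_left ha (h1 φ hφ)
  have h5 := Helper16.memLocalIdeal_sub h3 h4
  have e : brauerOmega Q (blockCoeff B') (φ : Subgroup.centralizer (Q : Set G) → ℂ) *
      brauerOmega Q (blockCoeff B'') (φ : Subgroup.centralizer (Q : Set G) → ℂ) -
      brauerOmega Q (blockCoeff B') (φ : Subgroup.centralizer (Q : Set G) → ℂ) *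
      (brauerOmega Q (blockCoeff B'') (φ : Subgroup.centralizer (Q : Set G) → ℂ) - 1) =
      brauerOmega Q (blockCoeff B') (φ : Subgroup.centralizer (Q : Set G) → ℂ) := by ring
  rw [e] at h5
  exact h5

/-- The core of the normal step: a contradiction from a class function `b` of `G` with Brauer
value `≡ 1` at `(P, ξ)` whose central character values at the members of a `P`-stable block `f` of
`H ≥ C_G(P)` lie in the local ideal, when `ξ` lies over `f`. -/
theorem normal_step_core [Fact p.Prime] (hM : IsPModular p M) (P : Subgroup G)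
    (hP : IsPGroup p P) (H : Subgroup G) [Fintype H]
    (hCH : Subgroup.centralizer (P : Set G) ≤ H)
    (hPH : P ≤ Subgroup.normalizer (H : Set G))
    (f : Set (IrrCharacter H)) (hf : IsPBlock M f)
    (hfP : InvUnder (P : Set G) (extFun H (blockCoeff f)))
    (b : G → ℂ) (hb : IsClassFunction G b) (hbR : ∀ g, MemLocalRing M (b g))
    (hbf : ∀ φ ∈ f, MemLocalIdeal M (omega (φ : H → ℂ) (resFun H b)))
    (ξ : IrrCharacter (Subgroup.centralizer (P : Set G)))
    (h1 : MemLocalIdeal M (brauerOmega P b (ξ : Subgroup.centralizer (P : Set G) → ℂ) - 1))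
    (h2 : MemLocalIdeal M (brauerOmega P (extFun H (blockCoeff f))
      (ξ : Subgroup.centralizer (P : Set G) → ℂ) - 1)) : False := by
  classical
  have hMp : M.IsPrime := isPrime_of_isPModular hM
  have hbinv : ∀ S : Set G, InvUnder S b := fun S => invUnder_of_isClassFunction hb S
  have hrescl : IsClassFunction H (resFun H b) := isClassFunction_resFun (hbinv _)
  have hfcl : IsClassFunction H (blockCoeff f) := blockCoeff_isClassFunction hf
  have hfR : ∀ h, MemLocalRing M (blockCoeff f h) := blockCoeff_memLocalRing hf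
  -- the element `d` of `Z(RH)`
  let d : H → ℂ := conv (resFun H b) (blockCoeff f)
  have hdcl : IsClassFunction H d := Helper16.isClassFunction_conv hrescl hfcl
  have hdR : ∀ h, MemLocalRing M (d h) := memLocalRing_conv (fun h => hbR _) hfR
  have hdI : ∀ φ : IrrCharacter H, MemLocalIdeal M (omega (φ : H → ℂ) d) := by
    intro φ
    simp only [d]
    rw [Helper16.irr_omega_conv φ hrescl hfcl, omega_blockCoeff hf φ]
    by_cases hφ : φ ∈ f
    · rw [if_pos hφ, mul_one]
      exact hbf φ hφ
    · rw [if_neg hφ, mul_zero]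
      exact Helper16.memLocalIdeal_zero
  obtain ⟨k, hk⟩ := exists_convPow_memLocalIdeal hdcl hdR hdI
  have hk1 : ∀ h, MemLocalIdeal M (convPow d (k + 1) h) := by
    intro h
    rw [convPow_succ]
    exact memLocalIdeal_conv_left hk hdR h
  -- transfer to `G`
  let T : G → ℂ := extFun H (resFun H b)
  let F : G → ℂ := extFun H (blockCoeff f)
  let D : G → ℂ := conv T F
  have hD : D = extFun H d := extFun_conv H _ _
  have hTR : ∀ x, MemLocalRing M (T x) := extFun_memLocalRing H (fun h => hbR _)
  have hFR : ∀ x, MemLocalRing M (F x) := extFun_memLocalRing H hfR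
  have hTP : InvUnder (P : Set G) T := invUnder_extFun_resFun H P hPH (hbinv _)
  have hTC : InvUnder (Subgroup.centralizer (P : Set G) : Set G) T :=
    (invUnder_extFun_of_isClassFunction H hrescl).le hCH
  have hFC : InvUnder (Subgroup.centralizer (P : Set G) : Set G) F :=
    (invUnder_extFun_of_isClassFunction H hfcl).le hCH
  have hDR : ∀ x, MemLocalRing M (D x) := memLocalRing_conv hTR hFR
  have hDP : InvUnder (P : Set G) D := invUnder_conv hTP hfP
  have hDC : InvUnder (Subgroup.centralizer (P : Set G) : Set G) D := invUnder_conv hTC hFC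
  have hT1 : MemLocalIdeal M (brauerOmega P T (ξ : Subgroup.centralizer (P : Set G) → ℂ) - 1) := by
    simp only [T]
    rw [brauerOmega_extFun_resFun P H hCH b]
    exact h1
  have hD1 : MemLocalIdeal M (brauerOmega P D (ξ : Subgroup.centralizer (P : Set G) → ℂ) - 1) := by
    have h3 := brauerOmega_conv_sub_memLocalIdeal hM P hP T F hTR hFR hTP hfP hTC hFC ξ
    exact congr_one_of_mul (brauerOmega_memLocalRing P F hFR hFC ξ) h3 hT1 h2
  have hpow := brauerOmega_convPow_sub_one hM P hP D hDR hDP hDC ξ hD1 (k + 1)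
  have hpowI : MemLocalIdeal M
      (brauerOmega P (convPow D (k + 1)) (ξ : Subgroup.centralizer (P : Set G) → ℂ)) := by
    refine brauerOmega_memLocalIdeal P _ (fun x => ?_) (invUnder_convPow hDC _) ξ
    rw [hD, extFun_convPow H d (k + 1) (Nat.succ_pos k)]
    exact extFun_memLocalIdeal H hk1 x
  have h4 := Helper16.memLocalIdeal_sub hpowI hpow
  rw [sub_sub_cancel] at h4
  exact Helper16.not_memLocalIdeal_one h4

/-- **Normal step.**  If `(Q, f) ⊴ (P, e)`, then the two Brauer pairs belong to the same block. -/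
theorem block_eq_of_isNormalSubpair [Fact p.Prime] (hM : IsPModular p M) (P Q : Subgroup G)
    (e : Set (IrrCharacter (Subgroup.centralizer (P : Set G))))
    (f : Set (IrrCharacter (Subgroup.centralizer (Q : Set G))))
    (hn : IsNormalSubpair p M Q f P e) {B' B'' : Set (IrrCharacter G)}
    (h' : IsBrauerPairOf p M B' P e) (h'' : IsBrauerPairOf p M B'' Q f) : B' = B'' := by
  classical
  have hMp : M.IsPrime := isPrime_of_isPModular hM
  by_contra hne
  obtain ⟨hQf, hPe, hQP, hPN, hstab, hbr⟩ := hn
  obtain ⟨_, hB', h1'⟩ := h'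
  obtain ⟨ξ, hξ⟩ := Helper78.isPBlock_nonempty hMp hPe.2
  have hfin : Fintype (Subgroup.centralizer (Q : Set G)) := Fintype.ofFinite _
  refine normal_step_core hM P hPe.1 (Subgroup.centralizer (Q : Set G))
    (Subgroup.centralizer_le hQP)
    (hPN.trans (Helper78.normalizer_le_normalizer_centralizer Q)) f hQf.2 ?_ (blockCoeff B')
    (blockCoeff_isClassFunction hB') (blockCoeff_memLocalRing hB') ?_ ξ (h1' ξ hξ) (hbr ξ hξ)
  · -- `P`-invariance of the idempotent of `f`
    intro u hu x
    have hN := (hstab u hu).1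
    by_cases hx : x ∈ Subgroup.centralizer (Q : Set G)
    · have hux : u * x * u⁻¹ ∈ Subgroup.centralizer (Q : Set G) :=
        (Subgroup.mem_normalizer_iff.mp hN x).mp hx
      rw [extFun_of_mem _ _ hux, extFun_of_mem _ _ hx]
      exact blockCoeff_conj_of_stabilizesBlock _ f u (hstab u hu) ⟨x, hx⟩ hux
    · have hux : u * x * u⁻¹ ∉ Subgroup.centralizer (Q : Set G) :=
        fun h => hx ((Subgroup.mem_normalizer_iff.mp hN x).mpr h)
      rw [extFun_of_not_mem _ _ hux, extFun_of_not_mem _ _ hx]
  · intro φ hφ
    rw [← brauerOmega_eq_omega]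
    exact brauerOmega_memLocalIdeal_of_ne hM Q f hB' h'' hne φ hφ

/-- **Inclusion of Brauer pairs preserves the block.** -/
theorem isBrauerPairOf_iff_of_subpairLE [Fact p.Prime] (hM : IsPModular p M) (P Q : Subgroup G)
    (e : Set (IrrCharacter (Subgroup.centralizer (P : Set G))))
    (f : Set (IrrCharacter (Subgroup.centralizer (Q : Set G))))
    (hPe : IsBrauerPair p M P e) (hQf : IsBrauerPair p M Q f)
    (hle : SubpairLE p M Q f P e) (B : Set (IrrCharacter G)) :
    IsBrauerPairOf p M B P e ↔ IsBrauerPairOf p M B Q f := by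
  unfold SubpairLE at hle
  -- generalize the two ends of the chain
  have key : ∀ a b : BrauerPairIdx G, Relation.ReflTransGen (NormalSubpairRel p M) a b →
      IsBrauerPair p M a.1 a.2 → IsBrauerPair p M b.1 b.2 →
      (IsBrauerPairOf p M B b.1 b.2 ↔ IsBrauerPairOf p M B a.1 a.2) := by
    intro a b hab
    induction hab with
    | refl => intro _ _; exact Iff.rfl
    | @tail b c hab hbc ih =>
      intro ha hc
      have hb : IsBrauerPair p M b.1 b.2 := hbc.1
      rw [← ih ha hb]
      obtain ⟨Bc, hBc, hBcu⟩ := existsUnique_isBrauerPairOf hM c.1 c.2 hc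
      obtain ⟨Bb, hBb, hBbu⟩ := existsUnique_isBrauerPairOf hM b.1 b.2 hb
      have heq : Bc = Bb := block_eq_of_isNormalSubpair hM c.1 b.1 c.2 b.2 hbc hBc hBb
      constructor
      · intro h
        have : B = Bc := hBcu B h
        rw [this, heq]
        exact hBb
      · intro h
        have : B = Bb := hBbu B h
        rw [this, ← heq]
        exact hBc
  exact key ⟨Q, f⟩ ⟨P, e⟩ hle hQf hPe

end Cfsg.Agent.Helper77
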