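import Cfsg.Agent.Helper77.Covering

/-!
# Uniqueness of the subpair below a Brauer pair on each subgroup

(helper77, file 20.)  Alperin–Broué, Theorem 3.4, in the language of ordinary characters.
-/

set_option autoImplicit false
set_option linter.unusedSectionVars false

namespace Cfsg.Agent.Helper77

open Cfsg
open Cfsg.Agent.Helper16 (omega conv classInd deltaOne)

variable {G : Type*} [Group G] [Fintype G] {M : Ideal AlgInt} {p : ℕ}

section Conj

/-- An element of a subgroup `P` normalizing `H` stabilizes the set `f` of irreducible characters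
of `H` if and only if the transport of `f` along conjugation is `f`. -/
theorem stabilizesBlock_iff_image_eq (H P : Subgroup G)
    (hPH : P ≤ Subgroup.normalizer (H : Set G)) (f : Set (IrrCharacter H)) (u : P) :
    StabilizesBlock H f (u : G) ↔ Helper78.irrMap (conjHom H P hPH u) '' f = f := by
  classical
  have : Fintype H := Fintype.ofFinite _
  constructor
  · rintro ⟨_, hstab⟩
    have hmaps : Set.MapsTo (Helper78.irrMap (conjHom H P hPH u)) f f := by
      intro χ hχ
      obtain ⟨χ', hχ', hconj⟩ := hstab χ hχ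
      have : Helper78.irrMap (conjHom H P hPH u) χ = χ' := by
        apply Subtype.ext
        funext k'
        rw [Helper78.irrMap_apply]
        refine (hconj ((conjHom H P hPH u).symm k') k' ?_).symm
        rw [coe_conjHom_symm_apply]
        group
      rw [this]
      exact hχ'
    have hbij := ((Set.toFinite f).injOn_iff_bijOn_of_mapsTo hmaps).mp
      (Helper78.irrMap_injective _).injOn
    exact hbij.image_eq
  · intro h
    refine ⟨hPH u.2, fun χ hχ => ⟨Helper78.irrMap (conjHom H P hPH u) χ, ?_, ?_⟩⟩
    · have := Set.mem_image_of_mem (Helper78.irrMap (conjHom H P hPH u)) hχ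
      rwa [h] at this
    · intro k k' hkk'
      have : k' = conjHom H P hPH u k := Subtype.ext hkk'
      rw [this, Helper78.irrMap_apply_apply]

/-- The idempotent of the transported set of characters is the conjugate of the idempotent. -/
theorem extFun_blockCoeff_image_conj (H P : Subgroup G)
    (hPH : P ≤ Subgroup.normalizer (H : Set G)) (S : Set (IrrCharacter H)) (u : P) (g : G) :
    extFun H (blockCoeff (Helper78.irrMap (conjHom H P hPH u) '' S)) g =
      extFun H (blockCoeff S) ((u : G)⁻¹ * g * (u : G)) := by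
  have hN := hPH u.2
  by_cases hg : g ∈ H
  · have hg' : (u : G)⁻¹ * g * (u : G) ∈ H := (Subgroup.mem_normalizer_iff''.mp hN g).mp hg
    rw [extFun_of_mem H _ hg, extFun_of_mem H _ hg', blockCoeff_image_irrMap]
    congr 1
  · have hg' : (u : G)⁻¹ * g * (u : G) ∉ H :=
      fun h => hg ((Subgroup.mem_normalizer_iff''.mp hN g).mpr h)
    rw [extFun_of_not_mem H _ hg, extFun_of_not_mem H _ hg']

/-- Brauer values under conjugation by an element normalizing the centralizer. -/
theorem brauerOmega_conj (S P : Subgroup G)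
    (hPS : P ≤ Subgroup.normalizer ((Subgroup.centralizer (S : Set G) : Subgroup G) : Set G))
    (β : G → ℂ) (η : IrrCharacter (Subgroup.centralizer (S : Set G))) (u : P) :
    brauerOmega S (fun g => β ((u : G)⁻¹ * g * (u : G)))
      (Helper78.irrMap (conjHom (Subgroup.centralizer (S : Set G)) P hPS u) η :
        Subgroup.centralizer (S : Set G) → ℂ) =
    brauerOmega S β (η : Subgroup.centralizer (S : Set G) → ℂ) := by
  classical
  have : Fintype (Subgroup.centralizer (S : Set G)) := Fintype.ofFinite _
  rw [brauerOmega_eq_omega, brauerOmega_eq_omega, omega_irrMap]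
  congr 1
  funext c
  show β ((u : G)⁻¹ * ((conjHom (Subgroup.centralizer (S : Set G)) P hPS u c :
    Subgroup.centralizer (S : Set G)) : G) * (u : G)) = β (c : G)
  rw [coe_conjHom_apply]
  congr 1
  group

end Conj

section Nilpotent

/-- Brauer values of convolution powers. -/
theorem brauerOmega_convPow_sub_pow [Fact p.Prime] (hM : IsPModular p M) (P : Subgroup G)
    (hP : IsPGroup p P) (D : G → ℂ) (hDR : ∀ x, MemLocalRing M (D x))
    (hDP : InvUnder (P : Set G) D)
    (hDC : InvUnder (Subgroup.centralizer (P : Set G) : Set G) D)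
    (ξ : IrrCharacter (Subgroup.centralizer (P : Set G))) (n : ℕ) :
    MemLocalIdeal M
      (brauerOmega P (convPow D n) (ξ : Subgroup.centralizer (P : Set G) → ℂ) -
        brauerOmega P D (ξ : Subgroup.centralizer (P : Set G) → ℂ) ^ n) := by
  have hMp : M.IsPrime := isPrime_of_isPModular hM
  induction n with
  | zero =>
    rw [convPow_zero, brauerOmega_deltaOne, pow_zero, sub_self]
    exact Helper16.memLocalIdeal_zero
  | succ n ih =>
    have h2 := brauerOmega_conv_sub_memLocalIdeal hM P hP (convPow D n) D
      (memLocalRing_convPow hDR n) hDR (invUnder_convPow hDP n) hDP (invUnder_convPow hDC n) hDC ξ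
    rw [convPow_succ, pow_succ]
    have hbR := brauerOmega_memLocalRing P D hDR hDC ξ
    have h3 := Helper16.memLocalIdeal_mul_right ih hbR
    have h4 := Helper16.memLocalIdeal_add h2 h3
    have e : brauerOmega P (conv (convPow D n) D) (ξ : Subgroup.centralizer (P : Set G) → ℂ) -
        brauerOmega P (convPow D n) (ξ : Subgroup.centralizer (P : Set G) → ℂ) *
          brauerOmega P D (ξ : Subgroup.centralizer (P : Set G) → ℂ) +
        (brauerOmega P (convPow D n) (ξ : Subgroup.centralizer (P : Set G) → ℂ) -
          brauerOmega P D (ξ : Subgroup.centralizer (P : Set G) → ℂ) ^ n) *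
          brauerOmega P D (ξ : Subgroup.centralizer (P : Set G) → ℂ) =
        brauerOmega P (conv (convPow D n) D) (ξ : Subgroup.centralizer (P : Set G) → ℂ) -
          brauerOmega P D (ξ : Subgroup.centralizer (P : Set G) → ℂ) ^ n *
          brauerOmega P D (ξ : Subgroup.centralizer (P : Set G) → ℂ) := by ring
    rw [e] at h4
    exact h4

/-- **Radical lemma for the Brauer map**: a `P`-invariant central element of the local group ring
of `H ≥ C_G(P)` all of whose central character values lie in the local ideal has Brauer values in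
the local ideal. -/
theorem brauerOmega_memLocalIdeal_of_omega [Fact p.Prime] (hM : IsPModular p M) (P : Subgroup G)
    (hP : IsPGroup p P) (H : Subgroup G) [Fintype H]
    (hCH : Subgroup.centralizer (P : Set G) ≤ H) (d : H → ℂ) (hdcl : IsClassFunction H d)
    (hdR : ∀ h, MemLocalRing M (d h)) (hdP : InvUnder (P : Set G) (extFun H d))
    (hdI : ∀ φ : IrrCharacter H, MemLocalIdeal M (omega (φ : H → ℂ) d))
    (ξ : IrrCharacter (Subgroup.centralizer (P : Set G))) :
    MemLocalIdeal M
      (brauerOmega P (extFun H d) (ξ : Subgroup.centralizer (P : Set G) → ℂ)) := by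
  classical
  have hMp : M.IsPrime := isPrime_of_isPModular hM
  obtain ⟨k, hk⟩ := exists_convPow_memLocalIdeal hdcl hdR hdI
  have hk1 : ∀ h, MemLocalIdeal M (convPow d (k + 1) h) := by
    intro h
    rw [convPow_succ]
    exact memLocalIdeal_conv_left hk hdR h
  have hDR : ∀ x, MemLocalRing M (extFun H d x) := extFun_memLocalRing H hdR
  have hDC : InvUnder (Subgroup.centralizer (P : Set G) : Set G) (extFun H d) :=
    (invUnder_extFun_of_isClassFunction H hdcl).le hCH
  have hpow := brauerOmega_convPow_sub_pow hM P hP (extFun H d) hDR hdP hDC ξ (k + 1)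
  have hpowI : MemLocalIdeal M (brauerOmega P (convPow (extFun H d) (k + 1))
      (ξ : Subgroup.centralizer (P : Set G) → ℂ)) := by
    refine brauerOmega_memLocalIdeal P _ (fun x => ?_) (invUnder_convPow hDC _) ξ
    rw [extFun_convPow H d (k + 1) (Nat.succ_pos k)]
    exact extFun_memLocalIdeal H hk1 x
  have h4 := Helper16.memLocalIdeal_sub hpowI hpow
  rw [sub_sub_cancel] at h4
  exact memLocalIdeal_of_pow M (brauerOmega_memLocalRing P _ hDR hDC ξ) h4

end Nilpotent

section Trans

theorem extFun_sub (H : Subgroup G) (s t : H → ℂ) :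
    extFun H (s - t) = extFun H s - extFun H t := by
  funext g
  by_cases hg : g ∈ H
  · rw [Pi.sub_apply, extFun_of_mem H _ hg, extFun_of_mem H _ hg, extFun_of_mem H _ hg]
    rfl
  · rw [Pi.sub_apply, extFun_of_not_mem H _ hg, extFun_of_not_mem H _ hg,
      extFun_of_not_mem H _ hg, sub_zero]

/-- **Transitivity of normal inclusion** when the bottom group is normal in the top group. -/
theorem isNormalSubpair_trans [Fact p.Prime] (hM : IsPModular p M) (Q S S' : Subgroup G)
    (f : Set (IrrCharacter (Subgroup.centralizer (Q : Set G))))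
    (h : Set (IrrCharacter (Subgroup.centralizer (S : Set G))))
    (h' : Set (IrrCharacter (Subgroup.centralizer (S' : Set G))))
    (h1 : IsNormalSubpair p M Q f S h) (h2 : IsNormalSubpair p M S h S' h')
    (hS'Q : S' ≤ Subgroup.normalizer (Q : Set G)) : IsNormalSubpair p M Q f S' h' := by
  classical
  have hMp : M.IsPrime := isPrime_of_isPModular hM
  have h1copy := h1
  obtain ⟨hQf, hSh, hQS, hSNQ, hfS, hbr1⟩ := h1
  obtain ⟨_, hS'h', hSS', hS'NS, hhS', hbr2⟩ := h2
  have hS'HQ : S' ≤ Subgroup.normalizer
      ((Subgroup.centralizer (Q : Set G) : Subgroup G) : Set G) :=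
    hS'Q.trans (Helper78.normalizer_le_normalizer_centralizer Q)
  have hS'HS : S' ≤ Subgroup.normalizer
      ((Subgroup.centralizer (S : Set G) : Subgroup G) : Set G) :=
    hS'NS.trans (Helper78.normalizer_le_normalizer_centralizer S)
  have hfinQ : Fintype (Subgroup.centralizer (Q : Set G)) := Fintype.ofFinite _
  have hfinS : Fintype (Subgroup.centralizer (S : Set G)) := Fintype.ofFinite _
  -- (1) `f` is `S'`-stable
  have hfS' : ∀ x ∈ S', StabilizesBlock (Subgroup.centralizer (Q : Set G)) f x := by
    intro x hx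
    let act0 : MulAction (MulAut (Subgroup.centralizer (Q : Set G)))
      (IrrCharacter (Subgroup.centralizer (Q : Set G))) := irrAutAction _
    let act1 : MulAction S' (IrrCharacter (Subgroup.centralizer (Q : Set G))) :=
      MulAction.compHom _ (conjHom (Subgroup.centralizer (Q : Set G)) S' hS'HQ)
    let act2 : MulAction S' (Set (IrrCharacter (Subgroup.centralizer (Q : Set G)))) :=
      Set.mulActionSet
    have hsmul : ∀ (u : S') (T : Set (IrrCharacter (Subgroup.centralizer (Q : Set G)))),
        u • T = Helper78.irrMap (conjHom (Subgroup.centralizer (Q : Set G)) S' hS'HQ u) '' T :=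
      fun u T => rfl
    let xi : S' := ⟨x, hx⟩
    have hsub : IsNormalSubpair p M Q (xi • f) S h := by
      refine ⟨⟨hQf.1, ?_⟩, hSh, hQS, hSNQ, ?_, ?_⟩
      · rw [hsmul]
        exact isPBlock_image_irrMap _ hQf.2
      · intro s hs
        have hsS' : s ∈ S' := hSS' hs
        let si : S' := ⟨s, hsS'⟩
        let t : S' := xi⁻¹ * si * xi
        have htS : (t : G) ∈ S := (Subgroup.mem_normalizer_iff''.mp (hS'NS hx) s).mp hs
        have ht : t • f = f := by
          rw [hsmul]
          exact (stabilizesBlock_iff_image_eq _ S' hS'HQ f t).mp (hfS (t : G) htS)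
        have key : si • xi • f = xi • f := by
          calc si • xi • f = (si * xi) • f := (mul_smul _ _ _).symm
            _ = (xi * t) • f := by
                congr 1
                simp only [t]
                group
            _ = xi • t • f := mul_smul _ _ _
            _ = xi • f := by rw [ht]
        rw [hsmul si] at key
        exact (stabilizesBlock_iff_image_eq _ S' hS'HQ (xi • f) si).mpr key
      · intro η hη
        have hximg := (stabilizesBlock_iff_image_eq _ S' hS'HS h xi).mp (hhS' x hx)
        rw [← hximg] at hη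
        obtain ⟨η₀, hη₀, rfl⟩ := hη
        have hFf' : extFun (Subgroup.centralizer (Q : Set G)) (blockCoeff (xi • f)) =
            fun g => extFun (Subgroup.centralizer (Q : Set G)) (blockCoeff f)
              ((xi : G)⁻¹ * g * (xi : G)) :=
          funext (fun g => extFun_blockCoeff_image_conj _ S' hS'HQ f xi g)
        rw [subgroupBlockCoeff_eq_extFun, hFf',
          brauerOmega_conj S S' hS'HS (extFun (Subgroup.centralizer (Q : Set G)) (blockCoeff f))
            η₀ xi]
        exact hbr1 η₀ hη₀
    have huniq := (existsUnique_isNormalSubpair hM S Q h hSh hQS hSNQ).unique hsub h1copy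
    rw [hsmul] at huniq
    exact (stabilizesBlock_iff_image_eq _ S' hS'HQ f xi).mpr huniq
  refine ⟨hQf, hS'h', hQS.trans hSS', hS'Q, hfS', fun ξ hξ => ?_⟩
  -- (2) the Brauer value at `S'`
  have hHS'HS : Subgroup.centralizer (S' : Set G) ≤ Subgroup.centralizer (S : Set G) :=
    Subgroup.centralizer_le hSS'
  have hHSHQ : Subgroup.centralizer (S : Set G) ≤ Subgroup.centralizer (Q : Set G) :=
    Subgroup.centralizer_le hQS
  have hfcl := blockCoeff_isClassFunction hQf.2
  have hhcl := blockCoeff_isClassFunction hSh.2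
  have hhR := blockCoeff_memLocalRing hSh.2
  let Ff : G → ℂ := extFun (Subgroup.centralizer (Q : Set G)) (blockCoeff f)
  let Fh : G → ℂ := extFun (Subgroup.centralizer (S : Set G)) (blockCoeff h)
  have hFfR : ∀ g, MemLocalRing M (Ff g) := extFun_memLocalRing _ (blockCoeff_memLocalRing hQf.2)
  have hFhR : ∀ g, MemLocalRing M (Fh g) := extFun_memLocalRing _ hhR
  have hFfS' : InvUnder (S' : Set G) Ff := invUnder_extFun_blockCoeff_of_stabilizes _ S' f hfS'
  have hFhS' : InvUnder (S' : Set G) Fh := invUnder_extFun_blockCoeff_of_stabilizes _ S' h hhS'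
  have hFfHQ : InvUnder (Subgroup.centralizer (Q : Set G) : Set G) Ff :=
    invUnder_extFun_of_isClassFunction _ hfcl
  have hFhHS : InvUnder (Subgroup.centralizer (S : Set G) : Set G) Fh :=
    invUnder_extFun_of_isClassFunction _ hhcl
  let a₀ : Subgroup.centralizer (S : Set G) → ℂ := resFun (Subgroup.centralizer (S : Set G)) Ff
  let A : G → ℂ := extFun (Subgroup.centralizer (S : Set G)) a₀
  have ha₀cl : IsClassFunction (Subgroup.centralizer (S : Set G)) a₀ :=
    isClassFunction_resFun (hFfHQ.le hHSHQ)
  have ha₀R : ∀ c, MemLocalRing M (a₀ c) := fun c => hFfR _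
  have hAR : ∀ g, MemLocalRing M (A g) := extFun_memLocalRing _ ha₀R
  have hAS' : InvUnder (S' : Set G) A := invUnder_extFun_resFun _ S' hS'HS hFfS'
  have hAC : InvUnder (Subgroup.centralizer (S' : Set G) : Set G) A :=
    (invUnder_extFun_of_isClassFunction _ ha₀cl).le hHS'HS
  have hFhC : InvUnder (Subgroup.centralizer (S' : Set G) : Set G) Fh := hFhHS.le hHS'HS
  let d : Subgroup.centralizer (S : Set G) → ℂ := conv a₀ (blockCoeff h) - blockCoeff h
  have hdcl : IsClassFunction (Subgroup.centralizer (S : Set G)) d :=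
    Helper16.isClassFunction_sub (Helper16.isClassFunction_conv ha₀cl hhcl) hhcl
  have hdR : ∀ c, MemLocalRing M (d c) := fun c =>
    Helper16.memLocalRing_sub (memLocalRing_conv ha₀R hhR c) (hhR c)
  have hdext : extFun (Subgroup.centralizer (S : Set G)) d = conv A Fh - Fh := by
    simp only [d, A, Fh]
    rw [extFun_sub, ← extFun_conv]
  have hdS' : InvUnder (S' : Set G) (extFun (Subgroup.centralizer (S : Set G)) d) := by
    rw [hdext]
    exact invUnder_sub (invUnder_conv hAS' hFhS') hFhS'
  have hdI : ∀ φ : IrrCharacter (Subgroup.centralizer (S : Set G)),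
      MemLocalIdeal M (omega (φ : Subgroup.centralizer (S : Set G) → ℂ) d) := by
    intro φ
    simp only [d]
    rw [Helper16.omega_sub, Helper16.irr_omega_conv φ ha₀cl hhcl, omega_blockCoeff hSh.2 φ]
    by_cases hφ : φ ∈ h
    · rw [if_pos hφ, mul_one]
      have := hbr1 φ hφ
      rw [brauerOmega_eq_omega] at this
      exact this
    · rw [if_neg hφ, mul_zero, sub_zero]
      exact Helper16.memLocalIdeal_zero
  have hN := brauerOmega_memLocalIdeal_of_omega hM S' hS'h'.1 _ hHS'HS d hdcl hdR hdS' hdI ξ
  rw [hdext, brauerOmega_sub] at hN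
  have hmul := brauerOmega_conv_sub_memLocalIdeal hM S' hS'h'.1 A Fh hAR hFhR hAS' hFhS' hAC hFhC ξ
  have hA : brauerOmega S' A (ξ : Subgroup.centralizer (S' : Set G) → ℂ) =
      brauerOmega S' Ff (ξ : Subgroup.centralizer (S' : Set G) → ℂ) :=
    brauerOmega_extFun_resFun S' _ hHS'HS Ff _
  have hFh1 : MemLocalIdeal M
      (brauerOmega S' Fh (ξ : Subgroup.centralizer (S' : Set G) → ℂ) - 1) := hbr2 ξ hξ
  rw [hA] at hmul
  have hxR : MemLocalRing M (brauerOmega S' Ff (ξ : Subgroup.centralizer (S' : Set G) → ℂ)) :=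
    brauerOmega_memLocalRing S' Ff hFfR (hFfHQ.le (hHS'HS.trans hHSHQ)) ξ
  -- `c - x y ∈ J`, `c - y ∈ J`, `y - 1 ∈ J` give `x - 1 ∈ J`
  have h3 := Helper16.memLocalIdeal_sub hN hmul
  have h4 := Helper16.memLocalIdeal_mul_left
    (Helper16.memLocalRing_sub hxR Helper16.memLocalRing_one) hFh1
  have h5 := Helper16.memLocalIdeal_sub h3 h4
  have e : brauerOmega S' (conv A Fh) (ξ : Subgroup.centralizer (S' : Set G) → ℂ) -
      brauerOmega S' Fh (ξ : Subgroup.centralizer (S' : Set G) → ℂ) -
      (brauerOmega S' (conv A Fh) (ξ : Subgroup.centralizer (S' : Set G) → ℂ) -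
        brauerOmega S' Ff (ξ : Subgroup.centralizer (S' : Set G) → ℂ) *
          brauerOmega S' Fh (ξ : Subgroup.centralizer (S' : Set G) → ℂ)) -
      (brauerOmega S' Ff (ξ : Subgroup.centralizer (S' : Set G) → ℂ) - 1) *
        (brauerOmega S' Fh (ξ : Subgroup.centralizer (S' : Set G) → ℂ) - 1) =
      brauerOmega S' Ff (ξ : Subgroup.centralizer (S' : Set G) → ℂ) - 1 := by ring
  rw [e] at h5
  exact h5

end Trans

section Chain

/-- Inclusion of Brauer pairs is monotone on the subgroups. -/
theorem le_of_reflTransGen {a b : BrauerPairIdx G}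
    (h : Relation.ReflTransGen (NormalSubpairRel p M) a b) : a.1 ≤ b.1 := by
  induction h with
  | refl => exact le_refl _
  | tail _ hbc ih => exact ih.trans hbc.2.2.1

/-- A normal step that does not change the subgroup is trivial. -/
theorem eq_of_normalSubpairRel_of_eq [hMp : M.IsPrime] {a b : BrauerPairIdx G}
    (h : NormalSubpairRel p M a b) (hab : a.1 = b.1) : a = b := by
  classical
  obtain ⟨Q, f⟩ := a
  obtain ⟨Q', f'⟩ := b
  simp only at hab
  subst hab
  have hfin : Fintype (Subgroup.centralizer (Q : Set G)) := Fintype.ofFinite _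
  obtain ⟨hQf, hQf', _, _, _, hbr⟩ := h
  obtain ⟨ξ, hξ⟩ := Helper78.isPBlock_nonempty hMp hQf'.2
  have h1 := hbr ξ hξ
  rw [brauerOmega_eq_omega, subgroupBlockCoeff_eq_extFun, resFun_extFun,
    omega_blockCoeff hQf.2 ξ] at h1
  by_cases hξf : ξ ∈ f
  · have : f = f' := Helper78.isPBlock_eq_of_mem_of_mem hMp hQf.2 hQf'.2 hξf hξ
    rw [this]
  · rw [if_neg hξf, zero_sub] at h1
    have h2 := Helper16.memLocalIdeal_neg h1
    rw [neg_neg] at h2
    exact absurd h2 Helper16.not_memLocalIdeal_one

/-- Normal form of a chain: either it is trivial or it starts with a strict step. -/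
theorem reflTransGen_cases [hMp : M.IsPrime] {a c : BrauerPairIdx G}
    (h : Relation.ReflTransGen (NormalSubpairRel p M) a c) :
    a = c ∨ ∃ b : BrauerPairIdx G, a.1 < b.1 ∧ NormalSubpairRel p M a b ∧
      Relation.ReflTransGen (NormalSubpairRel p M) b c := by
  induction h using Relation.ReflTransGen.head_induction_on with
  | refl => exact Or.inl rfl
  | head hab hbc ih =>
    rename_i a b
    by_cases heq : a.1 = b.1
    · have hab' : a = b := eq_of_normalSubpairRel_of_eq hab heq
      rw [hab']
      exact ih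
    · exact Or.inr ⟨b, lt_of_le_of_ne hab.2.2.1 heq, hab, hbc⟩

/-- In a finite `p`-group, a proper subgroup is properly contained in its normalizer. -/
theorem exists_lt_le_normalizer [Fact p.Prime] {P Q : Subgroup G} (hP : IsPGroup p P)
    (hQP : Q ≤ P) (hne : Q ≠ P) :
    ∃ R : Subgroup G, Q < R ∧ R ≤ P ∧ R ≤ Subgroup.normalizer (Q : Set G) := by
  have hnil : Group.IsNilpotent P := hP.isNilpotent
  have hnc : NormalizerCondition P := Group.normalizerCondition_of_isNilpotent
  have hlt : Q.subgroupOf P < ⊤ := by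
    rw [lt_top_iff_ne_top, Ne, Subgroup.subgroupOf_eq_top]
    exact fun h => hne (le_antisymm hQP h)
  obtain ⟨x, hxN, hxH⟩ := SetLike.exists_of_lt (hnc _ hlt)
  refine ⟨P ⊓ Subgroup.normalizer (Q : Set G), ?_, inf_le_left, inf_le_right⟩
  have hle : Q ≤ P ⊓ Subgroup.normalizer (Q : Set G) := le_inf hQP Subgroup.le_normalizer
  refine lt_of_le_of_ne hle (fun heq => hxH ?_)
  have hxQ : (x : G) ∈ P ⊓ Subgroup.normalizer (Q : Set G) := by
    refine ⟨x.2, Subgroup.mem_normalizer_iff.mpr ?_⟩
    intro q
    rw [Subgroup.mem_normalizer_iff] at hxN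
    constructor
    · intro hq
      have := (hxN ⟨q, hQP hq⟩).mp (Subgroup.mem_subgroupOf.mpr hq)
      exact Subgroup.mem_subgroupOf.mp this
    · intro hq
      have hqP : q ∈ P := by
        have h1 : (x : G)⁻¹ * ((x : G) * q * (x : G)⁻¹) * (x : G) ∈ P :=
          P.mul_mem (P.mul_mem (P.inv_mem x.2) (hQP hq)) x.2
        have e : (x : G)⁻¹ * ((x : G) * q * (x : G)⁻¹) * (x : G) = q := by group
        rwa [e] at h1
      have := (hxN ⟨q, hqP⟩).mpr (Subgroup.mem_subgroupOf.mpr hq)
      exact Subgroup.mem_subgroupOf.mp this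
  rw [← heq] at hxQ
  exact Subgroup.mem_subgroupOf.mpr hxQ

theorem card_lt_card_of_lt {Q R : Subgroup G} (h : Q < R) : Nat.card Q < Nat.card R := by
  by_contra hcon
  exact h.ne (Subgroup.eq_of_le_of_card_ge h.le (not_lt.mp hcon))

/-- **Existence** of a subpair on each subgroup. -/
theorem exists_subpairLE [Fact p.Prime] (hM : IsPModular p M) (P : Subgroup G)
    (e : Set (IrrCharacter (Subgroup.centralizer (P : Set G))))
    (hPe : IsBrauerPair p M P e) :
    ∀ (n : ℕ) (Q : Subgroup G), Q ≤ P → Nat.card P - Nat.card Q ≤ n →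
      ∃ f : Set (IrrCharacter (Subgroup.centralizer (Q : Set G))),
        IsPBlock M f ∧ SubpairLE p M Q f P e := by
  intro n
  induction n with
  | zero =>
    intro Q hQP hn
    have hQ : Q = P := Subgroup.eq_of_le_of_card_ge hQP (by omega)
    subst hQ
    exact ⟨e, hPe.2, Relation.ReflTransGen.refl⟩
  | succ n ih =>
    intro Q hQP hn
    by_cases hQ : Q = P
    · subst hQ
      exact ⟨e, hPe.2, Relation.ReflTransGen.refl⟩
    · obtain ⟨R, hQR, hRP, hRN⟩ := exists_lt_le_normalizer hPe.1 hQP hQ
      have hcard : Nat.card Q < Nat.card R := card_lt_card_of_lt hQR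
      have hcardR : Nat.card R ≤ Nat.card P := Subgroup.card_le_of_le hRP
      obtain ⟨g, hg, hRg⟩ := ih R hRP (by omega)
      have hRgp : IsBrauerPair p M R g := ⟨hPe.1.to_le hRP, hg⟩
      obtain ⟨f, hf, _⟩ := existsUnique_isNormalSubpair hM R Q g hRgp hQR.le hRN
      exact ⟨f, hf.1.2, Relation.ReflTransGen.head
        (show NormalSubpairRel p M ⟨Q, f⟩ ⟨R, g⟩ from hf) hRg⟩

/-- Normal inclusion in a pair extends along chains inside the normalizer. -/
theorem isNormalSubpair_of_reflTransGen [Fact p.Prime] (hM : IsPModular p M) (Q : Subgroup G)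
    (f : Set (IrrCharacter (Subgroup.centralizer (Q : Set G)))) {a b : BrauerPairIdx G}
    (hab : Relation.ReflTransGen (NormalSubpairRel p M) a b)
    (hb : b.1 ≤ Subgroup.normalizer (Q : Set G))
    (ha : IsNormalSubpair p M Q f a.1 a.2) : IsNormalSubpair p M Q f b.1 b.2 := by
  induction hab with
  | refl => exact ha
  | @tail b c _ hbc ih =>
    have hb' : b.1 ≤ Subgroup.normalizer (Q : Set G) := hbc.2.2.1.trans hb
    exact isNormalSubpair_trans hM Q b.1 c.1 f b.2 c.2 (ih hb') hbc hb

/-- **Uniqueness** of the subpair on each subgroup. -/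
theorem subpairLE_unique [Fact p.Prime] (hM : IsPModular p M) (P : Subgroup G)
    (e : Set (IrrCharacter (Subgroup.centralizer (P : Set G))))
    (hPe : IsBrauerPair p M P e) :
    ∀ (n : ℕ) (Q : Subgroup G), Nat.card P - Nat.card Q ≤ n →
      ∀ f f' : Set (IrrCharacter (Subgroup.centralizer (Q : Set G))),
        SubpairLE p M Q f P e → SubpairLE p M Q f' P e → f = f' := by
  have hMp : M.IsPrime := isPrime_of_isPModular hM
  intro n
  induction n using Nat.strong_induction_on with
  | _ n ih =>
    intro Q hn f f' hf hf'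
    unfold SubpairLE at hf hf'
    rcases reflTransGen_cases hf with h | ⟨b, hlt, hstep, hrest⟩
    · rcases reflTransGen_cases hf' with h' | ⟨b', hlt', hstep', hrest'⟩
      · have := h.trans h'.symm
        exact eq_of_heq (Sigma.mk.inj_iff.mp this).2
      · exfalso
        have h1 : Q = P := (Sigma.mk.inj_iff.mp h).1
        have h2 : b'.1 ≤ P := le_of_reflTransGen hrest'
        have h3 : Q < b'.1 := hlt'
        rw [h1] at h3
        exact absurd h2 (not_le_of_gt h3)
    · rcases reflTransGen_cases hf' with h' | ⟨b', hlt', hstep', hrest'⟩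
      · exfalso
        have h1 : Q = P := (Sigma.mk.inj_iff.mp h').1
        have h2 : b.1 ≤ P := le_of_reflTransGen hrest
        have h3 : Q < b.1 := hlt
        rw [h1] at h3
        exact absurd h2 (not_le_of_gt h3)
      · -- the main case
        have hbP : b.1 ≤ P := le_of_reflTransGen hrest
        have hb'P : b'.1 ≤ P := le_of_reflTransGen hrest'
        have hQb : Q < b.1 := hlt
        have hQb' : Q < b'.1 := hlt'
        have hbN : b.1 ≤ Subgroup.normalizer (Q : Set G) := hstep.2.2.2.1
        have hb'N : b'.1 ≤ Subgroup.normalizer (Q : Set G) := hstep'.2.2.2.1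
        let R : Subgroup G := P ⊓ Subgroup.normalizer (Q : Set G)
        have hbR : b.1 ≤ R := le_inf hbP hbN
        have hb'R : b'.1 ≤ R := le_inf hb'P hb'N
        have hRP : R ≤ P := inf_le_left
        have hRN : R ≤ Subgroup.normalizer (Q : Set G) := inf_le_right
        have hQR : Q < R := lt_of_lt_of_le hQb hbR
        have hc1 : Nat.card Q < Nat.card b.1 := card_lt_card_of_lt hQb
        have hc1' : Nat.card Q < Nat.card b'.1 := card_lt_card_of_lt hQb'
        have hc2 : Nat.card b.1 ≤ Nat.card P := Subgroup.card_le_of_le hbP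
        have hc2' : Nat.card b'.1 ≤ Nat.card P := Subgroup.card_le_of_le hb'P
        have hc3 : Nat.card R ≤ Nat.card P := Subgroup.card_le_of_le hRP
        -- a pair on `R`
        obtain ⟨g, hg, hRg⟩ := exists_subpairLE hM P e hPe _ R hRP (le_refl _)
        have hRgp : IsBrauerPair p M R g := ⟨hPe.1.to_le hRP, hg⟩
        -- the pair on `b.1` below `(R, g)` is `b`
        have hbRg : Relation.ReflTransGen (NormalSubpairRel p M) b ⟨R, g⟩ := by
          obtain ⟨f₁, hf₁, hf₁R⟩ := exists_subpairLE hM R g hRgp _ b.1 hbR (le_refl _)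
          have hf₁P : SubpairLE p M b.1 f₁ P e := Relation.ReflTransGen.trans hf₁R hRg
          have hbb : SubpairLE p M b.1 b.2 P e := hrest
          have := ih (Nat.card P - Nat.card b.1) (by omega) b.1 (le_refl _) f₁ b.2 hf₁P hbb
          rw [this] at hf₁R
          exact hf₁R
        have hb'Rg : Relation.ReflTransGen (NormalSubpairRel p M) b' ⟨R, g⟩ := by
          obtain ⟨f₁, hf₁, hf₁R⟩ := exists_subpairLE hM R g hRgp _ b'.1 hb'R (le_refl _)
          have hf₁P : SubpairLE p M b'.1 f₁ P e := Relation.ReflTransGen.trans hf₁R hRg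
          have hbb : SubpairLE p M b'.1 b'.2 P e := hrest'
          have := ih (Nat.card P - Nat.card b'.1) (by omega) b'.1 (le_refl _) f₁ b'.2 hf₁P hbb
          rw [this] at hf₁R
          exact hf₁R
        have hfR : IsNormalSubpair p M Q f R g :=
          isNormalSubpair_of_reflTransGen hM Q f hbRg hRN hstep
        have hf'R : IsNormalSubpair p M Q f' R g :=
          isNormalSubpair_of_reflTransGen hM Q f' hb'Rg hRN hstep'
        exact (existsUnique_isNormalSubpair hM R Q g hRgp hQR.le hRN).unique hfR hf'R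

/-- **Alperin–Broué**: below a Brauer pair `(P, e)` there is exactly one Brauer pair on each
subgroup `Q` of `P`. -/
theorem existsUnique_subpairLE [Fact p.Prime] (hM : IsPModular p M) (P Q : Subgroup G)
    (e : Set (IrrCharacter (Subgroup.centralizer (P : Set G))))
    (hPe : IsBrauerPair p M P e) (hQP : Q ≤ P) :
    ∃! f : Set (IrrCharacter (Subgroup.centralizer (Q : Set G))),
      IsPBlock M f ∧ SubpairLE p M Q f P e := by
  obtain ⟨f, hf, hle⟩ := exists_subpairLE hM P e hPe _ Q hQP (le_refl _)
  refine ⟨f, ⟨hf, hle⟩, ?_⟩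
  rintro f' ⟨_, hle'⟩
  exact subpairLE_unique hM P e hPe _ Q (le_refl _) f' f hle' hle

end Chain

end Cfsg.Agent.Helper77
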