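import Cfsg.Agent.Helper77.ConjMax
import Cfsg.Agent.S4681

/-!
# Brauer's third main theorem in the language of Brauer pairs

(helper77, file 25.)
-/

set_option autoImplicit false
set_option linter.unusedSectionVars false

namespace Cfsg.Agent.Helper77

open Cfsg

variable {G : Type*} [Group G] [Fintype G] {M : Ideal AlgInt} {p : ℕ}

/-- **Brauer's third main theorem for Brauer pairs**: the Brauer pairs of the principal block are
the principal pairs. -/
theorem isBrauerPairOf_principal_iff [Fact p.Prime] (hM : IsPModular p M) (Q : Subgroup G)
    (hQ : IsPGroup p Q) (e : Set (IrrCharacter (Subgroup.centralizer (Q : Set G))))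
    (he : IsPBlock M e) :
    IsBrauerPairOf p M (principalBlock M G) Q e ↔
      e = principalBlock M (Subgroup.centralizer (Q : Set G)) := by
  constructor
  · intro h
    obtain ⟨S⟩ : Nonempty (Sylow p G) := inferInstance
    have hmax := (Cfsg.Agent.S4681.result p M hM S).1
    obtain ⟨x, hx⟩ := exists_conj_subpairLE hM _ (S : Subgroup G) Q _ e hmax h
    have hQxS : Q.map (MulAut.conj x).toMonoidHom ≤ (S : Subgroup G) :=
      Helper78.le_of_subpairLE hx
    have hprin := Helper78.subpairLE_principal hM (S : Subgroup G) S.isPGroup'
      (Q.map (MulAut.conj x).toMonoidHom) hQxS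
    have huniq := (existsUnique_subpairLE hM (S : Subgroup G)
      (Q.map (MulAut.conj x).toMonoidHom) _ hmax.1.1 hQxS).unique
      ⟨isPBlock_conjBlock Q x he, hx⟩ ⟨Helper78.isPBlock_principalBlock M _, hprin⟩
    rw [← Helper78.conjBlock_principal Q x, conjBlock_eq_image, conjBlock_eq_image] at huniq
    exact (Helper78.irrMap_injective (centConj Q x)).image_injective huniq
  · intro h
    rw [h]
    exact Helper78.isBrauerPairOf_principal hM Q hQ

end Cfsg.Agent.Helper77
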