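import Cfsg.Agent.Helper77.PIndexNilpotent
import Cfsg.Agent.Helper16.CentralDefectZero
import Cfsg.Agent.Helper16.Covering3
import Cfsg.Agent.Helper16.UnionBlocks
import Cfsg.Agent.Helper74.DegreeRatio
import Cfsg.Agent.Helper74.DegP
import Cfsg.Agent.Helper80.Pullback
import Cfsg.Agent.S0912

/-!
# Brauer pairs carrying a weight

(helper77, file 44.)  If `(Q, e)` carries a weight then `Z(Q)` is a defect group of `e` and
`Q = O_p(N_G(Q, e))`.
-/

set_option autoImplicit false
set_option linter.unusedSectionVars false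
set_option linter.style.haveILetI false

namespace Cfsg.Agent.Helper77

open Cfsg
open scoped ComplexConjugate

universe u

section Pull

/-- Summation along a surjective homomorphism. -/
theorem sum_comp_surjective {A B : Type*} [Group A] [Group B] [Fintype A] [Fintype B]
    (φ : A →* B) (hφ : Function.Surjective φ) (F : B → ℂ) :
    ∑ a : A, F (φ a) = (Nat.card φ.ker : ℂ) * ∑ b : B, F b := by
  classical
  rw [← Finset.sum_fiberwise (s := Finset.univ) (g := fun a => φ a) (f := fun a => F (φ a)),
    Finset.mul_sum]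
  refine Finset.sum_congr rfl (fun b _ => ?_)
  have h1 : ∀ a ∈ Finset.univ.filter (fun a : A => φ a = b), F (φ a) = F b := by
    intro a ha
    rw [(Finset.mem_filter.mp ha).2]
  rw [Finset.sum_congr rfl h1, Finset.sum_const, nsmul_eq_mul]
  congr 1
  have h2 := MonoidHom.card_fiber_eq_of_mem_range φ (x := b) (y := 1)
    (by obtain ⟨a, ha⟩ := hφ b; exact ⟨a, ha⟩) ⟨1, map_one φ⟩
  rw [h2]
  have h3 : Nat.card φ.ker = (Finset.univ.filter (fun a : A => φ a = 1)).card := by
    rw [Nat.card_eq_fintype_card, Fintype.card_subtype]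
    congr 1
    ext a
    simp [MonoidHom.mem_ker]
  rw [h3]

/-- The inner product of two functions pulled back along a surjective homomorphism. -/
theorem classInner_comp_surjective {A B : Type*} [Group A] [Group B] [Fintype A] [Fintype B]
    (φ : A →* B) (hφ : Function.Surjective φ) (f g : B → ℂ) :
    classInner (fun a => f (φ a)) (fun a => g (φ a)) = classInner f g := by
  unfold classInner
  rw [sum_comp_surjective φ hφ (fun b => f b * conj (g b))]
  have hcard : (Nat.card A : ℂ) = (Nat.card φ.ker : ℂ) * (Nat.card B : ℂ) := by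
    have h1 := Subgroup.index_mul_card φ.ker
    rw [Subgroup.index_ker, MonoidHom.range_eq_top.mpr hφ] at h1
    have h2 : Nat.card (⊤ : Subgroup B) = Nat.card B := Subgroup.card_top
    rw [h2] at h1
    rw [← h1]
    push_cast
    ring
  have hk : (Nat.card φ.ker : ℂ) ≠ 0 := by exact_mod_cast Nat.card_pos.ne'
  have hB : (Nat.card B : ℂ) ≠ 0 := by exact_mod_cast Nat.card_pos.ne'
  rw [hcard]
  field_simp

end Pull

section Weight

variable {H : Type u} [Group H] [Fintype H] {p : ℕ} [hp : Fact p.Prime]

/-- The quotient character of a character with `Q'` in its kernel. -/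
theorem exists_descend_quot (Q' : Subgroup H) [hQn : Q'.Normal] (χ : IrrCharacter H)
    (hker : ∀ q ∈ Q', (χ : H → ℂ) q = (χ : H → ℂ) 1) :
    ∃ χb : IrrCharacter (H ⧸ Q'), ∀ g : H, (χ : H → ℂ) g = (χb : H ⧸ Q' → ℂ) (QuotientGroup.mk' Q' g) := by
  obtain ⟨χb, hχb, hχeq⟩ := Helper80.IsIrrCharacter.exists_descend χ.2 (QuotientGroup.mk' Q')
    (QuotientGroup.mk'_surjective Q') (fun g hg => hker g ((QuotientGroup.eq_one_iff g).mp hg))
  exact ⟨⟨χb, hχb⟩, hχeq⟩

theorem charDegree_eq_of_one_eq {A B : Type*} [Group A] [Group B] (f : A → ℂ) (g : B → ℂ)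
    (h : f 1 = g 1) : charDegree f = charDegree g := by
  unfold charDegree
  rw [h]

/-- **A constituent of defect zero modulo `Q'`** on a normal subgroup `C'`, for a character of
defect zero modulo `Q'`. -/
theorem exists_constituent_of_weight (Q' C' : Subgroup H) [hQn : Q'.Normal] [hCn : C'.Normal]
    [Fintype C'] (χ : IrrCharacter H)
    (hker : ∀ q ∈ Q', (χ : H → ℂ) q = (χ : H → ℂ) 1)
    (hdeg : (charDegree (χ : H → ℂ)).factorization p + (Nat.card Q').factorization p =
      (Nat.card H).factorization p) :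
    ∃ θ : IrrCharacter C', classInner (fun c : C' => (χ : H → ℂ) c) (θ : C' → ℂ) ≠ 0 ∧
      (charDegree (θ : C' → ℂ)).factorization p +
        (Nat.card (Q' ⊓ C' : Subgroup H)).factorization p = (Nat.card C').factorization p := by
  classical
  have hfinq : Fintype (H ⧸ Q') := Fintype.ofFinite _
  obtain ⟨χb, hχeq⟩ := exists_descend_quot Q' χ hker
  have hNn : (C'.map (QuotientGroup.mk' Q')).Normal :=
    Subgroup.Normal.map hCn _ (QuotientGroup.mk'_surjective Q')
  have hfinN : Fintype (C'.map (QuotientGroup.mk' Q')) := Fintype.ofFinite _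
  obtain ⟨θb, hθb⟩ := exists_constituent_res (C'.map (QuotientGroup.mk' Q')) χb
  obtain ⟨b, hb, hbdvd⟩ := Helper74.degree_ratio_dvd (C'.map (QuotientGroup.mk' Q')) χb.2 θb.2 hθb
  -- the surjection `C' → N̄`
  obtain ⟨φ, hφdef⟩ : ∃ φ : C' →* (C'.map (QuotientGroup.mk' Q')),
      ∀ c : C', ((φ c : C'.map (QuotientGroup.mk' Q')) : H ⧸ Q') = QuotientGroup.mk' Q' (c : H) :=
    ⟨((QuotientGroup.mk' Q').comp C'.subtype).codRestrict _
      (fun c => Subgroup.mem_map_of_mem _ c.2), fun c => rfl⟩
  have hφ : Function.Surjective φ := by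
    rintro ⟨n, c, hc, rfl⟩
    exact ⟨⟨c, hc⟩, Subtype.ext (hφdef ⟨c, hc⟩)⟩
  have hφker : Nat.card φ.ker = Nat.card (Q' ⊓ C' : Subgroup H) := by
    have h1 : φ.ker = (Q' ⊓ C').subgroupOf C' := by
      ext c
      rw [MonoidHom.mem_ker, Subgroup.mem_subgroupOf, Subgroup.mem_inf]
      constructor
      · intro h
        have h2 := congrArg Subtype.val h
        rw [hφdef c] at h2
        exact ⟨(QuotientGroup.eq_one_iff (c : H)).mp h2, c.2⟩
      · rintro ⟨h, _⟩
        apply Subtype.ext
        rw [hφdef c]
        exact (QuotientGroup.eq_one_iff (c : H)).mpr h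
    rw [h1]
    exact card_subgroupOf_of_le inf_le_right
  refine ⟨⟨fun c => θb.1 (φ c), Helper80.IsIrrCharacter.comp_surjective θb.2 φ hφ⟩, ?_, ?_⟩
  · have h1 : (fun c : C' => (χ : H → ℂ) c) =
        fun c : C' => (fun n : C'.map (QuotientGroup.mk' Q') => (χb : H ⧸ Q' → ℂ) n) (φ c) := by
      funext c
      show (χ : H → ℂ) c = (χb : H ⧸ Q' → ℂ) ((φ c : C'.map (QuotientGroup.mk' Q')) : H ⧸ Q')
      rw [hχeq c, hφdef c]
    rw [h1]
    have h2 := classInner_comp_surjective φ hφ
      (fun n : C'.map (QuotientGroup.mk' Q') => (χb : H ⧸ Q' → ℂ) n) θb.1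
    show classInner (fun c => (fun n : C'.map (QuotientGroup.mk' Q') =>
      (χb : H ⧸ Q' → ℂ) n) (φ c)) (fun c => θb.1 (φ c)) ≠ 0
    rw [h2]
    exact hθb
  · -- the arithmetic
    have hdθ : charDegree (fun c => θb.1 (φ c)) = charDegree θb.1 := by
      apply charDegree_eq_of_one_eq
      rw [map_one]
    show (charDegree (fun c => θb.1 (φ c))).factorization p + _ = _
    rw [hdθ]
    have hdχ : charDegree (χ : H → ℂ) = b * charDegree θb.1 := by
      have h1 : (charDegree (χ : H → ℂ) : ℂ) = ((b * charDegree θb.1 : ℕ) : ℂ) := by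
        rw [Helper80.IsCharacter.charDegree_cast (Helper74.irr_isCharacter χ)]
        push_cast
        rw [Helper80.IsCharacter.charDegree_cast (Helper74.irr_isCharacter θb), hχeq 1, map_one, hb]
      exact_mod_cast h1
    have hθdvd : charDegree θb.1 ∣ Nat.card (C'.map (QuotientGroup.mk' Q')) :=
      Helper74.charDegree_dvd_card θb
    have hcardH : Nat.card H = Nat.card (H ⧸ Q') * Nat.card Q' :=
      Subgroup.card_eq_card_quotient_mul_card_subgroup Q'
    have hcardq : (C'.map (QuotientGroup.mk' Q')).index * Nat.card (C'.map (QuotientGroup.mk' Q')) =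
        Nat.card (H ⧸ Q') := Subgroup.index_mul_card _
    have hcardC : Nat.card (C'.map (QuotientGroup.mk' Q')) * Nat.card φ.ker = Nat.card C' := by
      have h1 := Subgroup.index_mul_card φ.ker
      rw [Subgroup.index_ker, MonoidHom.range_eq_top.mpr hφ] at h1
      rwa [Subgroup.card_top] at h1
    rw [hφker] at hcardC
    have hθ0 : charDegree θb.1 ≠ 0 := Helper16.irr_charDegree_ne_zero θb
    have hb0 : b ≠ 0 := by
      intro h0
      have := Helper16.irr_charDegree_ne_zero χ
      rw [hdχ, h0, zero_mul] at this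
      exact this rfl
    have hN0 : Nat.card (C'.map (QuotientGroup.mk' Q')) ≠ 0 := Nat.card_pos.ne'
    have hi0 : (C'.map (QuotientGroup.mk' Q')).index ≠ 0 := Subgroup.index_ne_zero_of_finite
    have hQ0 : Nat.card Q' ≠ 0 := Nat.card_pos.ne'
    have hq0 : Nat.card (H ⧸ Q') ≠ 0 := Nat.card_pos.ne'
    have hI0 : Nat.card (Q' ⊓ C' : Subgroup H) ≠ 0 := Nat.card_pos.ne'
    have e1 := congrArg (fun n => n.factorization p) hdχ
    have e2 := congrArg (fun n => n.factorization p) hcardH
    have e3 := congrArg (fun n => n.factorization p) hcardq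
    have e4 := congrArg (fun n => n.factorization p) hcardC
    simp only [Nat.factorization_mul hb0 hθ0, Nat.factorization_mul hq0 hQ0,
      Nat.factorization_mul hi0 hN0, Nat.factorization_mul hN0 hI0, Finsupp.coe_add,
      Pi.add_apply] at e1 e2 e3 e4
    have l1 : b.factorization p ≤ (C'.map (QuotientGroup.mk' Q')).index.factorization p :=
      (Nat.factorization_le_iff_dvd hb0 hi0).mpr hbdvd p
    have l2 : (charDegree θb.1).factorization p ≤
        (Nat.card (C'.map (QuotientGroup.mk' Q'))).factorization p :=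
      (Nat.factorization_le_iff_dvd hθ0 hN0).mpr hθdvd p
    omega

/-- **`Q' = O_p(H)`** when `H` has a character of defect zero modulo `Q'`. -/
theorem le_of_weight {M : Ideal AlgInt} (hM : IsPModular p M) (Q' : Subgroup H)
    [hQn : Q'.Normal] (χ : IrrCharacter H)
    (hker : ∀ q ∈ Q', (χ : H → ℂ) q = (χ : H → ℂ) 1)
    (hdeg : (charDegree (χ : H → ℂ)).factorization p + (Nat.card Q').factorization p =
      (Nat.card H).factorization p)
    (R' : Subgroup H) [hRn : R'.Normal] (hR : IsPGroup p R') : R' ≤ Q' := by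
  classical
  have hfinq : Fintype (H ⧸ Q') := Fintype.ofFinite _
  obtain ⟨χb, hχeq⟩ := exists_descend_quot Q' χ hker
  have hdegb : (charDegree (χb : H ⧸ Q' → ℂ)).factorization p =
      (⊥ : Subgroup (H ⧸ Q')).index.factorization p := by
    rw [Subgroup.index_bot]
    have h1 : charDegree (χb : H ⧸ Q' → ℂ) = charDegree (χ : H → ℂ) :=
      charDegree_eq_of_one_eq _ _ (by rw [hχeq 1, map_one])
    have hcardH : Nat.card H = Nat.card (H ⧸ Q') * Nat.card Q' :=
      Subgroup.card_eq_card_quotient_mul_card_subgroup Q'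
    have hQ0 : Nat.card Q' ≠ 0 := Nat.card_pos.ne'
    have hq0 : Nat.card (H ⧸ Q') ≠ 0 := Nat.card_pos.ne'
    have e2 := congrArg (fun n => n.factorization p) hcardH
    simp only [Nat.factorization_mul hq0 hQ0, Finsupp.coe_add, Pi.add_apply] at e2
    rw [h1]
    omega
  have hdef := Helper16.isDefectGroup_of_central_defect_zero hM (⊥ : Subgroup (H ⧸ Q'))
    IsPGroup.of_bot bot_le χb hdegb
  have hcore := Cfsg.Agent.S0912.result p M hM _ ⟨χb, rfl⟩ ⊥ hdef
  have hRb : R'.map (QuotientGroup.mk' Q') ≤ pCore p (H ⧸ Q') :=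
    Cfsg.Agent.Lib.le_pCore (Subgroup.Normal.map hRn _ (QuotientGroup.mk'_surjective Q'))
      (hR.map _)
  intro r hr
  have h1 : QuotientGroup.mk' Q' r ∈ (⊥ : Subgroup (H ⧸ Q')) :=
    hcore (hRb (Subgroup.mem_map_of_mem _ hr))
  exact (QuotientGroup.eq_one_iff r).mp (Subgroup.mem_bot.mp h1)

end Weight

section Main

variable {G : Type u} [Group G] [Fintype G] {p : ℕ} [hp : Fact p.Prime] {M : Ideal AlgInt}

/-- **A Brauer pair carrying a weight**: `Z(Q)` is a defect group of `e` and `Q` is the largest
normal `p`-subgroup of the stabilizer `T`. -/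
theorem weight_pair (hM : IsPModular p M) (Q : Subgroup G) (hQp : IsPGroup p Q)
    (e : Set (IrrCharacter (Subgroup.centralizer (Q : Set G)))) (he : IsPBlock M e)
    (T : Subgroup G)
    (hT : ∀ y : G, y ∈ T ↔ y ∈ Subgroup.normalizer (Q : Set G) ∧
      StabilizesBlock (Subgroup.centralizer (Q : Set G)) e y)
    (F' : Set (IrrCharacter T))
    (hF'e : ∀ t : T, blockCoeff F' t =
      subgroupBlockCoeff (Subgroup.centralizer (Q : Set G)) e (t : G))
    (χ : IrrCharacter T) (hχ : χ ∈ F')
    (hχQ : ∀ q : G, q ∈ Q → ∀ t : T, ∀ t' : T, (t' : G) = q * (t : G) →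
      (χ : T → ℂ) t' = (χ : T → ℂ) t)
    (hdeg : (charDegree (χ : T → ℂ)).factorization p + (Nat.card Q).factorization p =
      (Nat.card T).factorization p) :
    IsDefectGroup p M e ((Q ⊓ Subgroup.centralizer (Q : Set G)).subgroupOf
        (Subgroup.centralizer (Q : Set G))) ∧
      ∀ R : Subgroup G, R ≤ T → IsPGroup p R →
        (∀ t ∈ T, t ∈ Subgroup.normalizer (R : Set G)) → R ≤ Q := by
  classical
  have hMp : M.IsPrime := isPrime_of_isPModular hM
  have hfinT : Fintype T := Fintype.ofFinite _
  have hfinC : Fintype (Subgroup.centralizer (Q : Set G)) := Fintype.ofFinite _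
  have hfinC' : Fintype ((Subgroup.centralizer (Q : Set G)).subgroupOf T) := Fintype.ofFinite _
  -- `Q ≤ T` and `C ≤ T`
  have hQT : Q ≤ T := by
    intro q hq
    refine (hT q).mpr ⟨Subgroup.le_normalizer hq, ?_, ?_⟩
    · exact Helper78.normalizer_le_normalizer_centralizer Q (Subgroup.le_normalizer hq)
    · intro ξ hξ
      refine ⟨ξ, hξ, ?_⟩
      intro k k' hk
      have h1 : q * (k : G) = (k : G) * q := Subgroup.mem_centralizer_iff.mp k.2 q hq
      have h2 : k' = k := by
        apply Subtype.ext
        rw [hk, h1]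
        group
      rw [h2]
  have hCT : Subgroup.centralizer (Q : Set G) ≤ T := by
    intro c hc
    exact (hT c).mpr ⟨Subgroup.centralizer_le_normalizer _ hc,
      stabilizesBlock_of_mem_self _ e c hc⟩
  have hTN : T ≤ Subgroup.normalizer (Q : Set G) := fun t ht => ((hT t).mp ht).1
  have hQn : (Q.subgroupOf T).Normal := (Subgroup.normal_subgroupOf_iff_le_normalizer hQT).mpr hTN
  have hCn : ((Subgroup.centralizer (Q : Set G)).subgroupOf T).Normal :=
    (Subgroup.normal_subgroupOf_iff_le_normalizer hCT).mpr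
      (hTN.trans (Helper78.normalizer_le_normalizer_centralizer Q))
  have hker : ∀ q ∈ Q.subgroupOf T, (χ : T → ℂ) q = (χ : T → ℂ) 1 := by
    intro q hq
    exact hχQ (q : G) (Subgroup.mem_subgroupOf.mp hq) 1 q (by simp)
  have hdeg' : (charDegree (χ : T → ℂ)).factorization p +
      (Nat.card (Q.subgroupOf T)).factorization p = (Nat.card T).factorization p := by
    rw [card_subgroupOf_of_le hQT]
    exact hdeg
  constructor
  · obtain ⟨θ', hθ'inner, hθ'deg⟩ := exists_constituent_of_weight (Q.subgroupOf T)
      ((Subgroup.centralizer (Q : Set G)).subgroupOf T) χ hker hdeg'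
    -- transport to `C`
    obtain ⟨j, hj⟩ : ∃ j : ((Subgroup.centralizer (Q : Set G)).subgroupOf T) ≃*
        Subgroup.centralizer (Q : Set G), ∀ n, ((j n : Subgroup.centralizer (Q : Set G)) : G) =
          ((n : T) : G) := ⟨Subgroup.subgroupOfEquivOfLe hCT, fun n => rfl⟩
    have hone : (Helper78.irrMap j θ').1 1 = θ'.1 1 := by
      rw [Helper78.irrMap_apply, map_one]
    -- membership in `e`
    have hmem : Helper78.irrMap j θ' ∈ e := by
      have h1 : Helper16.omega (χ : T → ℂ) (blockCoeff F') = 1 := by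
        rw [Helper16.omega_blockCoeff, if_pos hχ]
      have hsupp : ∀ x : T, x ∉ (Subgroup.centralizer (Q : Set G)).subgroupOf T →
          blockCoeff F' x = 0 := by
        intro x hx
        rw [hF'e x]
        unfold subgroupBlockCoeff
        rw [dif_neg]
        exact fun h => hx (Subgroup.mem_subgroupOf.mpr h)
      have h2 := Helper16.omega_eq_omega_restrict_of_constituent
        ((Subgroup.centralizer (Q : Set G)).subgroupOf T) χ θ' hθ'inner
        (Helper16.isClassFunction_blockCoeff F') hsupp
      rw [h1] at h2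
      have h3 : Helper16.omega (Helper78.irrMap j θ').1 (blockCoeff e) =
          Helper16.omega θ'.1
            (fun n : (Subgroup.centralizer (Q : Set G)).subgroupOf T => blockCoeff F' n) := by
        unfold Helper16.omega
        rw [hone]
        congr 1
        rw [← Equiv.sum_comp j.toEquiv]
        refine Finset.sum_congr rfl (fun n _ => ?_)
        have h4 : blockCoeff F' (n : T) = blockCoeff e (j n) := by
          rw [hF'e (n : T)]
          unfold subgroupBlockCoeff
          rw [dif_pos (Subgroup.mem_subgroupOf.mp n.2)]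
          congr 1
          exact Subtype.ext (hj n).symm
        show blockCoeff e (j n) * (Helper78.irrMap j θ').1 (j n) = _
        rw [Helper78.irrMap_apply_apply]
        show _ = blockCoeff F' (n : T) * _
        rw [h4]
      rw [← h2] at h3
      rw [Helper16.omega_blockCoeff] at h3
      by_contra hno
      rw [if_neg hno] at h3
      exact zero_ne_one h3
    have heq : e = blockOf M (Helper78.irrMap j θ').1 :=
      Helper78.isPBlock_eq_blockOf_of_mem hMp he hmem
    -- the central `p`-subgroup
    have hD : IsPGroup p ((Q ⊓ Subgroup.centralizer (Q : Set G)).subgroupOf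
        (Subgroup.centralizer (Q : Set G))) := (hQp.to_le inf_le_left).comap_subtype
    have hDZ : (Q ⊓ Subgroup.centralizer (Q : Set G)).subgroupOf
        (Subgroup.centralizer (Q : Set G)) ≤ Subgroup.center (Subgroup.centralizer (Q : Set G)) := by
      intro d hd
      rw [Subgroup.mem_center_iff]
      intro c
      apply Subtype.ext
      have hdQ : (d : G) ∈ Q := (Subgroup.mem_subgroupOf.mp hd).1
      exact (Subgroup.mem_centralizer_iff.mp c.2 (d : G) hdQ).symm
    have hdeg₀ : (charDegree (Helper78.irrMap j θ').1).factorization p =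
        ((Q ⊓ Subgroup.centralizer (Q : Set G)).subgroupOf
          (Subgroup.centralizer (Q : Set G))).index.factorization p := by
      have h1 : charDegree (Helper78.irrMap j θ').1 = charDegree θ'.1 :=
        charDegree_eq_of_one_eq _ _ hone
      have h2 : Nat.card ((Subgroup.centralizer (Q : Set G)).subgroupOf T) =
          Nat.card (Subgroup.centralizer (Q : Set G)) := card_subgroupOf_of_le hCT
      have h3 : Nat.card ((Q.subgroupOf T ⊓ (Subgroup.centralizer (Q : Set G)).subgroupOf T :
          Subgroup T)) = Nat.card (Q ⊓ Subgroup.centralizer (Q : Set G) : Subgroup G) := by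
        have h4 : Q.subgroupOf T ⊓ (Subgroup.centralizer (Q : Set G)).subgroupOf T =
            (Q ⊓ Subgroup.centralizer (Q : Set G)).subgroupOf T := by
          ext x
          simp only [Subgroup.mem_inf, Subgroup.mem_subgroupOf]
        rw [h4]
        exact card_subgroupOf_of_le (inf_le_left.trans hQT)
      have h5 := Subgroup.index_mul_card ((Q ⊓ Subgroup.centralizer (Q : Set G)).subgroupOf
        (Subgroup.centralizer (Q : Set G)))
      rw [card_subgroupOf_of_le inf_le_right] at h5
      have hi0 : ((Q ⊓ Subgroup.centralizer (Q : Set G)).subgroupOf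
        (Subgroup.centralizer (Q : Set G))).index ≠ 0 := Subgroup.index_ne_zero_of_finite
      have hI0 : Nat.card (Q ⊓ Subgroup.centralizer (Q : Set G) : Subgroup G) ≠ 0 :=
        Nat.card_pos.ne'
      have e5 := congrArg (fun n => n.factorization p) h5
      simp only [Nat.factorization_mul hi0 hI0, Finsupp.coe_add, Pi.add_apply] at e5
      rw [h2, h3] at hθ'deg
      rw [h1]
      omega
    rw [heq]
    exact Helper16.isDefectGroup_of_central_defect_zero hM _ hD hDZ (Helper78.irrMap j θ') hdeg₀
  · intro R hRT hR hTR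
    have hRn : (R.subgroupOf T).Normal :=
      (Subgroup.normal_subgroupOf_iff_le_normalizer hRT).mpr hTR
    have hle := le_of_weight hM (Q.subgroupOf T) χ hker hdeg' (R.subgroupOf T) hR.comap_subtype
    intro r hr
    have h1 : (⟨r, hRT hr⟩ : T) ∈ R.subgroupOf T := Subgroup.mem_subgroupOf.mpr hr
    exact Subgroup.mem_subgroupOf.mp (hle h1)

end Main

end Cfsg.Agent.Helper77
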